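import Mathlib

set_option autoImplicit false

namespace Cfsg.Agent.Lib.Helper07

open Matrix Matrix.SpecialLinearGroup

variable {F : Type*} [Field F] {ι : Type*} [Fintype ι] [DecidableEq ι]

lemma W_eq {i j : ι} (hij : i ≠ j) (a b : F) :
    (1 + single i j a) * (1 + single j i b) * (1 + single i j a) =
      (1 : Matrix ι ι F) + single i j (a + a + a * b * a) + single j i b + single i i (a * b)
        + single j j (b * a) := by
  simp only [mul_add, add_mul, mul_one, one_mul, single_mul_single_same,
    single_mul_single_of_ne _ _ _ _ hij.symm, add_zero, single_add]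
  abel

lemma WW_eq {i j : ι} (hij : i ≠ j) (a : F) :
    ((1 : Matrix ι ι F) + single i j a + single j i (-a⁻¹) + single i i (-1) + single j j (-1)) *
    ((1 : Matrix ι ι F) + single i j (-1) + single j i 1 + single i i (-1) + single j j (-1)) =
      diagonal (fun k ↦ if k = i then a else if k = j then a⁻¹ else 1) := by
  simp only [mul_add, add_mul, mul_one, one_mul, single_mul_single_same,
    single_mul_single_of_ne _ _ _ _ hij, single_mul_single_of_ne _ _ _ _ hij.symm, add_zero]
  ext k l
  have hs : ∀ (p q : ι) (c : F), single p q c k l = if k = p ∧ l = q then c else 0 := by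
    intro p q c; rw [single_apply]; simp only [eq_comm]
  have ho : (1 : Matrix ι ι F) k l = if l = k then 1 else 0 := by
    rw [one_apply]; simp only [eq_comm]
  have hd : ∀ d : ι → F, diagonal d k l = if l = k then d k else 0 := by
    intro d; rw [diagonal_apply]; simp only [eq_comm]
  simp only [Matrix.add_apply, hs, hd, ho]
  have hji := hij.symm
  by_cases hki : k = i <;> by_cases hkj : k = j <;> by_cases hli : l = i <;>
    by_cases hlj : l = j <;> simp_all

/-- `diag2n` is a product of six transvections, for any index type. -/
lemma diag2n_decompose' {i j : ι} (hij : i ≠ j) (a : F) (ha : a ≠ 0) :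
    diag2n hij a ha = transvection hij a * transvection hij.symm (-a⁻¹) * transvection hij a *
      (transvection hij (-1) * transvection hij.symm 1 * transvection hij (-1)) := by
  apply Subtype.ext
  simp only [coe_mul, transvection_coe, diag2n_coe]
  rw [W_eq hij, W_eq hij, ← WW_eq hij a]
  have h1 : a + a + a * -a⁻¹ * a = a := by
    field_simp
    ring
  have h2 : a * -a⁻¹ = -1 := by
    field_simp
  have h3 : -a⁻¹ * a = -1 := by
    field_simp
  have h4 : (-1 : F) + -1 + -1 * 1 * -1 = -1 := by ring
  rw [h1, h2, h3, h4, mul_one, one_mul]

/-- Every element of `SL ι F` is a product of transvections. -/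
theorem transvection_induction (P : SpecialLinearGroup ι F → Prop) (hone : P 1)
    (htransvec : ∀ (i j : ι) (h : i ≠ j) (c : F), P (transvection h c))
    (hmul : ∀ A B, P A → P B → P (A * B)) (A : SpecialLinearGroup ι F) : P A := by
  rcases subsingleton_or_nontrivial ι with hι | hι
  · have : A = 1 := by
      rcases isEmpty_or_nonempty ι with he | ⟨⟨i⟩⟩
      · exact Subsingleton.elim _ _
      · haveI : Unique ι := ⟨⟨i⟩, fun j => Subsingleton.elim _ _⟩
        apply Subtype.ext
        ext k l
        have hk : k = default := Subsingleton.elim _ _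
        have hl : l = default := Subsingleton.elim _ _
        have hdet := A.2
        rw [Matrix.det_unique] at hdet
        subst hk hl
        simp [hdet]
    rw [this]; exact hone
  · refine diagonal_transvection_induction' P A (fun i j hij c hc ↦ ?_) htransvec hmul
    rw [diag2n_decompose' hij c hc]
    refine hmul _ _ (hmul _ _ (hmul _ _ ?_ ?_) ?_) (hmul _ _ (hmul _ _ ?_ ?_) ?_)
    all_goals exact htransvec _ _ _ _

/-- If a subgroup contains all transvections then it is everything. -/
theorem eq_top_of_transvection_mem (H : Subgroup (SpecialLinearGroup ι F))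
    (h : ∀ (i j : ι) (hij : i ≠ j) (c : F), transvection hij c ∈ H) : H = ⊤ :=
  le_antisymm le_top fun A _ ↦ transvection_induction (· ∈ H) H.one_mem h
    (fun _ _ ↦ H.mul_mem) A

open scoped commutatorElement

/-- For three distinct indices, a transvection is a commutator of transvections. -/
lemma transvection_eq_commutator {i j k : ι} (hij : i ≠ j) (hjk : j ≠ k) (hik : i ≠ k) (c : F) :
    transvection hik c = ⁅transvection hij c, transvection hjk (1 : F)⁆ := by
  rw [commutatorElement_def, transvection_inv, transvection_inv]
  apply Subtype.ext
  simp only [coe_mul, transvection_coe]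
  simp only [mul_add, add_mul, mul_one, one_mul, single_mul_single_same,
    single_mul_single_of_ne _ _ _ _ hij.symm, single_mul_single_of_ne _ _ _ _ hjk.symm,
    single_mul_single_of_ne _ _ _ _ hik.symm, add_zero, zero_add, zero_mul, mul_zero]
  obtain ⟨E, hE⟩ : ∃ E : ι → ι → Matrix ι ι F, ∀ p q (c : F), single p q c = c • E p q :=
    ⟨fun p q => single p q 1, by intro p q c; simp [smul_single]⟩
  simp only [hE]
  module

/-- `SL ι F` is perfect as soon as `ι` has at least three elements. -/
theorem commutator_sl_eq_top (h3 : 3 ≤ Fintype.card ι) :
    commutator (SpecialLinearGroup ι F) = ⊤ := by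
  apply eq_top_of_transvection_mem
  intro i k hik c
  obtain ⟨j, hj⟩ : ∃ j : ι, j ≠ i ∧ j ≠ k := by
    by_contra hne
    push Not at hne
    have hsub : (Finset.univ : Finset ι) ⊆ {i, k} := by
      intro j _
      by_cases hji : j = i
      · simp [hji]
      · simp [hne j hji]
    have := Finset.card_le_card hsub
    rw [Finset.card_univ] at this
    have h2 : ({i, k} : Finset ι).card ≤ 2 := Finset.card_le_two
    omega
  rw [transvection_eq_commutator hj.1.symm hj.2 hik c]
  exact Subgroup.commutator_mem_commutator (Subgroup.mem_top _) (Subgroup.mem_top _)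

end Cfsg.Agent.Lib.Helper07
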