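import Mathlib

set_option autoImplicit false

namespace Cfsg.Agent.Lib.Helper07

section quat
variable {G : Type*} [Group G]

/-- the power `c ^ i` for `i : ZMod m`. -/
def zpw (m : ℕ) (c : G) (i : ZMod m) : G := c ^ i.val

lemma zpw_add {m : ℕ} [NeZero m] {c : G} (hc : c ^ m = 1) (i j : ZMod m) :
    zpw m c (i + j) = zpw m c i * zpw m c j := by
  unfold zpw
  rw [ZMod.val_add, ← pow_eq_pow_mod _ hc, pow_add]

lemma zpw_zero {m : ℕ} [NeZero m] (c : G) : zpw m c 0 = 1 := by
  unfold zpw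
  rw [ZMod.val_zero, pow_zero]

lemma zpw_sub {m : ℕ} [NeZero m] {c : G} (hc : c ^ m = 1) (i j : ZMod m) :
    zpw m c (j - i) = zpw m c j * (zpw m c i)⁻¹ := by
  rw [eq_mul_inv_iff_mul_eq, ← zpw_add hc, sub_add_cancel]

lemma zpw_natCast {m : ℕ} [NeZero m] {c : G} (hc : c ^ m = 1) (k : ℕ) :
    zpw m c (k : ZMod m) = c ^ k := by
  unfold zpw
  rw [ZMod.val_natCast, ← pow_eq_pow_mod _ hc]

lemma zpw_comm {m : ℕ} (c : G) (i j : ZMod m) :
    Commute (zpw m c i) (zpw m c j) := by
  unfold zpw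
  exact (Commute.refl c).pow_pow _ _

lemma zpw_semiconj {m : ℕ} {c w : G} (hwc : w * c = c⁻¹ * w) (i : ZMod m) :
    w * zpw m c i = (zpw m c i)⁻¹ * w := by
  unfold zpw
  have h : SemiconjBy w c c⁻¹ := hwc
  have h2 := h.pow_right i.val
  rw [inv_pow] at h2
  exact h2

lemma zpw_semiconj' {m : ℕ} {c w : G} (hwc : w * c = c⁻¹ * w) (i : ZMod m) :
    zpw m c i * w = w * (zpw m c i)⁻¹ := by
  have h := zpw_semiconj hwc i
  calc zpw m c i * w = zpw m c i * (w * zpw m c i) * (zpw m c i)⁻¹ := by group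
    _ = zpw m c i * ((zpw m c i)⁻¹ * w) * (zpw m c i)⁻¹ := by rw [h]
    _ = w * (zpw m c i)⁻¹ := by group

open QuaternionGroup in
/-- the homomorphism from the generalised quaternion group determined by `c`, `w`. -/
def quatHom {n : ℕ} [NeZero n] (c w : G) (hc : c ^ (2 * n) = 1) (hw : w * w = c ^ n)
    (hwc : w * c = c⁻¹ * w) : QuaternionGroup n →* G where
  toFun
    | a i => zpw (2 * n) c i
    | xa i => w * zpw (2 * n) c i
  map_one' := by
    rw [one_def]
    exact zpw_zero c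
  map_mul' := by
    rintro (i | i) (j | j)
    · simp only [a_mul_a]
      exact zpw_add hc i j
    · simp only [a_mul_xa]
      rw [zpw_sub hc, ← mul_assoc (zpw (2 * n) c i), zpw_semiconj' hwc i, mul_assoc,
        ((zpw_comm c j i).inv_right).eq]
    · simp only [xa_mul_a]
      rw [zpw_add hc, mul_assoc]
    · simp only [xa_mul_xa]
      rw [zpw_sub hc, zpw_add hc, zpw_natCast hc, ← hw, mul_assoc w (zpw (2 * n) c i),
        ← mul_assoc (zpw (2 * n) c i), zpw_semiconj' hwc i]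
      simp only [mul_assoc]
      rw [((zpw_comm c j i).inv_right).eq]

lemma quatHom_a {n : ℕ} [NeZero n] (c w : G) (hc : c ^ (2 * n) = 1) (hw : w * w = c ^ n)
    (hwc : w * c = c⁻¹ * w) (i : ZMod (2 * n)) :
    quatHom c w hc hw hwc (QuaternionGroup.a i) = c ^ i.val := rfl

lemma quatHom_xa {n : ℕ} [NeZero n] (c w : G) (hc : c ^ (2 * n) = 1) (hw : w * w = c ^ n)
    (hwc : w * c = c⁻¹ * w) (i : ZMod (2 * n)) :
    quatHom c w hc hw hwc (QuaternionGroup.xa i) = w * c ^ i.val := rfl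

theorem quatHom_injective {n : ℕ} [NeZero n] (c w : G) (hn : 2 ≤ n) (hc : orderOf c = 2 * n)
    (hw : w * w = c ^ n) (hwc : w * c = c⁻¹ * w) :
    Function.Injective (quatHom c w (by rw [← hc]; exact pow_orderOf_eq_one c) hw hwc) := by
  rw [injective_iff_map_eq_one]
  rintro (i | i) hx
  · rw [quatHom_a] at hx
    have h1 : orderOf c ∣ i.val := orderOf_dvd_of_pow_eq_one hx
    rw [hc] at h1
    have h2 : i.val < 2 * n := ZMod.val_lt i
    have h3 : i.val = 0 := Nat.eq_zero_of_dvd_of_lt h1 h2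
    have h4 : i = 0 := (ZMod.val_eq_zero i).mp h3
    rw [h4, QuaternionGroup.a_zero]
  · exfalso
    rw [quatHom_xa] at hx
    have hw' : w = (c ^ i.val)⁻¹ := eq_inv_of_mul_eq_one_left hx
    have hcomm : Commute w c := by
      rw [hw']
      exact ((Commute.refl c).pow_left _).inv_left
    have h1 : c * w = c⁻¹ * w := by rw [← hwc]; exact hcomm.eq.symm
    have h2 : c = c⁻¹ := mul_right_cancel h1
    have h3 : c ^ 2 = 1 := by
      rw [pow_two]
      nth_rewrite 1 [h2]
      exact inv_mul_cancel c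
    have h4 : orderOf c ∣ 2 := orderOf_dvd_of_pow_eq_one h3
    rw [hc] at h4
    have := Nat.le_of_dvd (by norm_num) h4
    omega

end quat

theorem sylow_equiv_quaternion {G : Type*} [Group G] [Finite G] (n : ℕ) [NeZero n] (hn : 2 ≤ n)
    (c w : G) (hc : orderOf c = 2 * n) (hw : w * w = c ^ n) (hwc : w * c = c⁻¹ * w)
    (P : Sylow 2 G) (hP : Nat.card P = 4 * n) :
    Nonempty ((P : Subgroup G) ≃* QuaternionGroup n) := by
  have hinj := quatHom_injective c w hn hc hw hwc
  set φ := quatHom c w (by rw [← hc]; exact pow_orderOf_eq_one c) hw hwc with hφ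
  have e1 : QuaternionGroup n ≃* φ.range := MonoidHom.ofInjective hinj
  have hcard : Nat.card φ.range = 4 * n := by
    rw [← Nat.card_congr e1.toEquiv, Nat.card_eq_fintype_card, QuaternionGroup.card]
  have hpg : IsPGroup 2 φ.range := by
    obtain ⟨k, hk⟩ := IsPGroup.iff_card.mp P.2
    exact IsPGroup.of_card (n := k) (by rw [hcard, ← hP, hk])
  obtain ⟨Q, hQ⟩ := hpg.exists_le_sylow
  have hQcard : Nat.card Q = 4 * n := by
    rw [← hP]
    exact Nat.card_congr (Sylow.equiv Q P).toEquiv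
  have heq : φ.range = (Q : Subgroup G) := by
    apply Subgroup.eq_of_le_of_card_ge hQ
    rw [hcard, hQcard]
  have e2 : (P : Subgroup G) ≃* (Q : Subgroup G) := Sylow.equiv P Q
  have e3 : (Q : Subgroup G) ≃* φ.range := MulEquiv.subgroupCongr heq.symm
  exact ⟨(e2.trans e3).trans e1.symm⟩

end Cfsg.Agent.Lib.Helper07
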