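import Mathlib

set_option autoImplicit false

namespace Cfsg.Agent.Lib.Helper07

open Matrix

section
variable {n : Type*} [Fintype n] [DecidableEq n] {R : Type*} [CommRing R]

/-- the range of `SL → GL` is the kernel of `det`. -/
lemma range_toGL_eq_ker_det :
    (SpecialLinearGroup.toGL : SpecialLinearGroup n R →* GL n R).range =
      (GeneralLinearGroup.det : GL n R →* Rˣ).ker := by
  ext g
  rw [MonoidHom.mem_range, MonoidHom.mem_ker]
  constructor
  · rintro ⟨s, rfl⟩
    apply Units.ext
    simp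
  · intro h
    have hd : (g : Matrix n n R).det = 1 := by
      have := congrArg Units.val h
      simpa using this
    refine ⟨⟨g, hd⟩, ?_⟩
    apply Units.ext
    rfl

/-- `SL n R` is isomorphic to the kernel of `det` on `GL n R`. -/
noncomputable def slEquivKerDet :
    SpecialLinearGroup n R ≃* (GeneralLinearGroup.det : GL n R →* Rˣ).ker :=
  (MonoidHom.ofInjective SpecialLinearGroup.toGL_injective).trans
    (MulEquiv.subgroupCongr range_toGL_eq_ker_det)

lemma card_sl_eq_card_ker_det :
    Nat.card (SpecialLinearGroup n R) = Nat.card (GeneralLinearGroup.det : GL n R →* Rˣ).ker :=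
  Nat.card_congr slEquivKerDet.toEquiv

/-- `|GL n R| = |SL n R| * |Rˣ|` when `n` is nonempty. -/
lemma card_gl_eq_card_sl_mul [Nonempty n] :
    Nat.card (GL n R) = Nat.card (SpecialLinearGroup n R) * Nat.card Rˣ := by
  have h1 := Subgroup.card_eq_card_quotient_mul_card_subgroup
    (GeneralLinearGroup.det : GL n R →* Rˣ).ker
  have h2 : Nat.card (GL n R ⧸ (GeneralLinearGroup.det : GL n R →* Rˣ).ker) = Nat.card Rˣ :=
    Nat.card_congr (QuotientGroup.quotientKerEquivOfSurjective _
      GeneralLinearGroup.det_surjective).toEquiv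
  rw [h1, h2, card_sl_eq_card_ker_det, mul_comm]

end

section
variable {F : Type*} [Field F] [Fintype F]

lemma card_units_field : Nat.card Fˣ = Fintype.card F - 1 := by
  classical
  rw [Nat.card_eq_fintype_card, Fintype.card_units]

/-- `(q - 1) * |SL_n(q)| = |GL_n(q)|` for `n ≥ 1`. -/
lemma card_sl_mul (n : ℕ) (hn : 1 ≤ n) :
    (Fintype.card F - 1) * Nat.card (SpecialLinearGroup (Fin n) F) =
      ∏ i : Fin n, (Fintype.card F ^ n - Fintype.card F ^ (i : ℕ)) := by
  have : Nonempty (Fin n) := ⟨⟨0, hn⟩⟩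
  rw [← Matrix.card_GL_field, card_gl_eq_card_sl_mul, card_units_field, mul_comm]

/-- number of `d`-th roots of unity in a finite field. -/
lemma card_rootsOfUnity_field (d : ℕ) :
    Nat.card (rootsOfUnity d F) = Nat.gcd d (Fintype.card F - 1) := by
  rw [rootsOfUnity_eq_ker, IsCyclic.card_powMonoidHom_ker, card_units_field, Nat.gcd_comm]

/-- the centre of `SL_n(q)` has order `gcd(n, q - 1)` for `n ≥ 1`. -/
lemma card_center_sl (n : ℕ) (hn : 1 ≤ n) :
    Nat.card (Subgroup.center (SpecialLinearGroup (Fin n) F)) =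
      Nat.gcd n (Fintype.card F - 1) := by
  have e := SpecialLinearGroup.center_equiv_rootsOfUnity' (n := Fin n) (R := F) ⟨0, hn⟩
  rw [Nat.card_congr e.toEquiv, card_rootsOfUnity_field, Fintype.card_fin]

/-- `|SL_n(q)| = |PSL_n(q)| * gcd(n, q - 1)` for `n ≥ 1`. -/
lemma card_sl_eq_card_psl_mul (n : ℕ) (hn : 1 ≤ n) :
    Nat.card (SpecialLinearGroup (Fin n) F) =
      Nat.card (ProjectiveSpecialLinearGroup (Fin n) F) * Nat.gcd n (Fintype.card F - 1) := by
  rw [← card_center_sl n hn]
  exact Subgroup.card_eq_card_quotient_mul_card_subgroup _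

/-- `gcd(n, q-1) (q-1) |PSL_n(q)| = |GL_n(q)|`. -/
lemma card_psl_mul (n : ℕ) (hn : 1 ≤ n) :
    Nat.gcd n (Fintype.card F - 1) * ((Fintype.card F - 1) *
      Nat.card (ProjectiveSpecialLinearGroup (Fin n) F)) =
      ∏ i : Fin n, (Fintype.card F ^ n - Fintype.card F ^ (i : ℕ)) := by
  rw [← card_sl_mul n hn, card_sl_eq_card_psl_mul n hn]
  ring

end

end Cfsg.Agent.Lib.Helper07
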