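import Mathlib
import Cfsg.Agent.Lib.Helper07.SLCard

set_option autoImplicit false

namespace Cfsg.Agent.Lib.Helper07

open Matrix

open scoped LinearAlgebra.Projectivization

/-- a group of order `n!` acting faithfully on `n` points is the symmetric group. -/
theorem nonempty_mulEquiv_perm {G X : Type*} [Group G] [Finite G] [Finite X]
    (f : G →* Equiv.Perm X) (hf : Function.Injective f) (n : ℕ) (hX : Nat.card X = n)
    (hG : Nat.card G = n.factorial) : Nonempty (G ≃* Equiv.Perm (Fin n)) := by
  classical
  have : Fintype X := Fintype.ofFinite X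
  have hcard : Nat.card (Equiv.Perm X) = n.factorial := by
    rw [Nat.card_eq_fintype_card, Fintype.card_perm, ← Nat.card_eq_fintype_card, hX]
  have hbij : Function.Bijective f := by
    refine ⟨hf, ?_⟩
    have hfin : Finite (Equiv.Perm X) := inferInstance
    exact (Function.Injective.bijective_of_nat_card_le hf (by rw [hcard, hG])).2
  have e : X ≃ Fin n := by
    have : Fintype.card X = n := by rw [← Nat.card_eq_fintype_card, hX]
    exact Fintype.equivFinOfCardEq this
  exact ⟨(MulEquiv.ofBijective f hbij).trans e.permCongrHom⟩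

/-- a group of order `n!/2` acting faithfully on `n` points is the alternating group. -/
theorem nonempty_mulEquiv_alternatingGroup {G X : Type*} [Group G] [Finite G] [Finite X]
    (f : G →* Equiv.Perm X) (hf : Function.Injective f) (n : ℕ) (hX : Nat.card X = n)
    (hG : 2 * Nat.card G = n.factorial) : Nonempty (G ≃* alternatingGroup (Fin n)) := by
  classical
  have : Fintype X := Fintype.ofFinite X
  have hcard : Nat.card (Equiv.Perm X) = n.factorial := by
    rw [Nat.card_eq_fintype_card, Fintype.card_perm, ← Nat.card_eq_fintype_card, hX]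
  have e1 : G ≃* f.range := MonoidHom.ofInjective hf
  have hr : Nat.card f.range = Nat.card G := (Nat.card_congr e1.toEquiv).symm
  have hidx : f.range.index = 2 := by
    have h1 := f.range.index_mul_card
    rw [hcard, hr, ← hG] at h1
    have hpos : 0 < Nat.card G := Nat.card_pos
    exact Nat.eq_of_mul_eq_mul_right hpos h1
  have hrange : f.range = alternatingGroup X := Equiv.Perm.eq_alternatingGroup_of_index_eq_two hidx
  have e : X ≃ Fin n := by
    have : Fintype.card X = n := by rw [← Nat.card_eq_fintype_card, hX]
    exact Fintype.equivFinOfCardEq this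
  exact ⟨(e1.trans (MulEquiv.subgroupCongr hrange)).trans e.altCongrHom⟩

section
variable {F : Type*} [Field F] [Fintype F]

lemma card_projLine : Nat.card (ℙ F (Fin 2 → F)) = Fintype.card F + 1 := by
  rw [Projectivization.card_of_finrank_two F (Fin 2 → F) (by simp), Nat.card_eq_fintype_card]

/-- `(q - 1) |SL_2(q)| = (q^2 - 1)(q^2 - q)`. -/
lemma card_sl_two : (Fintype.card F - 1) * Nat.card (SpecialLinearGroup (Fin 2) F) =
    (Fintype.card F ^ 2 - 1) * (Fintype.card F ^ 2 - Fintype.card F) := by
  rw [card_sl_mul 2 (by norm_num), Fin.prod_univ_two]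
  simp

/-- `gcd(2, q-1) (q - 1) |PSL_2(q)| = (q^2 - 1)(q^2 - q)`. -/
lemma card_psl_two : Nat.gcd 2 (Fintype.card F - 1) * ((Fintype.card F - 1) *
    Nat.card (ProjectiveSpecialLinearGroup (Fin 2) F)) =
    (Fintype.card F ^ 2 - 1) * (Fintype.card F ^ 2 - Fintype.card F) := by
  rw [card_psl_mul 2 (by norm_num), Fin.prod_univ_two]
  simp

end

end Cfsg.Agent.Lib.Helper07
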