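import Mathlib
import Cfsg.Agent.Lib.Helper07.PermEmbed

set_option autoImplicit false

namespace Cfsg.Agent.Lib.Helper07

variable {G : Type*} [Group G]

/-- In a simple group, the action on the cosets of a proper subgroup is faithful. -/
lemma toPermHom_quotient_injective [IsSimpleGroup G] (H : Subgroup G) (hH : H ≠ ⊤) :
    Function.Injective (MulAction.toPermHom G (G ⧸ H)) := by
  rw [← MonoidHom.ker_eq_bot_iff, ← Subgroup.normalCore_eq_ker]
  rcases (H.normalCore_normal).eq_bot_or_eq_top with h | h
  · exact h
  · exfalso
    apply hH
    rw [eq_top_iff, ← h]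
    exact H.normalCore_le

/-- A finite simple group with a subgroup of index `k > 1` has order dividing `k!`. -/
lemma card_dvd_factorial_index [Finite G] [IsSimpleGroup G] (H : Subgroup G) (hH : H ≠ ⊤) :
    Nat.card G ∣ (H.index).factorial := by
  classical
  have hinj := toPermHom_quotient_injective H hH
  have h1 := Subgroup.card_dvd_of_injective _ hinj
  have : Fintype (G ⧸ H) := Fintype.ofFinite _
  rw [Nat.card_eq_fintype_card (α := Equiv.Perm (G ⧸ H)), Fintype.card_perm,
    ← Nat.card_eq_fintype_card, ← Subgroup.index_eq_card] at h1
  exact h1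

/-- A simple group of order 60 is isomorphic to `A₅`. -/
theorem nonempty_mulEquiv_alternatingGroup_five_of_card_eq_sixty [Finite G] [IsSimpleGroup G]
    (h60 : Nat.card G = 60) : Nonempty (G ≃* alternatingGroup (Fin 5)) := by
  classical
  have hp2 : Fact (Nat.Prime 2) := ⟨Nat.prime_two⟩
  let P : Sylow 2 G := default
  -- the order of `P` is `4`
  have hPcard : Nat.card P = 4 := by
    obtain ⟨k, hk⟩ := (IsPGroup.iff_card.mp P.2)
    have hmul := (P : Subgroup G).index_mul_card
    have hnd := P.not_dvd_index
    rw [hk, h60] at hmul
    have hk6 : k < 6 := by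
      by_contra hge
      push Not at hge
      have : 2 ^ 6 ≤ 2 ^ k := Nat.pow_le_pow_right (by norm_num) hge
      have hpos : 0 < (P : Subgroup G).index := by
        rcases Nat.eq_zero_or_pos (P : Subgroup G).index with h0 | h0
        · rw [h0] at hmul; omega
        · exact h0
      nlinarith
    rw [hk]
    interval_cases k
    · exfalso; apply hnd; rw [show (P : Subgroup G).index = 60 by omega]; decide
    · exfalso; apply hnd; rw [show (P : Subgroup G).index = 30 by omega]; decide
    · rfl
    · omega
    · omega
    · omega
  have hPindex : (P : Subgroup G).index = 15 := by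
    have hmul := (P : Subgroup G).index_mul_card
    rw [hPcard, h60] at hmul
    omega
  have hn2' := P.card_eq_index_normalizer
  set N : Subgroup G := Subgroup.normalizer (P : Set G) with hN
  have hn2 : Nat.card (Sylow 2 G) = N.index := hn2'
  have hdvd : N.index ∣ 15 := by
    rw [← hn2, ← hPindex]; exact P.card_dvd_index
  have hmod : N.index % 2 = 1 := by
    have := card_sylow_modEq_one 2 G
    rw [hn2] at this
    exact this
  have hPN : (P : Subgroup G) ≤ N := Subgroup.le_normalizer
  have hcases : N.index = 1 ∨ N.index = 3 ∨ N.index = 5 ∨ N.index = 15 := by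
    have hle : N.index ≤ 15 := Nat.le_of_dvd (by norm_num) hdvd
    interval_cases h : N.index <;> simp_all
  have hPne_bot : (P : Subgroup G) ≠ ⊥ := by
    intro h
    rw [h, Subgroup.card_bot] at hPcard
    omega
  have hPne_top : (P : Subgroup G) ≠ ⊤ := by
    intro h
    rw [h, Subgroup.card_top, h60] at hPcard
    omega
  rcases hcases with h1 | h3 | h5 | h15
  · -- `P` is normal: impossible
    exfalso
    rw [Subgroup.index_eq_one, hN] at h1
    have hnorm : (P : Subgroup G).Normal := Subgroup.normalizer_eq_top_iff.mp h1
    rcases hnorm.eq_bot_or_eq_top with h | h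
    · exact hPne_bot h
    · exact hPne_top h
  · exfalso
    have hne : N ≠ ⊤ := by
      intro h; rw [h, Subgroup.index_top] at h3; omega
    have := card_dvd_factorial_index N hne
    rw [h60, h3] at this
    revert this
    decide
  · have hne : N ≠ ⊤ := by
      intro h; rw [h, Subgroup.index_top] at h5; omega
    exact nonempty_mulEquiv_alternatingGroup _ (toPermHom_quotient_injective N hne) 5
      (by rw [← Subgroup.index_eq_card, h5]) (by rw [h60]; rfl)
  · exfalso
    -- `N = P`
    have hNcard : Nat.card N = 4 := by
      have hmul := N.index_mul_card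
      rw [h15, h60] at hmul
      omega
    have hNP : N = (P : Subgroup G) := by
      symm
      apply Subgroup.eq_of_le_of_card_ge hPN
      rw [hNcard, hPcard]
    -- `P` is commutative
    have hcomm : ∀ a b : (P : Subgroup G), a * b = b * a := by
      have hsq : Nat.card (P : Subgroup G) = 2 ^ 2 := by rw [hPcard]; rfl
      have := IsPGroup.isMulCommutative_of_card_eq_prime_sq hsq
      intro a b
      exact mul_comm' a b
    have hNC : Subgroup.normalizer (P : Set G) ≤ Subgroup.centralizer (P : Set G) := by
      rw [← hN, hNP]
      intro a ha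
      rw [Subgroup.mem_centralizer_iff]
      intro b hb
      have := hcomm ⟨b, hb⟩ ⟨a, ha⟩
      exact congrArg Subtype.val this
    have hcompl := MonoidHom.ker_transferSylow_isComplement' P hNC
    have hcard := hcompl.card_mul_card
    rw [hPcard, h60] at hcard
    rcases ((MonoidHom.transferSylow P hNC).normal_ker).eq_bot_or_eq_top with h | h
    · rw [h, Subgroup.card_bot] at hcard; omega
    · rw [h, Subgroup.card_top, h60] at hcard; omega

end Cfsg.Agent.Lib.Helper07
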