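import Mathlib
import Cfsg.Agent.Lib.Helper07.SLGen
import Cfsg.Agent.Lib.Helper07.PermEmbed

set_option autoImplicit false

namespace Cfsg.Agent.Lib.Helper07

open Matrix
open scoped Pointwise

section generic

/-- a group fixing a finite family of finite sets permutes its members. -/
theorem exists_hom_perm_of_smul_eq {G M : Type*} [Group G] [MulAction G M] [DecidableEq M]
    (X₀ : Finset (Finset M)) (h : ∀ g : G, g • X₀ = X₀) :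
    ∃ ρ : G →* Equiv.Perm X₀, ∀ (g : G) (S : X₀), ((ρ g S : X₀) : Finset M) = g • (S : Finset M) := by
  have hmem : ∀ (g : G) (S : X₀), g • (S : Finset M) ∈ X₀ := by
    intro g S
    have : g • (S : Finset M) ∈ g • X₀ := Finset.smul_mem_smul_finset S.2
    rwa [h g] at this
  let act : MulAction G X₀ :=
    { smul := fun g S => ⟨g • (S : Finset M), hmem g S⟩
      one_smul := fun S => Subtype.ext (one_smul G (S : Finset M))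
      mul_smul := fun g g' S => Subtype.ext (mul_smul g g' (S : Finset M)) }
  exact ⟨MulAction.toPermHom G X₀, fun g S => rfl⟩

end generic

section forms

/-- bilinear forms as matrices, with the congruence action. -/
def FormMat (n : Type*) (R : Type*) := Matrix n n R

instance {n R : Type*} [DecidableEq R] [Fintype n] [DecidableEq n] : DecidableEq (FormMat n R) :=
  inferInstanceAs (DecidableEq (Matrix n n R))

/-- the underlying matrix. -/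
def FormMat.mat {n R : Type*} (ω : FormMat n R) : Matrix n n R := ω

/-- a matrix as a form. -/
def FormMat.ofMat {n R : Type*} (M : Matrix n n R) : FormMat n R := M

lemma congr_act_mul {n R : Type*} [Fintype n] [CommRing R] (g h M : Matrix n n R) :
    (g * h) * M * (g * h)ᵀ = g * (h * M * hᵀ) * gᵀ := by
  rw [Matrix.transpose_mul]
  simp only [Matrix.mul_assoc]

lemma congr_act_one {n R : Type*} [Fintype n] [DecidableEq n] [CommRing R] (M : Matrix n n R) :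
    (1 : Matrix n n R) * M * (1 : Matrix n n R)ᵀ = M := by
  simp

instance formMulAction {n R : Type*} [Fintype n] [DecidableEq n] [CommRing R] :
    MulAction (SpecialLinearGroup n R) (FormMat n R) where
  smul g ω := FormMat.ofMat (g.val * ω.mat * g.valᵀ)
  one_smul ω := congr_act_one (n := n) (R := R) ω
  mul_smul g h ω := by
    have := congr_act_mul g.val h.val (ω : Matrix n n R)
    rw [← Matrix.SpecialLinearGroup.coe_mul] at this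
    exact this

lemma form_smul_def {n R : Type*} [Fintype n] [DecidableEq n] [CommRing R]
    (g : SpecialLinearGroup n R) (ω : FormMat n R) :
    g • ω = FormMat.ofMat (g.val * ω.mat * g.valᵀ) := rfl

end forms

section a8

abbrev Form4 := FormMat (Fin 4) (ZMod 2)

def stars8 : Finset (Finset Form4) :=
  {{(!![0, 0, 0, 1; 0, 0, 1, 0; 0, 1, 0, 0; 1, 0, 0, 0] : Form4),
     (!![0, 0, 1, 0; 0, 0, 1, 1; 1, 1, 0, 0; 0, 1, 0, 0] : Form4),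
     (!![0, 0, 1, 1; 0, 0, 0, 1; 1, 0, 0, 1; 1, 1, 1, 0] : Form4),
     (!![0, 1, 0, 0; 1, 0, 1, 1; 0, 1, 0, 1; 0, 1, 1, 0] : Form4),
     (!![0, 1, 0, 1; 1, 0, 0, 0; 0, 0, 0, 1; 1, 0, 1, 0] : Form4),
     (!![0, 1, 1, 0; 1, 0, 1, 0; 1, 1, 0, 1; 0, 0, 1, 0] : Form4),
     (!![0, 1, 1, 1; 1, 0, 0, 1; 1, 0, 0, 0; 1, 1, 0, 0] : Form4)},
    {(!![0, 0, 0, 1; 0, 0, 1, 0; 0, 1, 0, 0; 1, 0, 0, 0] : Form4),
     (!![0, 0, 1, 0; 0, 0, 1, 1; 1, 1, 0, 1; 0, 1, 1, 0] : Form4),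
     (!![0, 0, 1, 1; 0, 0, 0, 1; 1, 0, 0, 0; 1, 1, 0, 0] : Form4),
     (!![0, 1, 0, 0; 1, 0, 1, 0; 0, 1, 0, 1; 0, 0, 1, 0] : Form4),
     (!![0, 1, 0, 1; 1, 0, 0, 1; 0, 0, 0, 1; 1, 1, 1, 0] : Form4),
     (!![0, 1, 1, 0; 1, 0, 1, 1; 1, 1, 0, 0; 0, 1, 0, 0] : Form4),
     (!![0, 1, 1, 1; 1, 0, 0, 0; 1, 0, 0, 1; 1, 0, 1, 0] : Form4)},
    {(!![0, 0, 0, 1; 0, 0, 1, 0; 0, 1, 0, 1; 1, 0, 1, 0] : Form4),
     (!![0, 0, 1, 0; 0, 0, 1, 1; 1, 1, 0, 0; 0, 1, 0, 0] : Form4),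
     (!![0, 0, 1, 1; 0, 0, 0, 1; 1, 0, 0, 0; 1, 1, 0, 0] : Form4),
     (!![0, 1, 0, 0; 1, 0, 0, 1; 0, 0, 0, 1; 0, 1, 1, 0] : Form4),
     (!![0, 1, 0, 1; 1, 0, 1, 0; 0, 1, 0, 0; 1, 0, 0, 0] : Form4),
     (!![0, 1, 1, 0; 1, 0, 0, 0; 1, 0, 0, 1; 0, 0, 1, 0] : Form4),
     (!![0, 1, 1, 1; 1, 0, 1, 1; 1, 1, 0, 1; 1, 1, 1, 0] : Form4)},
    {(!![0, 0, 0, 1; 0, 0, 1, 0; 0, 1, 0, 1; 1, 0, 1, 0] : Form4),
     (!![0, 0, 1, 0; 0, 0, 1, 1; 1, 1, 0, 1; 0, 1, 1, 0] : Form4),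
     (!![0, 0, 1, 1; 0, 0, 0, 1; 1, 0, 0, 1; 1, 1, 1, 0] : Form4),
     (!![0, 1, 0, 0; 1, 0, 0, 0; 0, 0, 0, 1; 0, 0, 1, 0] : Form4),
     (!![0, 1, 0, 1; 1, 0, 1, 1; 0, 1, 0, 0; 1, 1, 0, 0] : Form4),
     (!![0, 1, 1, 0; 1, 0, 0, 1; 1, 0, 0, 0; 0, 1, 0, 0] : Form4),
     (!![0, 1, 1, 1; 1, 0, 1, 0; 1, 1, 0, 0; 1, 0, 0, 0] : Form4)},
    {(!![0, 0, 0, 1; 0, 0, 1, 1; 0, 1, 0, 0; 1, 1, 0, 0] : Form4),
     (!![0, 0, 1, 0; 0, 0, 0, 1; 1, 0, 0, 0; 0, 1, 0, 0] : Form4),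
     (!![0, 0, 1, 1; 0, 0, 1, 0; 1, 1, 0, 1; 1, 0, 1, 0] : Form4),
     (!![0, 1, 0, 0; 1, 0, 1, 1; 0, 1, 0, 1; 0, 1, 1, 0] : Form4),
     (!![0, 1, 0, 1; 1, 0, 0, 1; 0, 0, 0, 1; 1, 1, 1, 0] : Form4),
     (!![0, 1, 1, 0; 1, 0, 0, 0; 1, 0, 0, 1; 0, 0, 1, 0] : Form4),
     (!![0, 1, 1, 1; 1, 0, 1, 0; 1, 1, 0, 0; 1, 0, 0, 0] : Form4)},
    {(!![0, 0, 0, 1; 0, 0, 1, 1; 0, 1, 0, 0; 1, 1, 0, 0] : Form4),
     (!![0, 0, 1, 0; 0, 0, 0, 1; 1, 0, 0, 1; 0, 1, 1, 0] : Form4),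
     (!![0, 0, 1, 1; 0, 0, 1, 0; 1, 1, 0, 0; 1, 0, 0, 0] : Form4),
     (!![0, 1, 0, 0; 1, 0, 1, 0; 0, 1, 0, 1; 0, 0, 1, 0] : Form4),
     (!![0, 1, 0, 1; 1, 0, 0, 0; 0, 0, 0, 1; 1, 0, 1, 0] : Form4),
     (!![0, 1, 1, 0; 1, 0, 0, 1; 1, 0, 0, 0; 0, 1, 0, 0] : Form4),
     (!![0, 1, 1, 1; 1, 0, 1, 1; 1, 1, 0, 1; 1, 1, 1, 0] : Form4)},
    {(!![0, 0, 0, 1; 0, 0, 1, 1; 0, 1, 0, 1; 1, 1, 1, 0] : Form4),
     (!![0, 0, 1, 0; 0, 0, 0, 1; 1, 0, 0, 0; 0, 1, 0, 0] : Form4),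
     (!![0, 0, 1, 1; 0, 0, 1, 0; 1, 1, 0, 0; 1, 0, 0, 0] : Form4),
     (!![0, 1, 0, 0; 1, 0, 0, 1; 0, 0, 0, 1; 0, 1, 1, 0] : Form4),
     (!![0, 1, 0, 1; 1, 0, 1, 1; 0, 1, 0, 0; 1, 1, 0, 0] : Form4),
     (!![0, 1, 1, 0; 1, 0, 1, 0; 1, 1, 0, 1; 0, 0, 1, 0] : Form4),
     (!![0, 1, 1, 1; 1, 0, 0, 0; 1, 0, 0, 1; 1, 0, 1, 0] : Form4)},
    {(!![0, 0, 0, 1; 0, 0, 1, 1; 0, 1, 0, 1; 1, 1, 1, 0] : Form4),
     (!![0, 0, 1, 0; 0, 0, 0, 1; 1, 0, 0, 1; 0, 1, 1, 0] : Form4),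
     (!![0, 0, 1, 1; 0, 0, 1, 0; 1, 1, 0, 1; 1, 0, 1, 0] : Form4),
     (!![0, 1, 0, 0; 1, 0, 0, 0; 0, 0, 0, 1; 0, 0, 1, 0] : Form4),
     (!![0, 1, 0, 1; 1, 0, 1, 0; 0, 1, 0, 0; 1, 0, 0, 0] : Form4),
     (!![0, 1, 1, 0; 1, 0, 1, 1; 1, 1, 0, 0; 0, 1, 0, 0] : Form4),
     (!![0, 1, 1, 1; 1, 0, 0, 1; 1, 0, 0, 0; 1, 1, 0, 0] : Form4)}}


set_option maxRecDepth 100000 in
lemma stars8_card : stars8.card = 8 := by decide

set_option maxRecDepth 100000 in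
set_option maxHeartbeats 4000000 in
lemma stars8_transvection : ∀ (i j : Fin 4) (hij : i ≠ j) (c : ZMod 2),
    (SpecialLinearGroup.transvection hij c) • stars8 = stars8 := by
  decide

set_option maxRecDepth 100000 in
lemma stars8_moved : ∃ S ∈ stars8,
    (SpecialLinearGroup.transvection (show (0 : Fin 4) ≠ 1 by decide) (1 : ZMod 2)) • S ≠ S := by
  decide

lemma stars8_fixed (g : SpecialLinearGroup (Fin 4) (ZMod 2)) : g • stars8 = stars8 := by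
  have : Fact (Nat.Prime 2) := ⟨Nat.prime_two⟩
  have h : MulAction.stabilizer (SpecialLinearGroup (Fin 4) (ZMod 2)) stars8 = ⊤ :=
    eq_top_of_transvection_mem _ (fun i j hij c => by
      rw [MulAction.mem_stabilizer_iff]
      exact stars8_transvection i j hij c)
  have hg : g ∈ MulAction.stabilizer (SpecialLinearGroup (Fin 4) (ZMod 2)) stars8 := by
    rw [h]; trivial
  exact MulAction.mem_stabilizer_iff.mp hg

end a8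

end Cfsg.Agent.Lib.Helper07
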