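import Mathlib

set_option autoImplicit false

namespace Cfsg.Agent.Lib.Helper07

open Matrix

section mat
variable {F : Type*} [Field F]

/-- upper unitriangular matrix -/
def upT (b : F) : Matrix (Fin 2) (Fin 2) F := !![1, b; 0, 1]

lemma upT_det (b : F) : (upT b).det = 1 := by simp [upT, det_fin_two]

lemma upT_add (b c : F) : upT (b + c) = upT b * upT c := by
  ext i j; fin_cases i <;> fin_cases j <;>
    simp [upT, Matrix.mul_apply, Fin.sum_univ_two, add_comm]

lemma upT_zero : upT (0 : F) = 1 := by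
  ext i j; fin_cases i <;> fin_cases j <;> simp [upT]

lemma upT_inj {b c : F} (h : upT b = upT c) : b = c := by
  have := congrFun (congrFun h 0) 1
  simpa [upT] using this

lemma upT_conj_imp {M : Matrix (Fin 2) (Fin 2) F} {b b' : F} (h : M * upT b = upT b' * M)
    (hb : b ≠ 0) : M 1 0 = 0 := by
  have := congrFun (congrFun h 1) 1
  simp [upT, Matrix.mul_apply, Fin.sum_univ_two] at this
  rcases this with h | h
  · exact h
  · exact absurd h hb

lemma upT_conj {M : Matrix (Fin 2) (Fin 2) F} (h10 : M 1 0 = 0) (h11 : M 1 1 ≠ 0) (b : F) :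
    M * upT b = upT (M 0 0 * b / M 1 1) * M := by
  ext i j; fin_cases i <;> fin_cases j <;> simp [upT, Matrix.mul_apply, Fin.sum_univ_two, h10]
  field_simp
  ring

end mat

section gl
variable {F : Type*} [Field F]

/-- upper unitriangular element of `GL₂`. -/
noncomputable def upGL (b : F) : GL (Fin 2) F :=
  GeneralLinearGroup.mkOfDetNeZero (upT b) (by rw [upT_det]; exact one_ne_zero)

@[simp] lemma upGL_val (b : F) : (upGL b).val = upT b := rfl

lemma upGL_injective : Function.Injective (upGL : F → GL (Fin 2) F) := by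
  intro b c h
  exact upT_inj (congrArg Units.val h)

/-- `b ↦ upGL b` as a homomorphism. -/
noncomputable def upGLHom : Multiplicative F →* GL (Fin 2) F where
  toFun b := upGL (Multiplicative.toAdd b)
  map_one' := Units.ext (by simp [upT_zero])
  map_mul' a b := Units.ext (by simp [upT_add])

/-- the group of upper unitriangular matrices in `GL₂`. -/
noncomputable def UGL : Subgroup (GL (Fin 2) F) := (upGLHom (F := F)).range

lemma mem_UGL {g : GL (Fin 2) F} : g ∈ UGL ↔ ∃ b : F, upGL b = g := by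
  constructor
  · rintro ⟨b, rfl⟩
    exact ⟨Multiplicative.toAdd b, rfl⟩
  · rintro ⟨b, rfl⟩
    exact ⟨Multiplicative.ofAdd b, rfl⟩

lemma upGL_mem (b : F) : upGL b ∈ (UGL : Subgroup (GL (Fin 2) F)) := mem_UGL.mpr ⟨b, rfl⟩

lemma card_UGL [Fintype F] : Nat.card (UGL : Subgroup (GL (Fin 2) F)) = Fintype.card F := by
  have hinj : Function.Injective (upGLHom (F := F)) := by
    intro a b h
    have h' : upGL (F := F) (Multiplicative.toAdd a) = upGL (Multiplicative.toAdd b) := h
    exact Multiplicative.toAdd.injective (upGL_injective h')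
  have e := MonoidHom.ofInjective hinj
  rw [UGL, ← Nat.card_congr e.toEquiv, Nat.card_eq_fintype_card, Fintype.card_multiplicative]

/-- a matrix in `GL₂` with zero lower-left entry has nonzero diagonal entries. -/
lemma diag_ne_zero_of_lower_zero {h : GL (Fin 2) F} (h10 : h.val 1 0 = 0) :
    h.val 0 0 ≠ 0 ∧ h.val 1 1 ≠ 0 := by
  have hdet : h.val.det ≠ 0 := by
    have := h.isUnit.map (Matrix.detMonoidHom (n := Fin 2) (R := F))
    exact this.ne_zero
  rw [det_fin_two, h10, mul_zero, sub_zero] at hdet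
  exact ⟨left_ne_zero_of_mul hdet, right_ne_zero_of_mul hdet⟩

/-- the Borel subgroup of upper triangular matrices in `GL₂`. -/
def borelGL : Subgroup (GL (Fin 2) F) where
  carrier := {h | h.val 1 0 = 0}
  one_mem' := by simp
  mul_mem' {a b} ha hb := by
    simp only [Set.mem_ofPred_eq] at ha hb ⊢
    simp [Matrix.mul_apply, Fin.sum_univ_two, ha, hb]
  inv_mem' {a} ha := by
    simp only [Set.mem_ofPred_eq] at ha ⊢
    have h1 : (a⁻¹ * a).val 1 0 = 0 := by simp
    rw [Units.val_mul, Matrix.mul_apply, Fin.sum_univ_two, ha, mul_zero, add_zero] at h1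
    rcases mul_eq_zero.mp h1 with h | h
    · exact h
    · exact absurd h (diag_ne_zero_of_lower_zero ha).1

lemma mem_borelGL {h : GL (Fin 2) F} : h ∈ borelGL ↔ h.val 1 0 = 0 := Iff.rfl

lemma borel_conj_mem {h : GL (Fin 2) F} (hh : h ∈ borelGL) {x : GL (Fin 2) F} (hx : x ∈ UGL) :
    h * x * h⁻¹ ∈ UGL := by
  obtain ⟨b, rfl⟩ := mem_UGL.mp hx
  have h11 := (diag_ne_zero_of_lower_zero hh).2
  have key : h * upGL b = upGL (h.val 0 0 * b / h.val 1 1) * h := by
    apply Units.ext
    simp only [Units.val_mul, upGL_val]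
    exact upT_conj hh h11 b
  rw [key, mul_inv_cancel_right]
  exact upGL_mem _

lemma lower_zero_of_conj {h : GL (Fin 2) F} {b b' : F} (hb : b ≠ 0)
    (hc : h * upGL b = upGL b' * h) : h ∈ borelGL := by
  have := congrArg Units.val hc
  simp only [Units.val_mul, upGL_val] at this
  exact upT_conj_imp this hb

lemma normalizer_UGL : Subgroup.normalizer ((UGL : Subgroup (GL (Fin 2) F)) : Set (GL (Fin 2) F)) =
    borelGL := by
  ext h
  rw [Subgroup.mem_normalizer_iff]
  constructor
  · intro hn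
    have h1 := (hn (upGL 1)).mp (upGL_mem 1)
    obtain ⟨b', hb'⟩ := mem_UGL.mp h1
    apply lower_zero_of_conj (b := 1) (b' := b') one_ne_zero
    rw [hb', inv_mul_cancel_right]
  · intro hh x
    constructor
    · exact borel_conj_mem hh
    · intro hx
      have := borel_conj_mem (borelGL.inv_mem hh) hx
      simpa [mul_assoc] using this

end gl

section finite
variable {F : Type*} [Field F] [Fintype F]

/-- the Borel subgroup of `GL₂(q)` has order `(q-1)^2 q`. -/
noncomputable def borelGLEquiv : (borelGL : Subgroup (GL (Fin 2) F)) ≃ Fˣ × Fˣ × F where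
  toFun h := (Units.mk0 (h.1.val 0 0) (diag_ne_zero_of_lower_zero h.2).1,
    Units.mk0 (h.1.val 1 1) (diag_ne_zero_of_lower_zero h.2).2, h.1.val 0 1)
  invFun t := ⟨GeneralLinearGroup.mkOfDetNeZero !![(t.1 : F), t.2.2; 0, (t.2.1 : F)] (by
    simp [det_fin_two]), by
    rw [mem_borelGL]; simp⟩
  left_inv h := by
    apply Subtype.ext
    apply Units.ext
    ext i j
    fin_cases i <;> fin_cases j <;> simp
    exact (mem_borelGL.mp h.2).symm
  right_inv t := by
    obtain ⟨x, w, y⟩ := t
    ext <;> simp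

lemma card_borelGL : Nat.card (borelGL : Subgroup (GL (Fin 2) F)) =
    (Fintype.card F - 1) * ((Fintype.card F - 1) * Fintype.card F) := by
  classical
  rw [Nat.card_congr borelGLEquiv, Nat.card_prod, Nat.card_prod, Nat.card_eq_fintype_card,
    Fintype.card_units, Nat.card_eq_fintype_card]

lemma card_GL_two : Nat.card (GL (Fin 2) F) =
    (Fintype.card F ^ 2 - 1) * (Fintype.card F ^ 2 - Fintype.card F) := by
  rw [Matrix.card_GL_field, Fin.prod_univ_two]
  simp

lemma index_borelGL : (borelGL : Subgroup (GL (Fin 2) F)).index = Fintype.card F + 1 := by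
  have h := (borelGL : Subgroup (GL (Fin 2) F)).index_mul_card
  rw [card_borelGL, card_GL_two] at h
  obtain ⟨r, hr⟩ : ∃ r, Fintype.card F = r + 2 := by
    have := Fintype.one_lt_card (α := F)
    exact ⟨Fintype.card F - 2, by omega⟩
  rw [hr] at h ⊢
  have e1 : (r + 2) ^ 2 - 1 = (r + 3) * (r + 1) := by
    have : (r + 2) ^ 2 = (r + 3) * (r + 1) + 1 := by ring
    omega
  have e2 : (r + 2) ^ 2 - (r + 2) = (r + 1) * (r + 2) := by
    have : (r + 2) ^ 2 = (r + 1) * (r + 2) + (r + 2) := by ring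
    omega
  have e3 : r + 2 - 1 = r + 1 := by omega
  rw [e1, e2, e3] at h
  have hpos : 0 < (r + 1) * ((r + 1) * (r + 2)) := by positivity
  have : (borelGL : Subgroup (GL (Fin 2) F)).index * ((r + 1) * ((r + 1) * (r + 2))) =
      (r + 3) * ((r + 1) * ((r + 1) * (r + 2))) := by
    rw [h]; ring
  exact Nat.eq_of_mul_eq_mul_right hpos this

variable (p : ℕ) [Fact p.Prime] [CharP F p]

lemma isPGroup_UGL : IsPGroup p (UGL : Subgroup (GL (Fin 2) F)) := by
  obtain ⟨n, -, hn⟩ := FiniteField.card F p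
  exact IsPGroup.of_card (n := n) (by rw [card_UGL, hn])

lemma not_dvd_index_UGL : ¬ p ∣ (UGL : Subgroup (GL (Fin 2) F)).index := by
  obtain ⟨n, hp, hn⟩ := FiniteField.card F p
  have h := (UGL : Subgroup (GL (Fin 2) F)).index_mul_card
  rw [card_UGL, card_GL_two] at h
  obtain ⟨r, hr⟩ : ∃ r, Fintype.card F = r + 2 := by
    have := Fintype.one_lt_card (α := F)
    exact ⟨Fintype.card F - 2, by omega⟩
  have hpq : p ∣ Fintype.card F := by
    rw [hn]; exact dvd_pow_self p n.ne_zero
  rw [hr] at h hpq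
  have e1 : (r + 2) ^ 2 - 1 = (r + 3) * (r + 1) := by
    have : (r + 2) ^ 2 = (r + 3) * (r + 1) + 1 := by ring
    omega
  have e2 : (r + 2) ^ 2 - (r + 2) = (r + 1) * (r + 2) := by
    have : (r + 2) ^ 2 = (r + 1) * (r + 2) + (r + 2) := by ring
    omega
  rw [e1, e2] at h
  have hidx : (UGL : Subgroup (GL (Fin 2) F)).index = (r + 3) * (r + 1) * (r + 1) := by
    have hpos : 0 < r + 2 := by omega
    have : (UGL : Subgroup (GL (Fin 2) F)).index * (r + 2) = (r + 3) * (r + 1) * (r + 1) * (r + 2) := by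
      rw [h]; ring
    exact Nat.eq_of_mul_eq_mul_right hpos this
  rw [hidx]
  intro hdvd
  have hp1 : p ≠ 1 := hp.ne_one
  have hnd1 : ¬ p ∣ r + 1 := by
    intro h1
    have : p ∣ (r + 2) - (r + 1) := Nat.dvd_sub hpq h1
    rw [show r + 2 - (r + 1) = 1 by omega] at this
    exact hp1 (Nat.dvd_one.mp this)
  have hnd3 : ¬ p ∣ r + 3 := by
    intro h3
    have : p ∣ (r + 3) - (r + 2) := Nat.dvd_sub h3 hpq
    rw [show r + 3 - (r + 2) = 1 by omega] at this
    exact hp1 (Nat.dvd_one.mp this)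
  rcases (Nat.Prime.dvd_mul hp).mp hdvd with h1 | h1
  · rcases (Nat.Prime.dvd_mul hp).mp h1 with h2 | h2
    · exact hnd3 h2
    · exact hnd1 h2
  · exact hnd1 h1

/-- the upper unitriangular group as a Sylow `p`-subgroup of `GL₂(q)`. -/
noncomputable def sylUGL : Sylow p (GL (Fin 2) F) :=
  (isPGroup_UGL p).toSylow (not_dvd_index_UGL p)

lemma sylUGL_coe : ((sylUGL p : Sylow p (GL (Fin 2) F)) : Subgroup (GL (Fin 2) F)) = UGL := rfl

/-- `GL₂(q)` has `q + 1` Sylow `p`-subgroups. -/
theorem card_sylow_GL_two : Nat.card (Sylow p (GL (Fin 2) F)) = Fintype.card F + 1 := by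
  rw [(sylUGL (F := F) p).card_eq_index_normalizer]
  have : Subgroup.normalizer ((sylUGL p : Sylow p (GL (Fin 2) F)) : Set (GL (Fin 2) F)) =
      borelGL := normalizer_UGL
  rw [this, index_borelGL]

/-- distinct Sylow `p`-subgroups of `GL₂(q)` intersect trivially. -/
theorem sylow_GL_two_inf_eq_bot (P Q : Sylow p (GL (Fin 2) F)) (hPQ : P ≠ Q) :
    (P : Subgroup (GL (Fin 2) F)) ⊓ (Q : Subgroup (GL (Fin 2) F)) = ⊥ := by
  obtain ⟨c, rfl⟩ := MulAction.exists_smul_eq (GL (Fin 2) F) (sylUGL p) P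
  obtain ⟨d, rfl⟩ := MulAction.exists_smul_eq (GL (Fin 2) F) (sylUGL p) Q
  rw [eq_bot_iff]
  intro x hx
  rw [Subgroup.mem_bot]
  by_contra hx1
  apply hPQ
  obtain ⟨hxc, hxd⟩ := Subgroup.mem_inf.mp hx
  rw [Sylow.coe_subgroup_smul, Subgroup.mem_pointwise_smul_iff_inv_smul_mem, sylUGL_coe] at hxc hxd
  simp only [MulAut.smul_def, MulAut.inv_apply, MulAut.conj_symm_apply] at hxc hxd
  obtain ⟨b, hb⟩ := mem_UGL.mp hxc
  obtain ⟨b', hb'⟩ := mem_UGL.mp hxd
  have hb0 : b ≠ 0 := by
    rintro rfl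
    apply hx1
    have h1 : upGL (0 : F) = 1 := Units.ext upT_zero
    rw [h1] at hb
    have : x = c * (c⁻¹ * x * c) * c⁻¹ := by group
    rw [this, ← hb]; group
  -- h = d⁻¹ c normalizes U
  have hmem : d⁻¹ * c ∈ (borelGL : Subgroup (GL (Fin 2) F)) := by
    apply lower_zero_of_conj (b := b) (b' := b') hb0
    rw [hb, hb']; group
  have hnorm : (d⁻¹ * c) • sylUGL (F := F) p = sylUGL p := by
    rw [Sylow.smul_eq_iff_mem_normalizer]
    have : Subgroup.normalizer ((sylUGL p : Sylow p (GL (Fin 2) F)) : Set (GL (Fin 2) F)) =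
      borelGL := normalizer_UGL
    rw [this]; exact hmem
  calc c • sylUGL (F := F) p = d • ((d⁻¹ * c) • sylUGL p) := by
        rw [← mul_smul, mul_inv_cancel_left]
    _ = d • sylUGL p := by rw [hnorm]

end finite

end Cfsg.Agent.Lib.Helper07
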