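import Mathlib
import Cfsg.Agent.Lib.Helper07.GL2Sylow
import Cfsg.Agent.Lib.Helper07.SLGen
import Cfsg.Agent.Lib.Helper07.PermEmbed

set_option autoImplicit false

namespace Cfsg.Agent.Lib.Helper07

open Matrix

open scoped Pointwise

section mat
variable {F : Type*} [Field F]

/-- lower unitriangular matrix -/
def loT (c : F) : Matrix (Fin 2) (Fin 2) F := !![1, 0; c, 1]

lemma loT_det (c : F) : (loT c).det = 1 := by simp [loT, det_fin_two]

lemma upT_conj_lo {M : Matrix (Fin 2) (Fin 2) F} (h00 : M 0 0 = 0) (h01 : M 0 1 ≠ 0) (b : F) :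
    M * upT b = loT (M 1 0 * b / M 0 1) * M := by
  ext i j; fin_cases i <;> fin_cases j <;>
    simp [upT, loT, Matrix.mul_apply, Fin.sum_univ_two, h00]
  field_simp

end mat

section sl
variable {F : Type*} [Field F]

/-- upper unitriangular element of `SL₂`. -/
def upSL (b : F) : SpecialLinearGroup (Fin 2) F := ⟨upT b, upT_det b⟩

/-- lower unitriangular element of `SL₂`. -/
def loSL (c : F) : SpecialLinearGroup (Fin 2) F := ⟨loT c, loT_det c⟩

@[simp] lemma upSL_val (b : F) : (upSL b).val = upT b := rfl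
@[simp] lemma loSL_val (b : F) : (loSL b).val = loT b := rfl

lemma transvection_zero_one (c : F) :
    SpecialLinearGroup.transvection (zero_ne_one : (0 : Fin 2) ≠ 1) c = upSL c := by
  apply Subtype.ext
  ext i j; fin_cases i <;> fin_cases j <;> simp [Matrix.SpecialLinearGroup.transvection_coe, upT]

lemma transvection_one_zero (c : F) :
    SpecialLinearGroup.transvection (one_ne_zero : (1 : Fin 2) ≠ 0) c = loSL c := by
  apply Subtype.ext
  ext i j; fin_cases i <;> fin_cases j <;> simp [Matrix.SpecialLinearGroup.transvection_coe, loT]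

lemma upSL_injective : Function.Injective (upSL : F → SpecialLinearGroup (Fin 2) F) := by
  intro b c h
  exact upT_inj (congrArg Subtype.val h)

/-- `b ↦ upSL b` as a homomorphism. -/
def upSLHom : Multiplicative F →* SpecialLinearGroup (Fin 2) F where
  toFun b := upSL (Multiplicative.toAdd b)
  map_one' := Subtype.ext (by simp [upT_zero])
  map_mul' a b := Subtype.ext (by simp [upT_add])

/-- the group of upper unitriangular matrices in `SL₂`. -/
def USL : Subgroup (SpecialLinearGroup (Fin 2) F) := (upSLHom (F := F)).range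

lemma mem_USL {g : SpecialLinearGroup (Fin 2) F} : g ∈ USL ↔ ∃ b : F, upSL b = g := by
  constructor
  · rintro ⟨b, rfl⟩
    exact ⟨Multiplicative.toAdd b, rfl⟩
  · rintro ⟨b, rfl⟩
    exact ⟨Multiplicative.ofAdd b, rfl⟩

lemma upSL_mem (b : F) : upSL b ∈ (USL : Subgroup (SpecialLinearGroup (Fin 2) F)) :=
  mem_USL.mpr ⟨b, rfl⟩

lemma card_USL [Fintype F] :
    Nat.card (USL : Subgroup (SpecialLinearGroup (Fin 2) F)) = Fintype.card F := by
  have hinj : Function.Injective (upSLHom (F := F)) := by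
    intro a b h
    have h' : upSL (F := F) (Multiplicative.toAdd a) = upSL (Multiplicative.toAdd b) := h
    exact Multiplicative.toAdd.injective (upSL_injective h')
  have e := MonoidHom.ofInjective hinj
  rw [USL, ← Nat.card_congr e.toEquiv, Nat.card_eq_fintype_card, Fintype.card_multiplicative]

lemma sl_diag_ne_zero_of_lower_zero {h : SpecialLinearGroup (Fin 2) F} (h10 : h.val 1 0 = 0) :
    h.val 0 0 ≠ 0 ∧ h.val 1 1 ≠ 0 := by
  have hdet : h.val.det = 1 := h.2
  rw [det_fin_two, h10, mul_zero, sub_zero] at hdet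
  have : h.val 0 0 * h.val 1 1 ≠ 0 := by rw [hdet]; exact one_ne_zero
  exact ⟨left_ne_zero_of_mul this, right_ne_zero_of_mul this⟩

/-- the Borel subgroup of upper triangular matrices in `SL₂`. -/
def borelSL : Subgroup (SpecialLinearGroup (Fin 2) F) where
  carrier := {h | h.val 1 0 = 0}
  one_mem' := by simp
  mul_mem' {a b} ha hb := by
    simp only [Set.mem_ofPred_eq] at ha hb ⊢
    simp [Matrix.mul_apply, Fin.sum_univ_two, ha, hb]
  inv_mem' {a} ha := by
    simp only [Set.mem_ofPred_eq] at ha ⊢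
    rw [Matrix.SpecialLinearGroup.coe_inv, adjugate_fin_two]
    simp [ha]

lemma mem_borelSL {h : SpecialLinearGroup (Fin 2) F} : h ∈ borelSL ↔ h.val 1 0 = 0 := Iff.rfl

lemma borelSL_conj_mem {h : SpecialLinearGroup (Fin 2) F} (hh : h ∈ borelSL)
    {x : SpecialLinearGroup (Fin 2) F} (hx : x ∈ USL) : h * x * h⁻¹ ∈ USL := by
  obtain ⟨b, rfl⟩ := mem_USL.mp hx
  have h11 := (sl_diag_ne_zero_of_lower_zero hh).2
  have key : h * upSL b = upSL (h.val 0 0 * b / h.val 1 1) * h := by
    apply Subtype.ext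
    simp only [Matrix.SpecialLinearGroup.coe_mul, upSL_val]
    exact upT_conj hh h11 b
  rw [key, mul_inv_cancel_right]
  exact upSL_mem _

lemma borelSL_le_normalizer :
    borelSL ≤ Subgroup.normalizer ((USL : Subgroup (SpecialLinearGroup (Fin 2) F)) :
      Set (SpecialLinearGroup (Fin 2) F)) := by
  intro h hh
  rw [Subgroup.mem_normalizer_iff]
  intro x
  constructor
  · exact borelSL_conj_mem hh
  · intro hx
    have := borelSL_conj_mem (borelSL.inv_mem hh) hx
    simpa [mul_assoc] using this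

/-- if `h` is not upper triangular then `U` and `h U h⁻¹` generate `SL₂`. -/
lemma USL_sup_conj_eq_top {h : SpecialLinearGroup (Fin 2) F} (hh : h ∉ borelSL) :
    (USL : Subgroup (SpecialLinearGroup (Fin 2) F)) ⊔ MulAut.conj h • USL = ⊤ := by
  set H := (USL : Subgroup (SpecialLinearGroup (Fin 2) F)) ⊔ MulAut.conj h • USL with hH
  have hz : h.val 1 0 ≠ 0 := hh
  have hU : ∀ b : F, upSL b ∈ H := fun b => Subgroup.mem_sup_left (upSL_mem b)
  have hconj : ∀ b : F, h * upSL b * h⁻¹ ∈ H := by
    intro b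
    apply Subgroup.mem_sup_right
    rw [Subgroup.mem_pointwise_smul_iff_inv_smul_mem]
    simp only [MulAut.smul_def, MulAut.inv_apply, MulAut.conj_symm_apply]
    have : h⁻¹ * (h * upSL b * h⁻¹) * h = upSL b := by group
    rw [this]; exact upSL_mem b
  -- the element `k = u₁⁻¹ h`
  set t : F := h.val 0 0 / h.val 1 0 with ht
  set k : SpecialLinearGroup (Fin 2) F := upSL (-t) * h with hk
  have hk00 : k.val 0 0 = 0 := by
    simp only [hk, Matrix.SpecialLinearGroup.coe_mul, upSL_val, upT, Matrix.mul_apply, Fin.sum_univ_two]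
    simp [ht]
    field_simp
    ring
  have hk10 : k.val 1 0 = h.val 1 0 := by
    simp only [hk, Matrix.SpecialLinearGroup.coe_mul, upSL_val, upT, Matrix.mul_apply, Fin.sum_univ_two]
    simp
  have hk01 : k.val 0 1 ≠ 0 := by
    have hdet : k.val.det = 1 := k.2
    rw [det_fin_two, hk00, zero_mul, zero_sub] at hdet
    intro h0
    rw [h0, zero_mul, neg_zero] at hdet
    exact zero_ne_one hdet
  have hinv : upSL (-t) * upSL t = 1 := by
    apply Subtype.ext
    simp only [Matrix.SpecialLinearGroup.coe_mul, upSL_val, Matrix.SpecialLinearGroup.coe_one]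
    rw [← upT_add, neg_add_cancel, upT_zero]
  have hL : ∀ c : F, loSL c ∈ H := by
    intro c
    set b : F := c * k.val 0 1 / k.val 1 0 with hb
    have key : k * upSL b = loSL c * k := by
      apply Subtype.ext
      simp only [Matrix.SpecialLinearGroup.coe_mul, upSL_val, loSL_val]
      rw [upT_conj_lo hk00 hk01 b]
      congr 2
      rw [hb, hk10]
      field_simp
    -- loSL c = k * upSL b * k⁻¹ = upSL (-t) * (h * upSL b * h⁻¹) * upSL t
    have e1 : loSL c = k * upSL b * k⁻¹ := by rw [key, mul_inv_cancel_right]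
    have e2 : k⁻¹ = h⁻¹ * upSL t := by
      rw [hk, _root_.mul_inv_rev]
      congr 1
      exact inv_eq_of_mul_eq_one_right hinv
    have e3 : loSL c = upSL (-t) * (h * upSL b * h⁻¹) * upSL t := by
      rw [e1, e2, hk]; group
    rw [e3]
    exact H.mul_mem (H.mul_mem (hU _) (hconj b)) (hU _)
  apply eq_top_of_transvection_mem
  intro i j hij c
  fin_cases i <;> fin_cases j
  · exact absurd rfl hij
  · exact (transvection_zero_one c) ▸ hU c
  · exact (transvection_one_zero c) ▸ hL c
  · exact absurd rfl hij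

end sl

section finite
variable {F : Type*} [Field F] [Fintype F]

lemma card_SL_two' : Nat.card (SpecialLinearGroup (Fin 2) F) =
    (Fintype.card F ^ 2 - 1) * Fintype.card F := by
  have h := card_sl_two (F := F)
  obtain ⟨r, hr⟩ : ∃ r, Fintype.card F = r + 2 := by
    have := Fintype.one_lt_card (α := F)
    exact ⟨Fintype.card F - 2, by omega⟩
  rw [hr] at h ⊢
  have e2 : (r + 2) ^ 2 - (r + 2) = (r + 1) * (r + 2) := by
    have : (r + 2) ^ 2 = (r + 1) * (r + 2) + (r + 2) := by ring
    omega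
  have e3 : r + 2 - 1 = r + 1 := by omega
  rw [e2, e3] at h
  have hpos : 0 < r + 1 := by omega
  have : (r + 1) * Nat.card (SpecialLinearGroup (Fin 2) F) =
      (r + 1) * (((r + 2) ^ 2 - 1) * (r + 2)) := by
    rw [h]; ring
  exact Nat.eq_of_mul_eq_mul_left hpos this

variable (p : ℕ) [Fact p.Prime] [CharP F p]

lemma isPGroup_USL : IsPGroup p (USL : Subgroup (SpecialLinearGroup (Fin 2) F)) := by
  obtain ⟨n, -, hn⟩ := FiniteField.card F p
  exact IsPGroup.of_card (n := n) (by rw [card_USL, hn])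

lemma not_dvd_index_USL : ¬ p ∣ (USL : Subgroup (SpecialLinearGroup (Fin 2) F)).index := by
  obtain ⟨n, hp, hn⟩ := FiniteField.card F p
  have h := (USL : Subgroup (SpecialLinearGroup (Fin 2) F)).index_mul_card
  rw [card_USL, card_SL_two'] at h
  have hpos : 0 < Fintype.card F := Fintype.card_pos
  have hidx : (USL : Subgroup (SpecialLinearGroup (Fin 2) F)).index = Fintype.card F ^ 2 - 1 :=
    Nat.eq_of_mul_eq_mul_right hpos h
  rw [hidx]
  have hpq : p ∣ Fintype.card F ^ 2 := by
    rw [hn]; exact dvd_pow (dvd_pow_self p n.ne_zero) (by norm_num)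
  intro hdvd
  have h1 : 1 ≤ Fintype.card F ^ 2 := Nat.one_le_pow _ _ hpos
  have : p ∣ Fintype.card F ^ 2 - (Fintype.card F ^ 2 - 1) := Nat.dvd_sub hpq hdvd
  rw [show Fintype.card F ^ 2 - (Fintype.card F ^ 2 - 1) = 1 by omega] at this
  exact hp.ne_one (Nat.dvd_one.mp this)

/-- the upper unitriangular group as a Sylow `p`-subgroup of `SL₂(q)`. -/
noncomputable def sylUSL : Sylow p (SpecialLinearGroup (Fin 2) F) :=
  (isPGroup_USL p).toSylow (not_dvd_index_USL p)

lemma sylUSL_coe : ((sylUSL p : Sylow p (SpecialLinearGroup (Fin 2) F)) :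
    Subgroup (SpecialLinearGroup (Fin 2) F)) = USL := rfl

/-- two distinct Sylow `p`-subgroups of `SL₂(q)` generate `SL₂(q)`. -/
theorem sylow_SL_two_sup_eq_top (P Q : Sylow p (SpecialLinearGroup (Fin 2) F)) (hPQ : P ≠ Q) :
    (P : Subgroup (SpecialLinearGroup (Fin 2) F)) ⊔ (Q : Subgroup (SpecialLinearGroup (Fin 2) F))
      = ⊤ := by
  obtain ⟨c, rfl⟩ := MulAction.exists_smul_eq (SpecialLinearGroup (Fin 2) F) (sylUSL p) P
  obtain ⟨d, rfl⟩ := MulAction.exists_smul_eq (SpecialLinearGroup (Fin 2) F) (sylUSL p) Q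
  have hh : c⁻¹ * d ∉ (borelSL : Subgroup (SpecialLinearGroup (Fin 2) F)) := by
    intro hmem
    apply hPQ
    have hnorm : (c⁻¹ * d) • sylUSL (F := F) p = sylUSL p := by
      rw [Sylow.smul_eq_iff_mem_normalizer]
      exact borelSL_le_normalizer hmem
    calc c • sylUSL (F := F) p = c • ((c⁻¹ * d) • sylUSL p) := by rw [hnorm]
      _ = d • sylUSL p := by rw [← mul_smul, mul_inv_cancel_left]
  have key := USL_sup_conj_eq_top hh
  rw [Sylow.coe_subgroup_smul, Sylow.coe_subgroup_smul, sylUSL_coe]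
  have hd : MulAut.conj d = MulAut.conj c * MulAut.conj (c⁻¹ * d) := by
    rw [← map_mul, mul_inv_cancel_left]
  rw [hd, mul_smul, ← Subgroup.smul_sup, key]
  rw [eq_top_iff]
  intro x _
  rw [Subgroup.mem_pointwise_smul_iff_inv_smul_mem]
  exact Subgroup.mem_top _

end finite

end Cfsg.Agent.Lib.Helper07
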