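import Mathlib

set_option autoImplicit false

namespace Cfsg.Agent.Lib.Helper07

open Matrix

/-- A ring isomorphism induces an isomorphism of special linear groups. -/
def slCongr {n : Type*} [Fintype n] [DecidableEq n] {R S : Type*} [CommRing R] [CommRing S]
    (e : R ≃+* S) : SpecialLinearGroup n R ≃* SpecialLinearGroup n S where
  toFun := SpecialLinearGroup.map e.toRingHom
  invFun := SpecialLinearGroup.map e.symm.toRingHom
  left_inv g := by
    apply Subtype.ext
    ext i j
    simp only [SpecialLinearGroup.map_apply_coe, RingHom.mapMatrix_apply, Matrix.map_apply]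
    exact e.symm_apply_apply _
  right_inv g := by
    apply Subtype.ext
    ext i j
    simp only [SpecialLinearGroup.map_apply_coe, RingHom.mapMatrix_apply, Matrix.map_apply]
    exact e.apply_symm_apply _
  map_mul' g h := map_mul _ g h

/-- A field with `p` elements is isomorphic to `ZMod p`. -/
noncomputable def fieldEquivZMod {F : Type*} [Field F] [Fintype F] (p : ℕ) [Fact p.Prime]
    (hF : Fintype.card F = p) : F ≃+* ZMod p :=
  (ZMod.ringEquivOfPrime F Fact.out hF).symm

/-- `SL_n(F) ≃* SL_n(ZMod p)` for a field with `p` elements. -/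
noncomputable def slEquivZMod {n : Type*} [Fintype n] [DecidableEq n] {F : Type*} [Field F]
    [Fintype F] (p : ℕ) [Fact p.Prime] (hF : Fintype.card F = p) :
    SpecialLinearGroup n F ≃* SpecialLinearGroup n (ZMod p) :=
  slCongr (fieldEquivZMod p hF)

end Cfsg.Agent.Lib.Helper07
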