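import Mathlib
import Cfsg.Agent.Lib.Helper07.SL2Sylow
import Cfsg.Agent.Lib.Helper07.SLTransfer

set_option autoImplicit false

namespace Cfsg.Agent.Lib.Helper07

open Matrix

section hamming

instance fact_prime_seven : Fact (Nat.Prime 7) := ⟨by norm_num⟩

/-- indicator of the nonzero squares mod 7. -/
def sqi (z : ZMod 7) : ZMod 2 := if z = 1 ∨ z = 2 ∨ z = 4 then 1 else 0

/-- three words of the extended Hamming code, as functions on `(ZMod 7)^2`. -/
def wfun (l : Fin 3) (v : Fin 2 → ZMod 7) : ZMod 2 :=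
  if v 1 = 0 then (if v 0 = 0 then 0 else 1) else sqi ((v 0 - (l.val : ZMod 7) * v 1) * v 1)

/-- indicator of nonzero vectors. -/
def onef (v : Fin 2 → ZMod 7) : ZMod 2 := if v = 0 then 0 else 1

/-- base point. -/
def om0 : Fin 2 → ZMod 7 := ![0, 1]

/-- the other three points. -/
def om (k : Fin 3) : Fin 2 → ZMod 7 := ![![1, 5, 6] k, 1]

/-- the matrix of `g` on the code modulo the all-ones word. -/
def psiM (g : Matrix (Fin 2) (Fin 2) (ZMod 7)) : Matrix (Fin 3) (Fin 3) (ZMod 2) :=
  Matrix.of fun l m => wfun l (g *ᵥ om0) + wfun l (g *ᵥ om m)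

def alphaV (g : Matrix (Fin 2) (Fin 2) (ZMod 7)) (l : Fin 3) : ZMod 2 := wfun l (g *ᵥ om0)

/-- `g` preserves the code. -/
def Good (g : Matrix (Fin 2) (Fin 2) (ZMod 7)) : Prop :=
  ∀ (l : Fin 3) (v : Fin 2 → ZMod 7),
    wfun l (g *ᵥ v) = ∑ m, psiM g l m * wfun m v + alphaV g l * onef v

instance (g : Matrix (Fin 2) (Fin 2) (ZMod 7)) : Decidable (Good g) := by
  unfold Good; infer_instance

set_option maxRecDepth 100000 in
lemma good_up : ∀ c : ZMod 7, Good !![1, c; 0, 1] := by decide

set_option maxRecDepth 100000 in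
lemma good_lo : ∀ c : ZMod 7, Good !![1, 0; c, 1] := by decide

lemma wfun_om0 : ∀ n, wfun n om0 = 0 := by decide
lemma wfun_om : ∀ n k, wfun n (om k) = if n = k then 1 else 0 := by decide
lemma onef_om0 : onef om0 = 1 := by decide
lemma onef_om : ∀ k, onef (om k) = 1 := by decide

lemma zmod2_add_self (x : ZMod 2) : x + x = 0 := by revert x; decide

/-- coefficients of a code word are read off at the four base points. -/
lemma coeff_of_expansion (f : (Fin 2 → ZMod 7) → ZMod 2) (B : Fin 3 → ZMod 2) (b : ZMod 2)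
    (h : ∀ v, f v = ∑ n, B n * wfun n v + b * onef v) :
    b = f om0 ∧ ∀ k, B k = f om0 + f (om k) := by
  have h0 : f om0 = b := by
    rw [h om0]
    simp [wfun_om0, onef_om0]
  refine ⟨h0.symm, fun k => ?_⟩
  rw [h0, h (om k)]
  simp only [wfun_om, onef_om, mul_one, mul_ite, mul_zero, Finset.sum_ite_eq',
    Finset.mem_univ, if_true]
  rw [add_comm (B k), ← add_assoc, zmod2_add_self, zero_add]

lemma onef_mulVec {h : Matrix (Fin 2) (Fin 2) (ZMod 7)} (hdet : h.det = 1)
    (v : Fin 2 → ZMod 7) : onef (h *ᵥ v) = onef v := by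
  unfold onef
  have : h *ᵥ v = 0 ↔ v = 0 := by
    constructor
    · intro hv
      have : h.adjugate *ᵥ (h *ᵥ v) = v := by
        rw [Matrix.mulVec_mulVec, Matrix.adjugate_mul, hdet, one_smul, Matrix.one_mulVec]
      rw [← this, hv, Matrix.mulVec_zero]
    · rintro rfl
      exact Matrix.mulVec_zero _
  simp only [this]

lemma good_mul {g h : Matrix (Fin 2) (Fin 2) (ZMod 7)} (hg : Good g) (hh : Good h)
    (hdet : h.det = 1) : Good (g * h) ∧ psiM (g * h) = psiM g * psiM h := by
  have key : ∀ (l : Fin 3) (v : Fin 2 → ZMod 7), wfun l ((g * h) *ᵥ v) =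
      ∑ n, (psiM g * psiM h) l n * wfun n v +
        (∑ m, psiM g l m * alphaV h m + alphaV g l) * onef v := by
    intro l v
    rw [← Matrix.mulVec_mulVec, hg l (h *ᵥ v), onef_mulVec hdet]
    simp_rw [hh _ v, Matrix.mul_apply, mul_add, Finset.sum_add_distrib, Finset.mul_sum,
      Finset.sum_mul, add_mul, Finset.sum_mul]
    rw [Finset.sum_comm]
    simp only [mul_assoc, add_assoc]
  have hc : ∀ l, (∑ m, psiM g l m * alphaV h m + alphaV g l) = alphaV (g * h) l ∧
      ∀ k, (psiM g * psiM h) l k = psiM (g * h) l k := by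
    intro l
    have := coeff_of_expansion (fun v => wfun l ((g * h) *ᵥ v)) (fun n => (psiM g * psiM h) l n)
      _ (key l)
    exact ⟨this.1, fun k => this.2 k⟩
  constructor
  · intro l v
    rw [key l v, (hc l).1]
    congr 1
    apply Finset.sum_congr rfl
    intro n _
    rw [(hc l).2 n]
  · ext l k
    exact ((hc l).2 k).symm

lemma good_one : Good (1 : SpecialLinearGroup (Fin 2) (ZMod 7)).val := by
  have := good_up 0
  have e : (1 : SpecialLinearGroup (Fin 2) (ZMod 7)).val = !![1, 0; 0, 1] := by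
    rw [Matrix.SpecialLinearGroup.coe_one]
    exact Matrix.one_fin_two
  rw [e]; exact this

lemma good_transvection (i j : Fin 2) (hij : i ≠ j) (c : ZMod 7) :
    Good (SpecialLinearGroup.transvection hij c).val := by
  fin_cases i <;> fin_cases j
  · exact absurd rfl hij
  · have := transvection_zero_one c
    simp only [Fin.zero_eta, Fin.mk_one] at *
    rw [this]
    exact good_up c
  · have := transvection_one_zero c
    simp only [Fin.zero_eta, Fin.mk_one] at *
    rw [this]
    exact good_lo c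
  · exact absurd rfl hij

lemma good_all (g : SpecialLinearGroup (Fin 2) (ZMod 7)) : Good g.val := by
  have h := transvection_induction (ι := Fin 2) (F := ZMod 7) (fun A => Good A.val)
    good_one good_transvection (fun A B hA hB => by
      show Good (A * B).val
      rw [Matrix.SpecialLinearGroup.coe_mul]
      exact (good_mul hA hB B.2).1)
  exact h g

lemma psiM_mul (g h : SpecialLinearGroup (Fin 2) (ZMod 7)) :
    psiM (g * h).val = psiM g.val * psiM h.val := by
  rw [Matrix.SpecialLinearGroup.coe_mul]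
  exact (good_mul (good_all g) (good_all h) h.2).2

lemma psiM_one : psiM (1 : Matrix (Fin 2) (Fin 2) (ZMod 7)) = 1 := by decide

lemma zmod2_unit : ∀ x y : ZMod 2, x * y = 1 → x = 1 := by decide

lemma psiM_scalar : ∀ r : ZMod 7, r * r = 1 →
    psiM (Matrix.scalar (Fin 2) r) = 1 := by decide

lemma psiM_up_ne : psiM !![1, 1; 0, 1] ≠ 1 := by decide

attribute [local irreducible] psiM

lemma psiM_det (g : SpecialLinearGroup (Fin 2) (ZMod 7)) : (psiM g.val).det = 1 := by
  have h : psiM g.val * psiM (g⁻¹).val = 1 := by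
    rw [← psiM_mul, mul_inv_cancel, Matrix.SpecialLinearGroup.coe_one, psiM_one]
  have := congrArg Matrix.det h
  rw [Matrix.det_mul, Matrix.det_one] at this
  exact zmod2_unit _ _ this

/-- the homomorphism `SL₂(7) → SL₃(2)`. -/
def psiSL (g : SpecialLinearGroup (Fin 2) (ZMod 7)) : SpecialLinearGroup (Fin 3) (ZMod 2) :=
  ⟨psiM g.val, psiM_det g⟩

lemma psiSL_val (g : SpecialLinearGroup (Fin 2) (ZMod 7)) : (psiSL g).val = psiM g.val := rfl

def psiHom : SpecialLinearGroup (Fin 2) (ZMod 7) →* SpecialLinearGroup (Fin 3) (ZMod 2) where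
  toFun := psiSL
  map_one' := by
    apply Subtype.ext
    rw [psiSL_val, Matrix.SpecialLinearGroup.coe_one, Matrix.SpecialLinearGroup.coe_one]
    exact psiM_one
  map_mul' g h := by
    apply Subtype.ext
    rw [Matrix.SpecialLinearGroup.coe_mul, psiSL_val, psiSL_val, psiSL_val]
    exact psiM_mul g h

lemma psiHom_val (g : SpecialLinearGroup (Fin 2) (ZMod 7)) : (psiHom g).val = psiM g.val := rfl

lemma center_le_ker_psiHom :
    Subgroup.center (SpecialLinearGroup (Fin 2) (ZMod 7)) ≤ psiHom.ker := by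
  intro g hg
  rw [Matrix.SpecialLinearGroup.mem_center_iff] at hg
  obtain ⟨r, hr, hg⟩ := hg
  rw [MonoidHom.mem_ker]
  apply Subtype.ext
  rw [psiHom_val, ← hg, Matrix.SpecialLinearGroup.coe_one]
  apply psiM_scalar
  rw [Fintype.card_fin, pow_two] at hr
  exact hr

/-- the induced homomorphism `PSL₂(7) → SL₃(2)`. -/
def psiBar : ProjectiveSpecialLinearGroup (Fin 2) (ZMod 7) →* SpecialLinearGroup (Fin 3) (ZMod 2) :=
  QuotientGroup.lift _ psiHom center_le_ker_psiHom

lemma psiBar_injective : Function.Injective psiBar := by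
  have hs : IsSimpleGroup (ProjectiveSpecialLinearGroup (Fin 2) (ZMod 7)) :=
    Matrix.ProjectiveSpecialLinearGroup.rank_two_simple (by
      rw [Nat.card_eq_fintype_card, ZMod.card]; norm_num)
  rw [← MonoidHom.ker_eq_bot_iff]
  rcases (psiBar.normal_ker).eq_bot_or_eq_top with h | h
  · exact h
  · exfalso
    have hmem : (QuotientGroup.mk (upSL (1 : ZMod 7)) :
        ProjectiveSpecialLinearGroup (Fin 2) (ZMod 7)) ∈ psiBar.ker := by
      rw [h]; trivial
    rw [MonoidHom.mem_ker] at hmem
    have h2 : psiHom (upSL (1 : ZMod 7)) = 1 := hmem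
    have h3 := congrArg Subtype.val h2
    rw [psiHom_val, upSL_val, Matrix.SpecialLinearGroup.coe_one] at h3
    exact psiM_up_ne h3

end hamming

section transfer

lemma map_center_mulEquiv {G H : Type*} [Group G] [Group H] (e : G ≃* H) :
    (Subgroup.center G).map (e : G →* H) = Subgroup.center H := by
  ext y
  rw [Subgroup.mem_map, Subgroup.mem_center_iff]
  constructor
  · rintro ⟨x, hx, rfl⟩ z
    rw [Subgroup.mem_center_iff] at hx
    obtain ⟨z', rfl⟩ := e.surjective z
    simp only [MonoidHom.coe_coe]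
    rw [← map_mul, ← map_mul, hx z']
  · intro hy
    refine ⟨e.symm y, ?_, by simp⟩
    rw [Subgroup.mem_center_iff]
    intro z
    apply e.injective
    rw [map_mul, map_mul, e.apply_symm_apply]
    exact hy (e z)

/-- A ring isomorphism induces an isomorphism of projective special linear groups. -/
def pslCongr {n : Type*} [Fintype n] [DecidableEq n] {R S : Type*} [CommRing R] [CommRing S]
    (e : R ≃+* S) : ProjectiveSpecialLinearGroup n R ≃* ProjectiveSpecialLinearGroup n S :=
  QuotientGroup.congr _ _ (slCongr e) (map_center_mulEquiv _)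

end transfer

section final

theorem psl_two_seven_equiv_psl_three_two {F K : Type*} [Field F] [Fintype F] [Field K]
    [Fintype K] (hF : Fintype.card F = 7) (hK : Fintype.card K = 2) :
    Nonempty (ProjectiveSpecialLinearGroup (Fin 2) F ≃* ProjectiveSpecialLinearGroup (Fin 3) K) := by
  have : Fact (Nat.Prime 2) := ⟨Nat.prime_two⟩
  have e1 : ProjectiveSpecialLinearGroup (Fin 2) F ≃*
      ProjectiveSpecialLinearGroup (Fin 2) (ZMod 7) := pslCongr (fieldEquivZMod 7 hF)
  have e4 : ProjectiveSpecialLinearGroup (Fin 3) K ≃*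
      ProjectiveSpecialLinearGroup (Fin 3) (ZMod 2) := pslCongr (fieldEquivZMod 2 hK)
  -- cardinalities
  have hc1 : Nat.card (ProjectiveSpecialLinearGroup (Fin 2) (ZMod 7)) = 168 := by
    have h := card_psl_two (F := ZMod 7)
    rw [ZMod.card] at h
    generalize Nat.card (ProjectiveSpecialLinearGroup (Fin 2) (ZMod 7)) = N at h ⊢
    norm_num at h
    omega
  have hc2 : Nat.card (SpecialLinearGroup (Fin 3) (ZMod 2)) = 168 := by
    have h := card_sl_mul (F := ZMod 2) 3 (by norm_num)
    rw [ZMod.card, Fin.prod_univ_three] at h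
    generalize Nat.card (SpecialLinearGroup (Fin 3) (ZMod 2)) = N at h ⊢
    norm_num at h
    omega
  have hbij : Function.Bijective psiBar := by
    rw [Nat.bijective_iff_injective_and_card]
    exact ⟨psiBar_injective, by rw [hc1, hc2]⟩
  have e2 : ProjectiveSpecialLinearGroup (Fin 2) (ZMod 7) ≃* SpecialLinearGroup (Fin 3) (ZMod 2) :=
    MulEquiv.ofBijective psiBar hbij
  -- the centre of `SL₃(2)` is trivial
  have hcen : Subgroup.center (SpecialLinearGroup (Fin 3) (ZMod 2)) = ⊥ := by
    apply Subgroup.eq_bot_of_card_eq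
    rw [card_center_sl (F := ZMod 2) 3 (by norm_num), ZMod.card]
    norm_num
  have e3 : SpecialLinearGroup (Fin 3) (ZMod 2) ≃* ProjectiveSpecialLinearGroup (Fin 3) (ZMod 2) :=
    (QuotientGroup.quotientBot (G := SpecialLinearGroup (Fin 3) (ZMod 2))).symm.trans
      (QuotientGroup.quotientMulEquivOfEq hcen.symm)
  exact ⟨e1.trans (e2.trans (e3.trans e4.symm))⟩

end final

end Cfsg.Agent.Lib.Helper07
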