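import Mathlib
import Cfsg.Agent.Lib.Helper07.A6Stars
import Cfsg.Agent.Lib.Helper07.PSL27
import Cfsg.Agent.Lib.Helper07.SLCard

set_option autoImplicit false

namespace Cfsg.Agent.Lib.Helper07

open Matrix
open scoped Pointwise

section a6final

set_option maxRecDepth 100000 in
lemma stars6_moved : ∃ S ∈ stars6,
    (SpecialLinearGroup.transvection (show (0 : Fin 2) ≠ 1 by decide) (1 : F9)) • S ≠ S := by
  decide +kernel

lemma stars6_fixed (g : SpecialLinearGroup (Fin 2) F9) : g • stars6 = stars6 := by
  have h : MulAction.stabilizer (SpecialLinearGroup (Fin 2) F9) stars6 = ⊤ :=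
    eq_top_of_transvection_mem _ (fun i j hij c => by
      rw [MulAction.mem_stabilizer_iff]
      exact stars6_transvection i j hij c)
  have hg : g ∈ MulAction.stabilizer (SpecialLinearGroup (Fin 2) F9) stars6 := by
    rw [h]; trivial
  exact MulAction.mem_stabilizer_iff.mp hg

lemma f9_unit_norm : ∀ r : F9, r ^ 2 = 1 → r * star r = 1 := by decide +kernel

/-- central elements act trivially on Hermitian forms. -/
lemma center_smul_herm (g : SpecialLinearGroup (Fin 2) F9)
    (hg : g ∈ Subgroup.center (SpecialLinearGroup (Fin 2) F9)) (ω : Herm2) : g • ω = ω := by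
  rw [Matrix.SpecialLinearGroup.mem_center_iff] at hg
  obtain ⟨r, hr, hg⟩ := hg
  rw [Fintype.card_fin] at hr
  have hr' := f9_unit_norm r hr
  rw [herm_smul_def, ← hg, Matrix.scalar_apply, Matrix.diagonal_conjTranspose]
  show (Matrix.diagonal (fun _ => r) * ω.mat *
    Matrix.diagonal (star fun _ => r) : Matrix (Fin 2) (Fin 2) F9) = ω.mat
  apply Matrix.ext
  intro i j
  rw [Matrix.mul_diagonal, Matrix.diagonal_mul, Pi.star_apply, mul_comm r, mul_assoc, hr', mul_one]

lemma center_smul_finset (g : SpecialLinearGroup (Fin 2) F9)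
    (hg : g ∈ Subgroup.center (SpecialLinearGroup (Fin 2) F9)) (S : Finset Herm2) : g • S = S := by
  ext ω
  constructor
  · intro h
    obtain ⟨ω', hω', rfl⟩ := Finset.mem_smul_finset.mp h
    rw [center_smul_herm g hg]
    exact hω'
  · intro h
    rw [← center_smul_herm g hg ω]
    exact Finset.smul_mem_smul_finset h

theorem psl_two_nine_equiv_alt {F : Type*} [Field F] [Fintype F] (hF : Fintype.card F = 9) :
    Nonempty (ProjectiveSpecialLinearGroup (Fin 2) F ≃* alternatingGroup (Fin 6)) := by
  have e1 : ProjectiveSpecialLinearGroup (Fin 2) F ≃*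
      ProjectiveSpecialLinearGroup (Fin 2) F9 :=
    pslCongr (FiniteField.ringEquivOfCardEq (by rw [hF, f9_card]))
  obtain ⟨ρ, hρ⟩ := exists_hom_perm_of_smul_eq (G := SpecialLinearGroup (Fin 2) F9)
    stars6 stars6_fixed
  have hker : Subgroup.center (SpecialLinearGroup (Fin 2) F9) ≤ ρ.ker := by
    intro g hg
    rw [MonoidHom.mem_ker]
    ext S
    rw [hρ g S, center_smul_finset g hg]
    rfl
  let ρbar : ProjectiveSpecialLinearGroup (Fin 2) F9 →* Equiv.Perm stars6 :=
    QuotientGroup.lift _ ρ hker
  have hs : IsSimpleGroup (ProjectiveSpecialLinearGroup (Fin 2) F9) :=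
    Matrix.ProjectiveSpecialLinearGroup.rank_two_simple (by
      rw [Nat.card_eq_fintype_card, f9_card]; norm_num)
  have hinj : Function.Injective ρbar := by
    rw [← MonoidHom.ker_eq_bot_iff]
    rcases (ρbar.normal_ker).eq_bot_or_eq_top with h | h
    · exact h
    · exfalso
      obtain ⟨S, hS, hne⟩ := stars6_moved
      set t := SpecialLinearGroup.transvection (show (0 : Fin 2) ≠ 1 by decide) (1 : F9)
      have hmem : (QuotientGroup.mk t : ProjectiveSpecialLinearGroup (Fin 2) F9) ∈
          ρbar.ker := by rw [h]; trivial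
      rw [MonoidHom.mem_ker] at hmem
      have h2 : ρ t = 1 := hmem
      have h3 := hρ t ⟨S, hS⟩
      rw [h2] at h3
      exact hne h3.symm
  have hcard : 2 * Nat.card (ProjectiveSpecialLinearGroup (Fin 2) F9) = Nat.factorial 6 := by
    have h := card_psl_two (F := F9)
    rw [f9_card] at h
    generalize Nat.card (ProjectiveSpecialLinearGroup (Fin 2) F9) = N at h ⊢
    norm_num at h
    have : Nat.factorial 6 = 720 := by decide
    omega
  have hX : Nat.card stars6 = 6 := by
    rw [Nat.card_eq_fintype_card, Fintype.card_coe, stars6_card]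
  obtain ⟨e2⟩ := nonempty_mulEquiv_alternatingGroup ρbar hinj 6 hX hcard
  exact ⟨e1.trans e2⟩

end a6final

end Cfsg.Agent.Lib.Helper07
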