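import Mathlib
import Cfsg.Agent.Lib.Helper07.SLCard

set_option autoImplicit false

namespace Cfsg.Agent.Lib.Helper07

open Matrix

section
variable {n : Type*} [Fintype n] [DecidableEq n] {R : Type*} [CommRing R]

lemma scalar_gl_injective [Nonempty n] [Nontrivial R] :
    Function.Injective (GeneralLinearGroup.scalar n : Rˣ →* GL n R) := by
  intro a b hab
  obtain ⟨i⟩ := ‹Nonempty n›
  have h1 := congrArg (fun g : GL n R => (g : Matrix n n R) i i) hab
  simp only [GeneralLinearGroup.coe_scalar, Matrix.scalar_apply, Matrix.diagonal_apply_eq] at h1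
  exact Units.ext h1

/-- `|center (GL n R)| = |Rˣ|` for nonempty `n`. -/
lemma card_center_gl [Nonempty n] [Nontrivial R] :
    Nat.card (Subgroup.center (GL n R)) = Nat.card Rˣ := by
  rw [GeneralLinearGroup.center_eq_range_scalar]
  exact (Nat.card_congr (MonoidHom.ofInjective scalar_gl_injective).toEquiv).symm

lemma card_gl_eq_card_pgl_mul [Nonempty n] [Nontrivial R] :
    Nat.card (GL n R) = Nat.card (ProjGenLinGroup n R) * Nat.card Rˣ := by
  rw [← card_center_gl (n := n)]
  exact Subgroup.card_eq_card_quotient_mul_card_subgroup _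

end

/-- `|PGL_n(q)| = |SL_n(q)|`. -/
lemma card_pgl_eq_card_sl {F : Type*} [Field F] [Fintype F] (n : ℕ) :
    Nat.card (ProjGenLinGroup (Fin n) F) = Nat.card (SpecialLinearGroup (Fin n) F) := by
  rcases Nat.eq_zero_or_pos n with rfl | hn
  · have h1 : Subsingleton (GL (Fin 0) F) := ⟨fun a b => Units.ext (Subsingleton.elim _ _)⟩
    have h2 : Subsingleton (ProjGenLinGroup (Fin 0) F) :=
      ProjGenLinGroup.mk_surjective.subsingleton
    have h3 : Subsingleton (SpecialLinearGroup (Fin 0) F) :=
      ⟨fun a b => Subtype.ext (Subsingleton.elim _ _)⟩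
    rw [Nat.card_unique, Nat.card_unique]
  · have : Nonempty (Fin n) := ⟨⟨0, hn⟩⟩
    have h1 := card_gl_eq_card_pgl_mul (n := Fin n) (R := F)
    have h2 := card_gl_eq_card_sl_mul (n := Fin n) (R := F)
    rw [h1] at h2
    have hpos : 0 < Nat.card Fˣ := Nat.card_pos
    exact Nat.eq_of_mul_eq_mul_right hpos h2

end Cfsg.Agent.Lib.Helper07
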