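import Mathlib

set_option autoImplicit false

namespace Cfsg.Agent.Lib.Helper07

open Matrix Projectivization

open scoped LinearAlgebra.Projectivization MatrixGroups

variable {F : Type*} [Field F]

/-- the `2 × 2` determinant of two vectors of `F²`. -/
def cross (v w : Fin 2 → F) : F := v 0 * w 1 - v 1 * w 0

lemma vec_ne_zero_iff (v : Fin 2 → F) : v ≠ 0 ↔ v 0 ≠ 0 ∨ v 1 ≠ 0 := by
  constructor
  · intro h
    by_contra hcon
    push Not at hcon
    apply h
    ext i; fin_cases i
    · exact hcon.1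
    · exact hcon.2
  · rintro (h | h) rfl <;> exact h rfl

/-- two points of the projective line are equal iff the cross product of representatives is zero. -/
lemma mk_eq_mk_iff_cross (v w : Fin 2 → F) (hv : v ≠ 0) (hw : w ≠ 0) :
    mk F v hv = mk F w hw ↔ cross v w = 0 := by
  rw [mk_eq_mk_iff']
  constructor
  · rintro ⟨a, rfl⟩
    simp [cross]; ring
  · intro h
    rw [cross] at h
    rcases (vec_ne_zero_iff w).mp hw with h0 | h1
    · refine ⟨v 0 / w 0, ?_⟩
      ext i; fin_cases i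
      · simp; field_simp
      · simp; field_simp; linear_combination h
    · refine ⟨v 1 / w 1, ?_⟩
      ext i; fin_cases i
      · simp; field_simp; linear_combination (-1 : F) * h
      · simp; field_simp

def e1 : Fin 2 → F := ![1, 0]
def e2 : Fin 2 → F := ![0, 1]
def e12 : Fin 2 → F := ![1, 1]

lemma e1_ne : (e1 : Fin 2 → F) ≠ 0 := (vec_ne_zero_iff _).mpr (Or.inl (by simp [e1]))
lemma e2_ne : (e2 : Fin 2 → F) ≠ 0 := (vec_ne_zero_iff _).mpr (Or.inr (by simp [e2]))
lemma e12_ne : (e12 : Fin 2 → F) ≠ 0 := (vec_ne_zero_iff _).mpr (Or.inl (by simp [e12]))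

/-- the three standard points of the projective line -/
def p1 : ℙ F (Fin 2 → F) := mk F e1 e1_ne
def p2 : ℙ F (Fin 2 → F) := mk F e2 e2_ne
def p12 : ℙ F (Fin 2 → F) := mk F e12 e12_ne

lemma gl_smul_vec (g : GL (Fin 2) F) (v : Fin 2 → F) : g • v = g.val *ᵥ v := rfl

/-- any three distinct points are the image of the standard triple under some element of `PGL₂`. -/
lemma exists_pgl_smul_std (a b c : ℙ F (Fin 2 → F)) (hab : a ≠ b) (hac : a ≠ c) (hbc : b ≠ c) :
    ∃ g : PGL(Fin 2, F), g • p1 = a ∧ g • p2 = b ∧ g • p12 = c := by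
  induction a using Projectivization.ind with | _ u hu =>
  induction b using Projectivization.ind with | _ v hv =>
  induction c using Projectivization.ind with | _ w hw =>
  have hD : cross u v ≠ 0 := fun h => hab ((mk_eq_mk_iff_cross u v hu hv).mpr h)
  have hA : cross w v ≠ 0 := fun h => hbc ((mk_eq_mk_iff_cross w v hw hv).mpr h).symm
  have hB : cross u w ≠ 0 := fun h => hac ((mk_eq_mk_iff_cross u w hu hw).mpr h)
  set α : F := cross w v / cross u v with hα
  set β : F := cross u w / cross u v with hβ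
  have hα0 : α ≠ 0 := div_ne_zero hA hD
  have hβ0 : β ≠ 0 := div_ne_zero hB hD
  have hdet : (!![α * u 0, β * v 0; α * u 1, β * v 1] : Matrix (Fin 2) (Fin 2) F).det ≠ 0 := by
    rw [det_fin_two_of]
    have : α * u 0 * (β * v 1) - β * v 0 * (α * u 1) = α * β * cross u v := by
      rw [cross]; ring
    rw [this]
    exact mul_ne_zero (mul_ne_zero hα0 hβ0) hD
  refine ⟨ProjGenLinGroup.mk (GeneralLinearGroup.mkOfDetNeZero _ hdet), ?_, ?_, ?_⟩
  · rw [p1, PGL.mk_smul_mk, mk_eq_mk_iff_cross]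
    simp only [gl_smul_vec, GeneralLinearGroup.val_mkOfDetNeZero, e1, cross]
    simp [Matrix.mulVec, dotProduct, Fin.sum_univ_two]
    ring
  · rw [p2, PGL.mk_smul_mk, mk_eq_mk_iff_cross]
    simp only [gl_smul_vec, GeneralLinearGroup.val_mkOfDetNeZero, e2, cross]
    simp [Matrix.mulVec, dotProduct, Fin.sum_univ_two]
    ring
  · rw [p12, PGL.mk_smul_mk, mk_eq_mk_iff_cross]
    simp only [gl_smul_vec, GeneralLinearGroup.val_mkOfDetNeZero, e12, cross]
    simp [Matrix.mulVec, dotProduct, Fin.sum_univ_two]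
    rw [hα, hβ, cross, cross, cross]
    rw [cross] at hD
    field_simp
    ring

/-- an element of `PGL₂` fixing the standard triple is trivial. -/
lemma pgl_eq_one_of_fix_std (g : PGL(Fin 2, F)) (h1 : g • (p1 : ℙ F (Fin 2 → F)) = p1)
    (h2 : g • (p2 : ℙ F (Fin 2 → F)) = p2)
    (h12 : g • (p12 : ℙ F (Fin 2 → F)) = p12) : g = 1 := by
  induction g using ProjGenLinGroup.induction_on with | mk G =>
  rw [p1, PGL.mk_smul_mk, mk_eq_mk_iff_cross] at h1
  rw [p2, PGL.mk_smul_mk, mk_eq_mk_iff_cross] at h2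
  rw [p12, PGL.mk_smul_mk, mk_eq_mk_iff_cross] at h12
  simp only [gl_smul_vec, e1, e2, e12, cross] at h1 h2 h12
  simp [Matrix.mulVec, dotProduct, Fin.sum_univ_two] at h1 h2 h12
  -- h1 : G 1 0 = 0, h2 : G 0 1 = 0, h12 : G 0 0 = G 1 1 (up to form)
  rw [ProjGenLinGroup.mk_eq_one, GeneralLinearGroup.mem_center_iff_val_mem_range_scalar]
  refine ⟨G.val 0 0, ?_⟩
  ext i j
  fin_cases i <;> fin_cases j
  · simp
  · simp [h2]
  · simp [h1]
  · simp
    rw [h1, h2] at h12
    linear_combination h12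

/-- `PGL₂(F)` is sharply 3-transitive on the projective line. -/
theorem pgl_two_sharply_three_transitive :
    MulAction.IsMultiplyPretransitive (PGL(Fin 2, F)) (ℙ F (Fin 2 → F)) 3 ∧
    ∀ (g : PGL(Fin 2, F)) (a b c : ℙ F (Fin 2 → F)), a ≠ b → a ≠ c → b ≠ c →
      g • a = a → g • b = b → g • c = c → g = 1 := by
  constructor
  · rw [MulAction.isMultiplyPretransitive_iff]
    intro x y
    have hx := fun (i j : Fin 3) (h : i ≠ j) => x.injective.ne h
    have hy := fun (i j : Fin 3) (h : i ≠ j) => y.injective.ne h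
    obtain ⟨gx, hx0, hx1, hx2⟩ := exists_pgl_smul_std (x 0) (x 1) (x 2)
      (hx 0 1 (by decide)) (hx 0 2 (by decide)) (hx 1 2 (by decide))
    obtain ⟨gy, hy0, hy1, hy2⟩ := exists_pgl_smul_std (y 0) (y 1) (y 2)
      (hy 0 1 (by decide)) (hy 0 2 (by decide)) (hy 1 2 (by decide))
    refine ⟨gy * gx⁻¹, ?_⟩
    ext i
    fin_cases i
    · show (gy * gx⁻¹) • x 0 = y 0
      rw [← hx0, mul_smul, inv_smul_smul, hy0]
    · show (gy * gx⁻¹) • x 1 = y 1
      rw [← hx1, mul_smul, inv_smul_smul, hy1]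
    · show (gy * gx⁻¹) • x 2 = y 2
      rw [← hx2, mul_smul, inv_smul_smul, hy2]
  · intro g a b c hab hac hbc ha hb hc
    obtain ⟨h, h0, h1, h2⟩ := exists_pgl_smul_std a b c hab hac hbc
    have key : h⁻¹ * g * h = 1 := by
      apply pgl_eq_one_of_fix_std
      · rw [mul_smul, mul_smul, h0, ha, ← h0, inv_smul_smul]
      · rw [mul_smul, mul_smul, h1, hb, ← h1, inv_smul_smul]
      · rw [mul_smul, mul_smul, h2, hc, ← h2, inv_smul_smul]
    calc g = h * (h⁻¹ * g * h) * h⁻¹ := by group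
      _ = 1 := by rw [key]; group

end Cfsg.Agent.Lib.Helper07
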