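import Mathlib
import Cfsg.Agent.Lib.Helper07.SLGen
import Cfsg.Agent.Lib.Helper07.SLCard

set_option autoImplicit false

namespace Cfsg.Agent.Lib.Helper07

open Matrix

open scoped commutatorElement

variable {F : Type*} [Field F]

/-- if a subgroup of `GL` contains all transvections, it contains the kernel of `det`. -/
lemma ker_det_le_of_transvection_mem {ι : Type*} [Fintype ι] [DecidableEq ι]
    (H : Subgroup (GL ι F))
    (h : ∀ (i j : ι) (hij : i ≠ j) (c : F),
      SpecialLinearGroup.toGL (SpecialLinearGroup.transvection hij c) ∈ H) :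
    (GeneralLinearGroup.det : GL ι F →* Fˣ).ker ≤ H := by
  rw [← range_toGL_eq_ker_det]
  rintro _ ⟨s, rfl⟩
  have htop : H.comap SpecialLinearGroup.toGL = ⊤ :=
    eq_top_of_transvection_mem _ (fun i j hij c => h i j hij c)
  have hs : s ∈ H.comap SpecialLinearGroup.toGL := htop ▸ Subgroup.mem_top s
  exact hs

/-- the diagonal matrix with `a` in position `i` and `1` elsewhere, in `GL`. -/
noncomputable def diagGLat {ι : Type*} [Fintype ι] [DecidableEq ι] (i : ι) (a : F) (ha : a ≠ 0) :
    GL ι F :=
  GeneralLinearGroup.mkOfDetNeZero (diagonal (fun k => if k = i then a else 1)) (by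
    rw [det_diagonal, Finset.prod_ite_eq' Finset.univ i (fun _ => a)]
    simpa using ha)

lemma diagGLat_mul_transvection {ι : Type*} [Fintype ι] [DecidableEq ι] {i j : ι} (hij : i ≠ j)
    (a : F) (ha : a ≠ 0) (b : F) :
    diagGLat i a ha * SpecialLinearGroup.toGL (SpecialLinearGroup.transvection hij b) =
      SpecialLinearGroup.toGL (SpecialLinearGroup.transvection hij (a * b)) * diagGLat i a ha := by
  apply Units.ext
  simp only [diagGLat, Units.val_mul, GeneralLinearGroup.val_mkOfDetNeZero,
    SpecialLinearGroup.coe_GL_coe_matrix, SpecialLinearGroup.transvection_coe, mul_add, add_mul,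
    mul_one, one_mul]
  congr 1
  ext k l
  simp only [diagonal_mul, mul_diagonal, single_apply]
  by_cases hk : k = i
  · by_cases hl : l = j
    · subst hk hl
      simp [hij.symm]
    · have : ¬ (j = l) := fun h => hl h.symm
      simp [this]
  · have : ¬ (i = k) := fun h => hk h.symm
    simp [this]

lemma toGL_transvection_mem_commutator_of_ne {ι : Type*} [Fintype ι] [DecidableEq ι]
    {a : F} (ha0 : a ≠ 0) (ha1 : a ≠ 1) {i j : ι} (hij : i ≠ j) (c : F) :
    SpecialLinearGroup.toGL (SpecialLinearGroup.transvection hij c) ∈ commutator (GL ι F) := by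
  have hne : a - 1 ≠ 0 := sub_ne_zero_of_ne ha1
  set b : F := c / (a - 1) with hb
  have hc : c = a * b + (-b) := by
    rw [hb]; field_simp; ring
  have key : ⁅diagGLat i a ha0, SpecialLinearGroup.toGL (SpecialLinearGroup.transvection hij b)⁆ =
      SpecialLinearGroup.toGL (SpecialLinearGroup.transvection hij c) := by
    rw [commutatorElement_def, diagGLat_mul_transvection hij a ha0 b, mul_assoc _ (diagGLat i a ha0),
      mul_inv_cancel, mul_one, ← map_inv, ← map_mul, SpecialLinearGroup.transvection_inv,
      ← SpecialLinearGroup.transvection_add, ← hc]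
  rw [← key]
  exact Subgroup.commutator_mem_commutator (Subgroup.mem_top _) (Subgroup.mem_top _)

/-- `GL_n(F)' = ker det`, except for `n = 2` over the field with two elements. -/
theorem commutator_gl_eq_ker_det (n : ℕ) (h : n = 2 → ∃ a : F, a ≠ 0 ∧ a ≠ 1) :
    commutator (GL (Fin n) F) = (GeneralLinearGroup.det : GL (Fin n) F →* Fˣ).ker := by
  apply le_antisymm (Abelianization.commutator_subset_ker _)
  apply ker_det_le_of_transvection_mem
  intro i k hik c
  rcases lt_trichotomy n 2 with hlt | rfl | hgt
  · exfalso
    apply hik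
    apply Fin.ext
    have := i.2
    have := k.2
    omega
  · obtain ⟨a, ha0, ha1⟩ := h rfl
    exact toGL_transvection_mem_commutator_of_ne ha0 ha1 hik c
  · obtain ⟨j, hj⟩ : ∃ j : Fin n, j ≠ i ∧ j ≠ k := by
      by_contra hne
      push Not at hne
      have hsub : (Finset.univ : Finset (Fin n)) ⊆ {i, k} := by
        intro j _
        by_cases hji : j = i
        · simp [hji]
        · simp [hne j hji]
      have := Finset.card_le_card hsub
      rw [Finset.card_univ, Fintype.card_fin] at this
      have h2 : ({i, k} : Finset (Fin n)).card ≤ 2 := Finset.card_le_two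
      omega
    rw [transvection_eq_commutator hj.1.symm hj.2 hik c, map_commutatorElement]
    exact Subgroup.commutator_mem_commutator (Subgroup.mem_top _) (Subgroup.mem_top _)

end Cfsg.Agent.Lib.Helper07
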