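import Cfsg.Agent.Lib.Helper07.OrthS
import Cfsg.Agent.Lib.Helper43.OmegaSimpleModels
import Cfsg.Agent.Lib.Helper43.OrthSingular

set_option autoImplicit false
set_option linter.unusedSimpArgs false
set_option linter.unusedVariables false
set_option linter.unusedSectionVars false

/-! Orthogonal groups: the hypothesis `GoodD` in odd dimension and for the minus type;
`Aut(PΩ) = PΓO` for these. -/

namespace Cfsg.Agent.Lib.Helper07.OG

open Module Matrix Cfsg.Agent.Lib.Helper43 Cfsg.Agent.Lib.Helper07.UG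

section gen

variable {F : Type*} [Field F] [Fintype F] {ι : Type} [Fintype ι] [DecidableEq ι]
variable {Q : QuadraticForm F (ι → F)}

local notation "Bf" => QuadraticMap.polarBilin Q

theorem perpS_eq_orthC (T : Submodule F (ι → F)) : perpS Q T = orthC Q T := by
  ext x
  rw [mem_perpS, mem_orthC]

theorem finrank_of_perp_le (C : OC Q) {T : Submodule F (ι → F)} (hT : ∀ t ∈ T, Q t = 0)
    (h : perpS Q T ≤ T) : 2 * finrank F T = Fintype.card ι := by
  have h1 : perpS Q T = T := le_antisymm h (le_perpS_of_ts hT)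
  have h2 := finrank_orthC Q C.hQ T
  rw [← perpS_eq_orthC, h1] at h2
  have h3 := ts_finrank_le Q C.hQ T hT
  omega

theorem goodD_of_odd (C : OC Q) (p : ℕ) (hodd : Odd (Fintype.card ι)) : GoodD C p := by
  intro u₀ _ _ T hT hTT
  have h1 := finrank_of_perp_le C hT hTT
  obtain ⟨k, hk⟩ := hodd
  omega

theorem goodD_of_small (C : OC Q) (p : ℕ)
    (h : ∀ T : Submodule F (ι → F), (∀ t ∈ T, Q t = 0) → 2 * finrank F T < Fintype.card ι) :
    GoodD C p := by
  intro u₀ _ _ T hT hTT
  have h1 := finrank_of_perp_le C hT hTT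
  have h2 := h T hT
  omega

end gen

section minus

variable {F : Type*} [Field F] [Fintype F]

theorem ts_finrank_le_minus (m : ℕ) (a b : F)
    (hab : ∀ z₁ z₂ : F, z₁ ^ 2 + a * z₁ * z₂ + b * z₂ ^ 2 = 0 → z₁ = 0 ∧ z₂ = 0)
    (W : Submodule F ((Fin m ⊕ Fin m) ⊕ Fin 2 → F))
    (hW : ∀ w ∈ W, (qdataMinus43 m a b hab).qf w = 0) : finrank F W ≤ m := by
  have hle := finrank_le_of_totallySingular (qdataMinus43 m a b hab).qf
    (qdataMinus43 m a b hab).qf_nondeg
    (LinearMap.range (embXm (F := F) m)) W hW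
    (by
      intro v hv hQv
      have hvy : ∀ i, v (Sum.inl (Sum.inr i)) = 0 := by
        intro i
        have h1 := hv (embXm m (Pi.single i 1)) ⟨_, rfl⟩
        rw [QuadraticMap.polarBilin_apply_apply, QuadraticMap.polar] at h1
        change Cfsg.quadFormMinus m F a b (v + embXm m (Pi.single i 1))
          - Cfsg.quadFormMinus m F a b v
          - Cfsg.quadFormMinus m F a b (embXm m (Pi.single i 1)) = 0 at h1
        rw [minus_add_embXm, minus_embXm] at h1
        simp only [Pi.single_apply, ite_mul, one_mul, zero_mul, Finset.sum_ite_eq',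
          Finset.mem_univ, if_true] at h1
        linear_combination h1
      have hz : v (Sum.inr 0) = 0 ∧ v (Sum.inr 1) = 0 := by
        apply hab
        change Cfsg.quadFormMinus m F a b v = 0 at hQv
        unfold Cfsg.quadFormMinus at hQv
        rw [← hQv]
        have : ∑ i, v (Sum.inl (Sum.inl i)) * v (Sum.inl (Sum.inr i)) = 0 := by
          apply Finset.sum_eq_zero
          intro i _
          rw [hvy i, mul_zero]
        rw [this, zero_add]
      refine ⟨fun i => v (Sum.inl (Sum.inl i)), ?_⟩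
      ext k
      rcases k with (k | k) | k
      · simp [embXm]
      · simp [embXm, hvy k]
      · fin_cases k
        · simp [embXm, hz.1]
        · simp [embXm, hz.2])
    (by
      rintro e ⟨x, rfl⟩
      exact minus_embXm m a b x)
  have h2 : finrank F (LinearMap.range (embXm (F := F) m)) ≤ m := by
    have := LinearMap.finrank_range_le (embXm (F := F) m)
    rwa [Module.finrank_fintype_fun_eq_card, Fintype.card_fin] at this
  omega

end minus

section final

variable {F : Type*} [Field F] [Fintype F]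

theorem gamma_odd_eq_top (hodd : Odd (Fintype.card F)) {m : ℕ} (hm : 3 ≤ m) :
    Cfsg.gammaPOmega F (Cfsg.quadFormOdd m F) = ⊤ := by
  have h2 : (2 : F) ≠ 0 := two_ne_zero_of_odd_card43 hodd
  obtain ⟨p, hp⟩ := CharP.exists F
  haveI := hp
  haveI : Fact p.Prime := ⟨CharP.char_is_prime F p⟩
  have hcard : Fintype.card (Unit ⊕ (Fin m ⊕ Fin m)) = 2 * m + 1 := by
    rw [Fintype.card_sum, Fintype.card_sum, Fintype.card_fin, Fintype.card_unit]; omega
  have C : OC (qdataOdd43 m h2).qf := ⟨(qdataOdd43 m h2).qf_nondeg, by rw [hcard]; omega⟩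
  have h := gammaPOmega_eq_top C p (goodD_of_odd C p (by rw [hcard]; exact ⟨m, rfl⟩))
  exact h

theorem gamma_minus_eq_top {m : ℕ} (hm : 3 ≤ m) (a b : F)
    (hab : ∀ z₁ z₂ : F, z₁ ^ 2 + a * z₁ * z₂ + b * z₂ ^ 2 = 0 → z₁ = 0 ∧ z₂ = 0) :
    Cfsg.gammaPOmega F (Cfsg.quadFormMinus m F a b) = ⊤ := by
  obtain ⟨p, hp⟩ := CharP.exists F
  haveI := hp
  haveI : Fact p.Prime := ⟨CharP.char_is_prime F p⟩
  have hcard : Fintype.card ((Fin m ⊕ Fin m) ⊕ Fin 2) = 2 * m + 2 := by
    rw [Fintype.card_sum, Fintype.card_sum, Fintype.card_fin, Fintype.card_fin]; omega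
  have C : OC (qdataMinus43 m a b hab).qf := ⟨(qdataMinus43 m a b hab).qf_nondeg, by rw [hcard]; omega⟩
  have h := gammaPOmega_eq_top C p (goodD_of_small C p (by
    intro T hT
    have := ts_finrank_le_minus m a b hab T hT
    rw [hcard]
    omega))
  exact h

end final

end Cfsg.Agent.Lib.Helper07.OG
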