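import Mathlib

set_option autoImplicit false

/-! Shared definition for the K-S2720 pack: "free cyclic data" of an isometry commuting with `σ`. -/

namespace Cfsg.Agent.Lib.Helper07.KE

/-- `FreeData Q σ`: there is an isometry `g` commuting with `σ`, an orthogonal decomposition
`V = W ⊕ W'` with `g` the identity on `W'`, and an even number `k` such that `⟨g⟩` (of order `k`)
acts freely on `W ∖ {0}`, the number of `⟨g⟩`-orbits on `{x ∈ W ∖ {0} | Q x = b}` being `N b`,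
odd for `b ≠ 0` and even for `b = 0`. -/
def FreeData {F : Type*} [Field F] {V : Type*} [AddCommGroup V] [Module F V]
    (Q : QuadraticForm F V) (σ : V →ₗ[F] V) : Prop :=
  ∃ (g : V →ₗ[F] V) (W W' : Submodule F V) (k : ℕ) (N : F → ℕ),
    (∀ v, Q (g v) = Q v) ∧ (∀ v, g (σ v) = σ (g v)) ∧ IsCompl W W' ∧
    (∀ x ∈ W, ∀ y ∈ W', QuadraticMap.polar (⇑Q) x y = 0) ∧
    (∀ x ∈ W, g x ∈ W) ∧ (∀ y ∈ W', g y = y) ∧ Even k ∧ 0 < k ∧
    (∀ x ∈ W, (g ^ k) x = x) ∧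
    (∀ x ∈ W, x ≠ 0 → ∀ j : ℕ, 0 < j → j < k → (g ^ j) x ≠ x) ∧
    (∀ b : F, Nat.card {x : V // x ∈ W ∧ x ≠ 0 ∧ Q x = b} = k * N b) ∧
    (∀ b : F, b ≠ 0 → Odd (N b)) ∧ Even (N 0)

end Cfsg.Agent.Lib.Helper07.KE
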