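import Mathlib

set_option autoImplicit false

namespace Cfsg.Agent.Lib.Helper07

section fiber

/-- all fibres of a surjective additive map have the same size. -/
lemma card_fiber_mul {V U : Type*} [AddGroup V] [AddGroup U] [Finite V] [Finite U]
    (f : V →+ U) (hf : Function.Surjective f) (u : U) :
    Nat.card {v // f v = u} * Nat.card U = Nat.card V := by
  classical
  have key : ∀ u', Nat.card {v // f v = u'} = Nat.card {v // f v = u} := by
    intro u'
    obtain ⟨a, ha⟩ := hf u
    obtain ⟨a', ha'⟩ := hf u'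
    refine Nat.card_congr
      { toFun := fun v => ⟨v.1 + (-a' + a), by rw [map_add, v.2, map_add, map_neg, ha, ha']; simp⟩
        invFun := fun v => ⟨v.1 + (-a + a'), by rw [map_add, v.2, map_add, map_neg, ha, ha']; simp⟩
        left_inv := fun v => by apply Subtype.ext; simp [add_assoc]
        right_inv := fun v => by apply Subtype.ext; simp [add_assoc] }
  have := Fintype.ofFinite U
  rw [← Nat.card_congr (Equiv.sigmaFiberEquiv f), Nat.card_sigma]
  simp_rw [key]
  rw [Finset.sum_const, Finset.card_univ, smul_eq_mul, Nat.card_eq_fintype_card (α := U), mul_comm]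

end fiber

section hyp
variable {F V : Type*} [Field F] [AddCommGroup V] [Module F V] (B : V →ₗ[F] V →ₗ[F] F)

/-- a family of `k` mutually orthogonal hyperbolic pairs. -/
def IsHyp {k : ℕ} (x : Fin k → V × V) : Prop :=
  ∀ i j, B (x i).1 (x j).1 = 0 ∧ B (x i).2 (x j).2 = 0 ∧
    B (x i).1 (x j).2 = if i = j then 1 else 0

/-- pairing against all members of the family. -/
def famMap {k : ℕ} (x : Fin k → V × V) : V →ₗ[F] (Fin k → F) × (Fin k → F) :=
  LinearMap.prod (LinearMap.pi fun i => B (x i).1) (LinearMap.pi fun i => B (x i).2)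

lemma famMap_apply {k : ℕ} (x : Fin k → V × V) (v : V) :
    famMap B x v = (fun i => B (x i).1 v, fun i => B (x i).2 v) := rfl

lemma famMap_eq_zero_iff {k : ℕ} (x : Fin k → V × V) (v : V) :
    famMap B x v = 0 ↔ ∀ i, B (x i).1 v = 0 ∧ B (x i).2 v = 0 := by
  rw [famMap_apply, Prod.ext_iff]
  simp only [Prod.fst_zero, Prod.snd_zero, funext_iff, Pi.zero_apply]
  exact ⟨fun h i => ⟨h.1 i, h.2 i⟩, fun h => ⟨fun i => (h i).1, fun i => (h i).2⟩⟩

/-- a section of `famMap`. -/
def famSec {k : ℕ} (x : Fin k → V × V) (ab : (Fin k → F) × (Fin k → F)) : V :=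
  ∑ i, (ab.1 i • (x i).2 - ab.2 i • (x i).1)

variable {B}

lemma skew_of_alt (hB : ∀ v, B v v = 0) (u v : V) : B u v = - B v u := by
  have h := hB (u + v)
  simp only [map_add, LinearMap.add_apply, hB, zero_add, add_zero] at h
  exact eq_neg_of_add_eq_zero_right h

lemma map_famSec {k : ℕ} (x : Fin k → V × V) (ab : (Fin k → F) × (Fin k → F)) (u : V) :
    B u (famSec x ab) = ∑ i, (ab.1 i * B u (x i).2 - ab.2 i * B u (x i).1) := by
  simp [famSec, map_sum, map_sub, map_smul]

lemma famMap_famSec (hB : ∀ v, B v v = 0) {k : ℕ} {x : Fin k → V × V} (hx : IsHyp B x)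
    (ab : (Fin k → F) × (Fin k → F)) : famMap B x (famSec x ab) = ab := by
  classical
  rw [famMap_apply]
  apply Prod.ext
  · funext j
    simp only
    rw [map_famSec]
    rw [Finset.sum_congr rfl (fun i _ => by rw [(hx j i).1, (hx j i).2.2])]
    simp
  · funext j
    simp only
    rw [map_famSec]
    rw [Finset.sum_congr rfl (fun i _ => by
      rw [(hx j i).2.1, skew_of_alt hB (x j).2 (x i).1, (hx i j).2.2])]
    simp

lemma famMap_surjective (hB : ∀ v, B v v = 0) {k : ℕ} {x : Fin k → V × V} (hx : IsHyp B x) :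
    Function.Surjective (famMap B x) := fun ab => ⟨famSec x ab, famMap_famSec hB hx ab⟩

lemma map_famSec_of_mem (hB : ∀ v, B v v = 0) {k : ℕ} {x : Fin k → V × V} {e : V}
    (he : famMap B x e = 0) (ab : (Fin k → F) × (Fin k → F)) : B e (famSec x ab) = 0 := by
  rw [famMap_eq_zero_iff] at he
  rw [map_famSec]
  apply Finset.sum_eq_zero
  intro i _
  rw [skew_of_alt hB e (x i).2, skew_of_alt hB e (x i).1, (he i).1, (he i).2]
  simp

lemma exists_partner (hB : ∀ v, B v v = 0) (hnd : ∀ v, (∀ w, B v w = 0) → v = 0)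
    {k : ℕ} {x : Fin k → V × V} (hx : IsHyp B x) {e : V} (he : famMap B x e = 0) (he0 : e ≠ 0) :
    ∃ u : V, famMap B x u = 0 ∧ B e u = 1 := by
  have : ∃ w, B e w ≠ 0 := by
    by_contra h
    push Not at h
    exact he0 (hnd e h)
  obtain ⟨w, hw⟩ := this
  set u' := w - famSec x (famMap B x w) with hu'
  have h1 : famMap B x u' = 0 := by
    rw [hu', map_sub, famMap_famSec hB hx, sub_self]
  have h2 : B e u' = B e w := by
    rw [hu', map_sub, map_famSec_of_mem hB he, sub_zero]
  refine ⟨(B e w)⁻¹ • u', ?_, ?_⟩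
  · rw [map_smul, h1, smul_zero]
  · rw [map_smul, h2, smul_eq_mul, inv_mul_cancel₀ hw]

/-- pairing against the family and one more vector. -/
def famMap' (B : V →ₗ[F] V →ₗ[F] F) {k : ℕ} (x : Fin k → V × V) (e : V) :
    V →ₗ[F] ((Fin k → F) × (Fin k → F)) × F :=
  LinearMap.prod (famMap B x) (B e)

lemma famMap'_apply {k : ℕ} (x : Fin k → V × V) (e v : V) :
    famMap' B x e v = (famMap B x v, B e v) := rfl

lemma famMap'_surjective (hB : ∀ v, B v v = 0) (hnd : ∀ v, (∀ w, B v w = 0) → v = 0)
    {k : ℕ} {x : Fin k → V × V} (hx : IsHyp B x) {e : V} (he : famMap B x e = 0) (he0 : e ≠ 0) :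
    Function.Surjective (famMap' B x e) := by
  obtain ⟨u, hu1, hu2⟩ := exists_partner hB hnd hx he he0
  rintro ⟨ab, c⟩
  refine ⟨famSec x ab + c • u, ?_⟩
  rw [famMap'_apply, map_add, map_add, map_smul, map_smul, famMap_famSec hB hx, hu1, hu2,
    map_famSec_of_mem hB he]
  simp

end hyp

end Cfsg.Agent.Lib.Helper07
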