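import Mathlib
import Cfsg.Agent.Lib.Helper07.SpCardA

set_option autoImplicit false

namespace Cfsg.Agent.Lib.Helper07

section snoc
variable {F V : Type*} [Field F] [AddCommGroup V] [Module F V] {B : V →ₗ[F] V →ₗ[F] F}

/-- the condition for extending a hyperbolic family by one more pair. -/
def ExtCond (B : V →ₗ[F] V →ₗ[F] F) {k : ℕ} (x : Fin k → V × V) (p : V × V) : Prop :=
  famMap B x p.1 = 0 ∧ famMap B x p.2 = 0 ∧ B p.1 p.2 = 1

lemma isHyp_snoc_iff (hB : ∀ v, B v v = 0) {k : ℕ} (x : Fin k → V × V) (p : V × V) :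
    IsHyp B (Fin.snoc x p : Fin (k + 1) → V × V) ↔ IsHyp B x ∧ ExtCond B x p := by
  constructor
  · intro h
    refine ⟨?_, ?_, ?_, ?_⟩
    · intro i j
      have := h i.castSucc j.castSucc
      simpa [Fin.snoc_castSucc] using this
    · rw [famMap_eq_zero_iff]
      intro i
      have h1 := h i.castSucc (Fin.last k)
      have h2 := h (Fin.last k) i.castSucc
      simp only [Fin.snoc_castSucc, Fin.snoc_last] at h1 h2
      refine ⟨h1.1, ?_⟩
      rw [skew_of_alt hB, h2.2.2]
      simp [(Fin.castSucc_ne_last i).symm]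
    · rw [famMap_eq_zero_iff]
      intro i
      have h1 := h i.castSucc (Fin.last k)
      simp only [Fin.snoc_castSucc, Fin.snoc_last] at h1
      refine ⟨?_, h1.2.1⟩
      rw [h1.2.2]
      simp [Fin.castSucc_ne_last]
    · have := h (Fin.last k) (Fin.last k)
      simpa using this.2.2
  · rintro ⟨hx, h1, h2, h3⟩
    rw [famMap_eq_zero_iff] at h1 h2
    intro i j
    induction i using Fin.lastCases with
    | last =>
      induction j using Fin.lastCases with
      | last => simp [hB, h3]
      | cast j =>
        simp only [Fin.snoc_castSucc, Fin.snoc_last]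
        refine ⟨?_, ?_, ?_⟩
        · rw [skew_of_alt hB, (h1 j).1, neg_zero]
        · rw [skew_of_alt hB, (h2 j).2, neg_zero]
        · rw [skew_of_alt hB, (h1 j).2, neg_zero, if_neg (Fin.castSucc_ne_last j).symm]
    | cast i =>
      induction j using Fin.lastCases with
      | last =>
        simp only [Fin.snoc_castSucc, Fin.snoc_last]
        refine ⟨(h1 i).1, (h2 i).2, ?_⟩
        rw [(h2 i).1, if_neg (Fin.castSucc_ne_last i)]
      | cast j =>
        simp only [Fin.snoc_castSucc, Fin.castSucc_inj]
        exact hx i j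

/-- splitting off the last entry of a tuple. -/
def snocEquiv' (α : Type*) (k : ℕ) : (Fin (k + 1) → α) ≃ (Fin k → α) × α where
  toFun y := (Fin.init y, y (Fin.last k))
  invFun z := Fin.snoc z.1 z.2
  left_inv y := Fin.snoc_init_self y
  right_inv z := by
    apply Prod.ext
    · simp only
      exact Fin.init_snoc (α := fun _ => α) z.2 z.1
    · simp

end snoc

end Cfsg.Agent.Lib.Helper07
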