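import Mathlib
import Cfsg.Agent.Lib.Helper07.SpCardB

set_option autoImplicit false

namespace Cfsg.Agent.Lib.Helper07

section count
variable {F V : Type*} [Field F] [AddCommGroup V] [Module F V] [Finite F] [Finite V]
  {B : V →ₗ[F] V →ₗ[F] F}

lemma card_target (q k : ℕ) (hq : Nat.card F = q) :
    Nat.card ((Fin k → F) × (Fin k → F)) = q ^ (2 * k) := by
  have := Fintype.ofFinite F
  rw [Nat.card_eq_fintype_card, Fintype.card_prod, Fintype.card_fun, Fintype.card_fin,
    ← Nat.card_eq_fintype_card, hq]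
  ring

lemma card_perp (hB : ∀ v, B v v = 0) {q m k d : ℕ} (hq : Nat.card F = q)
    (hV : Nat.card V = q ^ (2 * m)) (hm : m = k + d) {x : Fin k → V × V} (hx : IsHyp B x) :
    Nat.card {v // famMap B x v = 0} = q ^ (2 * d) := by
  have h := card_fiber_mul (famMap B x).toAddMonoidHom (famMap_surjective hB hx) 0
  rw [card_target q k hq, hV, hm] at h
  have hq0 : 0 < q := by rw [← hq]; exact Nat.card_pos
  have : q ^ (2 * (k + d)) = q ^ (2 * d) * q ^ (2 * k) := by ring
  rw [this] at h
  exact Nat.eq_of_mul_eq_mul_right (pow_pos hq0 _) h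

lemma card_partner (hB : ∀ v, B v v = 0) (hnd : ∀ v, (∀ w, B v w = 0) → v = 0)
    {q m k d : ℕ} (hq : Nat.card F = q)
    (hV : Nat.card V = q ^ (2 * m)) (hm : m = k + d + 1) {x : Fin k → V × V} (hx : IsHyp B x)
    {e : V} (he : famMap B x e = 0) (he0 : e ≠ 0) :
    Nat.card {v // famMap' B x e v = (0, 1)} = q ^ (2 * d + 1) := by
  have h := card_fiber_mul (famMap' B x e).toAddMonoidHom
    (famMap'_surjective hB hnd hx he he0) (0, 1)
  rw [Nat.card_prod, card_target q k hq, hq, hV, hm] at h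
  have hq0 : 0 < q := by rw [← hq]; exact Nat.card_pos
  have : q ^ (2 * (k + d + 1)) = q ^ (2 * d + 1) * (q ^ (2 * k) * q) := by ring
  rw [this] at h
  exact Nat.eq_of_mul_eq_mul_right (by positivity) h

lemma card_ext (hB : ∀ v, B v v = 0) (hnd : ∀ v, (∀ w, B v w = 0) → v = 0)
    {q m k d : ℕ} (hq : Nat.card F = q)
    (hV : Nat.card V = q ^ (2 * m)) (hm : m = k + d + 1) {x : Fin k → V × V} (hx : IsHyp B x) :
    Nat.card {p : V × V // ExtCond B x p} = (q ^ (2 * d + 2) - 1) * q ^ (2 * d + 1) := by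
  classical
  have := Fintype.ofFinite V
  have e1 : {p : V × V // ExtCond B x p} ≃ Σ e : V, {f : V // ExtCond B x (e, f)} :=
    Equiv.subtypeProdEquivSigmaSubtype (fun e f => ExtCond B x (e, f))
  rw [Nat.card_congr e1, Nat.card_sigma]
  have key : ∀ e : V, Nat.card {f : V // ExtCond B x (e, f)} =
      if (famMap B x e = 0 ∧ e ≠ 0) then q ^ (2 * d + 1) else 0 := by
    intro e
    split_ifs with h
    · rw [← card_partner hB hnd hq hV hm hx h.1 h.2]
      apply Nat.card_congr
      apply Equiv.subtypeEquivRight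
      intro f
      rw [famMap'_apply, Prod.ext_iff]
      simp only [ExtCond]
      tauto
    · rw [Nat.card_eq_zero]
      left
      constructor
      rintro ⟨f, hf1, hf2, hf3⟩
      apply h
      refine ⟨hf1, ?_⟩
      rintro rfl
      simp at hf3
  simp_rw [key]
  rw [← Finset.sum_filter, Finset.sum_const, smul_eq_mul]
  congr 1
  have hW := card_perp hB hq hV (show m = k + (d + 1) by omega) hx
  rw [Nat.card_eq_fintype_card, Fintype.card_subtype] at hW
  have : (Finset.univ.filter fun e : V => famMap B x e = 0 ∧ e ≠ 0) =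
      (Finset.univ.filter fun e : V => famMap B x e = 0).erase 0 := by
    ext e
    simp only [Finset.mem_filter, Finset.mem_univ, true_and, Finset.mem_erase]
    tauto
  rw [this, Finset.card_erase_of_mem (by simp), hW]
  ring_nf

lemma card_hyp_succ (hB : ∀ v, B v v = 0) (hnd : ∀ v, (∀ w, B v w = 0) → v = 0)
    {q m k d : ℕ} (hq : Nat.card F = q)
    (hV : Nat.card V = q ^ (2 * m)) (hm : m = k + d + 1) :
    Nat.card {y : Fin (k + 1) → V × V // IsHyp B y} =
      Nat.card {x : Fin k → V × V // IsHyp B x} * ((q ^ (2 * d + 2) - 1) * q ^ (2 * d + 1)) := by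
  classical
  have := Fintype.ofFinite V
  have e0 : {y : Fin (k + 1) → V × V // IsHyp B y} ≃
      {z : (Fin k → V × V) × (V × V) // IsHyp B z.1 ∧ ExtCond B z.1 z.2} :=
    (snocEquiv' (V × V) k).subtypeEquiv (fun y => by
      rw [← isHyp_snoc_iff hB]
      simp only [snocEquiv', Equiv.coe_fn_mk]
      rw [Fin.snoc_init_self])
  have e1 : {z : (Fin k → V × V) × (V × V) // IsHyp B z.1 ∧ ExtCond B z.1 z.2} ≃
      Σ x : Fin k → V × V, {p : V × V // IsHyp B x ∧ ExtCond B x p} :=
    Equiv.subtypeProdEquivSigmaSubtype (fun x p => IsHyp B x ∧ ExtCond B x p)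
  rw [Nat.card_congr (e0.trans e1), Nat.card_sigma]
  have key : ∀ x : Fin k → V × V, Nat.card {p : V × V // IsHyp B x ∧ ExtCond B x p} =
      if IsHyp B x then ((q ^ (2 * d + 2) - 1) * q ^ (2 * d + 1)) else 0 := by
    intro x
    split_ifs with h
    · rw [← card_ext hB hnd hq hV hm h]
      apply Nat.card_congr
      apply Equiv.subtypeEquivRight
      intro p
      tauto
    · rw [Nat.card_eq_zero]
      left
      constructor
      rintro ⟨p, hp1, _⟩
      exact h hp1
  simp_rw [key]
  rw [← Finset.sum_filter, Finset.sum_const, smul_eq_mul, Nat.card_eq_fintype_card,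
    Fintype.card_subtype]

lemma card_hyp_zero : Nat.card {x : Fin 0 → V × V // IsHyp B x} = 1 := by
  rw [Nat.card_eq_one_iff_unique]
  refine ⟨⟨?_⟩, ⟨⟨fun i => i.elim0, fun i => i.elim0⟩⟩⟩
  intro a b
  apply Subtype.ext
  funext i
  exact i.elim0

theorem card_hyp_Ico (hB : ∀ v, B v v = 0) (hnd : ∀ v, (∀ w, B v w = 0) → v = 0)
    {q m : ℕ} (hq : Nat.card F = q) (hV : Nat.card V = q ^ (2 * m)) (k : ℕ) :
    ∀ d : ℕ, m = k + d → Nat.card {x : Fin k → V × V // IsHyp B x} =
      ∏ j ∈ Finset.Ico d m, ((q ^ (2 * j + 2) - 1) * q ^ (2 * j + 1)) := by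
  induction k with
  | zero =>
    intro d hd
    rw [card_hyp_zero]
    have : d = m := by omega
    rw [this, Finset.Ico_self, Finset.prod_empty]
  | succ k ih =>
    intro d hd
    have hm : m = k + d + 1 := by omega
    rw [card_hyp_succ hB hnd hq hV hm, ih (d + 1) (by omega),
      Finset.prod_eq_prod_Ico_succ_bot (show d < m by omega), mul_comm]

lemma prod_formula (q m : ℕ) :
    ∏ j ∈ Finset.range m, ((q ^ (2 * j + 2) - 1) * q ^ (2 * j + 1)) =
      q ^ (m ^ 2) * ∏ i ∈ Finset.range m, (q ^ (2 * (i + 1)) - 1) := by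
  induction m with
  | zero => simp
  | succ m ih =>
    rw [Finset.prod_range_succ, Finset.prod_range_succ, ih]
    have : 2 * (m + 1) = 2 * m + 2 := by ring
    rw [this]
    ring

theorem card_hyp_full (hB : ∀ v, B v v = 0) (hnd : ∀ v, (∀ w, B v w = 0) → v = 0)
    {q m : ℕ} (hq : Nat.card F = q) (hV : Nat.card V = q ^ (2 * m)) :
    Nat.card {x : Fin m → V × V // IsHyp B x} =
      q ^ (m ^ 2) * ∏ i ∈ Finset.range m, (q ^ (2 * (i + 1)) - 1) := by
  rw [card_hyp_Ico hB hnd hq hV m 0 (by omega), ← Finset.range_eq_Ico, prod_formula]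

end count

end Cfsg.Agent.Lib.Helper07
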