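import Mathlib
import Cfsg.Agent.Lib.Helper07.SpCardC

set_option autoImplicit false

namespace Cfsg.Agent.Lib.Helper07

section std
variable (m : ℕ) (F : Type*) [Field F]

/-- the standard alternating form on `F^(2m)`. -/
noncomputable def stdB : (Fin m ⊕ Fin m → F) →ₗ[F] (Fin m ⊕ Fin m → F) →ₗ[F] F :=
  Matrix.toLinearMap₂' F (Matrix.J (Fin m) F)

variable {m F}

lemma stdB_apply (u v : Fin m ⊕ Fin m → F) :
    stdB m F u v = ∑ i, (u (Sum.inr i) * v (Sum.inl i) - u (Sum.inl i) * v (Sum.inr i)) := by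
  rw [stdB, Matrix.toLinearMap₂'_apply']
  simp [Matrix.J, dotProduct, Matrix.mulVec, Fintype.sum_sum_type, Matrix.one_apply]
  ring

lemma stdB_alt (v : Fin m ⊕ Fin m → F) : stdB m F v v = 0 := by
  rw [stdB_apply]
  apply Finset.sum_eq_zero
  intro i _
  ring

lemma stdB_nondeg (v : Fin m ⊕ Fin m → F) (h : ∀ w, stdB m F v w = 0) : v = 0 := by
  classical
  funext a
  rcases a with i | i
  · have := h (Pi.single (Sum.inr i) 1)
    rw [stdB_apply] at this
    simpa [Pi.single_apply] using this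
  · have := h (Pi.single (Sum.inl i) 1)
    rw [stdB_apply] at this
    simpa [Pi.single_apply] using this

lemma mul_J_mul_transpose_apply (A : Matrix (Fin m ⊕ Fin m) (Fin m ⊕ Fin m) F)
    (a b : Fin m ⊕ Fin m) :
    (A * Matrix.J (Fin m) F * A.transpose) a b = stdB m F (A a) (A b) := by
  rw [stdB, Matrix.toLinearMap₂'_apply', Matrix.mul_assoc, Matrix.mul_apply]
  simp only [dotProduct, Matrix.mulVec, Matrix.mul_apply, Matrix.transpose_apply]

/-- rows of a matrix as a family of pairs. -/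
def rowsEquiv (m : ℕ) (F : Type*) :
    Matrix (Fin m ⊕ Fin m) (Fin m ⊕ Fin m) F ≃ (Fin m → (Fin m ⊕ Fin m → F) × (Fin m ⊕ Fin m → F)) where
  toFun A := fun i => (A (Sum.inr i), A (Sum.inl i))
  invFun x := Matrix.of (Sum.elim (fun i => (x i).2) (fun i => (x i).1))
  left_inv A := by
    ext a b
    rcases a with i | i <;> rfl
  right_inv x := by
    funext i
    rfl

lemma mem_symplectic_iff_isHyp (A : Matrix (Fin m ⊕ Fin m) (Fin m ⊕ Fin m) F) :
    A ∈ Matrix.symplecticGroup (Fin m) F ↔ IsHyp (stdB m F) (rowsEquiv m F A) := by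
  rw [SymplecticGroup.mem_iff]
  constructor
  · intro h i j
    have key : ∀ a b, stdB m F (A a) (A b) = Matrix.J (Fin m) F a b := by
      intro a b
      rw [← mul_J_mul_transpose_apply, h]
    simp only [rowsEquiv, Equiv.coe_fn_mk]
    refine ⟨?_, ?_, ?_⟩
    · rw [key]; simp [Matrix.J]
    · rw [key]; simp [Matrix.J]
    · rw [key]; simp [Matrix.J, Matrix.one_apply]
  · intro h
    simp only [rowsEquiv, Equiv.coe_fn_mk, IsHyp] at h
    ext a b
    rw [mul_J_mul_transpose_apply]
    rcases a with i | i <;> rcases b with j | j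
    · rw [(h i j).2.1]; simp [Matrix.J]
    · rw [skew_of_alt stdB_alt, (h j i).2.2]
      simp [Matrix.J, Matrix.one_apply, eq_comm]
    · rw [(h i j).2.2]; simp [Matrix.J, Matrix.one_apply]
    · rw [(h i j).1]; simp [Matrix.J]

theorem card_symplecticGroup [Fintype F] {q : ℕ} (hF : Fintype.card F = q) (m : ℕ) :
    Nat.card (Matrix.symplecticGroup (Fin m) F) =
      q ^ (m ^ 2) * ∏ i ∈ Finset.range m, (q ^ (2 * (i + 1)) - 1) := by
  classical
  have e : Matrix.symplecticGroup (Fin m) F ≃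
      {x : Fin m → (Fin m ⊕ Fin m → F) × (Fin m ⊕ Fin m → F) // IsHyp (stdB m F) x} :=
    (rowsEquiv m F).subtypeEquiv (fun A => mem_symplectic_iff_isHyp A)
  rw [Nat.card_congr e]
  apply card_hyp_full stdB_alt stdB_nondeg (by rw [Nat.card_eq_fintype_card, hF])
  rw [Nat.card_eq_fintype_card, Fintype.card_fun, Fintype.card_sum, Fintype.card_fin, hF]
  congr 1
  ring

end std

end Cfsg.Agent.Lib.Helper07
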