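import Mathlib
import Cfsg.Agent.Lib.Helper07.A8Stars
import Cfsg.Agent.Lib.Helper07.PSLSimple
import Cfsg.Agent.Lib.Helper07.PSL27
import Cfsg.Agent.Lib.Helper07.SLCard

set_option autoImplicit false

namespace Cfsg.Agent.Lib.Helper07

open Matrix
open scoped Pointwise

section a8final

theorem psl_four_two_equiv_alt {F : Type*} [Field F] [Fintype F] (hF : Fintype.card F = 2) :
    Nonempty (ProjectiveSpecialLinearGroup (Fin 4) F ≃* alternatingGroup (Fin 8)) := by
  have : Fact (Nat.Prime 2) := ⟨Nat.prime_two⟩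
  have e1 : ProjectiveSpecialLinearGroup (Fin 4) F ≃*
      ProjectiveSpecialLinearGroup (Fin 4) (ZMod 2) := pslCongr (fieldEquivZMod 2 hF)
  obtain ⟨ρ, hρ⟩ := exists_hom_perm_of_smul_eq (G := SpecialLinearGroup (Fin 4) (ZMod 2))
    stars8 stars8_fixed
  -- the centre is trivial
  have hcen : Subgroup.center (SpecialLinearGroup (Fin 4) (ZMod 2)) = ⊥ := by
    apply Subgroup.eq_bot_of_card_eq
    rw [card_center_sl (F := ZMod 2) 4 (by norm_num), ZMod.card]
    norm_num
  let ρbar : ProjectiveSpecialLinearGroup (Fin 4) (ZMod 2) →* Equiv.Perm stars8 :=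
    QuotientGroup.lift _ ρ (by rw [hcen]; exact bot_le)
  have hs : IsSimpleGroup (ProjectiveSpecialLinearGroup (Fin 4) (ZMod 2)) :=
    psl_isSimpleGroup (by simp)
  have hinj : Function.Injective ρbar := by
    rw [← MonoidHom.ker_eq_bot_iff]
    rcases (ρbar.normal_ker).eq_bot_or_eq_top with h | h
    · exact h
    · exfalso
      obtain ⟨S, hS, hne⟩ := stars8_moved
      set t := SpecialLinearGroup.transvection (show (0 : Fin 4) ≠ 1 by decide) (1 : ZMod 2)
      have hmem : (QuotientGroup.mk t : ProjectiveSpecialLinearGroup (Fin 4) (ZMod 2)) ∈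
          ρbar.ker := by rw [h]; trivial
      rw [MonoidHom.mem_ker] at hmem
      have h2 : ρ t = 1 := hmem
      have h3 := hρ t ⟨S, hS⟩
      rw [h2] at h3
      exact hne h3.symm
  have hcard : 2 * Nat.card (ProjectiveSpecialLinearGroup (Fin 4) (ZMod 2)) = Nat.factorial 8 := by
    have h := card_psl_mul (F := ZMod 2) 4 (by norm_num)
    rw [ZMod.card] at h
    generalize Nat.card (ProjectiveSpecialLinearGroup (Fin 4) (ZMod 2)) = N at h ⊢
    simp [Fin.prod_univ_four] at h
    have : Nat.factorial 8 = 40320 := by decide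
    omega
  have hX : Nat.card stars8 = 8 := by
    rw [Nat.card_eq_fintype_card, Fintype.card_coe, stars8_card]
  obtain ⟨e2⟩ := nonempty_mulEquiv_alternatingGroup ρbar hinj 8 hX hcard
  exact ⟨e1.trans e2⟩

end a8final

end Cfsg.Agent.Lib.Helper07
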