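import Mathlib

set_option autoImplicit false

namespace Cfsg.Agent.Lib.Helper07

/-- If a finite group has a cyclic subgroup whose order is divisible by `|P|` for a Sylow
`r`-subgroup `P`, then `P` is cyclic. -/
theorem sylow_isCyclic_of_cyclic_subgroup {G : Type*} [Group G] [Finite G] (r : ℕ)
    [Fact r.Prime] (C : Subgroup G) [hC : IsCyclic C] (P : Sylow r G)
    (hdvd : Nat.card P ∣ Nat.card C) : IsCyclic (P : Subgroup G) := by
  obtain ⟨a, ha⟩ := IsPGroup.iff_card.mp P.2
  rw [ha] at hdvd
  -- a subgroup of `C` of order `r ^ a`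
  obtain ⟨D, hD⟩ := Sylow.exists_subgroup_card_pow_prime r hdvd
  have hDcyc : IsCyclic D := inferInstance
  set D' : Subgroup G := D.map C.subtype with hD'
  have e : D ≃* D' := D.equivMapOfInjective C.subtype C.subtype_injective
  have hD'card : Nat.card D' = r ^ a := by rw [← Nat.card_congr e.toEquiv, hD]
  have hD'cyc : IsCyclic D' := isCyclic_of_surjective e e.surjective
  have hD'p : IsPGroup r D' := IsPGroup.of_card hD'card
  obtain ⟨Q, hQ⟩ := hD'p.exists_le_sylow
  have hQcard : Nat.card Q = r ^ a := by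
    rw [← ha]
    exact Nat.card_congr (Sylow.equiv Q P).toEquiv
  have hQeq : D' = (Q : Subgroup G) :=
    Subgroup.eq_of_le_of_card_ge hQ (by rw [hQcard, hD'card])
  have hQcyc : IsCyclic (Q : Subgroup G) := hQeq ▸ hD'cyc
  exact isCyclic_of_surjective (Sylow.equiv Q P) (Sylow.equiv Q P).surjective

end Cfsg.Agent.Lib.Helper07
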