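import Mathlib
import Cfsg.Agent.Lib.Helper07.SylowCyclic
import Cfsg.Agent.Lib.Helper07.SL2Sylow

set_option autoImplicit false

namespace Cfsg.Agent.Lib.Helper07

open Matrix

section split
variable {F : Type*} [Field F]

/-- `diag(a, a⁻¹)` -/
def splitTorusFun (a : Fˣ) : Matrix.SpecialLinearGroup (Fin 2) F :=
  ⟨!![(a : F), 0; 0, ((a⁻¹ : Fˣ) : F)], by simp [det_fin_two_of]⟩

lemma splitTorusFun_val (a : Fˣ) :
    (splitTorusFun a).val = !![(a : F), 0; 0, ((a⁻¹ : Fˣ) : F)] := rfl

/-- the split torus `a ↦ diag(a, a⁻¹)`. -/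
def splitTorusHom : Fˣ →* Matrix.SpecialLinearGroup (Fin 2) F where
  toFun := splitTorusFun
  map_one' := by
    apply Subtype.ext
    rw [splitTorusFun_val]
    ext i j; fin_cases i <;> fin_cases j <;> simp
  map_mul' a b := by
    apply Subtype.ext
    rw [Matrix.SpecialLinearGroup.coe_mul, splitTorusFun_val, splitTorusFun_val,
      splitTorusFun_val]
    ext i j; fin_cases i <;> fin_cases j <;>
      simp [Matrix.mul_apply, Fin.sum_univ_two, mul_comm]

lemma splitTorusHom_injective : Function.Injective (splitTorusHom (F := F)) := by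
  intro a b h
  have h1 : (splitTorusFun a).val 0 0 = (splitTorusFun b).val 0 0 := by
    have h' : splitTorusFun a = splitTorusFun b := h
    rw [h']
  rw [splitTorusFun_val, splitTorusFun_val] at h1
  simp at h1
  exact Units.ext h1

instance [Finite F] : IsCyclic (splitTorusHom (F := F)).range :=
  isCyclic_of_surjective (splitTorusHom (F := F)).rangeRestrict
    (splitTorusHom (F := F)).rangeRestrict_surjective

lemma card_splitTorus [Fintype F] :
    Nat.card (splitTorusHom (F := F)).range = Fintype.card F - 1 := by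
  classical
  rw [← Nat.card_congr (MonoidHom.ofInjective splitTorusHom_injective).toEquiv,
    Nat.card_eq_fintype_card, Fintype.card_units]

end split

section nonsplit
variable {F : Type*} [Field F] [Fintype F]

/-- a subgroup of `SL₂(q)` that is cyclic of order `q + 1`. -/
theorem exists_cyclic_subgroup_card_succ (p : ℕ) [Fact p.Prime] [CharP F p] :
    ∃ C : Subgroup (Matrix.SpecialLinearGroup (Fin 2) F), IsCyclic C ∧
      Nat.card C = Fintype.card F + 1 := by
  classical
  let K := FiniteField.Extension F p 2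
  have hfin : Module.finrank F K = 2 := FiniteField.finrank_extension F p 2
  let b : Module.Basis (Fin 2) F K := Module.finBasisOfFinrankEq F K hfin
  let nm : Kˣ →* Fˣ := Units.map (Algebra.norm F (S := K))
  have hsurj : Function.Surjective nm := FiniteField.unitsMap_norm_surjective F K
  let N : Subgroup Kˣ := nm.ker
  -- the order of `N`
  have hKcard : Nat.card K = Fintype.card F ^ 2 := by
    rw [FiniteField.natCard_extension, Nat.card_eq_fintype_card]
  have hcardN : Nat.card N = Fintype.card F + 1 := by
    have h1 := Subgroup.card_eq_card_quotient_mul_card_subgroup N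
    have h2 : Nat.card (Kˣ ⧸ N) = Nat.card Fˣ :=
      Nat.card_congr (QuotientGroup.quotientKerEquivOfSurjective nm hsurj).toEquiv
    rw [h2, Nat.card_units, Nat.card_units, hKcard, Nat.card_eq_fintype_card] at h1
    obtain ⟨r, hr⟩ : ∃ r, Fintype.card F = r + 2 := by
      have := Fintype.one_lt_card (α := F)
      exact ⟨Fintype.card F - 2, by omega⟩
    rw [hr] at h1 ⊢
    have e1 : (r + 2) ^ 2 - 1 = (r + 3) * (r + 1) := by
      have : (r + 2) ^ 2 = (r + 3) * (r + 1) + 1 := by ring
      omega
    have e3 : r + 2 - 1 = r + 1 := by omega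
    rw [e1, e3] at h1
    have hpos : 0 < r + 1 := by omega
    have : (r + 1) * Nat.card N = (r + 1) * (r + 3) := by rw [← h1]; ring
    exact Nat.eq_of_mul_eq_mul_left hpos this
  -- the embedding of `N` into `SL₂`
  have hdet : ∀ x : N, (Algebra.leftMulMatrix b ((x : Kˣ) : K)).det = 1 := by
    intro x
    rw [← Algebra.norm_eq_matrix_det]
    have hx : nm (x : Kˣ) = 1 := x.2
    have := congrArg Units.val hx
    simpa [nm] using this
  let f : N → Matrix.SpecialLinearGroup (Fin 2) F :=
    fun x => ⟨Algebra.leftMulMatrix b ((x : Kˣ) : K), hdet x⟩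
  have hfval : ∀ x, (f x).val = Algebra.leftMulMatrix b ((x : Kˣ) : K) := fun x => rfl
  let φ : N →* Matrix.SpecialLinearGroup (Fin 2) F :=
    { toFun := f
      map_one' := by
        apply Subtype.ext
        rw [hfval]
        simp
      map_mul' := fun x y => by
        apply Subtype.ext
        rw [Matrix.SpecialLinearGroup.coe_mul, hfval, hfval, hfval]
        simp }
  have hφ : Function.Injective φ := by
    intro x y h
    have h1 := congrArg Subtype.val h
    have h2 : Algebra.leftMulMatrix b ((x : Kˣ) : K) = Algebra.leftMulMatrix b ((y : Kˣ) : K) := h1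
    have h3 := Algebra.leftMulMatrix_injective b h2
    exact Subtype.ext (Units.ext h3)
  refine ⟨φ.range, ?_, ?_⟩
  · exact isCyclic_of_surjective φ.rangeRestrict φ.rangeRestrict_surjective
  · rw [← Nat.card_congr (MonoidHom.ofInjective hφ).toEquiv, hcardN]

end nonsplit

section main
variable {F : Type*} [Field F] [Fintype F] (p : ℕ) [Fact p.Prime] [CharP F p]

/-- Sylow `r`-subgroups of `SL₂(q)` are cyclic for odd `r` different from the characteristic. -/
theorem sylow_SL_two_isCyclic (r : ℕ) [Fact r.Prime] (hr : r ≠ 2) (hrp : r ≠ p)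
    (R : Sylow r (Matrix.SpecialLinearGroup (Fin 2) F)) :
    IsCyclic (R : Subgroup (Matrix.SpecialLinearGroup (Fin 2) F)) := by
  have hrprime : r.Prime := Fact.out
  obtain ⟨a, ha⟩ := IsPGroup.iff_card.mp R.2
  have hdvd : r ^ a ∣ (Fintype.card F ^ 2 - 1) * Fintype.card F := by
    rw [← ha, ← card_SL_two']
    exact Subgroup.card_subgroup_dvd_card _
  obtain ⟨n, hp, hn⟩ := FiniteField.card F p
  -- `r` is coprime to `q`
  have hcop : Nat.Coprime (r ^ a) (Fintype.card F) := by
    rw [hn]
    apply Nat.Coprime.pow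
    exact (Nat.coprime_primes hrprime hp).mpr hrp
  have hdvd2 : r ^ a ∣ Fintype.card F ^ 2 - 1 := hcop.dvd_of_dvd_mul_right hdvd
  obtain ⟨s, hs⟩ : ∃ s, Fintype.card F = s + 2 := by
    have := Fintype.one_lt_card (α := F)
    exact ⟨Fintype.card F - 2, by omega⟩
  have e1 : Fintype.card F ^ 2 - 1 = (Fintype.card F + 1) * (Fintype.card F - 1) := by
    rw [hs]
    have : (s + 2) ^ 2 = (s + 2 + 1) * (s + 2 - 1) + 1 := by
      rw [show s + 2 - 1 = s + 1 by omega]; ring
    omega
  rw [e1] at hdvd2
  by_cases h1 : r ∣ Fintype.card F - 1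
  · -- then `r` does not divide `q + 1`
    have h2 : ¬ r ∣ Fintype.card F + 1 := by
      intro h2
      have : r ∣ (Fintype.card F + 1) - (Fintype.card F - 1) := Nat.dvd_sub h2 h1
      rw [show Fintype.card F + 1 - (Fintype.card F - 1) = 2 by omega] at this
      have := (Nat.prime_dvd_prime_iff_eq hrprime Nat.prime_two).mp this
      exact hr this
    have hc : Nat.Coprime (r ^ a) (Fintype.card F + 1) :=
      Nat.Coprime.pow_left _ ((Nat.Prime.coprime_iff_not_dvd hrprime).mpr h2)
    have hd : r ^ a ∣ Fintype.card F - 1 := hc.dvd_of_dvd_mul_left hdvd2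
    exact sylow_isCyclic_of_cyclic_subgroup r (splitTorusHom (F := F)).range R
      (by rw [ha, card_splitTorus]; exact hd)
  · have hc : Nat.Coprime (r ^ a) (Fintype.card F - 1) :=
      Nat.Coprime.pow_left _ ((Nat.Prime.coprime_iff_not_dvd hrprime).mpr h1)
    have hd : r ^ a ∣ Fintype.card F + 1 := hc.dvd_of_dvd_mul_right hdvd2
    obtain ⟨C, hCcyc, hCcard⟩ := exists_cyclic_subgroup_card_succ (F := F) p
    exact sylow_isCyclic_of_cyclic_subgroup r C R (by rw [ha, hCcard]; exact hd)

end main

end Cfsg.Agent.Lib.Helper07
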