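import Mathlib
import Cfsg.Agent.Lib.Helper07.SL2Tori
import Cfsg.Agent.Lib.Helper07.QuatEmbed

set_option autoImplicit false

namespace Cfsg.Agent.Lib.Helper07
open Matrix

section
variable {F : Type*} [Field F]

/-- Cayley–Hamilton for 2×2 with det 1 -/
lemma mul_self_eq_of_det_one (X : Matrix (Fin 2) (Fin 2) F) (h : X.det = 1) :
    X * X = X.trace • X - 1 := by
  rw [det_fin_two] at h
  ext i j; fin_cases i <;> fin_cases j <;>
    simp [Matrix.mul_apply, Fin.sum_univ_two, Matrix.trace] <;>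
    first | ring1 | linear_combination (-1 : F) * h

/-- the sequences in `X ^ k = P k • X - R k • 1`. -/
def prSeq (t : F) : ℕ → F × F
  | 0 => (0, -1)
  | k + 1 => (t * (prSeq t k).1 - (prSeq t k).2, (prSeq t k).1)

lemma pow_eq_prSeq {t : F} (X : Matrix (Fin 2) (Fin 2) F) (hX : X * X = t • X - 1) (k : ℕ) :
    X ^ k = (prSeq t k).1 • X - (prSeq t k).2 • (1 : Matrix (Fin 2) (Fin 2) F) := by
  induction k with
  | zero => simp [prSeq]
  | succ k ih =>
    rw [pow_succ, ih, sub_mul, smul_mul_assoc, smul_mul_assoc, hX, one_mul]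
    simp only [prSeq]
    module

lemma pow_eq_one_iff_prSeq {t : F} (X : Matrix (Fin 2) (Fin 2) F) (hX : X * X = t • X - 1)
    (hns : ∀ s : F, X ≠ s • (1 : Matrix (Fin 2) (Fin 2) F)) (k : ℕ) :
    X ^ k = 1 ↔ (prSeq t k).1 = 0 ∧ (prSeq t k).2 = -1 := by
  rw [pow_eq_prSeq X hX]
  constructor
  · intro h
    have h0 : (prSeq t k).1 = 0 := by
      by_contra hne
      apply hns ((1 + (prSeq t k).2) / (prSeq t k).1)
      have : (prSeq t k).1 • X = (1 + (prSeq t k).2) • (1 : Matrix (Fin 2) (Fin 2) F) := by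
        rw [add_smul, one_smul]; exact sub_eq_iff_eq_add.mp h
      rw [div_eq_inv_mul, mul_smul, ← this, smul_smul, inv_mul_cancel₀ hne, one_smul]
    refine ⟨h0, ?_⟩
    rw [h0, zero_smul, zero_sub] at h
    have := congrFun (congrFun h 0) 0
    simp at this
    linear_combination (-1 : F) * this
  · rintro ⟨h1, h2⟩
    rw [h1, h2]
    simp


/-- the companion matrix with trace `t` and determinant one. -/
def compM (t : F) : Matrix (Fin 2) (Fin 2) F := !![0, -1; 1, t]

lemma compM_det (t : F) : (compM t).det = 1 := by simp [compM, det_fin_two]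

lemma compM_trace (t : F) : (compM t).trace = t := by simp [compM, Matrix.trace]

lemma compM_ne_smul (t s : F) : compM t ≠ s • (1 : Matrix (Fin 2) (Fin 2) F) := by
  intro h
  have := congrFun (congrFun h 1) 0
  simp [compM] at this

/-- the companion matrix as an element of `SL₂`. -/
def compSL (t : F) : Matrix.SpecialLinearGroup (Fin 2) F := ⟨compM t, compM_det t⟩

lemma compSL_val (t : F) : (compSL t).val = compM t := rfl

lemma sl_pow_eq_one_iff (g : Matrix.SpecialLinearGroup (Fin 2) F) (k : ℕ) :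
    g ^ k = 1 ↔ g.val ^ k = 1 := by
  rw [← Matrix.SpecialLinearGroup.coe_pow]
  constructor
  · intro h; rw [h]; rfl
  · intro h; exact Subtype.ext h

/-- a non-scalar element of `SL₂` has the same order as the companion matrix of its trace. -/
lemma orderOf_compSL (g : Matrix.SpecialLinearGroup (Fin 2) F)
    (hns : ∀ s : F, g.val ≠ s • (1 : Matrix (Fin 2) (Fin 2) F)) :
    orderOf (compSL g.val.trace) = orderOf g := by
  rw [orderOf_eq_orderOf_iff]
  intro k
  rw [sl_pow_eq_one_iff, sl_pow_eq_one_iff, compSL_val,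
    pow_eq_one_iff_prSeq (t := g.val.trace) _ (by
      have := mul_self_eq_of_det_one _ (compM_det g.val.trace)
      rwa [compM_trace] at this) (compM_ne_smul _),
    pow_eq_one_iff_prSeq (t := g.val.trace) _ (mul_self_eq_of_det_one _ g.2) hns]

lemma prSeq_two_mul {e : F} (he : e * e = 1) (k : ℕ) :
    (prSeq (2 * e) k).1 = k * e ^ (k + 1) ∧ (prSeq (2 * e) k).2 = (k - 1) * e ^ k := by
  induction k with
  | zero => simp [prSeq]
  | succ k ih =>
    obtain ⟨h1, h2⟩ := ih
    simp only [prSeq]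
    rw [h1, h2]
    constructor
    · push_cast
      linear_combination ((k - 1 : F) * e ^ k) * he
    · push_cast
      ring


lemma trace_sq_ne_four (h2 : (2 : F) ≠ 0) (t : F) (N : ℕ) (hN : (N : F) ≠ 0)
    (hpow : compM t ^ N = 1) : t * t ≠ 4 := by
  intro ht
  have he : (t / 2) * (t / 2) = 1 := by
    field_simp
    linear_combination ht
  have ht2 : t = 2 * (t / 2) := by field_simp
  have hX : compM t * compM t = t • compM t - 1 := by
    have := mul_self_eq_of_det_one _ (compM_det t)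
    rwa [compM_trace] at this
  have h1 := (pow_eq_one_iff_prSeq _ hX (compM_ne_smul t) N).mp hpow
  have h3 := (prSeq_two_mul he N).1
  rw [← ht2, h1.1] at h3
  have h4 : (t / 2) ≠ 0 := by
    intro h0
    rw [h0] at he
    simp at he
  exact (mul_ne_zero hN (pow_ne_zero _ h4)) h3.symm

end

section finite
variable {F : Type*} [Field F] [Fintype F]

open Polynomial in
lemma exists_quadratic_form_eq (hF : Fintype.card F % 2 = 1) (h2 : (2 : F) ≠ 0) (A B C e : F)
    (hA : A ≠ 0) (hd : B * B - 4 * A * C ≠ 0) :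
    ∃ x y : F, A * (x * x) + B * (x * y) + C * (y * y) = e := by
  have h4 : (4 : F) ≠ 0 := by
    have : (4 : F) = 2 * 2 := by norm_num
    rw [this]
    exact mul_ne_zero h2 h2
  have hf : degree (Polynomial.C A * X ^ 2 - Polynomial.C e) = 2 := by
    compute_degree!
  have hc : C - B * B / (4 * A) ≠ 0 := by
    intro h
    apply hd
    field_simp at h
    linear_combination (-1 : F) * h
  have hg : degree (Polynomial.C (C - B * B / (4 * A)) * X ^ 2) = 2 := by
    compute_degree!
  obtain ⟨a, b, hab⟩ := FiniteField.exists_root_sum_quadratic hf hg hF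
  simp only [eval_sub, eval_mul, eval_C, eval_pow, eval_X] at hab
  refine ⟨a - B * b / (2 * A), b, ?_⟩
  field_simp
  field_simp at hab
  linear_combination hab

end finite

lemma exists_orderOf_eq_of_dvd_card_cyclic {G : Type*} [Group G] [Finite G] (C : Subgroup G)
    [IsCyclic C] (d : ℕ) (hd : d ∣ Nat.card C) : ∃ g : G, orderOf g = d := by
  obtain ⟨x, hx⟩ := IsCyclic.exists_ofOrder_eq_natCard (α := C)
  obtain ⟨k, hk⟩ := hd
  have hpos : 0 < Nat.card C := Nat.card_pos
  have hk0 : k ≠ 0 := by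
    rintro rfl
    rw [mul_zero] at hk
    omega
  have hd0 : d ≠ 0 := by
    rintro rfl
    rw [zero_mul] at hk
    omega
  refine ⟨((x ^ k : C) : G), ?_⟩
  rw [Subgroup.orderOf_coe, orderOf_pow_of_dvd hk0 (by rw [hx, hk]; exact dvd_mul_left k d), hx, hk]
  exact Nat.mul_div_cancel _ (Nat.pos_of_ne_zero hk0)

/-- numerics: the `2`-part of `(q ^ 2 - 1) * q` for odd `q`. -/
lemma two_part_numerics (q e : ℕ) (hq : q % 2 = 1) (hq1 : 1 < q)
    (he : e = ((q ^ 2 - 1) * q).factorization 2) :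
    ∃ e', 1 ≤ e' ∧ e = e' + 2 ∧ (2 ^ (e' + 1) ∣ q - 1 ∨ 2 ^ (e' + 1) ∣ q + 1) := by
  obtain ⟨m, rfl⟩ : ∃ m, q = 2 * m + 1 := ⟨q / 2, by omega⟩
  have hm : 1 ≤ m := by omega
  have hN : (2 * m + 1) ^ 2 - 1 = 4 * (m * (m + 1)) := by
    have : (2 * m + 1) ^ 2 = 4 * (m * (m + 1)) + 1 := by ring
    omega
  rw [hN] at he
  have hne : 4 * (m * (m + 1)) * (2 * m + 1) ≠ 0 := by positivity
  have h2 : 2 ∣ m * (m + 1) := by
    have := Nat.even_mul_succ_self m
    exact this.two_dvd
  have h8 : 2 ^ 3 ∣ 4 * (m * (m + 1)) * (2 * m + 1) := by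
    obtain ⟨r, hr⟩ := h2
    rw [hr]
    exact ⟨r * (2 * m + 1), by ring⟩
  have he3 : 3 ≤ e := by
    rw [he]
    exact (Nat.Prime.pow_dvd_iff_le_factorization Nat.prime_two hne).mp h8
  obtain ⟨e', rfl⟩ : ∃ e', e = e' + 2 := ⟨e - 2, by omega⟩
  refine ⟨e', by omega, rfl, ?_⟩
  have hdvd : 2 ^ (e' + 2) ∣ 4 * (m * (m + 1)) * (2 * m + 1) := by
    rw [he]
    exact Nat.ordProj_dvd _ _
  have hdvd2 : 2 ^ e' ∣ m * (m + 1) * (2 * m + 1) := by
    have : 2 ^ (e' + 2) = 4 * 2 ^ e' := by ring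
    rw [this, mul_assoc, mul_assoc] at hdvd
    have := Nat.dvd_of_mul_dvd_mul_left (by norm_num) hdvd
    rwa [← mul_assoc] at this
  have hcop : Nat.Coprime (2 ^ e') (2 * m + 1) := by
    apply Nat.Coprime.pow_left
    rw [Nat.coprime_two_left]  -- odd
    exact ⟨m, rfl⟩
  have hdvd3 : 2 ^ e' ∣ m * (m + 1) := hcop.dvd_of_dvd_mul_right hdvd2
  have hcop2 : Nat.Coprime m (m + 1) := by simp
  have hpp : IsPrimePow (2 ^ e') := by
    exact (Nat.prime_two.prime.isPrimePow).pow (by omega)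
  rcases (hcop2.isPrimePow_dvd_mul hpp).mp hdvd3 with h | h
  · left
    obtain ⟨r, hr⟩ := h
    refine ⟨r, ?_⟩
    rw [show 2 * m + 1 - 1 = 2 * m by omega, hr]
    ring
  · right
    obtain ⟨r, hr⟩ := h
    refine ⟨r, ?_⟩
    rw [show 2 * m + 1 + 1 = 2 * (m + 1) by omega, hr]
    ring

end Cfsg.Agent.Lib.Helper07
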