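import Mathlib
import Cfsg.Agent.Lib.Helper07.SL2Quat

set_option autoImplicit false

namespace Cfsg.Agent.Lib.Helper07

section
variable {F : Type*} [Field F] [Finite F]

/-- every element of a finite field is a sum of two squares. -/
lemma exists_sq_add_sq (e : F) : ∃ s r : F, s ^ 2 + r ^ 2 = e := by
  by_cases hchar : ringChar F = 2
  · obtain ⟨a, rfl⟩ := FiniteField.isSquare_of_char_two hchar e
    exact ⟨a, 0, by ring⟩
  · have h2 : (2 : F) ≠ 0 := Ring.two_ne_zero hchar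
    have := Fintype.ofFinite F
    have hodd := FiniteField.odd_card_of_char_ne_two hchar
    have h4 : (4 : F) ≠ 0 := by
      have : (4 : F) = 2 * 2 := by norm_num
      rw [this]; exact mul_ne_zero h2 h2
    obtain ⟨x, y, hxy⟩ := exists_quadratic_form_eq hodd h2 1 0 1 e one_ne_zero (by
      have : (0 : F) * 0 - 4 * 1 * 1 = -4 := by ring
      rw [this]
      exact neg_ne_zero.mpr h4)
    exact ⟨x, y, by linear_combination hxy⟩

omit [Finite F] in
lemma aux_field {A B C : F} (hA : A ≠ 0) (hB : B ≠ 0) (h : A⁻¹ = B⁻¹ ^ 2 * C) :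
    B ^ 2 = A * C := by
  field_simp at h
  linear_combination h

omit [Finite F] in
lemma aux_field2 {c A B C : F} (hc : c ≠ 0) (h : A ^ 2 = B * C) :
    (c⁻¹ * A) ^ 2 = c⁻¹ * B * (c⁻¹ * C) := by
  field_simp
  linear_combination h

/-- The functional equations coming from the Weyl relation force a field automorphism. -/
theorem exists_ringEquiv_of_weyl (φ ψ : F → F)
    (hadd : ∀ t u, φ (t + u) = φ t + φ u)
    (hne : ∀ t, t ≠ 0 → φ t ≠ 0)
    (hψ0 : ψ 0 = 0)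
    (h1 : ∀ t, t ≠ 0 → 1 + φ t * ψ (-t⁻¹) = 0)
    (h2 : ∀ t u, t ≠ 0 → ψ (-(t⁻¹ ^ 2 * u)) = -((φ t)⁻¹ ^ 2 * φ u)) :
    ∃ (c : F) (τ : F ≃+* F), c ≠ 0 ∧ (∀ t, φ t = c * τ t) ∧ (∀ t, ψ t = c⁻¹ * τ t) := by
  have hφ0 : φ 0 = 0 := by
    have := hadd 0 0
    rw [add_zero] at this
    exact left_eq_add.mp this
  have hφneg : ∀ t, φ (-t) = -φ t := by
    intro t
    have := hadd t (-t)
    rw [add_neg_cancel, hφ0] at this
    exact (neg_eq_of_add_eq_zero_right this.symm).symm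
  set c : F := φ 1 with hc
  have hc0 : c ≠ 0 := hne 1 one_ne_zero
  -- ψ in terms of φ
  have hψ : ∀ s, s ≠ 0 → ψ s = (φ s⁻¹)⁻¹ := by
    intro s hs
    have hs' : -s⁻¹ ≠ 0 := neg_ne_zero.mpr (inv_ne_zero hs)
    have := h1 (-s⁻¹) hs'
    have e : -(-s⁻¹)⁻¹ = s := by rw [inv_neg, inv_inv, neg_neg]
    rw [e, hφneg] at this
    exact eq_inv_of_mul_eq_one_left (by linear_combination -this)
  -- the key identity
  have key : ∀ t u, t ≠ 0 → u ≠ 0 → φ t ^ 2 = φ (t ^ 2 * u⁻¹) * φ u := by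
    intro t u ht hu
    have hs : t⁻¹ ^ 2 * u ≠ 0 := mul_ne_zero (pow_ne_zero 2 (inv_ne_zero ht)) hu
    have e1 := h2 t u ht
    rw [hψ _ (neg_ne_zero.mpr hs)] at e1
    have e2 : (-(t⁻¹ ^ 2 * u))⁻¹ = -(t ^ 2 * u⁻¹) := by
      rw [inv_neg, mul_inv, ← inv_pow, inv_inv]
    rw [e2, hφneg] at e1
    have hne1 : φ (t ^ 2 * u⁻¹) ≠ 0 := hne _ (mul_ne_zero (pow_ne_zero 2 ht) (inv_ne_zero hu))
    have hne2 : φ t ≠ 0 := hne t ht
    rw [inv_neg, neg_inj] at e1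
    exact aux_field hne1 hne2 e1
  -- normalised map
  set τ₀ : F → F := fun t => c⁻¹ * φ t with hτ₀
  have τ_one : τ₀ 1 = 1 := by simp [hτ₀, hc0, ← hc]
  have τ_zero : τ₀ 0 = 0 := by simp [hτ₀, hφ0]
  have τ_add : ∀ t u, τ₀ (t + u) = τ₀ t + τ₀ u := by
    intro t u; simp only [hτ₀, hadd]; ring
  have τ_ne : ∀ t, t ≠ 0 → τ₀ t ≠ 0 := fun t ht => mul_ne_zero (inv_ne_zero hc0) (hne t ht)
  have τ_key : ∀ t u, t ≠ 0 → u ≠ 0 → τ₀ t ^ 2 = τ₀ (t ^ 2 * u⁻¹) * τ₀ u := by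
    intro t u ht hu
    simp only [hτ₀]
    exact aux_field2 hc0 (key t u ht hu)
  have τ_sq : ∀ t, τ₀ (t ^ 2) = τ₀ t ^ 2 := by
    intro t
    by_cases ht : t = 0
    · subst ht; simp [τ_zero]
    · have := τ_key t 1 ht one_ne_zero
      rw [inv_one, mul_one, τ_one, mul_one] at this
      exact this.symm
  have τ_inv : ∀ u, u ≠ 0 → τ₀ u⁻¹ * τ₀ u = 1 := by
    intro u hu
    have := τ_key 1 u one_ne_zero hu
    simp only [τ_one, one_pow, one_mul] at this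
    exact this.symm
  have τ_sqmul : ∀ t u, τ₀ (t ^ 2 * u) = τ₀ (t ^ 2) * τ₀ u := by
    intro t u
    by_cases ht : t = 0
    · subst ht; simp [τ_zero]
    by_cases hu : u = 0
    · subst hu; simp [τ_zero]
    have e1 := τ_key t u⁻¹ ht (inv_ne_zero hu)
    rw [inv_inv] at e1
    have e2 := τ_inv u hu
    rw [τ_sq]
    have hu' : τ₀ u ≠ 0 := τ_ne u hu
    have : τ₀ (t ^ 2 * u) * (τ₀ u⁻¹ * τ₀ u) = τ₀ t ^ 2 * τ₀ u := by
      rw [← mul_assoc, ← e1]
    rw [e2, mul_one] at this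
    exact this
  have τ_mul : ∀ a u, τ₀ (a * u) = τ₀ a * τ₀ u := by
    intro a u
    obtain ⟨s, r, rfl⟩ := exists_sq_add_sq a
    rw [add_mul, τ_add, τ_sqmul, τ_sqmul, τ_add]; ring
  let τh : F →+* F :=
    { toFun := τ₀
      map_one' := τ_one
      map_mul' := τ_mul
      map_zero' := τ_zero
      map_add' := τ_add }
  have hbij : Function.Bijective τh :=
    Finite.injective_iff_bijective.mp τh.injective
  let τ : F ≃+* F := RingEquiv.ofBijective τh hbij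
  have hτ : ∀ t, τ t = c⁻¹ * φ t := fun t => rfl
  refine ⟨c, τ, hc0, ?_, ?_⟩
  · intro t
    rw [hτ]; field_simp
  · intro t
    by_cases ht : t = 0
    · subst ht; rw [hψ0, map_zero, mul_zero]
    · rw [hψ t ht]
      have e : φ t⁻¹ = c * τ t⁻¹ := by rw [hτ]; field_simp
      rw [e, map_inv₀, mul_inv, inv_inv]

end

end Cfsg.Agent.Lib.Helper07
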