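import Mathlib
import Cfsg.Prelude.Def_KGroupFacts

set_option autoImplicit false

namespace Cfsg.Agent.Lib.Helper07

universe u v

section transfer
variable {Γ : Type*} [Group Γ] [Finite Γ]

/-- a central element of the commutator subgroup lying in a subgroup `M` of index prime to
its order lies in the commutator subgroup of `M`. -/
lemma mem_commutator_of_center_of_coprime_index (M : Subgroup Γ) (z : Γ)
    (hzc : z ∈ Subgroup.center Γ) (hzd : z ∈ commutator Γ) (hzM : z ∈ M)
    (hcop : (M.index).Coprime (orderOf z)) : (⟨z, hzM⟩ : M) ∈ commutator M := by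
  classical
  let ϕ : M →* Abelianization M := Abelianization.of
  have hT : MonoidHom.transfer ϕ z = ϕ ⟨z ^ M.index, M.pow_mem hzM _⟩ := by
    apply MonoidHom.transfer_eq_pow
    intro k g₀ _
    have : z ^ k ∈ Subgroup.center Γ := Subgroup.pow_mem _ hzc k
    rw [Subgroup.mem_center_iff] at this
    rw [mul_assoc, ← this g₀, inv_mul_cancel_left]
  have h1 : MonoidHom.transfer ϕ z = 1 :=
    Abelianization.commutator_subset_ker (MonoidHom.transfer ϕ) hzd
  rw [hT] at h1
  have h2 : (⟨z ^ M.index, M.pow_mem hzM _⟩ : M) ∈ commutator M := by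
    rw [← Abelianization.ker_of]
    exact h1
  obtain ⟨m, hm⟩ := exists_pow_eq_self_of_coprime hcop
  have h3 : (⟨z, hzM⟩ : M) = (⟨z ^ M.index, M.pow_mem hzM _⟩ : M) ^ m := by
    apply Subtype.ext
    simp [hm]
  rw [h3]
  exact Subgroup.pow_mem _ h2 m

end transfer

section stem

/-- `R` has trivial Schur multiplier, in the form: finite stem extensions have trivial kernel. -/
def TrivMult (R : Type u) [Group R] : Prop :=
  ∀ (Γ' : Type u) [Group Γ'] [Finite Γ'] (τ : Γ' →* R), Cfsg.IsStemExtension τ → τ.ker = ⊥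

lemma trivMult_of_hasCyclicSchurMultiplier {R : Type u} [Group R]
    (h : Cfsg.HasCyclicSchurMultiplier R 1) : TrivMult R := by
  intro Γ' _ _ τ hτ
  obtain ⟨π, hπ⟩ := h.2 Γ' τ hτ
  rw [eq_bot_iff]
  intro y hy
  obtain ⟨a, ha⟩ := hπ ⟨y, hy⟩
  have ha1 : a = 1 := Subsingleton.elim _ _
  rw [ha1, map_one] at ha
  have := congrArg Subtype.val ha
  rw [Subgroup.mem_bot]
  exact this.symm

/-- a copy of `Fin n` in an arbitrary universe, carrying no algebraic structure. -/
structure FinCopy (n : ℕ) : Type v where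
  /-- the underlying element -/
  val : Fin n

/-- `FinCopy n` is equivalent to `Fin n`. -/
def FinCopy.equiv (n : ℕ) : FinCopy.{v} n ≃ Fin n where
  toFun := FinCopy.val
  invFun := FinCopy.mk
  left_inv _ := rfl
  right_inv _ := rfl

/-- transport of triviality of the multiplier along an isomorphism, across universes. -/
lemma trivMult_of_mulEquiv {R : Type u} [Group R] {Q : Type v} [Group Q] (e : R ≃* Q)
    (h : TrivMult Q) : TrivMult R := by
  intro Γ' _ _ τ hτ
  obtain ⟨hsurj, hcen, hcomm⟩ := hτ
  let f : FinCopy.{v} (Nat.card Γ') ≃ Γ' := (FinCopy.equiv _).trans (Finite.equivFin Γ').symm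
  let _ : Group (FinCopy.{v} (Nat.card Γ')) := f.group
  let g : FinCopy.{v} (Nat.card Γ') ≃* Γ' := f.mulEquiv
  let τ'' : FinCopy.{v} (Nat.card Γ') →* Q := e.toMonoidHom.comp (τ.comp g.toMonoidHom)
  have hker : ∀ x, x ∈ τ''.ker ↔ g x ∈ τ.ker := by
    intro x
    rw [MonoidHom.mem_ker, MonoidHom.mem_ker]
    show e (τ (g x)) = 1 ↔ τ (g x) = 1
    exact e.map_eq_one_iff
  have hstem : Cfsg.IsStemExtension τ'' := by
    refine ⟨?_, ?_, ?_⟩
    · exact e.surjective.comp (hsurj.comp g.surjective)
    · intro x hx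
      have h1 := hcen ((hker x).mp hx)
      rw [Subgroup.mem_center_iff] at h1 ⊢
      intro y
      apply g.injective
      rw [map_mul, map_mul]
      exact h1 (g y)
    · intro x hx
      have h1 : g x ∈ commutator Γ' := hcomm ((hker x).mp hx)
      have h2 : g.symm (g x) ∈ (commutator Γ').map g.symm.toMonoidHom := ⟨g x, h1, rfl⟩
      rw [commutator_def, Subgroup.map_commutator] at h2
      rw [g.symm_apply_apply] at h2
      rw [commutator_def]
      exact Subgroup.commutator_mono le_top le_top h2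
  haveI : Finite (FinCopy.{v} (Nat.card Γ')) := Finite.of_equiv _ f.symm
  have h3 := h _ τ'' hstem
  rw [eq_bot_iff]
  intro y hy
  have h4 : g.symm y ∈ τ''.ker := by
    rw [hker, g.apply_symm_apply]; exact hy
  rw [h3, Subgroup.mem_bot] at h4
  rw [Subgroup.mem_bot]
  have := congrArg g h4
  rwa [g.apply_symm_apply, map_one] at this

end stem

section reduction
variable {Γ : Type u} {G : Type u} [Group Γ] [Finite Γ] [Group G] [Finite G]

/-- if a Sylow `r`-subgroup of `G` has trivial multiplier, the kernel of a finite stem extension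
of `G` has no element of order `r`. -/
lemma no_order_r_of_sylow_trivMult (σ : Γ →* G) (hσ : Cfsg.IsStemExtension σ) (r : ℕ)
    [Fact r.Prime] (R : Sylow r G) (hR : TrivMult (R : Subgroup G)) (z : Γ) (hz : z ∈ σ.ker)
    (hzr : orderOf z = r) : False := by
  classical
  obtain ⟨hsurj, hcen, hcomm⟩ := hσ
  have hrp : r.Prime := Fact.out
  -- a Sylow subgroup containing `z`
  have hzp : IsPGroup r (Subgroup.zpowers z) := by
    apply IsPGroup.of_card (n := 1)
    rw [Nat.card_zpowers, hzr, pow_one]
  obtain ⟨Rt, hRt⟩ := hzp.exists_le_sylow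
  have hzR : z ∈ (Rt : Subgroup Γ) := hRt (Subgroup.mem_zpowers z)
  let R₁ : Sylow r G := Rt.mapSurjective hsurj
  have hR₁ : (R₁ : Subgroup G) = (Rt : Subgroup Γ).map σ := Sylow.coe_mapSurjective hsurj Rt
  let e : (R₁ : Subgroup G) ≃* (R : Subgroup G) := Sylow.equiv R₁ R
  let e' : ((Rt : Subgroup Γ).map σ) ≃* (R : Subgroup G) := (MulEquiv.subgroupCongr hR₁.symm).trans e
  let τ : (Rt : Subgroup Γ) →* (R : Subgroup G) :=
    e'.toMonoidHom.comp (σ.subgroupMap (Rt : Subgroup Γ))
  have hker : ∀ x : (Rt : Subgroup Γ), x ∈ τ.ker ↔ (x : Γ) ∈ σ.ker := by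
    intro x
    rw [MonoidHom.mem_ker, MonoidHom.mem_ker]
    show e' (σ.subgroupMap (Rt : Subgroup Γ) x) = 1 ↔ _
    rw [e'.map_eq_one_iff]
    constructor
    · intro h
      have := congrArg Subtype.val h
      exact this
    · intro h
      exact Subtype.ext h
  have hstem : Cfsg.IsStemExtension τ := by
    refine ⟨?_, ?_, ?_⟩
    · exact e'.surjective.comp (σ.subgroupMap_surjective _)
    · intro x hx
      have h1 := hcen ((hker x).mp hx)
      rw [Subgroup.mem_center_iff] at h1 ⊢
      intro y
      apply Subtype.ext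
      exact h1 y
    · intro x hx
      have h1 := (hker x).mp hx
      have hxo : ∃ k, orderOf (x : Γ) = r ^ k := by
        obtain ⟨k, hk⟩ := (IsPGroup.iff_orderOf.mp Rt.2) x
        exact ⟨k, by rw [← hk, Subgroup.orderOf_coe]⟩
      obtain ⟨k, hk⟩ := hxo
      have hcop : ((Rt : Subgroup Γ).index).Coprime (orderOf (x : Γ)) := by
        rw [hk]
        apply Nat.Coprime.pow_right
        rw [Nat.coprime_comm, Nat.Prime.coprime_iff_not_dvd hrp]
        exact Rt.not_dvd_index
      exact mem_commutator_of_center_of_coprime_index (Rt : Subgroup Γ) (x : Γ) (hcen h1)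
        (hcomm h1) x.2 hcop
  have h3 := hR _ τ hstem
  have h4 : (⟨z, hzR⟩ : (Rt : Subgroup Γ)) ∈ τ.ker := (hker _).mpr hz
  rw [h3, Subgroup.mem_bot] at h4
  have h5 : z = 1 := congrArg Subtype.val h4
  rw [h5, orderOf_one] at hzr
  exact hrp.one_lt.ne hzr

/-- if the preimage of a subgroup `U` of index prime to `p` is commutative, the kernel of a
finite stem extension has no element of order `p`. -/
lemma no_order_p_of_comap_commutative (σ : Γ →* G) (hσ : Cfsg.IsStemExtension σ) (p : ℕ)
    [Fact p.Prime] (U : Subgroup G) (hU : ¬ p ∣ U.index)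
    (hM : ∀ a b : Γ, σ a ∈ U → σ b ∈ U → a * b = b * a) (z : Γ) (hz : z ∈ σ.ker)
    (hzp : orderOf z = p) : False := by
  classical
  obtain ⟨hsurj, hcen, hcomm⟩ := hσ
  have hpp : p.Prime := Fact.out
  have hzM : z ∈ U.comap σ := by
    rw [Subgroup.mem_comap, MonoidHom.mem_ker.mp hz]; exact U.one_mem
  have hidx : (U.comap σ).index = U.index := Subgroup.index_comap_of_surjective U hsurj
  have hcop : ((U.comap σ).index).Coprime (orderOf z) := by
    rw [hidx, hzp, Nat.coprime_comm, Nat.Prime.coprime_iff_not_dvd hpp]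
    exact hU
  have h1 := mem_commutator_of_center_of_coprime_index (U.comap σ) z (hcen hz) (hcomm hz) hzM hcop
  have h2 : commutator (U.comap σ) = ⊥ := by
    rw [commutator_def, Subgroup.commutator_eq_bot_iff_le_centralizer]
    intro x _
    rw [Subgroup.mem_centralizer_iff]
    intro y _
    apply Subtype.ext
    exact hM y x y.2 x.2
  rw [h2, Subgroup.mem_bot] at h1
  have h5 : z = 1 := congrArg Subtype.val h1
  rw [h5, orderOf_one] at hzp
  exact hpp.one_lt.ne hzp

end reduction

end Cfsg.Agent.Lib.Helper07
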