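import Mathlib
import Cfsg.Agent.Lib.Helper07.SchurRed

set_option autoImplicit false

namespace Cfsg.Agent.Lib.Helper07

universe u v w

section stem

/-- the kernel of every finite stem extension of `R` is a quotient of `A`. -/
def MultQuot (R : Type u) [Group R] (A : Type w) [CommGroup A] : Prop :=
  ∀ (Γ' : Type u) [Group Γ'] [Finite Γ'] (τ : Γ' →* R), Cfsg.IsStemExtension τ →
    ∃ π : A →* τ.ker, Function.Surjective π

lemma multQuot_of_hasSchurMultiplier {R : Type u} [Group R] {A : Type w} [CommGroup A]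
    (h : Cfsg.HasSchurMultiplier R A) : MultQuot R A := fun Γ' _ _ τ hτ => h.2 Γ' τ hτ

/-- transport along an isomorphism, across universes. -/
lemma multQuot_of_mulEquiv {R : Type u} [Group R] {Q : Type v} [Group Q] {A : Type w}
    [CommGroup A] (e : R ≃* Q) (h : MultQuot Q A) : MultQuot R A := by
  intro Γ' _ _ τ hτ
  obtain ⟨hsurj, hcen, hcomm⟩ := hτ
  let f : FinCopy.{v} (Nat.card Γ') ≃ Γ' := (FinCopy.equiv _).trans (Finite.equivFin Γ').symm
  let _ : Group (FinCopy.{v} (Nat.card Γ')) := f.group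
  let g : FinCopy.{v} (Nat.card Γ') ≃* Γ' := f.mulEquiv
  let τ'' : FinCopy.{v} (Nat.card Γ') →* Q := e.toMonoidHom.comp (τ.comp g.toMonoidHom)
  have hker : ∀ x, x ∈ τ''.ker ↔ g x ∈ τ.ker := by
    intro x
    rw [MonoidHom.mem_ker, MonoidHom.mem_ker]
    show e (τ (g x)) = 1 ↔ τ (g x) = 1
    exact e.map_eq_one_iff
  have hstem : Cfsg.IsStemExtension τ'' := by
    refine ⟨?_, ?_, ?_⟩
    · exact e.surjective.comp (hsurj.comp g.surjective)
    · intro x hx
      have h1 := hcen ((hker x).mp hx)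
      rw [Subgroup.mem_center_iff] at h1 ⊢
      intro y
      apply g.injective
      rw [map_mul, map_mul]
      exact h1 (g y)
    · intro x hx
      have h1 : g x ∈ commutator Γ' := hcomm ((hker x).mp hx)
      have h2 : g.symm (g x) ∈ (commutator Γ').map g.symm.toMonoidHom := ⟨g x, h1, rfl⟩
      rw [commutator_def, Subgroup.map_commutator] at h2
      rw [g.symm_apply_apply] at h2
      rw [commutator_def]
      exact Subgroup.commutator_mono le_top le_top h2
  have : Finite (FinCopy.{v} (Nat.card Γ')) := Finite.of_equiv _ f.symm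
  obtain ⟨π, hπ⟩ := h _ τ'' hstem
  let ι : τ''.ker →* τ.ker :=
    (g.toMonoidHom.comp τ''.ker.subtype).codRestrict τ.ker (fun x => (hker x.1).mp x.2)
  refine ⟨ι.comp π, ?_⟩
  intro y
  have h4 : g.symm y.1 ∈ τ''.ker := by
    rw [hker, g.apply_symm_apply]; exact y.2
  obtain ⟨a, ha⟩ := hπ ⟨g.symm y.1, h4⟩
  refine ⟨a, ?_⟩
  apply Subtype.ext
  show g ((π a : τ''.ker) : FinCopy.{v} (Nat.card Γ')) = y.1
  rw [ha]
  exact g.apply_symm_apply _

end stem

section reduction
variable {Γ : Type u} {G : Type u} [Group Γ] [Finite Γ] [Group G] [Finite G]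

/-- if the kernel of a finite stem extension of `G` is an `r`-group, it is a quotient of the
multiplier of a Sylow `r`-subgroup. -/
lemma exists_surjective_of_sylow_multQuot (σ : Γ →* G) (hσ : Cfsg.IsStemExtension σ) (r : ℕ)
    [Fact r.Prime] (R : Sylow r G) {A : Type w} [CommGroup A] (hR : MultQuot (R : Subgroup G) A)
    (hker : IsPGroup r σ.ker) : ∃ π : A →* σ.ker, Function.Surjective π := by
  classical
  obtain ⟨hsurj, hcen, hcomm⟩ := hσ
  have hrp : r.Prime := Fact.out
  obtain ⟨Rt, hRt⟩ := hker.exists_le_sylow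
  let R₁ : Sylow r G := Rt.mapSurjective hsurj
  have hR₁ : (R₁ : Subgroup G) = (Rt : Subgroup Γ).map σ := Sylow.coe_mapSurjective hsurj Rt
  let e : (R₁ : Subgroup G) ≃* (R : Subgroup G) := Sylow.equiv R₁ R
  let e' : ((Rt : Subgroup Γ).map σ) ≃* (R : Subgroup G) := (MulEquiv.subgroupCongr hR₁.symm).trans e
  let τ : (Rt : Subgroup Γ) →* (R : Subgroup G) :=
    e'.toMonoidHom.comp (σ.subgroupMap (Rt : Subgroup Γ))
  have hkerτ : ∀ x : (Rt : Subgroup Γ), x ∈ τ.ker ↔ (x : Γ) ∈ σ.ker := by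
    intro x
    rw [MonoidHom.mem_ker, MonoidHom.mem_ker]
    show e' (σ.subgroupMap (Rt : Subgroup Γ) x) = 1 ↔ _
    rw [e'.map_eq_one_iff]
    constructor
    · intro h
      have := congrArg Subtype.val h
      exact this
    · intro h
      exact Subtype.ext h
  have hstem : Cfsg.IsStemExtension τ := by
    refine ⟨?_, ?_, ?_⟩
    · exact e'.surjective.comp (σ.subgroupMap_surjective _)
    · intro x hx
      have h1 := hcen ((hkerτ x).mp hx)
      rw [Subgroup.mem_center_iff] at h1 ⊢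
      intro y
      apply Subtype.ext
      exact h1 y
    · intro x hx
      have h1 := (hkerτ x).mp hx
      have hxo : ∃ k, orderOf (x : Γ) = r ^ k := by
        obtain ⟨k, hk⟩ := (IsPGroup.iff_orderOf.mp Rt.2) x
        exact ⟨k, by rw [← hk, Subgroup.orderOf_coe]⟩
      obtain ⟨k, hk⟩ := hxo
      have hcop : ((Rt : Subgroup Γ).index).Coprime (orderOf (x : Γ)) := by
        rw [hk]
        apply Nat.Coprime.pow_right
        rw [Nat.coprime_comm, Nat.Prime.coprime_iff_not_dvd hrp]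
        exact Rt.not_dvd_index
      exact mem_commutator_of_center_of_coprime_index (Rt : Subgroup Γ) (x : Γ) (hcen h1)
        (hcomm h1) x.2 hcop
  obtain ⟨π, hπ⟩ := hR _ τ hstem
  let ι : τ.ker →* σ.ker :=
    ((Rt : Subgroup Γ).subtype.comp τ.ker.subtype).codRestrict σ.ker
      (fun x => (hkerτ x.1).mp x.2)
  refine ⟨ι.comp π, ?_⟩
  intro y
  have hyR : (y : Γ) ∈ (Rt : Subgroup Γ) := hRt y.2
  have h4 : (⟨y, hyR⟩ : (Rt : Subgroup Γ)) ∈ τ.ker := (hkerτ _).mpr y.2
  obtain ⟨a, ha⟩ := hπ ⟨⟨y, hyR⟩, h4⟩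
  refine ⟨a, ?_⟩
  apply Subtype.ext
  show (((π a : τ.ker) : (Rt : Subgroup Γ)) : Γ) = y.1
  rw [ha]

end reduction

end Cfsg.Agent.Lib.Helper07
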