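import Mathlib

set_option autoImplicit false

namespace Cfsg.Agent.Lib.Helper07

section biadd
variable {F A : Type*} [Field F] [Group A]

/-- a biadditive map invariant under scaling both arguments by nonzero squares vanishes, as soon
as there are nonzero squares `a²`, `b² = 1 + a²` with `a⁴ + a² + 1 ≠ 0`. -/
lemma biadditive_invariant_trivial (B : F → F → A)
    (hl : ∀ u u' v, B (u + u') v = B u v * B u' v)
    (hr : ∀ u v v', B u (v + v') = B u v * B u v')
    (hinv : ∀ t : F, t ≠ 0 → ∀ u v, B (t ^ 2 * u) (t ^ 2 * v) = B u v)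
    (a b : F) (ha : a ≠ 0) (hb : b ≠ 0) (hab : 1 + a ^ 2 = b ^ 2)
    (hc : (a ^ 2) ^ 2 + a ^ 2 + 1 ≠ 0) : ∀ u v, B u v = 1 := by
  have ha2 : a ^ 2 ≠ 0 := pow_ne_zero 2 ha
  have hb2 : b ^ 2 ≠ 0 := pow_ne_zero 2 hb
  -- moving a square across
  have hmove : ∀ t : F, t ≠ 0 → ∀ u v, B (t ^ 2 * u) v = B u ((t ^ 2)⁻¹ * v) := by
    intro t ht u v
    have := hinv t ht u ((t ^ 2)⁻¹ * v)
    rw [← this, mul_inv_cancel_left₀ (pow_ne_zero 2 ht)]
  have hr0 : ∀ u, B u 0 = 1 := by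
    intro u
    have := hr u 0 0
    rw [add_zero] at this
    exact (mul_eq_left.mp this.symm)
  have hrsub : ∀ u v v', B u (v - v') = B u v * (B u v')⁻¹ := by
    intro u v v'
    have := hr u (v - v') v'
    rw [sub_add_cancel] at this
    rw [this, mul_inv_cancel_right]
  intro u v
  set c : F := 1 + (a ^ 2)⁻¹ - (b ^ 2)⁻¹ with hcdef
  have hcne : c ≠ 0 := by
    intro h0
    apply hc
    have : c * (a ^ 2 * b ^ 2) = (a ^ 2) ^ 2 + a ^ 2 + 1 := by
      rw [hcdef]
      field_simp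
      rw [← hab]
      ring
    rw [← this, h0, zero_mul]
  have key : ∀ u v, B u (c * v) = 1 := by
    intro u v
    have h1 : B (b ^ 2 * u) v = B u ((b ^ 2)⁻¹ * v) := hmove b hb u v
    have h2 : B (b ^ 2 * u) v = B u v * B u ((a ^ 2)⁻¹ * v) := by
      rw [← hab, add_mul, one_mul, hl, hmove a ha]
    have h3 : c * v = (v + (a ^ 2)⁻¹ * v) - (b ^ 2)⁻¹ * v := by rw [hcdef]; ring
    rw [h3, hrsub, hr, ← h2, h1, mul_inv_cancel]
  have := key u (c⁻¹ * v)
  rwa [mul_inv_cancel_left₀ hcne] at this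

end biadd


open Polynomial

section field
variable {F : Type*} [Field F] [Fintype F]

lemma exists_eval_ne_zero_of_natDegree_lt_fintype_card (f : F[X]) (hf : f ≠ 0)
    (h : f.natDegree < Fintype.card F) : ∃ r, f.eval r ≠ 0 := by
  apply Polynomial.exists_eval_ne_zero_of_natDegree_lt_card f hf
  rw [Cardinal.mk_fintype]
  exact_mod_cast h

lemma exists_squares_char_two (h2 : ringChar F = 2) (hq : 4 < Fintype.card F) :
    ∃ a b : F, a ≠ 0 ∧ b ≠ 0 ∧ 1 + a ^ 2 = b ^ 2 ∧ (a ^ 2) ^ 2 + a ^ 2 + 1 ≠ 0 := by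
  let P : F[X] := X * (X + 1) * (X ^ 2 + X + 1)
  have hmonic : P.Monic := by
    apply Monic.mul
    · apply Monic.mul monic_X
      exact monic_X_add_C 1
    · monicity!
  have hdeg : P.natDegree ≤ 4 := by
    show (X * (X + 1) * (X ^ 2 + X + 1) : F[X]).natDegree ≤ 4
    compute_degree
  obtain ⟨l, hl⟩ := exists_eval_ne_zero_of_natDegree_lt_fintype_card P hmonic.ne_zero (by omega)
  simp only [P, eval_mul, eval_add, eval_X, eval_one, eval_pow] at hl
  have hl0 : l ≠ 0 := by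
    rintro rfl; simp at hl
  have hl1 : l + 1 ≠ 0 := by
    intro h; rw [h] at hl; simp at hl
  have hl2 : l ^ 2 + l + 1 ≠ 0 := by
    intro h; rw [h] at hl; simp at hl
  obtain ⟨a, ha⟩ := FiniteField.isSquare_of_char_two h2 l
  obtain ⟨b, hb⟩ := FiniteField.isSquare_of_char_two h2 (1 + l)
  refine ⟨a, b, ?_, ?_, ?_, ?_⟩
  · rintro rfl; simp at ha; exact hl0 ha
  · rintro rfl
    apply hl1
    rw [add_comm]; simpa using hb
  · rw [pow_two, pow_two, ← ha, ← hb]
  · rw [pow_two a, ← ha]; exact hl2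

lemma exists_squares_odd (h2 : (2 : F) ≠ 0) (hq : 13 < Fintype.card F) :
    ∃ a b : F, a ≠ 0 ∧ b ≠ 0 ∧ 1 + a ^ 2 = b ^ 2 ∧ (a ^ 2) ^ 2 + a ^ 2 + 1 ≠ 0 := by
  let P : F[X] := X * (X ^ 4 - 1) * (X ^ 8 + C 14 * X ^ 4 + 1)
  have hmonic : P.Monic := by
    apply Monic.mul
    · apply Monic.mul monic_X
      exact monic_X_pow_sub_C 1 (by norm_num)
    · monicity!
  have hdeg : P.natDegree ≤ 13 := by
    show (X * (X ^ 4 - 1) * (X ^ 8 + C 14 * X ^ 4 + 1) : F[X]).natDegree ≤ 13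
    compute_degree
  obtain ⟨s, hs⟩ := exists_eval_ne_zero_of_natDegree_lt_fintype_card P hmonic.ne_zero (by omega)
  simp only [P, eval_mul, eval_add, eval_sub, eval_X, eval_one, eval_pow, eval_C] at hs
  have hs0 : s ≠ 0 := by
    rintro rfl; simp at hs
  have hs1 : s ^ 4 - 1 ≠ 0 := by
    intro h; rw [h] at hs; simp at hs
  have hs2 : s ^ 8 + 14 * s ^ 4 + 1 ≠ 0 := by
    intro h; rw [h] at hs; simp at hs
  have h4 : (4 : F) ≠ 0 := by
    have : (4 : F) = 2 * 2 := by norm_num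
    rw [this]; exact mul_ne_zero h2 h2
  refine ⟨(s - s⁻¹) / 2, (s + s⁻¹) / 2, ?_, ?_, ?_, ?_⟩
  · intro h
    apply hs1
    have : s - s⁻¹ = 0 := by
      rcases div_eq_zero_iff.mp h with h | h
      · exact h
      · exact absurd h h2
    have h' : s ^ 2 = 1 := by
      field_simp at this
      linear_combination this
    calc s ^ 4 - 1 = (s ^ 2) ^ 2 - 1 := by ring
      _ = 0 := by rw [h']; ring
  · intro h
    apply hs1
    have : s + s⁻¹ = 0 := by
      rcases div_eq_zero_iff.mp h with h | h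
      · exact h
      · exact absurd h h2
    have h' : s ^ 2 = -1 := by
      field_simp at this
      linear_combination this
    calc s ^ 4 - 1 = (s ^ 2) ^ 2 - 1 := by ring
      _ = 0 := by rw [h']; ring
  · field_simp
    ring
  · intro h
    apply hs2
    have : ((((s - s⁻¹) / 2) ^ 2) ^ 2 + ((s - s⁻¹) / 2) ^ 2 + 1) * (2 ^ 4 * s ^ 4)
        = s ^ 8 + 14 * s ^ 4 + 1 := by
      field_simp
      ring
    rw [← this, h, zero_mul]

end field


end Cfsg.Agent.Lib.Helper07
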