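import Mathlib
import Cfsg.Agent.Lib.Helper07.SchurField

set_option autoImplicit false

namespace Cfsg.Agent.Lib.Helper07

open scoped commutatorElement

section central
variable {Γ : Type*} [Group Γ]

lemma commutatorElement_mul_central_left (a b z : Γ) (hz : z ∈ Subgroup.center Γ) :
    ⁅a * z, b⁆ = ⁅a, b⁆ := by
  rw [Subgroup.mem_center_iff] at hz
  rw [commutatorElement_def, commutatorElement_def, mul_inv_rev]
  calc a * z * b * (z⁻¹ * a⁻¹) * b⁻¹ = a * (z * b) * z⁻¹ * a⁻¹ * b⁻¹ := by group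
    _ = a * (b * z) * z⁻¹ * a⁻¹ * b⁻¹ := by rw [hz b]
    _ = a * b * a⁻¹ * b⁻¹ := by group

lemma commutatorElement_mul_central_right (a b z : Γ) (hz : z ∈ Subgroup.center Γ) :
    ⁅a, b * z⁆ = ⁅a, b⁆ := by
  rw [Subgroup.mem_center_iff] at hz
  rw [commutatorElement_def, commutatorElement_def, mul_inv_rev]
  calc a * (b * z) * a⁻¹ * (z⁻¹ * b⁻¹) = a * b * (z * a⁻¹) * z⁻¹ * b⁻¹ := by group
    _ = a * b * (a⁻¹ * z) * z⁻¹ * b⁻¹ := by rw [hz a⁻¹]
    _ = a * b * a⁻¹ * b⁻¹ := by group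

lemma commutatorElement_mul_left_of_central (a a' b : Γ) (h : ⁅a', b⁆ ∈ Subgroup.center Γ) :
    ⁅a * a', b⁆ = ⁅a, b⁆ * ⁅a', b⁆ := by
  rw [Subgroup.mem_center_iff] at h
  calc ⁅a * a', b⁆ = a * ⁅a', b⁆ * b * a⁻¹ * b⁻¹ := by
        simp only [commutatorElement_def]; group
    _ = ⁅a', b⁆ * a * b * a⁻¹ * b⁻¹ := by rw [h a]
    _ = ⁅a', b⁆ * (a * b * a⁻¹ * b⁻¹) := by group
    _ = (a * b * a⁻¹ * b⁻¹) * ⁅a', b⁆ := (h _).symm
    _ = ⁅a, b⁆ * ⁅a', b⁆ := by rw [commutatorElement_def a b]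

lemma commutatorElement_mul_right_of_central (a b b' : Γ) (h : ⁅a, b'⁆ ∈ Subgroup.center Γ) :
    ⁅a, b * b'⁆ = ⁅a, b⁆ * ⁅a, b'⁆ := by
  rw [Subgroup.mem_center_iff] at h
  calc ⁅a, b * b'⁆ = a * b * a⁻¹ * ⁅a, b'⁆ * b⁻¹ := by
        simp only [commutatorElement_def]; group
    _ = a * b * a⁻¹ * (⁅a, b'⁆ * b⁻¹) := by group
    _ = a * b * a⁻¹ * (b⁻¹ * ⁅a, b'⁆) := by rw [h b⁻¹]
    _ = ⁅a, b⁆ * ⁅a, b'⁆ := by rw [commutatorElement_def a b]; group

end central

section lift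
variable {Γ G F : Type*} [Group Γ] [Group G] [Field F]

/-- the key commutativity statement: lifts of a root subgroup commute. -/
lemma lifts_commute (σ : Γ →* G) (hsurj : Function.Surjective σ)
    (hcen : σ.ker ≤ Subgroup.center Γ) (x : F → G)
    (hadd : ∀ u u', x (u + u') = x u * x u')
    (hconj : ∀ t : F, t ≠ 0 → ∃ g : G, ∀ u, g * x u = x (t ^ 2 * u) * g)
    (a₀ b₀ : F) (ha : a₀ ≠ 0) (hb : b₀ ≠ 0) (hab : 1 + a₀ ^ 2 = b₀ ^ 2)
    (hc : (a₀ ^ 2) ^ 2 + a₀ ^ 2 + 1 ≠ 0)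
    (a b : Γ) (u v : F) (hau : σ a = x u) (hbv : σ b = x v) : a * b = b * a := by
  classical
  let s : G → Γ := Function.surjInv hsurj
  have hs : ∀ g, σ (s g) = g := Function.surjInv_eq hsurj
  -- commutators of lifts depend only on the images
  have hlift : ∀ a a' b b' : Γ, σ a = σ a' → σ b = σ b' → ⁅a, b⁆ = ⁅a', b'⁆ := by
    intro a a' b b' h1 h2
    have hz1 : a⁻¹ * a' ∈ Subgroup.center Γ := hcen (by
      rw [MonoidHom.mem_ker, map_mul, map_inv, h1, inv_mul_cancel])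
    have hz2 : b⁻¹ * b' ∈ Subgroup.center Γ := hcen (by
      rw [MonoidHom.mem_ker, map_mul, map_inv, h2, inv_mul_cancel])
    have e1 : a' = a * (a⁻¹ * a') := by group
    have e2 : b' = b * (b⁻¹ * b') := by group
    rw [e1, e2, commutatorElement_mul_central_left _ _ _ hz1,
      commutatorElement_mul_central_right _ _ _ hz2]
  have hxcomm : ∀ u v, x u * x v = x v * x u := by
    intro u v
    rw [← hadd, ← hadd, add_comm]
  have hcentral : ∀ a b : Γ, ∀ u v, σ a = x u → σ b = x v → ⁅a, b⁆ ∈ Subgroup.center Γ := by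
    intro a b u v h1 h2
    apply hcen
    rw [MonoidHom.mem_ker, map_commutatorElement, h1, h2, commutatorElement_eq_one_iff_mul_comm]
    exact hxcomm u v
  let B : F → F → Γ := fun u v => ⁅s (x u), s (x v)⁆
  have hB : ∀ a b : Γ, ∀ u v, σ a = x u → σ b = x v → ⁅a, b⁆ = B u v := by
    intro a b u v h1 h2
    apply hlift
    · rw [h1, hs]
    · rw [h2, hs]
  have hl : ∀ u u' v, B (u + u') v = B u v * B u' v := by
    intro u u' v
    have h1 : σ (s (x u) * s (x u')) = x (u + u') := by rw [map_mul, hs, hs, hadd]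
    rw [← hB _ _ _ _ h1 (hs (x v))]
    exact commutatorElement_mul_left_of_central _ _ _ (hcentral _ _ u' v (hs _) (hs _))
  have hr : ∀ u v v', B u (v + v') = B u v * B u v' := by
    intro u v v'
    have h1 : σ (s (x v) * s (x v')) = x (v + v') := by rw [map_mul, hs, hs, hadd]
    rw [← hB _ _ _ _ (hs (x u)) h1]
    exact commutatorElement_mul_right_of_central _ _ _ (hcentral _ _ u v' (hs _) (hs _))
  have hinv : ∀ t : F, t ≠ 0 → ∀ u v, B (t ^ 2 * u) (t ^ 2 * v) = B u v := by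
    intro t ht u v
    obtain ⟨g, hg⟩ := hconj t ht
    have h1 : ∀ w, σ (s g * s (x w) * (s g)⁻¹) = x (t ^ 2 * w) := by
      intro w
      rw [map_mul, map_mul, map_inv, hs, hs, hg, mul_inv_cancel_right]
    rw [← hB _ _ _ _ (h1 u) (h1 v)]
    have h2 : ⁅s g * s (x u) * (s g)⁻¹, s g * s (x v) * (s g)⁻¹⁆
        = s g * ⁅s (x u), s (x v)⁆ * (s g)⁻¹ := by
      simp only [commutatorElement_def]; group
    rw [h2]
    have h3 := hcentral (s (x u)) (s (x v)) u v (hs _) (hs _)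
    rw [Subgroup.mem_center_iff] at h3
    rw [h3 (s g), mul_inv_cancel_right]
  have htriv := biadditive_invariant_trivial B hl hr hinv a₀ b₀ ha hb hab hc
  have := hB a b u v hau hbv
  rw [htriv u v, commutatorElement_eq_one_iff_mul_comm] at this
  exact this

end lift

end Cfsg.Agent.Lib.Helper07
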