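import Mathlib
import Cfsg.Agent.Lib.Helper07.SchurRed
import Cfsg.Agent.Lib.Helper07.SchurLift
import Cfsg.Agent.Lib.Helper07.SL2QuatMain
import Cfsg.Agent.S3963
import Cfsg.Agent.S3979

set_option autoImplicit false

namespace Cfsg.Agent.Lib.Helper07

open Matrix

section sl2
variable {F : Type*} [Field F]

lemma upSL_add (u u' : F) : upSL (u + u') = upSL u * upSL u' := by
  apply Subtype.ext
  rw [Matrix.SpecialLinearGroup.coe_mul, upSL_val, upSL_val, upSL_val, upT_add]

lemma splitTorus_conj_upSL (t : F) (ht : t ≠ 0) (u : F) :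
    splitTorusFun (Units.mk0 t ht) * upSL u = upSL (t ^ 2 * u) * splitTorusFun (Units.mk0 t ht) := by
  apply Subtype.ext
  rw [Matrix.SpecialLinearGroup.coe_mul, Matrix.SpecialLinearGroup.coe_mul, splitTorusFun_val,
    upSL_val, upSL_val]
  ext i j; fin_cases i <;> fin_cases j <;>
    simp [upT, Matrix.mul_apply, Fin.sum_univ_two]
  field_simp

/-- numerics: a prime power that is not prime, `≠ 4, 9`. -/
lemma prime_pow_large (p n : ℕ) (hp : p.Prime) (hn : 2 ≤ n) (h4 : p ^ n ≠ 4) (h9 : p ^ n ≠ 9) :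
    (p = 2 ∧ 4 < p ^ n) ∨ (p ≠ 2 ∧ 13 < p ^ n) := by
  by_cases h2 : p = 2
  · left
    refine ⟨h2, ?_⟩
    subst h2
    have hn3 : 3 ≤ n := by
      rcases Nat.lt_or_ge n 3 with h | h
      · exfalso
        have : n = 2 := by omega
        subst this
        exact h4 (by norm_num)
      · exact h
    calc 4 < 2 ^ 3 := by norm_num
      _ ≤ 2 ^ n := Nat.pow_le_pow_right (by norm_num) hn3
  · right
    refine ⟨h2, ?_⟩
    have hp3 : 3 ≤ p := by
      have := hp.two_le
      omega
    by_cases h3 : p = 3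
    · subst h3
      have hn3 : 3 ≤ n := by
        rcases Nat.lt_or_ge n 3 with h | h
        · exfalso
          have : n = 2 := by omega
          subst this
          exact h9 (by norm_num)
        · exact h
      calc 13 < 3 ^ 3 := by norm_num
        _ ≤ 3 ^ n := Nat.pow_le_pow_right (by norm_num) hn3
    · have hp5 : 5 ≤ p := by
        rcases Nat.lt_or_ge p 5 with h | h
        · exfalso
          have : p = 4 := by omega
          subst this
          exact absurd hp (by norm_num)
        · exact h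
      calc 13 < 5 ^ 2 := by norm_num
        _ ≤ p ^ 2 := Nat.pow_le_pow_left hp5 2
        _ ≤ p ^ n := Nat.pow_le_pow_right (by omega) hn

end sl2

section main
universe u
variable {F : Type u} [Field F] [Fintype F]

local notation "G" => Matrix.SpecialLinearGroup (Fin 2) F

/-- lifts of upper unitriangular matrices commute in a finite central extension of `SL₂(q)`,
`q ≠ 4, 9`. -/
lemma comap_USL_commutative (h4 : Fintype.card F ≠ 4) (h9 : Fintype.card F ≠ 9)
    {Γ : Type*} [Group Γ] (σ : Γ →* G) (hsurj : Function.Surjective σ)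
    (hcen : σ.ker ≤ Subgroup.center Γ) (a b : Γ) (ha : σ a ∈ (USL : Subgroup G))
    (hb : σ b ∈ (USL : Subgroup G)) : a * b = b * a := by
  classical
  set p := ringChar F with hp
  haveI : Fact p.Prime := ⟨CharP.char_is_prime F _⟩
  obtain ⟨n, hpp, hn⟩ := FiniteField.card F p
  by_cases hn1 : (n : ℕ) = 1
  · -- `USL` is cyclic of prime order
    have hcard : Nat.card (USL : Subgroup G) = p := by
      rw [card_USL, hn, hn1, pow_one]
    haveI : IsCyclic (USL : Subgroup G) := isCyclic_of_prime_card hcard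
    let f : (USL : Subgroup G).comap σ →* (USL : Subgroup G) := σ.subgroupComap USL
    have hker : f.ker ≤ Subgroup.center ((USL : Subgroup G).comap σ) := by
      intro x hx
      have h1 : σ (x : Γ) = 1 := by
        have := congrArg Subtype.val (MonoidHom.mem_ker.mp hx)
        exact this
      have h2 := hcen (MonoidHom.mem_ker.mpr h1)
      rw [Subgroup.mem_center_iff] at h2 ⊢
      intro y
      apply Subtype.ext
      exact h2 y
    have hcm := MonoidHom.isMulCommutative_of_isCyclic_of_ker_le_center f hker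
    have := hcm.is_comm.comm (⟨a, ha⟩ : (USL : Subgroup G).comap σ) ⟨b, hb⟩
    exact congrArg Subtype.val this
  · have hn2 : 2 ≤ (n : ℕ) := by
      have := n.pos
      omega
    rw [hn] at h4 h9
    obtain ⟨a₀, b₀, ha0, hb0, hab, hc⟩ :
        ∃ a b : F, a ≠ 0 ∧ b ≠ 0 ∧ 1 + a ^ 2 = b ^ 2 ∧ (a ^ 2) ^ 2 + a ^ 2 + 1 ≠ 0 := by
      rcases prime_pow_large p n hpp hn2 h4 h9 with ⟨h2, hq⟩ | ⟨h2, hq⟩
      · exact exists_squares_char_two (by rw [← hp]; exact h2) (by rw [hn]; exact hq)
      · exact exists_squares_odd (Ring.two_ne_zero (by rw [← hp]; exact h2)) (by rw [hn]; exact hq)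
    obtain ⟨u, hu⟩ := mem_USL.mp ha
    obtain ⟨v, hv⟩ := mem_USL.mp hb
    exact lifts_commute σ hsurj hcen (upSL : F → G) upSL_add
      (fun t ht => ⟨splitTorusFun (Units.mk0 t ht), splitTorus_conj_upSL t ht⟩)
      a₀ b₀ ha0 hb0 hab hc a b u v hu.symm hv.symm

/-- the kernel of a finite stem extension of `SL₂(q)`, `q ≠ 4, 9`, is trivial. -/
theorem sl_two_stem_ker_eq_bot (h4 : Fintype.card F ≠ 4) (h9 : Fintype.card F ≠ 9)
    {Γ : Type u} [Group Γ] [Finite Γ] (σ : Γ →* G) (hσ : Cfsg.IsStemExtension σ) :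
    σ.ker = ⊥ := by
  classical
  set p := ringChar F with hp
  haveI : Fact p.Prime := ⟨CharP.char_is_prime F _⟩
  by_contra hne
  obtain ⟨z, hz, hz1⟩ : ∃ z ∈ σ.ker, z ≠ 1 := by
    by_contra hcon
    push Not at hcon
    apply hne
    rw [eq_bot_iff]
    intro z hz
    rw [Subgroup.mem_bot]
    exact hcon z hz
  have hord : orderOf z ≠ 1 := by
    intro h
    exact hz1 (orderOf_eq_one_iff.mp h)
  have hord0 : orderOf z ≠ 0 := (orderOf_pos z).ne'
  set r := (orderOf z).minFac with hr
  have hrp : r.Prime := Nat.minFac_prime hord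
  haveI : Fact r.Prime := ⟨hrp⟩
  have hrd : r ∣ orderOf z := Nat.minFac_dvd _
  set z' := z ^ (orderOf z / r) with hz'
  have hz'o : orderOf z' = r := orderOf_pow_orderOf_div hord0 hrd
  have hz'k : z' ∈ σ.ker := Subgroup.pow_mem _ hz _
  by_cases hrp' : r = p
  · -- the characteristic
    have hU : ¬ r ∣ (USL : Subgroup G).index := by
      rw [hrp']; exact not_dvd_index_USL p
    exact no_order_p_of_comap_commutative σ hσ r USL hU
      (fun a b ha hb => comap_USL_commutative h4 h9 σ hσ.1 hσ.2.1 a b ha hb) z' hz'k hz'o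
  · by_cases hr2 : r = 2
    · -- quaternion Sylow `2`-subgroups
      have hp2 : p ≠ 2 := fun h => hrp' (hr2.trans h.symm)
      have hodd : Odd (Fintype.card F) := by
        obtain ⟨n, hpp, hn⟩ := FiniteField.card F p
        rw [hn]
        exact Odd.pow (hpp.odd_of_ne_two hp2)
      have hr2' : (orderOf z).minFac = 2 := hr2
      haveI : Fact (Nat.Prime 2) := ⟨Nat.prime_two⟩
      let R : Sylow 2 G := default
      obtain ⟨k, hk1, ⟨e⟩⟩ := sylow_two_SL_two_quaternion hodd R
      haveI : NeZero (2 ^ k) := ⟨by positivity⟩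
      have hQ : TrivMult (QuaternionGroup (2 ^ k)) :=
        trivMult_of_hasCyclicSchurMultiplier (Cfsg.Agent.S3963.result (2 ^ k))
      have hR : TrivMult (R : Subgroup G) := trivMult_of_mulEquiv e hQ
      have hz'o2 : orderOf z' = 2 := by rw [hz'o]; exact hr2
      exact no_order_r_of_sylow_trivMult σ hσ 2 R hR z' hz'k hz'o2
    · -- cyclic Sylow subgroups
      let R : Sylow r G := default
      haveI : IsCyclic (R : Subgroup G) := sylow_SL_two_isCyclic p r hr2 hrp' R
      have hR : TrivMult (R : Subgroup G) :=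
        trivMult_of_hasCyclicSchurMultiplier Cfsg.Agent.S3979.result
      exact no_order_r_of_sylow_trivMult σ hσ r R hR z' hz'k hz'o

/-- `SL₂(q)`, `q ≠ 4, 9`, has trivial Schur multiplier. -/
theorem sl_two_trivial_multiplier (h4 : Fintype.card F ≠ 4) (h9 : Fintype.card F ≠ 9) :
    Cfsg.HasCyclicSchurMultiplier G 1 := by
  refine ⟨⟨G, inferInstance, inferInstance, MonoidHom.id G, ?_, ?_⟩, ?_⟩
  · refine ⟨Function.surjective_id, ?_, ?_⟩
    · rw [MonoidHom.ker_id]; exact bot_le
    · rw [MonoidHom.ker_id]; exact bot_le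
  · rw [MonoidHom.ker_id]
    exact ⟨MulEquiv.ofUnique⟩
  · intro Γ _ _ σ hσ
    have hker := sl_two_stem_ker_eq_bot h4 h9 σ hσ
    refine ⟨1, ?_⟩
    intro y
    refine ⟨1, ?_⟩
    have : (y : Γ) ∈ (⊥ : Subgroup Γ) := hker ▸ y.2
    rw [Subgroup.mem_bot] at this
    ext
    simp [this]

end main

end Cfsg.Agent.Lib.Helper07
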