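import Mathlib
import Cfsg.Agent.Lib.Helper07.SchurRed2
import Cfsg.Agent.Lib.Helper07.SchurSL2
import Cfsg.Agent.Lib.Helper07.PSL27
import Cfsg.Agent.Lib.Helper07.PSLSimple
import Cfsg.Agent.S1004
import Cfsg.Agent.S3965

set_option autoImplicit false

namespace Cfsg.Agent.Lib.Helper07

open Matrix
open scoped commutatorElement

section perfect
variable {F : Type*} [Field F]

lemma loSL_add (u u' : F) : loSL (u + u') = loSL u * loSL u' := by
  apply Subtype.ext
  rw [Matrix.SpecialLinearGroup.coe_mul, loSL_val, loSL_val, loSL_val]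
  ext i j; fin_cases i <;> fin_cases j <;> simp [loT, Matrix.mul_apply, Fin.sum_univ_two, add_comm]

lemma splitTorus_conj_loSL (t : F) (ht : t ≠ 0) (u : F) :
    splitTorusFun (Units.mk0 t ht) * loSL u
      = loSL ((t ^ 2)⁻¹ * u) * splitTorusFun (Units.mk0 t ht) := by
  apply Subtype.ext
  rw [Matrix.SpecialLinearGroup.coe_mul, Matrix.SpecialLinearGroup.coe_mul, splitTorusFun_val,
    loSL_val, loSL_val]
  ext i j; fin_cases i <;> fin_cases j <;>
    simp [loT, Matrix.mul_apply, Fin.sum_univ_two]
  field_simp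

lemma upSL_zero : upSL (0 : F) = 1 := Subtype.ext upT_zero

lemma loSL_zero : loSL (0 : F) = 1 := by
  apply Subtype.ext
  rw [loSL_val, Matrix.SpecialLinearGroup.coe_one]
  ext i j; fin_cases i <;> fin_cases j <;> simp [loT]

lemma upSL_inv (u : F) : (upSL u)⁻¹ = upSL (-u) := by
  rw [inv_eq_iff_mul_eq_one, ← upSL_add, add_neg_cancel, upSL_zero]

lemma loSL_inv (u : F) : (loSL u)⁻¹ = loSL (-u) := by
  rw [inv_eq_iff_mul_eq_one, ← loSL_add, add_neg_cancel, loSL_zero]

/-- `SL₂(F)` is perfect when `F` has an element `t ≠ 0` with `t² ≠ 1`. -/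
theorem commutator_sl_two_eq_top (t : F) (ht : t ≠ 0) (ht2 : t ^ 2 ≠ 1) :
    commutator (SpecialLinearGroup (Fin 2) F) = ⊤ := by
  apply eq_top_of_transvection_mem
  intro i j hij c
  have h1 : t ^ 2 - 1 ≠ 0 := sub_ne_zero.mpr ht2
  have h2 : (t ^ 2)⁻¹ - 1 ≠ 0 := by
    intro h
    apply ht2
    have : (t ^ 2)⁻¹ = 1 := by linear_combination h
    rw [inv_eq_one] at this
    exact this
  fin_cases i <;> fin_cases j
  · exact absurd rfl hij
  · have e : SpecialLinearGroup.transvection hij c = upSL c := transvection_zero_one c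
    rw [e]
    have hc : upSL c = ⁅splitTorusFun (Units.mk0 t ht), upSL (c / (t ^ 2 - 1))⁆ := by
      rw [commutatorElement_def, splitTorus_conj_upSL, mul_inv_cancel_right, upSL_inv,
        ← upSL_add]
      congr 1
      field_simp
      ring
    rw [hc]
    exact Subgroup.commutator_mem_commutator (Subgroup.mem_top _) (Subgroup.mem_top _)
  · have e : SpecialLinearGroup.transvection hij c = loSL c := transvection_one_zero c
    rw [e]
    have hc : loSL c = ⁅splitTorusFun (Units.mk0 t ht), loSL (c / ((t ^ 2)⁻¹ - 1))⁆ := by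
      rw [commutatorElement_def, splitTorus_conj_loSL, mul_inv_cancel_right, loSL_inv,
        ← loSL_add]
      congr 1
      field_simp
      ring
    rw [hc]
    exact Subgroup.commutator_mem_commutator (Subgroup.mem_top _) (Subgroup.mem_top _)
  · exact absurd rfl hij

end perfect

section psl32
universe u
variable {F : Type u} [Field F] [Fintype F]

local notation "G" => Matrix.ProjectiveSpecialLinearGroup (Fin 3) F

lemma card_psl_three_two (hF : Fintype.card F = 2) : Nat.card G = 168 := by
  obtain ⟨e⟩ := psl_two_seven_equiv_psl_three_two (F := ZMod 7) (K := F)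
    (by rw [ZMod.card]) hF
  rw [← Nat.card_congr e.toEquiv]
  have h := card_psl_two (F := ZMod 7)
  rw [ZMod.card] at h
  generalize Nat.card (ProjectiveSpecialLinearGroup (Fin 2) (ZMod 7)) = N at h ⊢
  norm_num at h
  omega

/-- a stem extension of `PSL₃(2)` with kernel of order `2`. -/
lemma exists_stem_psl_three_two (hF : Fintype.card F = 2) :
    ∃ (Γ : Type u) (_ : Group Γ) (_ : Finite Γ) (σ : Γ →* G), Cfsg.IsStemExtension σ ∧
      Nonempty (σ.ker ≃* Multiplicative (ZMod 2)) := by
  classical
  obtain ⟨e⟩ := psl_two_seven_equiv_psl_three_two (F := ZMod 7) (K := F)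
    (by rw [ZMod.card]) hF
  let S := SpecialLinearGroup (Fin 2) (ZMod 7)
  let q : S →* ProjectiveSpecialLinearGroup (Fin 2) (ZMod 7) :=
    QuotientGroup.mk' (Subgroup.center S)
  let d : ULift.{u} S ≃* S := MulEquiv.ulift
  let σ : ULift.{u} S →* G := e.toMonoidHom.comp (q.comp d.toMonoidHom)
  have hker : ∀ x : ULift.{u} S, x ∈ σ.ker ↔ d x ∈ Subgroup.center S := by
    intro x
    rw [MonoidHom.mem_ker]
    show e (q (d x)) = 1 ↔ _
    rw [e.map_eq_one_iff]
    show (QuotientGroup.mk (d x) : S ⧸ Subgroup.center S) = 1 ↔ _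
    rw [QuotientGroup.eq_one_iff]
  have hperf : commutator S = ⊤ :=
    commutator_sl_two_eq_top (2 : ZMod 7) (by decide) (by decide)
  refine ⟨ULift.{u} S, inferInstance, inferInstance, σ, ⟨?_, ?_, ?_⟩, ?_⟩
  · exact e.surjective.comp ((QuotientGroup.mk'_surjective _).comp d.surjective)
  · intro x hx
    have h1 := (hker x).mp hx
    rw [Subgroup.mem_center_iff] at h1 ⊢
    intro y
    apply d.injective
    rw [map_mul, map_mul]
    exact h1 (d y)
  · intro x _
    have h1 : d x ∈ commutator S := by rw [hperf]; trivial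
    have h2 : d.symm (d x) ∈ (commutator S).map d.symm.toMonoidHom := ⟨d x, h1, rfl⟩
    rw [commutator_def, Subgroup.map_commutator] at h2
    rw [d.symm_apply_apply] at h2
    rw [commutator_def]
    exact Subgroup.commutator_mono le_top le_top h2
  · have hcard : Nat.card σ.ker = 2 := by
      have e2 : σ.ker ≃ Subgroup.center S :=
        { toFun := fun x => ⟨d x.1, (hker x.1).mp x.2⟩
          invFun := fun y => ⟨d.symm y.1, by rw [hker, d.apply_symm_apply]; exact y.2⟩
          left_inv := fun x => by simp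
          right_inv := fun y => by simp }
      rw [Nat.card_congr e2, card_center_sl (F := ZMod 7) 2 (by norm_num), ZMod.card]
      norm_num
    haveI : Fact (Nat.Prime 2) := ⟨Nat.prime_two⟩
    exact ⟨mulEquivOfPrimeCardEq (p := 2) hcard (by
      rw [Nat.card_eq_fintype_card, Fintype.card_multiplicative, ZMod.card])⟩

/-- the Schur multiplier of `PSL₃(2)` is cyclic of order `2`. -/
theorem psl_three_two_multiplier (hF : Fintype.card F = 2) :
    Cfsg.HasCyclicSchurMultiplier G 2 := by
  classical
  refine ⟨exists_stem_psl_three_two hF, ?_⟩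
  intro Γ _ _ σ hσ
  have hcardG : Nat.card G = 168 := card_psl_three_two hF
  haveI : IsSimpleGroup G := psl_isSimpleGroup (ι := Fin 3) (F := F) (by simp)
  haveI : Fact (Nat.Prime 2) := ⟨Nat.prime_two⟩
  -- the kernel is a `2`-group
  have hker2 : IsPGroup 2 σ.ker := by
    rw [IsPGroup.iff_orderOf]
    intro z
    by_contra hcon
    have hord0 : orderOf z ≠ 0 := (orderOf_pos z).ne'
    -- an odd prime divisor of the order
    obtain ⟨r, hrp, hrd, hr2⟩ : ∃ r : ℕ, r.Prime ∧ r ∣ orderOf z ∧ r ≠ 2 := by
      by_contra hno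
      push Not at hno
      apply hcon
      exact ⟨_, Nat.eq_prime_pow_of_unique_prime_dvd hord0 (fun {d} hd hdvd => hno d hd hdvd)⟩
    haveI : Fact r.Prime := ⟨hrp⟩
    set z' := (z : Γ) ^ (orderOf z / r) with hz'
    have hrd' : r ∣ orderOf (z : Γ) := by rw [Subgroup.orderOf_coe]; exact hrd
    have hz'o : orderOf z' = r := by
      rw [hz', ← Subgroup.orderOf_coe z]
      exact orderOf_pow_orderOf_div (by rw [Subgroup.orderOf_coe]; exact hord0) hrd'
    have hz'k : z' ∈ σ.ker := Subgroup.pow_mem _ z.2 _
    let R : Sylow r G := default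
    have hRc : IsCyclic (R : Subgroup G) := by
      have hcard : Nat.card R = r ^ (Nat.card G).factorization r := Sylow.card_eq_multiplicity R
      rw [hcardG] at hcard
      have hk : (168 : ℕ).factorization r ≤ 1 := by
        by_contra hk
        push Not at hk
        have h2 : r ^ 2 ∣ 168 := by
          apply (Nat.Prime.pow_dvd_iff_le_factorization hrp (by norm_num)).mpr
          omega
        have hle : r ^ 2 ≤ 168 := Nat.le_of_dvd (by norm_num) h2
        have hr13 : r < 13 := by nlinarith
        have hr2' := hrp.two_le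
        interval_cases r <;> simp_all
      rcases Nat.le_one_iff_eq_zero_or_eq_one.mp hk with h0 | h1
      · rw [h0, pow_zero] at hcard
        haveI : Subsingleton (R : Subgroup G) := (Nat.card_eq_one_iff_unique.mp hcard).1
        exact isCyclic_of_subsingleton
      · rw [h1, pow_one] at hcard
        exact isCyclic_of_prime_card hcard
    have hR : TrivMult (R : Subgroup G) :=
      trivMult_of_hasCyclicSchurMultiplier Cfsg.Agent.S3979.result
    exact no_order_r_of_sylow_trivMult σ hσ r R hR z' hz'k hz'o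
  -- the Sylow `2`-subgroup is dihedral of order `8`
  let R : Sylow 2 G := default
  obtain ⟨⟨e⟩, -, -⟩ := Cfsg.Agent.S1004.result hcardG R
  have hD : MultQuot (DihedralGroup 4) (Multiplicative (ZMod 2)) :=
    multQuot_of_hasSchurMultiplier (Cfsg.Agent.S3965.result 4 (by decide))
  have hR : MultQuot (R : Subgroup G) (Multiplicative (ZMod 2)) := multQuot_of_mulEquiv e hD
  exact exists_surjective_of_sylow_multQuot σ hσ 2 R hR hker2

end psl32

end Cfsg.Agent.Lib.Helper07
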