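import Mathlib

set_option autoImplicit false

namespace Cfsg.Agent.Lib.Helper07

/-- data of the rank one Steinberg presentation inside a group. -/
structure StData (K : Type*) [Field K] (Γ : Type*) [Group Γ] where
  /-- upper root elements -/
  x : K → Γ
  /-- lower root elements -/
  y : K → Γ
  x_add : ∀ t u, x t * x u = x (t + u)
  y_add : ∀ t u, y t * y u = y (t + u)
  rel1 : ∀ t u, t ≠ 0 →
    (x t * y (-t⁻¹) * x t) * x u * (x t * y (-t⁻¹) * x t)⁻¹ = y (-(t⁻¹ ^ 2 * u))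
  rel2 : ∀ t u, t ≠ 0 →
    (y t * x (-t⁻¹) * y t) * y u * (y t * x (-t⁻¹) * y t)⁻¹ = x (-(t⁻¹ ^ 2 * u))

namespace StData
variable {K : Type*} [Field K] {Γ : Type*} [Group Γ] (D : StData K Γ)

lemma x_zero : D.x 0 = 1 := by
  have := D.x_add 0 0
  rw [add_zero] at this
  exact mul_eq_left.mp this

lemma y_zero : D.y 0 = 1 := by
  have := D.y_add 0 0
  rw [add_zero] at this
  exact mul_eq_left.mp this

lemma x_inv (t : K) : (D.x t)⁻¹ = D.x (-t) := by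
  rw [inv_eq_iff_mul_eq_one, D.x_add, add_neg_cancel, D.x_zero]

lemma y_inv (t : K) : (D.y t)⁻¹ = D.y (-t) := by
  rw [inv_eq_iff_mul_eq_one, D.y_add, add_neg_cancel, D.y_zero]

/-- the Weyl element `w(t)`. -/
def w (t : K) : Γ := D.x t * D.y (-t⁻¹) * D.x t

lemma w_inv (t : K) : (D.w t)⁻¹ = D.w (-t) := by
  unfold w
  rw [mul_inv_rev, mul_inv_rev, D.x_inv, D.y_inv, inv_neg, neg_neg, mul_assoc]

lemma conj_x {t : K} (ht : t ≠ 0) (u : K) :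
    D.w t * D.x u * (D.w t)⁻¹ = D.y (-(t⁻¹ ^ 2 * u)) := D.rel1 t u ht

lemma conj_y {t : K} (ht : t ≠ 0) (u : K) :
    D.w t * D.y u * (D.w t)⁻¹ = D.x (-(t ^ 2 * u)) := by
  have h := D.conj_x (neg_ne_zero.mpr ht) (-(t ^ 2 * u))
  rw [← D.w_inv, inv_inv] at h
  have e : -((-t)⁻¹ ^ 2 * -(t ^ 2 * u)) = u := by
    field_simp
  rw [e] at h
  rw [← h]
  group

lemma w_eq' {t : K} (ht : t ≠ 0) : D.w t = D.y (-t⁻¹) * D.x t * D.y (-t⁻¹) := by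
  have h1 := D.conj_x ht t
  have h2 := D.conj_y ht (-t⁻¹)
  have e1 : -(t⁻¹ ^ 2 * t) = -t⁻¹ := by field_simp
  have e2 : -(t ^ 2 * -t⁻¹) = t := by field_simp
  rw [e1] at h1
  rw [e2] at h2
  calc D.w t = D.w t * D.w t * (D.w t)⁻¹ := by group
    _ = (D.w t * D.x t * (D.w t)⁻¹) * (D.w t * D.y (-t⁻¹) * (D.w t)⁻¹)
          * (D.w t * D.x t * (D.w t)⁻¹) := by
        have hw : D.w t * D.w t * (D.w t)⁻¹
            = D.w t * (D.x t * D.y (-t⁻¹) * D.x t) * (D.w t)⁻¹ := rfl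
        rw [hw]
        group
    _ = D.y (-t⁻¹) * D.x t * D.y (-t⁻¹) := by rw [h1, h2]

lemma conj_w {t u : K} (ht : t ≠ 0) (hu : u ≠ 0) :
    D.w t * D.w u * (D.w t)⁻¹ = D.w (t ^ 2 * u⁻¹) := by
  have h1 := D.conj_x ht u
  have h2 := D.conj_y ht (-u⁻¹)
  have hs : t ^ 2 * u⁻¹ ≠ 0 := mul_ne_zero (pow_ne_zero 2 ht) (inv_ne_zero hu)
  have e1 : -(t⁻¹ ^ 2 * u) = -(t ^ 2 * u⁻¹)⁻¹ := by field_simp
  have e2 : -(t ^ 2 * -u⁻¹) = t ^ 2 * u⁻¹ := by ring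
  rw [e1] at h1
  rw [e2] at h2
  rw [D.w_eq' hs]
  calc D.w t * D.w u * (D.w t)⁻¹
      = (D.w t * D.x u * (D.w t)⁻¹) * (D.w t * D.y (-u⁻¹) * (D.w t)⁻¹)
          * (D.w t * D.x u * (D.w t)⁻¹) := by
        rw [show D.w u = D.x u * D.y (-u⁻¹) * D.x u from rfl]
        group
    _ = _ := by rw [h1, h2]

/-- the torus element `h(t)`. -/
def h (t : K) : Γ := D.w t * D.w (-1)

lemma w_one_inv : (D.w 1)⁻¹ = D.w (-1) := D.w_inv 1

lemma h_one : D.h 1 = 1 := by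
  unfold h
  rw [← D.w_inv, mul_inv_cancel]

lemma w_eq_h_mul {t : K} : D.w t = D.h t * D.w 1 := by
  unfold h
  rw [← D.w_one_inv, inv_mul_cancel_right]

lemma h_conj_x {t : K} (ht : t ≠ 0) (u : K) :
    D.h t * D.x u * (D.h t)⁻¹ = D.x (t ^ 2 * u) := by
  have h1 := D.conj_x (neg_ne_zero.mpr (one_ne_zero (α := K))) u
  have h2 := D.conj_y ht (-u)
  have e1 : -((-1 : K)⁻¹ ^ 2 * u) = -u := by
    rw [inv_neg, inv_one]; ring
  have e2 : -(t ^ 2 * -u) = t ^ 2 * u := by ring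
  rw [e1] at h1
  rw [e2] at h2
  calc D.h t * D.x u * (D.h t)⁻¹
      = D.w t * (D.w (-1) * D.x u * (D.w (-1))⁻¹) * (D.w t)⁻¹ := by unfold h; group
    _ = _ := by rw [h1, h2]

lemma h_conj_y {t : K} (ht : t ≠ 0) (u : K) :
    D.h t * D.y u * (D.h t)⁻¹ = D.y (t⁻¹ ^ 2 * u) := by
  have h1 := D.conj_y (neg_ne_zero.mpr (one_ne_zero (α := K))) u
  have h2 := D.conj_x ht (-u)
  have e1 : -((-1 : K) ^ 2 * u) = -u := by ring
  have e2 : -(t⁻¹ ^ 2 * -u) = t⁻¹ ^ 2 * u := by ring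
  rw [e1] at h1
  rw [e2] at h2
  calc D.h t * D.y u * (D.h t)⁻¹
      = D.w t * (D.w (-1) * D.y u * (D.w (-1))⁻¹) * (D.w t)⁻¹ := by unfold h; group
    _ = _ := by rw [h1, h2]

lemma h_conj_w {t u : K} (ht : t ≠ 0) (hu : u ≠ 0) :
    D.h t * D.w u * (D.h t)⁻¹ = D.w (t ^ 2 * u) := by
  have h1 := D.h_conj_x ht u
  have h2 := D.h_conj_y ht (-u⁻¹)
  have e2 : t⁻¹ ^ 2 * -u⁻¹ = -(t ^ 2 * u)⁻¹ := by field_simp
  rw [e2] at h2
  calc D.h t * D.w u * (D.h t)⁻¹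
      = (D.h t * D.x u * (D.h t)⁻¹) * (D.h t * D.y (-u⁻¹) * (D.h t)⁻¹)
          * (D.h t * D.x u * (D.h t)⁻¹) := by
        rw [show D.w u = D.x u * D.y (-u⁻¹) * D.x u from rfl]
        group
    _ = D.w (t ^ 2 * u) := by rw [h1, h2]; rfl

lemma h_conj_h {t u : K} (ht : t ≠ 0) (hu : u ≠ 0) :
    D.h t * D.h u * (D.h t)⁻¹ = D.h (t ^ 2 * u) * (D.h (t ^ 2))⁻¹ := by
  have h1 := D.h_conj_w ht hu
  have h2 := D.h_conj_w ht (neg_ne_zero.mpr (one_ne_zero (α := K)))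
  have e : t ^ 2 * (-1 : K) = -(t ^ 2) := by ring
  rw [e] at h2
  calc D.h t * D.h u * (D.h t)⁻¹
      = (D.h t * D.w u * (D.h t)⁻¹) * (D.h t * D.w (-1) * (D.h t)⁻¹) := by
        rw [show D.h u = D.w u * D.w (-1) from rfl]
        group
    _ = D.w (t ^ 2 * u) * D.w (-(t ^ 2)) := by rw [h1, h2]
    _ = D.h (t ^ 2 * u) * (D.h (t ^ 2))⁻¹ := by
        unfold h
        rw [mul_inv_rev, ← D.w_inv (t ^ 2)]
        group

end StData

end Cfsg.Agent.Lib.Helper07
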