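import Mathlib
import Cfsg.Agent.Lib.Helper07.Steinberg1

set_option autoImplicit false

namespace Cfsg.Agent.Lib.Helper07

namespace StData
variable {K : Type*} [Field K] {Γ : Type*} [Group Γ] (D : StData K Γ)

lemma y_eq {d : K} (_hd : d ≠ 0) : D.y d = D.x d⁻¹ * D.w (-d⁻¹) * D.x d⁻¹ := by
  have e : -(-d⁻¹)⁻¹ = d := by rw [inv_neg, inv_inv, neg_neg]
  have hw : D.w (-d⁻¹) = D.x (-d⁻¹) * D.y (-(-d⁻¹)⁻¹) * D.x (-d⁻¹) := rfl
  rw [hw, e, ← D.x_inv]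
  group

/-- moving `x` across `w(s) w(r)`. -/
lemma x_mul_ww {s r : K} (hs : s ≠ 0) (hr : r ≠ 0) (e : K) :
    D.x e * (D.w s * D.w r) = (D.w s * D.w r) * D.x (r ^ 2 * s⁻¹ ^ 2 * e) := by
  have h1 := D.conj_x (neg_ne_zero.mpr hs) e
  have h2 := D.conj_y (neg_ne_zero.mpr hr) (-((-s)⁻¹ ^ 2 * e))
  rw [← D.w_inv, inv_inv] at h1 h2
  have e2 : -((-r) ^ 2 * -((-s)⁻¹ ^ 2 * e)) = r ^ 2 * s⁻¹ ^ 2 * e := by
    rw [inv_neg]; ring
  rw [e2] at h2
  rw [← h2, ← h1]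
  group

lemma w_triple {s r : K} (hs : s ≠ 0) (hr : r ≠ 0) (hsr : s + r ≠ 0) :
    D.w (-(s ^ 2 / (s + r))) * D.w s * D.w r = D.w (s * r / (s + r)) := by
  set m : K := s * r / (s + r) with hm
  have hm0 : m ≠ 0 := div_ne_zero (mul_ne_zero hs hr) hsr
  have ha : -s⁻¹ ≠ 0 := neg_ne_zero.mpr (inv_ne_zero hs)
  have hb : -r⁻¹ ≠ 0 := neg_ne_zero.mpr (inv_ne_zero hr)
  have hab : -s⁻¹ + -r⁻¹ ≠ 0 := by
    intro h
    apply hsr
    field_simp at h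
    linear_combination -h
  -- additivity of `y`, expanded
  have E1 := D.y_add (-s⁻¹) (-r⁻¹)
  rw [D.y_eq ha, D.y_eq hb, D.y_eq hab] at E1
  have i1 : (-s⁻¹)⁻¹ = -s := by rw [inv_neg, inv_inv]
  have i2 : (-r⁻¹)⁻¹ = -r := by rw [inv_neg, inv_inv]
  have i3 : (-s⁻¹ + -r⁻¹)⁻¹ = -m := by
    apply inv_eq_of_mul_eq_one_right
    rw [hm]; field_simp; ring
  rw [i1, i2, i3, neg_neg, neg_neg, neg_neg] at E1
  -- E1 : x(-s) w(s) x(-s) x(-r) w(r) x(-r) = x(-m) w(m) x(-m)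
  have E2 : D.w s * D.x (-(s + r)) * D.w r = D.x (s - m) * D.w m * D.x (r - m) := by
    have e1 : D.x (-(s + r)) = D.x (-s) * D.x (-r) := by rw [D.x_add]; congr 1; ring
    have e2 : D.x (s - m) = (D.x (-s))⁻¹ * D.x (-m) := by
      rw [D.x_inv, D.x_add]; congr 1; ring
    have e3 : D.x (r - m) = D.x (-m) * (D.x (-r))⁻¹ := by
      rw [D.x_inv, D.x_add]; congr 1; ring
    rw [e1, e2, e3]
    calc D.w s * (D.x (-s) * D.x (-r)) * D.w r
        = (D.x (-s))⁻¹ * (D.x (-s) * D.w s * D.x (-s) * (D.x (-r) * D.w r * D.x (-r)))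
            * (D.x (-r))⁻¹ := by group
      _ = (D.x (-s))⁻¹ * (D.x (-m) * D.w m * D.x (-m)) * (D.x (-r))⁻¹ := by rw [E1]
      _ = _ := by group
  -- rewrite `w(s) x(c)` as `y(..) w(s)`
  have hd : (s + r) / s ^ 2 ≠ 0 := div_ne_zero hsr (pow_ne_zero 2 hs)
  have E3 : D.w s * D.x (-(s + r)) = D.y ((s + r) / s ^ 2) * D.w s := by
    have := D.conj_x hs (-(s + r))
    have e : -(s⁻¹ ^ 2 * -(s + r)) = (s + r) / s ^ 2 := by field_simp
    rw [e] at this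
    rw [← this]
    group
  have i4 : ((s + r) / s ^ 2)⁻¹ = s - m := by
    rw [hm]; field_simp; ring
  rw [E3, D.y_eq hd, i4] at E2
  -- E2 : x(s-m) w(-(s-m)) x(s-m) w(s) w(r) = x(s-m) w(m) x(r-m)
  have E4 : D.w (-(s - m)) * (D.x (s - m) * (D.w s * D.w r)) = D.w m * D.x (r - m) := by
    have : D.x (s - m) * (D.w (-(s - m)) * (D.x (s - m) * (D.w s * D.w r)))
        = D.x (s - m) * (D.w m * D.x (r - m)) := by
      calc D.x (s - m) * (D.w (-(s - m)) * (D.x (s - m) * (D.w s * D.w r)))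
          = D.x (s - m) * D.w (-(s - m)) * D.x (s - m) * D.w s * D.w r := by group
        _ = D.x (s - m) * D.w m * D.x (r - m) := E2
        _ = _ := by group
    exact mul_left_cancel this
  rw [D.x_mul_ww hs hr] at E4
  have i5 : r ^ 2 * s⁻¹ ^ 2 * (s - m) = r - m := by
    rw [hm]; field_simp; ring
  rw [i5] at E4
  have i6 : -(s ^ 2 / (s + r)) = -(s - m) := by
    rw [hm]; field_simp; ring
  rw [i6]
  have : D.w (-(s - m)) * D.w s * D.w r * D.x (r - m) = D.w m * D.x (r - m) := by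
    rw [← E4]; group
  exact mul_right_cancel this

end StData

end Cfsg.Agent.Lib.Helper07
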