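import Mathlib
import Cfsg.Agent.Lib.Helper07.Steinberg2

set_option autoImplicit false

namespace Cfsg.Agent.Lib.Helper07

namespace StData
variable {K : Type*} [Field K] {Γ : Type*} [Group Γ] (D : StData K Γ)

lemma h_semiconj_x {t : K} (ht : t ≠ 0) (u : K) :
    SemiconjBy (D.h t) (D.x u) (D.x (t ^ 2 * u)) := by
  have := D.h_conj_x ht u
  show D.h t * D.x u = D.x (t ^ 2 * u) * D.h t
  rw [← this]; group

lemma h_semiconj_y {t : K} (ht : t ≠ 0) (u : K) :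
    SemiconjBy (D.h t) (D.y u) (D.y (t⁻¹ ^ 2 * u)) := by
  have := D.h_conj_y ht u
  show D.h t * D.y u = D.y (t⁻¹ ^ 2 * u) * D.h t
  rw [← this]; group

/-- the cocycle `c(t,u) = h(t) h(u) h(tu)⁻¹`. -/
def c (t u : K) : Γ := D.h t * D.h u * (D.h (t * u))⁻¹

lemma h_mul_eq (t u : K) : D.h (t * u) = (D.c t u)⁻¹ * D.h t * D.h u := by
  unfold c; group

lemma c_semiconj_x {t u : K} (ht : t ≠ 0) (hu : u ≠ 0) (v : K) :
    SemiconjBy (D.c t u) (D.x v) (D.x v) := by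
  have htu : t * u ≠ 0 := mul_ne_zero ht hu
  have S1 : SemiconjBy (D.h (t * u))⁻¹ (D.x v) (D.x ((t * u)⁻¹ ^ 2 * v)) := by
    have := D.h_semiconj_x htu ((t * u)⁻¹ ^ 2 * v)
    have e : (t * u) ^ 2 * ((t * u)⁻¹ ^ 2 * v) = v := by field_simp
    rw [e] at this
    exact this.inv_symm_left
  have S2 := D.h_semiconj_x hu ((t * u)⁻¹ ^ 2 * v)
  have S3 := D.h_semiconj_x ht (u ^ 2 * ((t * u)⁻¹ ^ 2 * v))
  have e : t ^ 2 * (u ^ 2 * ((t * u)⁻¹ ^ 2 * v)) = v := by field_simp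
  rw [e] at S3
  exact (S3.mul_left S2).mul_left S1

lemma c_semiconj_y {t u : K} (ht : t ≠ 0) (hu : u ≠ 0) (v : K) :
    SemiconjBy (D.c t u) (D.y v) (D.y v) := by
  have htu : t * u ≠ 0 := mul_ne_zero ht hu
  have S1 : SemiconjBy (D.h (t * u))⁻¹ (D.y v) (D.y ((t * u) ^ 2 * v)) := by
    have := D.h_semiconj_y htu ((t * u) ^ 2 * v)
    have e : (t * u)⁻¹ ^ 2 * ((t * u) ^ 2 * v) = v := by field_simp
    rw [e] at this
    exact this.inv_symm_left
  have S2 := D.h_semiconj_y hu ((t * u) ^ 2 * v)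
  have S3 := D.h_semiconj_y ht (u⁻¹ ^ 2 * ((t * u) ^ 2 * v))
  have e : t⁻¹ ^ 2 * (u⁻¹ ^ 2 * ((t * u) ^ 2 * v)) = v := by field_simp
  rw [e] at S3
  exact (S3.mul_left S2).mul_left S1

section gen
variable (hgen : Subgroup.closure (Set.range D.x ∪ Set.range D.y) = ⊤)
include hgen

lemma mem_center_of_commute {g : Γ} (hx : ∀ u, g * D.x u = D.x u * g)
    (hy : ∀ u, g * D.y u = D.y u * g) : g ∈ Subgroup.center Γ := by
  rw [Subgroup.mem_center_iff]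
  intro γ
  have hγ : γ ∈ Subgroup.closure (Set.range D.x ∪ Set.range D.y) := by rw [hgen]; trivial
  induction hγ using Subgroup.closure_induction with
  | mem z hz =>
    rcases hz with ⟨u, rfl⟩ | ⟨u, rfl⟩
    · exact (hx u).symm
    · exact (hy u).symm
  | one => simp
  | mul a b _ _ ha hb => rw [mul_assoc, hb, ← mul_assoc, ha, mul_assoc]
  | inv a _ ha =>
    have : a⁻¹ * (a * g) * a⁻¹ = a⁻¹ * (g * a) * a⁻¹ := by rw [ha]
    calc a⁻¹ * g = a⁻¹ * (g * a) * a⁻¹ := by group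
      _ = a⁻¹ * (a * g) * a⁻¹ := by rw [ha]
      _ = g * a⁻¹ := by group

lemma c_mem_center {t u : K} (ht : t ≠ 0) (hu : u ≠ 0) : D.c t u ∈ Subgroup.center Γ :=
  D.mem_center_of_commute hgen (fun v => (D.c_semiconj_x ht hu v).eq)
    (fun v => (D.c_semiconj_y ht hu v).eq)

lemma exists_pow_form (g : K) (hg : g ≠ 0) (n : ℕ) :
    ∃ z ∈ Subgroup.center Γ, D.h (g ^ n) = z * (D.h g) ^ n := by
  induction n with
  | zero => exact ⟨1, Subgroup.one_mem _, by rw [pow_zero, pow_zero, D.h_one, one_mul]⟩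
  | succ n ih =>
    obtain ⟨z, hz, hzn⟩ := ih
    have hc := D.c_mem_center hgen (pow_ne_zero n hg) hg
    refine ⟨(D.c (g ^ n) g)⁻¹ * z, Subgroup.mul_mem _ (Subgroup.inv_mem _ hc) hz, ?_⟩
    rw [pow_succ, D.h_mul_eq, hzn, pow_succ]
    group

variable [Finite K]

lemma h_commute {t u : K} (ht : t ≠ 0) (hu : u ≠ 0) : Commute (D.h t) (D.h u) := by
  obtain ⟨g, hg⟩ := IsCyclic.exists_generator (α := Kˣ)
  have hpow : ∀ s : K, s ≠ 0 → ∃ n : ℕ, s = (g : K) ^ n := by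
    intro s hs
    have h1 := hg (Units.mk0 s hs)
    rw [← mem_powers_iff_mem_zpowers] at h1
    obtain ⟨n, hn⟩ := h1
    refine ⟨n, ?_⟩
    have := congrArg Units.val hn
    simpa using this.symm
  obtain ⟨n, rfl⟩ := hpow t ht
  obtain ⟨m, rfl⟩ := hpow u hu
  obtain ⟨z₁, hz₁, e₁⟩ := D.exists_pow_form hgen (g : K) g.ne_zero n
  obtain ⟨z₂, hz₂, e₂⟩ := D.exists_pow_form hgen (g : K) g.ne_zero m
  rw [e₁, e₂]
  rw [Subgroup.mem_center_iff] at hz₁ hz₂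
  have c1 : ∀ a : Γ, Commute z₁ a := fun a => (hz₁ a).symm
  have c2 : ∀ a : Γ, Commute z₂ a := fun a => (hz₂ a).symm
  have c3 : Commute ((D.h (g : K)) ^ n) ((D.h (g : K)) ^ m) := (Commute.refl _).pow_pow n m
  exact ((c1 _).mul_left ((c2 _).symm.mul_right c3))

/-- `h(t² u) = h(t²) h(u)`. -/
lemma h_sq_mul {t u : K} (ht : t ≠ 0) (hu : u ≠ 0) :
    D.h (t ^ 2 * u) = D.h (t ^ 2) * D.h u := by
  have h1 := D.h_conj_h ht hu
  have h2 := D.h_commute hgen ht hu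
  have h3 : D.h t * D.h u * (D.h t)⁻¹ = D.h u := by
    rw [h2.eq, mul_inv_cancel_right]
  rw [h3] at h1
  have h4 : D.h (t ^ 2 * u) = D.h u * D.h (t ^ 2) := by
    rw [h1]; group
  rw [h4]
  exact (D.h_commute hgen hu (pow_ne_zero 2 ht)).eq

end gen

end StData

end Cfsg.Agent.Lib.Helper07
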