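import Mathlib
import Cfsg.Agent.Lib.Helper07.Steinberg3
import Cfsg.Agent.Lib.Helper07.SL2Quat

set_option autoImplicit false

namespace Cfsg.Agent.Lib.Helper07

namespace StData
variable {K : Type*} [Field K] {Γ : Type*} [Group Γ] (D : StData K Γ)

lemma w_one_conj_h {b : K} (hb : b ≠ 0) : D.w 1 * D.h b * (D.w 1)⁻¹ = D.h b⁻¹ := by
  have h1 := D.conj_w (one_ne_zero (α := K)) hb
  have h2 := D.conj_w (one_ne_zero (α := K)) (neg_ne_zero.mpr (one_ne_zero (α := K)))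
  have e1 : (1 : K) ^ 2 * b⁻¹ = b⁻¹ := by ring
  have e2 : (1 : K) ^ 2 * (-1 : K)⁻¹ = -1 := by rw [inv_neg, inv_one]; ring
  rw [e1] at h1
  rw [e2] at h2
  calc D.w 1 * D.h b * (D.w 1)⁻¹
      = (D.w 1 * D.w b * (D.w 1)⁻¹) * (D.w 1 * D.w (-1) * (D.w 1)⁻¹) := by
        rw [show D.h b = D.w b * D.w (-1) from rfl]; group
    _ = D.h b⁻¹ := by rw [h1, h2]; rfl

lemma w_one_mul_h {b : K} (hb : b ≠ 0) : D.w 1 * D.h b = D.h b⁻¹ * D.w 1 := by
  rw [← D.w_one_conj_h hb]; group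

lemma w_one_mul_w_one : D.w 1 * D.w 1 = (D.h (-1))⁻¹ := by
  rw [show D.h (-1) = D.w (-1) * D.w (-1) from rfl, ← D.w_one_inv, mul_inv_rev, inv_inv]

section gen
variable (hgen : Subgroup.closure (Set.range D.x ∪ Set.range D.y) = ⊤)
include hgen
variable [Finite K]

lemma h_mul_of_add_eq_one {t u : K} (ht : t ≠ 0) (hu : u ≠ 0) (htu : t + u = 1) :
    D.h t * D.h u = D.h (t * u) := by
  have h1 := D.w_triple ht hu (by rw [htu]; exact one_ne_zero)
  rw [htu, div_one, div_one] at h1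
  have ht2 : t ^ 2 ≠ 0 := pow_ne_zero 2 ht
  have hm1 : (-1 : K) ≠ 0 := neg_ne_zero.mpr one_ne_zero
  rw [D.w_eq_h_mul (t := -(t ^ 2)), D.w_eq_h_mul (t := t), D.w_eq_h_mul (t := u),
    D.w_eq_h_mul (t := t * u)] at h1
  have h2 : D.h (-(t ^ 2)) * D.h t⁻¹ * (D.h (-1))⁻¹ * D.h u = D.h (t * u) := by
    have : D.h (-(t ^ 2)) * D.w 1 * (D.h t * D.w 1) * (D.h u * D.w 1)
        = D.h (-(t ^ 2)) * (D.w 1 * D.h t) * (D.w 1 * D.h u) * D.w 1 := by group
    rw [this, D.w_one_mul_h ht, D.w_one_mul_h hu] at h1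
    have h3 := mul_right_cancel h1
    rw [← h3]
    have : D.h (-(t ^ 2)) * (D.h t⁻¹ * D.w 1) * (D.h u⁻¹ * D.w 1)
        = D.h (-(t ^ 2)) * D.h t⁻¹ * (D.w 1 * D.h u⁻¹) * D.w 1 := by group
    rw [this, D.w_one_mul_h (inv_ne_zero hu), inv_inv]
    have : D.h (-(t ^ 2)) * D.h t⁻¹ * (D.h u * D.w 1) * D.w 1
        = D.h (-(t ^ 2)) * D.h t⁻¹ * D.h u * (D.w 1 * D.w 1) := by group
    rw [this, D.w_one_mul_w_one]
    have c1 := D.h_commute hgen hu hm1
    have : D.h u * (D.h (-1))⁻¹ = (D.h (-1))⁻¹ * D.h u := (c1.inv_right).eq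
    rw [mul_assoc, mul_assoc, ← this]
    group
  have e1 : D.h (-(t ^ 2)) = D.h (t ^ 2) * D.h (-1) := by
    have := D.h_sq_mul hgen ht hm1
    rwa [mul_neg_one] at this
  have e2 : D.h t = D.h (t ^ 2) * D.h t⁻¹ := by
    have := D.h_sq_mul hgen ht (inv_ne_zero ht)
    have e : t ^ 2 * t⁻¹ = t := by field_simp
    rwa [e] at this
  rw [← h2, e1]
  have c2 := D.h_commute hgen hm1 (inv_ne_zero ht)
  calc D.h t * D.h u = D.h (t ^ 2) * D.h t⁻¹ * D.h u := by rw [← e2]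
    _ = D.h (t ^ 2) * (D.h t⁻¹ * D.h (-1)) * (D.h (-1))⁻¹ * D.h u := by group
    _ = D.h (t ^ 2) * (D.h (-1) * D.h t⁻¹) * (D.h (-1))⁻¹ * D.h u := by rw [c2.eq]
    _ = _ := by group

end gen

end StData

end Cfsg.Agent.Lib.Helper07

namespace Cfsg.Agent.Lib.Helper07

namespace StData
variable {K : Type*} [Field K] {Γ : Type*} [Group Γ] (D : StData K Γ)

section gen
variable (hgen : Subgroup.closure (Set.range D.x ∪ Set.range D.y) = ⊤)
include hgen
variable [Finite K]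

/-- `h(g²) = h(g) h(g)` for every nonzero `g`. -/
lemma h_sq_eq {g : K} (hg : g ≠ 0) : D.h (g ^ 2) = D.h g * D.h g := by
  by_cases hsq : IsSquare g
  · obtain ⟨a, rfl⟩ := hsq
    have ha : a ≠ 0 := fun h => hg (by rw [h, mul_zero])
    have h1 := D.h_sq_mul hgen ha (pow_ne_zero 2 ha)
    have e1 : a ^ 2 * a ^ 2 = (a * a) ^ 2 := by ring
    have e2 : a * a = a ^ 2 := by ring
    rw [e1] at h1
    rw [h1, e2]
  · have hchar : ringChar K ≠ 2 := fun h => hsq (FiniteField.isSquare_of_char_two h g)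
    have h2 : (2 : K) ≠ 0 := Ring.two_ne_zero hchar
    have := Fintype.ofFinite K
    have hodd := FiniteField.odd_card_of_char_ne_two hchar
    have h4 : (4 : K) ≠ 0 := by
      have : (4 : K) = 2 * 2 := by norm_num
      rw [this]; exact mul_ne_zero h2 h2
    obtain ⟨x, y, hxy⟩ := exists_quadratic_form_eq hodd h2 g 0 g 1 hg (by
      have : (0 : K) * 0 - 4 * g * g = -(4 * g * g) := by ring
      rw [this]
      exact neg_ne_zero.mpr (mul_ne_zero (mul_ne_zero h4 hg) hg))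
    have hx : x ≠ 0 := by
      rintro rfl
      apply hsq
      refine ⟨y⁻¹, ?_⟩
      have hy : y ≠ 0 := by
        rintro rfl
        simp at hxy
      have h1 : g * (y * y) = 1 := by linear_combination hxy
      calc g = (y * y)⁻¹ := eq_inv_of_mul_eq_one_left h1
        _ = y⁻¹ * y⁻¹ := mul_inv _ _
    have hy : y ≠ 0 := by
      rintro rfl
      apply hsq
      refine ⟨x⁻¹, ?_⟩
      have h1 : g * (x * x) = 1 := by linear_combination hxy
      calc g = (x * x)⁻¹ := eq_inv_of_mul_eq_one_left h1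
        _ = x⁻¹ * x⁻¹ := mul_inv _ _
    have hsum : x ^ 2 * g + y ^ 2 * g = 1 := by linear_combination hxy
    have h1 := D.h_mul_of_add_eq_one hgen (mul_ne_zero (pow_ne_zero 2 hx) hg)
      (mul_ne_zero (pow_ne_zero 2 hy) hg) hsum
    rw [D.h_sq_mul hgen hx hg, D.h_sq_mul hgen hy hg] at h1
    have e : x ^ 2 * g * (y ^ 2 * g) = x ^ 2 * (y ^ 2 * g ^ 2) := by ring
    rw [e, D.h_sq_mul hgen hx (mul_ne_zero (pow_ne_zero 2 hy) (pow_ne_zero 2 hg)),
      D.h_sq_mul hgen hy (pow_ne_zero 2 hg)] at h1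
    have c1 := D.h_commute hgen hg (pow_ne_zero 2 hy)
    have h3 : D.h (x ^ 2) * (D.h (y ^ 2) * (D.h g * D.h g))
        = D.h (x ^ 2) * (D.h (y ^ 2) * D.h (g ^ 2)) := by
      rw [← h1]
      calc D.h (x ^ 2) * (D.h (y ^ 2) * (D.h g * D.h g))
          = D.h (x ^ 2) * (D.h (y ^ 2) * D.h g) * D.h g := by group
        _ = D.h (x ^ 2) * (D.h g * D.h (y ^ 2)) * D.h g := by rw [c1.eq]
        _ = _ := by group
    exact (mul_left_cancel (mul_left_cancel h3)).symm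

/-- multiplicativity of `h`. -/
lemma h_mul {t u : K} (ht : t ≠ 0) (hu : u ≠ 0) : D.h (t * u) = D.h t * D.h u := by
  obtain ⟨g, hg⟩ := IsCyclic.exists_generator (α := Kˣ)
  have hpow : ∀ s : K, s ≠ 0 → ∃ n : ℕ, s = (g : K) ^ n := by
    intro s hs
    have h1 := hg (Units.mk0 s hs)
    rw [← mem_powers_iff_mem_zpowers] at h1
    obtain ⟨n, hn⟩ := h1
    refine ⟨n, ?_⟩
    have := congrArg Units.val hn
    simpa using this.symm
  have hg0 : (g : K) ≠ 0 := g.ne_zero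
  -- every nonzero element is `b²` or `g b²`
  have hform : ∀ s : K, s ≠ 0 → ∃ b : K, b ≠ 0 ∧ (s = b ^ 2 ∨ s = b ^ 2 * g) := by
    intro s hs
    obtain ⟨n, rfl⟩ := hpow s hs
    refine ⟨(g : K) ^ (n / 2), pow_ne_zero _ hg0, ?_⟩
    rcases Nat.even_or_odd' n with ⟨k, rfl | rfl⟩
    · left
      rw [Nat.mul_div_cancel_left _ (by norm_num : 0 < 2)]; ring
    · right
      have : (2 * k + 1) / 2 = k := by omega
      rw [this]; ring
  -- the statement for `t = g`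
  have hPg : ∀ u : K, u ≠ 0 → D.h ((g : K) * u) = D.h (g : K) * D.h u := by
    intro u hu
    obtain ⟨b, hb, rfl | rfl⟩ := hform u hu
    · rw [mul_comm, D.h_sq_mul hgen hb hg0]
      exact (D.h_commute hgen (pow_ne_zero 2 hb) hg0).eq
    · have e : (g : K) * (b ^ 2 * g) = b ^ 2 * (g : K) ^ 2 := by ring
      rw [e, D.h_sq_mul hgen hb (pow_ne_zero 2 hg0), D.h_sq_mul hgen hb hg0,
        D.h_sq_eq hgen hg0]
      have c1 := D.h_commute hgen hg0 (pow_ne_zero 2 hb)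
      calc D.h (b ^ 2) * (D.h (g : K) * D.h (g : K))
          = (D.h (b ^ 2) * D.h (g : K)) * D.h (g : K) := by group
        _ = (D.h (g : K) * D.h (b ^ 2)) * D.h (g : K) := by rw [c1.eq]
        _ = _ := by group
  have hPn : ∀ n : ℕ, ∀ u : K, u ≠ 0 → D.h ((g : K) ^ n * u) = D.h ((g : K) ^ n) * D.h u := by
    intro n
    induction n with
    | zero => intro u _; rw [pow_zero, one_mul, D.h_one, one_mul]
    | succ n ih =>
      intro u hu
      have e : (g : K) ^ (n + 1) * u = (g : K) ^ n * ((g : K) * u) := by ring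
      rw [e, ih _ (mul_ne_zero hg0 hu), hPg u hu, pow_succ, ih _ hg0, mul_assoc]
  obtain ⟨n, rfl⟩ := hpow t ht
  exact hPn n u hu

end gen

end StData

end Cfsg.Agent.Lib.Helper07
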