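import Mathlib
import Cfsg.Agent.Lib.Helper07.Steinberg4

set_option autoImplicit false

namespace Cfsg.Agent.Lib.Helper07

namespace StData
variable {K : Type*} [Field K] {Γ : Type*} [Group Γ] (D : StData K Γ)

/-- the Bruhat normal forms. -/
def bruhat : Set Γ :=
  {γ | (∃ a t : K, t ≠ 0 ∧ γ = D.x a * D.h t) ∨
    (∃ a t b : K, t ≠ 0 ∧ γ = D.x a * D.h t * D.w 1 * D.x b)}

lemma one_mem_bruhat : (1 : Γ) ∈ D.bruhat :=
  Or.inl ⟨0, 1, one_ne_zero, by rw [D.x_zero, D.h_one, one_mul]⟩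

lemma x_mul_mem_bruhat (c : K) {γ : Γ} (hγ : γ ∈ D.bruhat) : D.x c * γ ∈ D.bruhat := by
  rcases hγ with ⟨a, t, ht, rfl⟩ | ⟨a, t, b, ht, rfl⟩
  · exact Or.inl ⟨c + a, t, ht, by rw [← D.x_add]; group⟩
  · exact Or.inr ⟨c + a, t, b, ht, by rw [← D.x_add]; group⟩

lemma x_mul_h {t : K} (ht : t ≠ 0) (a : K) : D.x a * D.h t = D.h t * D.x (t⁻¹ ^ 2 * a) := by
  have := (D.h_semiconj_x ht (t⁻¹ ^ 2 * a)).eq
  have e : t ^ 2 * (t⁻¹ ^ 2 * a) = a := by field_simp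
  rw [e] at this
  exact this.symm

lemma w_mul_x (a : K) : D.w 1 * D.x a = D.y (-a) * D.w 1 := by
  have := D.conj_x (one_ne_zero (α := K)) a
  have e : -((1 : K)⁻¹ ^ 2 * a) = -a := by rw [inv_one]; ring
  rw [e] at this
  rw [← this]; group

section gen
variable (hgen : Subgroup.closure (Set.range D.x ∪ Set.range D.y) = ⊤)
include hgen
variable [Finite K]

lemma h_inv {t : K} (ht : t ≠ 0) : (D.h t)⁻¹ = D.h t⁻¹ := by
  rw [inv_eq_iff_mul_eq_one, ← D.h_mul hgen ht (inv_ne_zero ht), mul_inv_cancel₀ ht, D.h_one]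

lemma h_mul_mem_bruhat {s : K} (hs : s ≠ 0) {γ : Γ} (hγ : γ ∈ D.bruhat) :
    D.h s * γ ∈ D.bruhat := by
  rcases hγ with ⟨a, t, ht, rfl⟩ | ⟨a, t, b, ht, rfl⟩
  · refine Or.inl ⟨s ^ 2 * a, s * t, mul_ne_zero hs ht, ?_⟩
    rw [D.h_mul hgen hs ht, ← mul_assoc, (D.h_semiconj_x hs a).eq]; group
  · refine Or.inr ⟨s ^ 2 * a, s * t, b, mul_ne_zero hs ht, ?_⟩
    rw [D.h_mul hgen hs ht]
    calc D.h s * (D.x a * D.h t * D.w 1 * D.x b)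
        = (D.h s * D.x a) * D.h t * D.w 1 * D.x b := by group
      _ = (D.x (s ^ 2 * a) * D.h s) * D.h t * D.w 1 * D.x b := by rw [(D.h_semiconj_x hs a).eq]
      _ = _ := by group

lemma w_mul_mem_bruhat {γ : Γ} (hγ : γ ∈ D.bruhat) : D.w 1 * γ ∈ D.bruhat := by
  have hm1 : (-1 : K) ≠ 0 := neg_ne_zero.mpr one_ne_zero
  rcases hγ with ⟨a, t, ht, rfl⟩ | ⟨a, t, b, ht, rfl⟩
  · refine Or.inr ⟨0, t⁻¹, t⁻¹ ^ 2 * a, inv_ne_zero ht, ?_⟩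
    rw [D.x_mul_h ht, D.x_zero, one_mul, ← mul_assoc, D.w_one_mul_h ht]
  · -- `w x(a) h(t) w x(b) = y(-a) h(-t⁻¹) x(b)`
    have e1 : D.w 1 * (D.x a * D.h t * D.w 1 * D.x b) = D.y (-a) * D.h (-t⁻¹) * D.x b := by
      have e2 : D.h (-t⁻¹) = D.h t⁻¹ * (D.h (-1))⁻¹ := by
        rw [D.h_inv hgen hm1, ← D.h_mul hgen (inv_ne_zero ht) (inv_ne_zero hm1)]
        congr 1
        rw [inv_neg, inv_one, mul_neg_one]
      calc D.w 1 * (D.x a * D.h t * D.w 1 * D.x b)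
          = (D.w 1 * D.x a) * D.h t * D.w 1 * D.x b := by group
        _ = D.y (-a) * (D.w 1 * D.h t) * D.w 1 * D.x b := by rw [D.w_mul_x]; group
        _ = D.y (-a) * D.h t⁻¹ * (D.w 1 * D.w 1) * D.x b := by rw [D.w_one_mul_h ht]; group
        _ = _ := by rw [D.w_one_mul_w_one, e2]; group
    rw [e1]
    by_cases ha : a = 0
    · subst ha
      have hs : -t⁻¹ ≠ 0 := neg_ne_zero.mpr (inv_ne_zero ht)
      refine Or.inl ⟨(-t⁻¹) ^ 2 * b, -t⁻¹, hs, ?_⟩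
      rw [neg_zero, D.y_zero, one_mul, (D.h_semiconj_x hs b).eq]
    · have hna : -a ≠ 0 := neg_ne_zero.mpr ha
      have hs : -t⁻¹ ≠ 0 := neg_ne_zero.mpr (inv_ne_zero ht)
      have hs' : (-t⁻¹)⁻¹ = -t := by rw [inv_neg, inv_inv]
      have i1 : (-a)⁻¹ = -a⁻¹ := inv_neg
      have i2 : -(-a)⁻¹ = a⁻¹ := by rw [inv_neg, neg_neg]
      refine Or.inr ⟨-a⁻¹, a⁻¹ * -t, (-t⁻¹)⁻¹ ^ 2 * (-a⁻¹) + b,
        mul_ne_zero (inv_ne_zero ha) (neg_ne_zero.mpr ht), ?_⟩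
      rw [D.y_eq hna, i2, i1, D.w_eq_h_mul (t := a⁻¹),
        D.h_mul hgen (inv_ne_zero ha) (neg_ne_zero.mpr ht), ← D.x_add]
      calc D.x (-a⁻¹) * (D.h a⁻¹ * D.w 1) * D.x (-a⁻¹) * D.h (-t⁻¹) * D.x b
          = D.x (-a⁻¹) * D.h a⁻¹ * D.w 1 * (D.x (-a⁻¹) * D.h (-t⁻¹)) * D.x b := by group
        _ = D.x (-a⁻¹) * D.h a⁻¹ * (D.w 1 * D.h (-t⁻¹)) * D.x ((-t⁻¹)⁻¹ ^ 2 * -a⁻¹) * D.x b := by
            rw [D.x_mul_h hs]; group
        _ = _ := by rw [D.w_one_mul_h hs, hs']; group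

lemma y_mul_mem_bruhat (c : K) {γ : Γ} (hγ : γ ∈ D.bruhat) : D.y c * γ ∈ D.bruhat := by
  by_cases hc : c = 0
  · subst hc; rwa [D.y_zero, one_mul]
  · have h1 := D.x_mul_mem_bruhat c⁻¹ hγ
    have h2 := D.w_mul_mem_bruhat hgen h1
    have h3 := D.h_mul_mem_bruhat hgen (neg_ne_zero.mpr (inv_ne_zero hc)) h2
    have h4 := D.x_mul_mem_bruhat c⁻¹ h3
    have : D.y c * γ = D.x c⁻¹ * (D.h (-c⁻¹) * (D.w 1 * (D.x c⁻¹ * γ))) := by
      rw [D.y_eq hc, D.w_eq_h_mul (t := -c⁻¹)]; group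
    rwa [this]

lemma mem_bruhat (γ : Γ) : γ ∈ D.bruhat := by
  have hγ : γ ∈ Subgroup.closure (Set.range D.x ∪ Set.range D.y) := by rw [hgen]; trivial
  induction hγ using Subgroup.closure_induction_left with
  | one => exact D.one_mem_bruhat
  | mul_left z hz γ _ ih =>
    rcases hz with ⟨u, rfl⟩ | ⟨u, rfl⟩
    · exact D.x_mul_mem_bruhat u ih
    · exact D.y_mul_mem_bruhat hgen u ih
  | inv_mul_cancel z hz γ _ ih =>
    rcases hz with ⟨u, rfl⟩ | ⟨u, rfl⟩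
    · rw [D.x_inv]; exact D.x_mul_mem_bruhat _ ih
    · rw [D.y_inv]; exact D.y_mul_mem_bruhat hgen _ ih

/-- parametrisation of the normal forms. -/
def bruhatFun : (K × Kˣ) ⊕ (K × Kˣ × K) → Γ
  | Sum.inl p => D.x p.1 * D.h (p.2 : K)
  | Sum.inr p => D.x p.1 * D.h (p.2.1 : K) * D.w 1 * D.x p.2.2

lemma bruhatFun_surjective : Function.Surjective D.bruhatFun := by
  intro γ
  rcases D.mem_bruhat hgen γ with ⟨a, t, ht, rfl⟩ | ⟨a, t, b, ht, rfl⟩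
  · exact ⟨Sum.inl (a, Units.mk0 t ht), rfl⟩
  · exact ⟨Sum.inr (a, Units.mk0 t ht, b), rfl⟩

lemma finite_of_gen : Finite Γ := Finite.of_surjective _ (D.bruhatFun_surjective hgen)

lemma card_le : Nat.card Γ ≤ (Nat.card K ^ 2 - 1) * Nat.card K := by
  have h1 := Nat.card_le_card_of_surjective _ (D.bruhatFun_surjective hgen)
  rw [Nat.card_sum, Nat.card_prod, Nat.card_prod, Nat.card_prod, Nat.card_units] at h1
  have hpos : 0 < Nat.card K := Nat.card_pos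
  obtain ⟨r, hr⟩ : ∃ r, Nat.card K = r + 1 := ⟨Nat.card K - 1, by omega⟩
  rw [hr] at h1 ⊢
  have e : (r + 1) ^ 2 - 1 = r * (r + 2) := by
    have : (r + 1) ^ 2 = r * (r + 2) + 1 := by ring
    omega
  rw [e]
  have e2 : r + 1 - 1 = r := by omega
  rw [e2] at h1
  calc Nat.card Γ ≤ (r + 1) * r + (r + 1) * (r * (r + 1)) := h1
    _ = r * (r + 2) * (r + 1) := by ring

end gen

end StData

end Cfsg.Agent.Lib.Helper07
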