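import Mathlib
import Cfsg.Agent.Lib.Helper07.Steinberg5
import Cfsg.Agent.Lib.Helper07.SchurPSL32

set_option autoImplicit false

namespace Cfsg.Agent.Lib.Helper07

open Matrix

section
variable (K : Type*) [Field K]

/-- the relators of the rank one Steinberg presentation. -/
def stRels : Set (FreeGroup (Bool × K)) :=
  {g : FreeGroup (Bool × K) | ∃ (b : Bool) (t u : K), g = FreeGroup.of (b, t) * FreeGroup.of (b, u) * (FreeGroup.of (b, t + u))⁻¹} ∪
    {g | ∃ (b : Bool) (t u : K), t ≠ 0 ∧
      g = (FreeGroup.of (b, t) * FreeGroup.of (!b, -t⁻¹) * FreeGroup.of (b, t)) * FreeGroup.of (b, u) *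
            (FreeGroup.of (b, t) * FreeGroup.of (!b, -t⁻¹) * FreeGroup.of (b, t))⁻¹ * (FreeGroup.of (!b, -(t⁻¹ ^ 2 * u)))⁻¹}

/-- the Steinberg group. -/
abbrev StGroup := PresentedGroup (stRels K)

variable {K}

lemma st_add (b : Bool) (t u : K) :
    (PresentedGroup.of (b, t) : StGroup K) * PresentedGroup.of (b, u)
      = PresentedGroup.of (b, t + u) := by
  have hmem : FreeGroup.of (b, t) * FreeGroup.of (b, u) * (FreeGroup.of (b, t + u))⁻¹ ∈ stRels K :=
    Or.inl ⟨b, t, u, rfl⟩
  have h1 := PresentedGroup.one_of_mem hmem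
  rw [map_mul, map_mul, map_inv, mul_inv_eq_one] at h1
  exact h1

lemma st_rel (b : Bool) (t u : K) (ht : t ≠ 0) :
    ((PresentedGroup.of (b, t) : StGroup K) * PresentedGroup.of (!b, -t⁻¹) * PresentedGroup.of (b, t))
        * PresentedGroup.of (b, u)
        * ((PresentedGroup.of (b, t) : StGroup K) * PresentedGroup.of (!b, -t⁻¹) * PresentedGroup.of (b, t))⁻¹
      = PresentedGroup.of (!b, -(t⁻¹ ^ 2 * u)) := by
  have hmem : (FreeGroup.of (b, t) * FreeGroup.of (!b, -t⁻¹) * FreeGroup.of (b, t)) * FreeGroup.of (b, u) *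
            (FreeGroup.of (b, t) * FreeGroup.of (!b, -t⁻¹) * FreeGroup.of (b, t))⁻¹ * (FreeGroup.of (!b, -(t⁻¹ ^ 2 * u)))⁻¹
      ∈ stRels K := Or.inr ⟨b, t, u, ht, rfl⟩
  have h1 := PresentedGroup.one_of_mem hmem
  rw [map_mul, map_inv, mul_inv_eq_one] at h1
  simp only [map_mul, map_inv] at h1
  exact h1

/-- the Steinberg data in the Steinberg group. -/
def stData : StData K (StGroup K) where
  x t := PresentedGroup.of (true, t)
  y t := PresentedGroup.of (false, t)
  x_add := st_add true
  y_add := st_add false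
  rel1 t u ht := st_rel true t u ht
  rel2 t u ht := st_rel false t u ht

lemma stData_gen :
    Subgroup.closure (Set.range (stData (K := K)).x ∪ Set.range (stData (K := K)).y) = ⊤ := by
  rw [eq_top_iff, ← PresentedGroup.closure_range_of (stRels K)]
  apply Subgroup.closure_mono
  rintro _ ⟨⟨b, t⟩, rfl⟩
  cases b
  · exact Or.inr ⟨t, rfl⟩
  · exact Or.inl ⟨t, rfl⟩

/-- images of the generators. -/
def stGen : Bool × K → SpecialLinearGroup (Fin 2) K
  | (true, t) => upSL t
  | (false, t) => loSL t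

lemma weyl_up_val (t : K) (ht : t ≠ 0) : (upT t * loT (-t⁻¹) * upT t) = !![0, t; -t⁻¹, 0] := by
  rw [loT, upT]
  simp only [Matrix.mul_fin_two]
  ext i j; fin_cases i <;> fin_cases j <;> simp [ht]

lemma weyl_lo_val (t : K) (ht : t ≠ 0) : (loT t * upT (-t⁻¹) * loT t) = !![0, -t⁻¹; t, 0] := by
  rw [loT, upT]
  simp only [Matrix.mul_fin_two]
  ext i j; fin_cases i <;> fin_cases j <;> simp [ht]

lemma weyl_up (t u : K) (ht : t ≠ 0) :
    (upSL t * loSL (-t⁻¹) * upSL t) * upSL u
      = loSL (-(t⁻¹ ^ 2 * u)) * (upSL t * loSL (-t⁻¹) * upSL t) := by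
  apply Subtype.ext
  simp only [Matrix.SpecialLinearGroup.coe_mul, upSL_val, loSL_val]
  rw [weyl_up_val t ht, loT, upT]
  simp only [Matrix.mul_fin_two]
  ext i j; fin_cases i <;> fin_cases j <;> simp <;> field_simp

lemma weyl_lo (t u : K) (ht : t ≠ 0) :
    (loSL t * upSL (-t⁻¹) * loSL t) * loSL u
      = upSL (-(t⁻¹ ^ 2 * u)) * (loSL t * upSL (-t⁻¹) * loSL t) := by
  apply Subtype.ext
  simp only [Matrix.SpecialLinearGroup.coe_mul, upSL_val, loSL_val]
  rw [weyl_lo_val t ht, loT, upT]
  simp only [Matrix.mul_fin_two]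
  ext i j; fin_cases i <;> fin_cases j <;> simp <;> field_simp

lemma stGen_rels : ∀ r ∈ stRels K, FreeGroup.lift (stGen (K := K)) r = 1 := by
  rintro r (⟨b, t, u, rfl⟩ | ⟨b, t, u, ht, rfl⟩)
  · simp only [map_mul, map_inv, FreeGroup.lift_apply_of]
    rw [mul_inv_eq_one]
    cases b
    · exact (loSL_add t u).symm
    · exact (upSL_add t u).symm
  · simp only [map_mul, map_inv, FreeGroup.lift_apply_of]
    rw [mul_inv_eq_one, mul_inv_eq_iff_eq_mul]
    cases b
    · exact weyl_lo t u ht
    · exact weyl_up t u ht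

/-- the natural map from the Steinberg group to `SL₂`. -/
def stHom : StGroup K →* SpecialLinearGroup (Fin 2) K :=
  PresentedGroup.toGroup stGen_rels

lemma stHom_of (p : Bool × K) : stHom (PresentedGroup.of p) = stGen p :=
  PresentedGroup.toGroup.of stGen_rels

lemma stHom_surjective : Function.Surjective (stHom (K := K)) := by
  rw [← MonoidHom.range_eq_top]
  apply eq_top_of_transvection_mem
  intro i j hij c
  fin_cases i <;> fin_cases j
  · exact absurd rfl hij
  · exact ⟨PresentedGroup.of (true, c), by rw [stHom_of]; exact (transvection_zero_one c).symm⟩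
  · exact ⟨PresentedGroup.of (false, c), by rw [stHom_of]; exact (transvection_one_zero c).symm⟩
  · exact absurd rfl hij

variable [Finite K]

lemma stHom_bijective : Function.Bijective (stHom (K := K)) := by
  have : Finite (StGroup K) := (stData (K := K)).finite_of_gen stData_gen
  rw [Nat.bijective_iff_surjective_and_card]
  refine ⟨stHom_surjective, le_antisymm ?_ (Nat.card_le_card_of_surjective _ stHom_surjective)⟩
  have h1 := (stData (K := K)).card_le stData_gen
  have := Fintype.ofFinite K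
  rw [card_SL_two', ← Nat.card_eq_fintype_card]
  exact h1

end

end Cfsg.Agent.Lib.Helper07
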