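import Mathlib
import Cfsg.Agent.Lib.Helper07.Steinberg6

set_option autoImplicit false

namespace Cfsg.Agent.Lib.Helper07

open Matrix

/-- transport of Steinberg data along a homomorphism. -/
def StData.map {K : Type*} [Field K] {Γ Γ' : Type*} [Group Γ] [Group Γ'] (D : StData K Γ)
    (f : Γ →* Γ') : StData K Γ' where
  x t := f (D.x t)
  y t := f (D.y t)
  x_add t u := by rw [← map_mul, D.x_add]
  y_add t u := by rw [← map_mul, D.y_add]
  rel1 t u ht := by
    simp only [← map_mul, ← map_inv]
    rw [D.rel1 t u ht]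
  rel2 t u ht := by
    simp only [← map_mul, ← map_inv]
    rw [D.rel2 t u ht]

section
variable {F : Type*} [Field F]

variable (F) in
/-- the Steinberg data of `SL₂`. -/
def slData : StData F (SpecialLinearGroup (Fin 2) F) where
  x := upSL
  y := loSL
  x_add t u := (upSL_add t u).symm
  y_add t u := (loSL_add t u).symm
  rel1 t u ht := by rw [weyl_up t u ht, mul_inv_cancel_right]
  rel2 t u ht := by rw [weyl_lo t u ht, mul_inv_cancel_right]

/-- the projection `SL₂ → PSL₂`. -/
def prj : SpecialLinearGroup (Fin 2) F →* ProjectiveSpecialLinearGroup (Fin 2) F :=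
  QuotientGroup.mk' (Subgroup.center (SpecialLinearGroup (Fin 2) F))

lemma prj_surjective : Function.Surjective (prj (F := F)) := QuotientGroup.mk'_surjective _

lemma prj_eq_iff {A B : SpecialLinearGroup (Fin 2) F} :
    prj A = prj B ↔ ∃ r : F, r * r = 1 ∧ B.val = r • A.val := by
  unfold prj
  rw [QuotientGroup.mk'_apply, QuotientGroup.mk'_apply, QuotientGroup.eq,
    Matrix.SpecialLinearGroup.mem_center_iff]
  constructor
  · rintro ⟨r, hr, h⟩
    refine ⟨r, by simpa [pow_two] using hr, ?_⟩
    have h2 : B.val = A.val * (A⁻¹ * B).val := by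
      rw [← Matrix.SpecialLinearGroup.coe_mul, mul_inv_cancel_left]
    rw [h2, ← h]
    ext i j
    simp [Matrix.mul_apply, Matrix.diagonal_apply, mul_comm]
  · rintro ⟨r, hr, h⟩
    refine ⟨r, by simpa [pow_two] using hr, ?_⟩
    have : (A⁻¹ * B).val = r • (1 : Matrix (Fin 2) (Fin 2) F) := by
      rw [Matrix.SpecialLinearGroup.coe_mul, h, Matrix.mul_smul, ← Matrix.SpecialLinearGroup.coe_mul,
        inv_mul_cancel, Matrix.SpecialLinearGroup.coe_one]
    rw [this]
    ext i j
    simp [Matrix.scalar_apply, Matrix.diagonal_apply, Matrix.one_apply]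

variable (F) in
/-- the Steinberg data of `PSL₂`. -/
def pslData : StData F (ProjectiveSpecialLinearGroup (Fin 2) F) := (slData F).map prj

lemma pslData_x (t : F) : (pslData F).x t = prj (upSL t) := rfl
lemma pslData_y (t : F) : (pslData F).y t = prj (loSL t) := rfl

lemma pslData_x_injective : Function.Injective (pslData F).x := by
  intro t s h
  rw [pslData_x, pslData_x, prj_eq_iff] at h
  obtain ⟨r, -, h⟩ := h
  have h00 := congrFun (congrFun h 0) 0
  have h01 := congrFun (congrFun h 0) 1
  simp [upT] at h00 h01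
  rw [← h00, one_mul] at h01
  exact h01.symm

lemma pslData_y_injective : Function.Injective (pslData F).y := by
  intro t s h
  rw [pslData_y, pslData_y, prj_eq_iff] at h
  obtain ⟨r, -, h⟩ := h
  have h00 := congrFun (congrFun h 0) 0
  have h10 := congrFun (congrFun h 1) 0
  simp [loT] at h00 h10
  rw [← h00, one_mul] at h10
  exact h10.symm

lemma slData_gen :
    Subgroup.closure (Set.range (slData F).x ∪ Set.range (slData F).y) = ⊤ := by
  apply eq_top_of_transvection_mem
  intro i j hij c
  fin_cases i <;> fin_cases j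
  · exact absurd rfl hij
  · rw [transvection_zero_one]
    exact Subgroup.subset_closure (Or.inl ⟨c, rfl⟩)
  · rw [transvection_one_zero]
    exact Subgroup.subset_closure (Or.inr ⟨c, rfl⟩)
  · exact absurd rfl hij

lemma pslData_gen :
    Subgroup.closure (Set.range (pslData F).x ∪ Set.range (pslData F).y) = ⊤ := by
  have h1 : Set.range (pslData F).x ∪ Set.range (pslData F).y
      = prj '' (Set.range (slData F).x ∪ Set.range (slData F).y) := by
    rw [Set.image_union, ← Set.range_comp, ← Set.range_comp]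
    rfl
  rw [h1, ← MonoidHom.map_closure, slData_gen, ← MonoidHom.range_eq_map,
    MonoidHom.range_eq_top]
  exact prj_surjective

/-- the entry criterion: if `M` conjugates `x(e)`, `e ≠ 0`, into the lower root group then
`M₀₀ = 0`. -/
lemma entry_zero_of_conj {M : SpecialLinearGroup (Fin 2) F} {e s : F} (he : e ≠ 0)
    (h : prj M * (pslData F).x e * (prj M)⁻¹ = (pslData F).y s) :
    M.val 0 0 = 0 := by
  rw [pslData_x, pslData_y, ← map_inv, ← map_mul, ← map_mul, prj_eq_iff] at h
  obtain ⟨r, hr, h⟩ := h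
  have hr0 : r ≠ 0 := by
    rintro rfl
    simp at hr
  have h01 := congrFun (congrFun h 0) 1
  rw [Matrix.SpecialLinearGroup.coe_mul, Matrix.SpecialLinearGroup.coe_mul,
    Matrix.SpecialLinearGroup.coe_inv, adjugate_fin_two] at h01
  simp [loT, upT, Matrix.mul_apply, Fin.sum_univ_two] at h01
  rcases h01 with h01 | h01
  · exact absurd h01 hr0
  · have : e * (M.val 0 0 * M.val 0 0) = 0 := by linear_combination h01
    exact mul_self_eq_zero.mp ((mul_eq_zero.mp this).resolve_left he)

lemma StData.map_w {K : Type*} [Field K] {Γ Γ' : Type*} [Group Γ] [Group Γ'] (D : StData K Γ)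
    (f : Γ →* Γ') (t : K) : (D.map f).w t = f (D.w t) := by
  show f (D.x t) * f (D.y (-t⁻¹)) * f (D.x t) = f (D.x t * D.y (-t⁻¹) * D.x t)
  rw [map_mul, map_mul]

/-- `M₀₀` of `x(a) y(b) x(a)`. -/
lemma weyl_entry (a b : F) : (upSL a * loSL b * upSL a).val 0 0 = 1 + a * b := by
  simp [upT, loT, Matrix.mul_apply, Fin.sum_univ_two]

/-- the Weyl element of `SL₂`. -/
def wSt : SpecialLinearGroup (Fin 2) F := (slData F).w 1

lemma wSt_val : (wSt (F := F)).val = !![0, 1; -1, 0] := by
  show (upSL 1 * loSL (-(1 : F)⁻¹) * upSL 1).val = _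
  simp only [Matrix.SpecialLinearGroup.coe_mul, upSL_val, loSL_val]
  have := weyl_up_val (1 : F) one_ne_zero
  rw [this, inv_one]

/-- Bruhat decomposition in `SL₂`. -/
lemma bruhat_SL {M : SpecialLinearGroup (Fin 2) F} (h : M.val 1 0 ≠ 0) :
    ∃ (a : F) (B : SpecialLinearGroup (Fin 2) F), B ∈ borelSL ∧ M = upSL a * wSt * B := by
  refine ⟨M.val 0 0 / M.val 1 0, wSt⁻¹ * upSL (-(M.val 0 0 / M.val 1 0)) * M, ?_, ?_⟩
  · rw [mem_borelSL, Matrix.SpecialLinearGroup.coe_mul, Matrix.SpecialLinearGroup.coe_mul,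
      Matrix.SpecialLinearGroup.coe_inv, wSt_val, adjugate_fin_two]
    simp [upT, Matrix.mul_apply, Fin.sum_univ_two]
    field_simp
    ring
  · have : upSL (-(M.val 0 0 / M.val 1 0)) = (upSL (M.val 0 0 / M.val 1 0))⁻¹ := by
      rw [upSL_inv]
    rw [this]
    group

end

end Cfsg.Agent.Lib.Helper07
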