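import Mathlib
import Cfsg.Agent.Lib.Helper07.AutPSL1
import Cfsg.Agent.Lib.Helper07.AutPSL2

set_option autoImplicit false

namespace Cfsg.Agent.Lib.Helper07

open Matrix
open scoped Pointwise

section
variable {F : Type*} [Field F] [Fintype F] (p : ℕ) [Fact p.Prime] [CharP F p]

local notation "G" => ProjectiveSpecialLinearGroup (Fin 2) F

/-- the upper unipotent Sylow subgroup of `PSL₂`. -/
noncomputable def sylU : Sylow p G := (sylUSL p).mapSurjective prj_surjective

lemma mem_sylU {g : G} : g ∈ (sylU (F := F) p : Subgroup G) ↔ ∃ t, (pslData F).x t = g := by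
  show g ∈ (USL : Subgroup (SpecialLinearGroup (Fin 2) F)).map prj ↔ _
  rw [Subgroup.mem_map]
  constructor
  · rintro ⟨u, hu, rfl⟩
    obtain ⟨t, rfl⟩ := mem_USL.mp hu
    exact ⟨t, rfl⟩
  · rintro ⟨t, rfl⟩
    exact ⟨upSL t, upSL_mem t, rfl⟩

variable (F) in
/-- the Weyl element of `PSL₂`. -/
def wP : G := (pslData F).w 1

omit [Fintype F] in
lemma wP_eq : (wP F : G) = prj wSt := StData.map_w (slData F) prj 1

lemma mem_smul_sylow_iff (g : G) (P : Sylow p G) (z : G) :
    z ∈ ((g • P : Sylow p G) : Subgroup G) ↔ g⁻¹ * z * g ∈ (P : Subgroup G) := by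
  rw [Sylow.coe_subgroup_smul, Subgroup.mem_pointwise_smul_iff_inv_smul_mem,
    MulAut.smul_def, ← map_inv, MulAut.conj_apply, inv_inv]

lemma mem_wP_smul {g : G} : g ∈ ((wP F • sylU (F := F) p : Sylow p G) : Subgroup G) ↔
    ∃ t, (pslData F).y t = g := by
  rw [mem_smul_sylow_iff, mem_sylU]
  have hc : ∀ t : F, wP F * (pslData F).x t * (wP F : G)⁻¹ = (pslData F).y (-t) := by
    intro t
    have := (pslData F).conj_x (one_ne_zero (α := F)) t
    have e : -((1 : F)⁻¹ ^ 2 * t) = -t := by rw [inv_one]; ring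
    rw [e] at this
    exact this
  constructor
  · rintro ⟨t, ht⟩
    refine ⟨-t, ?_⟩
    rw [← hc, ht]; group
  · rintro ⟨t, rfl⟩
    refine ⟨-t, ?_⟩
    have := hc (-t)
    rw [neg_neg] at this
    rw [← this]; group

lemma sylow_cases (Q : Sylow p G) :
    Q = sylU p ∨ ∃ a : F, Q = ((pslData F).x a * wP F) • sylU (F := F) p := by
  obtain ⟨g, rfl⟩ := MulAction.exists_smul_eq G (sylU (F := F) p) Q
  obtain ⟨M, rfl⟩ := prj_surjective g
  have hB : ∀ B : SpecialLinearGroup (Fin 2) F, B ∈ borelSL → prj B • sylU (F := F) p = sylU p := by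
    intro B hB
    rw [Sylow.smul_eq_iff_mem_normalizer]
    have h1 : prj B ∈ (Subgroup.normalizer ((USL : Subgroup (SpecialLinearGroup (Fin 2) F)) :
        Set (SpecialLinearGroup (Fin 2) F))).map prj :=
      Subgroup.mem_map_of_mem _ (borelSL_le_normalizer hB)
    exact Subgroup.le_normalizer_map _ h1
  by_cases h10 : M.val 1 0 = 0
  · left
    exact hB M h10
  · right
    obtain ⟨a, B, hBm, rfl⟩ := bruhat_SL h10
    refine ⟨a, ?_⟩
    rw [map_mul, map_mul, mul_smul, hB B hBm, ← wP_eq]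
    rfl

lemma wP_smul_ne : (wP F • sylU (F := F) p : Sylow p G) ≠ sylU p := by
  intro h
  have h1 : (pslData F).y 1 ∈ ((wP F • sylU (F := F) p : Sylow p G) : Subgroup G) :=
    (mem_wP_smul p).mpr ⟨1, rfl⟩
  rw [h, mem_sylU] at h1
  obtain ⟨t, ht⟩ := h1
  rw [pslData_x, pslData_y, prj_eq_iff] at ht
  obtain ⟨r, -, h⟩ := ht
  have h10 := congrFun (congrFun h 1) 0
  simp [loT, upT] at h10

end

end Cfsg.Agent.Lib.Helper07

namespace Cfsg.Agent.Lib.Helper07

open Matrix
open scoped Pointwise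

section
variable {F : Type*} [Field F] [Fintype F] (p : ℕ) [Fact p.Prime] [CharP F p]

local notation "G" => ProjectiveSpecialLinearGroup (Fin 2) F

lemma mem_mulAut_smul_sylow {α : MulAut G} {P : Sylow p G} {z : G}
    (hz : z ∈ (P : Subgroup G)) : α z ∈ ((α • P : Sylow p G) : Subgroup G) := by
  rw [Sylow.pointwise_smul_def]
  exact Subgroup.smul_mem_pointwise_smul z α _ hz

include p in
/-- every automorphism of `PSL₂(F)` is, up to an inner automorphism, a diagonal automorphism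
times a field automorphism (on the root group generators). -/
theorem aut_normal_form (α : MulAut G) :
    ∃ (g : G) (c : F) (τ : F ≃+* F), c ≠ 0 ∧
      (∀ t, α ((pslData F).x t) = g * (pslData F).x (c * τ t) * g⁻¹) ∧
      (∀ t, α ((pslData F).y t) = g * (pslData F).y (c⁻¹ * τ t) * g⁻¹) := by
  obtain ⟨g₁, hg₁⟩ := MulAction.exists_smul_eq G (α • sylU (F := F) p) (sylU p)
  set α₁ : MulAut G := MulAut.conj g₁ * α with hα₁
  have h1 : α₁ • sylU (F := F) p = sylU p := by
    rw [hα₁, mul_smul]; exact hg₁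
  rcases sylow_cases p (α₁ • (wP F • sylU (F := F) p)) with h2 | ⟨a, h2⟩
  · exfalso
    apply wP_smul_ne (F := F) p
    have : α₁ • (wP F • sylU (F := F) p) = α₁ • sylU p := by rw [h2, h1]
    exact MulAction.injective α₁ this
  set α₂ : MulAut G := MulAut.conj ((pslData F).x a)⁻¹ * α₁ with hα₂
  have h3 : α₂ • sylU (F := F) p = sylU p := by
    rw [hα₂, mul_smul, h1]
    show ((pslData F).x a)⁻¹ • sylU (F := F) p = sylU p
    rw [Sylow.smul_eq_iff_mem_normalizer]
    exact Subgroup.le_normalizer (inv_mem ((mem_sylU p).mpr ⟨a, rfl⟩))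
  have h4 : α₂ • (wP F • sylU (F := F) p) = wP F • sylU p := by
    rw [hα₂, mul_smul, h2]
    show ((pslData F).x a)⁻¹ • ((pslData F).x a * wP F) • sylU (F := F) p = _
    rw [← mul_smul, inv_mul_cancel_left]
  -- the induced maps on the root groups
  have hx : ∀ t : F, ∃ t', (pslData F).x t' = α₂ ((pslData F).x t) := by
    intro t
    have := mem_mulAut_smul_sylow p (α := α₂) ((mem_sylU p).mpr ⟨t, rfl⟩)
    rw [h3] at this
    exact (mem_sylU p).mp this
  have hy : ∀ t : F, ∃ t', (pslData F).y t' = α₂ ((pslData F).y t) := by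
    intro t
    have := mem_mulAut_smul_sylow p (α := α₂) ((mem_wP_smul p).mpr ⟨t, rfl⟩)
    rw [h4] at this
    exact (mem_wP_smul p).mp this
  choose φ hφ using hx
  choose ψ hψ using hy
  have hadd : ∀ t u, φ (t + u) = φ t + φ u := by
    intro t u
    apply pslData_x_injective
    rw [hφ, ← (pslData F).x_add, map_mul, ← hφ, ← hφ, (pslData F).x_add]
  have hne : ∀ t, t ≠ 0 → φ t ≠ 0 := by
    intro t ht h0
    apply ht
    have h5 := hφ t
    rw [h0, (pslData F).x_zero] at h5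
    have h6 : α₂ ((pslData F).x t) = α₂ 1 := by rw [← h5, map_one]
    have h7 := α₂.injective h6
    rw [← (pslData F).x_zero] at h7
    exact pslData_x_injective h7
  have hψ0 : ψ 0 = 0 := by
    apply pslData_y_injective
    rw [hψ, (pslData F).y_zero, map_one]
  have hw : ∀ t : F, α₂ ((pslData F).w t)
      = prj (upSL (φ t) * loSL (ψ (-t⁻¹)) * upSL (φ t)) := by
    intro t
    show α₂ ((pslData F).x t * (pslData F).y (-t⁻¹) * (pslData F).x t) = _
    rw [map_mul, map_mul, ← hφ, ← hψ, map_mul, map_mul]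
    rfl
  have hrel1 : ∀ t, t ≠ 0 → 1 + φ t * ψ (-t⁻¹) = 0 := by
    intro t ht
    have h5 := (pslData F).conj_x ht 1
    have h6 := congrArg α₂ h5
    rw [map_mul, map_mul, map_inv, hw, ← hφ, ← hψ] at h6
    have := entry_zero_of_conj (hne 1 one_ne_zero) h6
    rwa [weyl_entry] at this
  have hrel2 : ∀ t u, t ≠ 0 → ψ (-(t⁻¹ ^ 2 * u)) = -((φ t)⁻¹ ^ 2 * φ u) := by
    intro t u ht
    have hφt := hne t ht
    have e1 : ψ (-t⁻¹) = -(φ t)⁻¹ := by
      have := hrel1 t ht
      have h8 : ψ (-t⁻¹) * φ t = -1 := by linear_combination this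
      calc ψ (-t⁻¹) = ψ (-t⁻¹) * φ t * (φ t)⁻¹ := by rw [mul_assoc, mul_inv_cancel₀ hφt, mul_one]
        _ = -(φ t)⁻¹ := by rw [h8]; ring
    have hw' : α₂ ((pslData F).w t) = (pslData F).w (φ t) := by
      rw [hw, e1]
      show _ = (pslData F).x (φ t) * (pslData F).y (-(φ t)⁻¹) * (pslData F).x (φ t)
      rw [pslData_x, pslData_y, ← map_mul, ← map_mul]
    have h5 := (pslData F).conj_x ht u
    have h6 := congrArg α₂ h5
    rw [map_mul, map_mul, map_inv, hw', ← hφ, ← hψ, (pslData F).conj_x hφt] at h6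
    exact (pslData_y_injective h6).symm
  obtain ⟨c, τ, hc, hφτ, hψτ⟩ := exists_ringEquiv_of_weyl φ ψ hadd hne hψ0 hrel1 hrel2
  have hα : ∀ z, α z = (g₁⁻¹ * (pslData F).x a) * α₂ z * (g₁⁻¹ * (pslData F).x a)⁻¹ := by
    intro z
    rw [hα₂, hα₁]
    simp only [MulAut.mul_apply, MulAut.conj_apply]
    group
  refine ⟨g₁⁻¹ * (pslData F).x a, c, τ, hc, ?_, ?_⟩
  · intro t
    rw [hα, ← hφ, hφτ]
  · intro t
    rw [hα, ← hψ, hψτ]

end

end Cfsg.Agent.Lib.Helper07
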