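import Mathlib
import Cfsg.Agent.Lib.Helper07.AutPSL3
import Cfsg.Agent.Lib.Helper07.PSL27

set_option autoImplicit false

namespace Cfsg.Agent.Lib.Helper07

open Matrix

section quot
variable {H : Type*} [Group H]

/-- automorphisms descend to the quotient by a characteristic subgroup. -/
def autQuot (N : Subgroup H) [hN : N.Characteristic] : MulAut H →* MulAut (H ⧸ N) where
  toFun e := QuotientGroup.congr N N e (Subgroup.characteristic_iff_map_eq.mp hN e)
  map_one' := by
    ext z
    induction z using QuotientGroup.induction_on with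
    | H z => rfl
  map_mul' e₁ e₂ := by
    ext z
    induction z using QuotientGroup.induction_on with
    | H z => rfl

lemma autQuot_mk (N : Subgroup H) [N.Characteristic] (e : MulAut H) (z : H) :
    autQuot N e (QuotientGroup.mk z) = QuotientGroup.mk (e z) := rfl

end quot

section
variable {F : Type*} [Field F]

/-- conjugation by an element of `GL₂` on `SL₂`. -/
def conjSL (g : GL (Fin 2) F) : MulAut (SpecialLinearGroup (Fin 2) F) where
  toFun A := ⟨g.val * A.val * g⁻¹.val, by
    rw [det_mul, det_mul, A.2, mul_one, ← det_mul, Units.mul_inv, det_one]⟩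
  invFun A := ⟨g⁻¹.val * A.val * g.val, by
    rw [det_mul, det_mul, A.2, mul_one, ← det_mul, Units.inv_mul, det_one]⟩
  left_inv A := by
    apply Subtype.ext
    show g⁻¹.val * (g.val * A.val * g⁻¹.val) * g.val = A.val
    rw [← mul_assoc, ← mul_assoc, Units.inv_mul, one_mul, mul_assoc, Units.inv_mul, mul_one]
  right_inv A := by
    apply Subtype.ext
    show g.val * (g⁻¹.val * A.val * g.val) * g⁻¹.val = A.val
    rw [← mul_assoc, ← mul_assoc, Units.mul_inv, one_mul, mul_assoc, Units.mul_inv, mul_one]
  map_mul' A B := by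
    apply Subtype.ext
    show g.val * (A.val * B.val) * g⁻¹.val = (g.val * A.val * g⁻¹.val) * (g.val * B.val * g⁻¹.val)
    have : g⁻¹.val * g.val = 1 := Units.inv_mul g
    calc g.val * (A.val * B.val) * g⁻¹.val
        = g.val * A.val * (1 : Matrix (Fin 2) (Fin 2) F) * B.val * g⁻¹.val := by
          rw [mul_one]; simp only [mul_assoc]
      _ = _ := by rw [← this]; simp only [mul_assoc]

lemma conjSL_val (g : GL (Fin 2) F) (A : SpecialLinearGroup (Fin 2) F) :
    (conjSL g A).val = g.val * A.val * g⁻¹.val := rfl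

/-- `g ↦ conjSL g` as a homomorphism. -/
def conjSLHom : GL (Fin 2) F →* MulAut (SpecialLinearGroup (Fin 2) F) where
  toFun := conjSL
  map_one' := MulEquiv.ext fun A => Subtype.ext (by
    rw [MulAut.one_apply, conjSL_val, inv_one, Units.val_one, one_mul, mul_one])
  map_mul' g h := MulEquiv.ext fun A => Subtype.ext (by
    rw [MulAut.mul_apply, conjSL_val, conjSL_val, conjSL_val, _root_.mul_inv_rev, Units.val_mul,
      Units.val_mul]
    simp only [mul_assoc])

/-- conjugation by `GL₂` on `PSL₂`. -/
def conjGL : GL (Fin 2) F →* MulAut (ProjectiveSpecialLinearGroup (Fin 2) F) :=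
  (autQuot (Subgroup.center (SpecialLinearGroup (Fin 2) F))).comp conjSLHom

lemma conjGL_prj (g : GL (Fin 2) F) (A : SpecialLinearGroup (Fin 2) F) :
    conjGL g (prj A) = prj (conjSL g A) := rfl

/-- a field automorphism acting on `SL₂`. -/
def fieldAutSL : RingAut F →* MulAut (SpecialLinearGroup (Fin 2) F) where
  toFun τ := slCongr τ
  map_one' := MulEquiv.ext fun A => Subtype.ext (by
    ext i j
    rfl)
  map_mul' τ₁ τ₂ := MulEquiv.ext fun A => Subtype.ext (by
    ext i j
    rfl)

lemma fieldAutSL_val (τ : RingAut F) (A : SpecialLinearGroup (Fin 2) F) :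
    (fieldAutSL τ A).val = A.val.map τ := rfl

/-- a field automorphism acting on `PSL₂`. -/
def fieldAut : RingAut F →* MulAut (ProjectiveSpecialLinearGroup (Fin 2) F) :=
  (autQuot (Subgroup.center (SpecialLinearGroup (Fin 2) F))).comp fieldAutSL

lemma fieldAut_prj (τ : RingAut F) (A : SpecialLinearGroup (Fin 2) F) :
    fieldAut τ (prj A) = prj (fieldAutSL τ A) := rfl

end

end Cfsg.Agent.Lib.Helper07

namespace Cfsg.Agent.Lib.Helper07

open Matrix

section
variable {F : Type*} [Field F]

lemma conjSL_eq_of_mul_eq {g : GL (Fin 2) F} {A B : SpecialLinearGroup (Fin 2) F}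
    (h : g.val * A.val = B.val * g.val) : conjSL g A = B := by
  apply Subtype.ext
  rw [conjSL_val, h, mul_assoc, Units.mul_inv, mul_one]

/-- the diagonal matrix `diag(c, 1)`. -/
noncomputable def diagGL (c : F) (hc : c ≠ 0) : GL (Fin 2) F :=
  GeneralLinearGroup.mkOfDetNeZero !![c, 0; 0, 1] (by simpa [det_fin_two] using hc)

lemma diagGL_val (c : F) (hc : c ≠ 0) : (diagGL c hc).val = !![c, 0; 0, 1] := rfl

lemma conjGL_diag_x (c : F) (hc : c ≠ 0) (t : F) :
    conjGL (diagGL c hc) ((pslData F).x t) = (pslData F).x (c * t) := by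
  rw [pslData_x, pslData_x, conjGL_prj]
  congr 1
  apply conjSL_eq_of_mul_eq
  rw [diagGL_val, upSL_val, upSL_val, upT, upT]
  simp only [Matrix.mul_fin_two]
  ext i j; fin_cases i <;> fin_cases j <;> simp

lemma conjGL_diag_y (c : F) (hc : c ≠ 0) (t : F) :
    conjGL (diagGL c hc) ((pslData F).y t) = (pslData F).y (c⁻¹ * t) := by
  rw [pslData_y, pslData_y, conjGL_prj]
  congr 1
  apply conjSL_eq_of_mul_eq
  rw [diagGL_val, loSL_val, loSL_val, loT, loT]
  simp only [Matrix.mul_fin_two]
  ext i j; fin_cases i <;> fin_cases j <;> simp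
  field_simp

lemma conjGL_toGL (M : SpecialLinearGroup (Fin 2) F) :
    conjGL (SpecialLinearGroup.toGL M) = MulAut.conj (prj M) := by
  ext z
  obtain ⟨A, rfl⟩ := prj_surjective z
  rw [conjGL_prj, MulAut.conj_apply, ← map_inv, ← map_mul, ← map_mul]
  congr 1

lemma fieldAut_x (τ : RingAut F) (t : F) :
    fieldAut τ ((pslData F).x t) = (pslData F).x (τ t) := by
  rw [pslData_x, pslData_x, fieldAut_prj]
  congr 1
  apply Subtype.ext
  rw [fieldAutSL_val, upSL_val, upSL_val, upT, upT]
  ext i j; fin_cases i <;> fin_cases j <;> simp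

lemma fieldAut_y (τ : RingAut F) (t : F) :
    fieldAut τ ((pslData F).y t) = (pslData F).y (τ t) := by
  rw [pslData_y, pslData_y, fieldAut_prj]
  congr 1
  apply Subtype.ext
  rw [fieldAutSL_val, loSL_val, loSL_val, loT, loT]
  ext i j; fin_cases i <;> fin_cases j <;> simp

/-- automorphisms agreeing on the root groups are equal. -/
lemma mulAut_ext_root {α β : MulAut (ProjectiveSpecialLinearGroup (Fin 2) F)}
    (hx : ∀ t, α ((pslData F).x t) = β ((pslData F).x t))
    (hy : ∀ t, α ((pslData F).y t) = β ((pslData F).y t)) : α = β := by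
  have h : (α.toMonoidHom : _ →* _) = β.toMonoidHom := by
    apply MonoidHom.eq_of_eqOn_dense (pslData_gen (F := F))
    rintro z (⟨t, rfl⟩ | ⟨t, rfl⟩)
    · exact hx t
    · exact hy t
  ext z
  exact DFunLike.congr_fun h z

end

section
variable {F : Type*} [Field F] [Fintype F] (p : ℕ) [Fact p.Prime] [CharP F p]

include p in
/-- every automorphism of `PSL₂(F)` is a `GL₂`-conjugation times a field automorphism. -/
theorem aut_eq_conjGL_mul_fieldAut (α : MulAut (ProjectiveSpecialLinearGroup (Fin 2) F)) :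
    ∃ (g : GL (Fin 2) F) (τ : RingAut F), α = conjGL g * fieldAut τ := by
  obtain ⟨g₀, c, τ, hc, hx, hy⟩ := aut_normal_form p α
  obtain ⟨M, rfl⟩ := prj_surjective g₀
  refine ⟨SpecialLinearGroup.toGL M * diagGL c hc, τ, ?_⟩
  apply mulAut_ext_root
  · intro t
    rw [hx, map_mul, MulAut.mul_apply, MulAut.mul_apply, fieldAut_x, conjGL_diag_x, conjGL_toGL,
      MulAut.conj_apply]
  · intro t
    rw [hy, map_mul, MulAut.mul_apply, MulAut.mul_apply, fieldAut_y, conjGL_diag_y, conjGL_toGL,
      MulAut.conj_apply]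

end

end Cfsg.Agent.Lib.Helper07
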