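import Mathlib
import Cfsg.Agent.Lib.Helper07.AutPSL4
import Cfsg.Agent.Lib.Helper07.GL2Sylow
import Cfsg.Agent.Lib.Helper07.PGLCard

set_option autoImplicit false

namespace Cfsg.Agent.Lib.Helper07

open Matrix

section
variable {F : Type*} [Field F]

lemma conjGL_x_data {g : GL (Fin 2) F} {t s : F}
    (h : conjGL g ((pslData F).x t) = (pslData F).x s) :
    ∃ r : F, r * r = 1 ∧ upT s * g.val = r • (g.val * upT t) := by
  rw [pslData_x, pslData_x, conjGL_prj, prj_eq_iff] at h
  obtain ⟨r, hr, h⟩ := h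
  refine ⟨r, hr, ?_⟩
  rw [upSL_val, conjSL_val, upSL_val] at h
  rw [h, Matrix.smul_mul, mul_assoc, Units.inv_mul, mul_one]

lemma conjGL_y_data {g : GL (Fin 2) F} {t s : F}
    (h : conjGL g ((pslData F).y t) = (pslData F).y s) :
    ∃ r : F, r * r = 1 ∧ loT s * g.val = r • (g.val * loT t) := by
  rw [pslData_y, pslData_y, conjGL_prj, prj_eq_iff] at h
  obtain ⟨r, hr, h⟩ := h
  refine ⟨r, hr, ?_⟩
  rw [loSL_val, conjSL_val, loSL_val] at h
  rw [h, Matrix.smul_mul, mul_assoc, Units.inv_mul, mul_one]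

/-- if `g` maps `x(1)` to `x(1)` then `g` is upper triangular with equal diagonal entries. -/
lemma upper_of_conjGL_x_one {g : GL (Fin 2) F}
    (h : conjGL g ((pslData F).x 1) = (pslData F).x 1) :
    g.val 1 0 = 0 ∧ g.val 0 0 = g.val 1 1 := by
  obtain ⟨r, hr, h⟩ := conjGL_x_data h
  have h00 := congrFun (congrFun h 0) 0
  have h01 := congrFun (congrFun h 0) 1
  have h10 := congrFun (congrFun h 1) 0
  have h11 := congrFun (congrFun h 1) 1
  simp [upT, Matrix.mul_apply, Fin.sum_univ_two] at h00 h01 h10 h11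
  have hc : g.val 1 0 = 0 := by
    by_contra hc
    have hr1 : r = 1 := by
      have : (r - 1) * g.val 1 0 = 0 := by linear_combination -h10
      rcases mul_eq_zero.mp this with h | h
      · exact sub_eq_zero.mp h
      · exact absurd h hc
    rw [hr1] at h11
    apply hc
    linear_combination -h11
  refine ⟨hc, ?_⟩
  have ha := (diag_ne_zero_of_lower_zero hc).1
  have hr1 : r = 1 := by
    rw [hc] at h00
    have : (r - 1) * g.val 0 0 = 0 := by linear_combination -h00
    rcases mul_eq_zero.mp this with h | h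
    · exact sub_eq_zero.mp h
    · exact absurd h ha
  rw [hr1] at h01
  linear_combination -h01

lemma lower_of_conjGL_y_one {g : GL (Fin 2) F}
    (h : conjGL g ((pslData F).y 1) = (pslData F).y 1) (h10 : g.val 1 0 = 0) :
    g.val 0 1 = 0 := by
  obtain ⟨r, hr, h⟩ := conjGL_y_data h
  have h00 := congrFun (congrFun h 0) 0
  have h01 := congrFun (congrFun h 0) 1
  simp [loT, Matrix.mul_apply, Fin.sum_univ_two] at h00 h01
  have hd := (diag_ne_zero_of_lower_zero h10).1
  by_contra hb
  have hr1 : r = 1 := by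
    have : (r - 1) * g.val 0 1 = 0 := by linear_combination -h01
    rcases mul_eq_zero.mp this with h | h
    · exact sub_eq_zero.mp h
    · exact absurd h hb
  rw [hr1] at h00
  apply hb
  linear_combination -h00

/-- rigidity: a `GL₂`-conjugation equal to a field automorphism is trivial. -/
theorem rigid {g : GL (Fin 2) F} {τ : RingAut F} (h : conjGL g = fieldAut τ) :
    (g.val 1 0 = 0 ∧ g.val 0 1 = 0 ∧ g.val 0 0 = g.val 1 1) ∧ τ = 1 := by
  have hx1 : conjGL g ((pslData F).x 1) = (pslData F).x 1 := by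
    rw [h, fieldAut_x, map_one]
  have hy1 : conjGL g ((pslData F).y 1) = (pslData F).y 1 := by
    rw [h, fieldAut_y, map_one]
  obtain ⟨hc, had⟩ := upper_of_conjGL_x_one hx1
  have hb := lower_of_conjGL_y_one hy1 hc
  refine ⟨⟨hc, hb, had⟩, ?_⟩
  ext t
  have hxt : conjGL g ((pslData F).x t) = (pslData F).x (τ t) := by rw [h, fieldAut_x]
  obtain ⟨r, hr, e⟩ := conjGL_x_data hxt
  have h00 := congrFun (congrFun e 0) 0
  have h01 := congrFun (congrFun e 0) 1
  simp [upT, Matrix.mul_apply, Fin.sum_univ_two, hc, hb] at h00 h01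
  have ha := (diag_ne_zero_of_lower_zero hc).1
  have hr1 : r = 1 := by
    have : (r - 1) * g.val 0 0 = 0 := by linear_combination -h00
    rcases mul_eq_zero.mp this with h | h
    · exact sub_eq_zero.mp h
    · exact absurd h ha
  rw [hr1, ← had] at h01
  have : (τ t - t) * g.val 0 0 = 0 := by linear_combination h01
  rcases mul_eq_zero.mp this with h | h
  · exact sub_eq_zero.mp h
  · exact absurd h ha

/-- field automorphisms normalise the `GL₂`-conjugations. -/
lemma fieldAut_mul_conjGL (τ : RingAut F) (g : GL (Fin 2) F) :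
    fieldAut τ * conjGL g = conjGL (GeneralLinearGroup.map (τ : F →+* F) g) * fieldAut τ := by
  ext z
  obtain ⟨A, rfl⟩ := prj_surjective z
  rw [MulAut.mul_apply, MulAut.mul_apply, conjGL_prj, fieldAut_prj, fieldAut_prj, conjGL_prj]
  congr 1
  apply Subtype.ext
  rw [fieldAutSL_val, conjSL_val, conjSL_val, fieldAutSL_val, ← GeneralLinearGroup.map_inv]
  rw [Matrix.map_mul, Matrix.map_mul]
  rfl

end

end Cfsg.Agent.Lib.Helper07
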