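import Mathlib
import Cfsg.Agent.Lib.Helper07.AutPSL5
import Cfsg.Prelude.Def_KGroupFacts

set_option autoImplicit false

namespace Cfsg.Agent.Lib.Helper07

open Matrix

section
variable {F : Type*} [Field F] [Fintype F] (p : ℕ) [Fact p.Prime] [CharP F p]

local notation "G" => ProjectiveSpecialLinearGroup (Fin 2) F

include p in
lemma conjGL_range_normal : (conjGL (F := F)).range.Normal := by
  constructor
  rintro _ ⟨h, rfl⟩ α
  obtain ⟨g, τ, rfl⟩ := aut_eq_conjGL_mul_fieldAut p α
  have e : conjGL g * fieldAut τ * conjGL h * (conjGL g * fieldAut τ)⁻¹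
      = conjGL (g * GeneralLinearGroup.map (τ : F →+* F) h * g⁻¹) := by
    rw [map_mul, map_mul, map_inv, mul_assoc (conjGL g), fieldAut_mul_conjGL]
    group
  rw [e]
  exact ⟨_, rfl⟩

/-- the ring automorphisms of a finite field of characteristic `p` are its `ZMod p`-algebra
automorphisms. -/
noncomputable def ringAutEquivGal :
    letI := ZMod.algebra F p
    RingAut F ≃* (F ≃ₐ[ZMod p] F) :=
  letI := ZMod.algebra F p
  { toFun := fun τ => AlgEquiv.ofRingEquiv (f := τ) (fun r => by
      have : ((τ : F →+* F).comp (algebraMap (ZMod p) F)) = algebraMap (ZMod p) F :=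
        Subsingleton.elim _ _
      exact DFunLike.congr_fun this r)
    invFun := fun σ => σ.toRingEquiv
    left_inv := fun τ => by ext; rfl
    right_inv := fun σ => by ext; rfl
    map_mul' := fun τ₁ τ₂ => by ext; rfl }

include p in
lemma isCyclic_ringAut : IsCyclic (RingAut F) := by
  let _ := ZMod.algebra F p
  exact isCyclic_of_surjective (ringAutEquivGal (F := F) p).symm (ringAutEquivGal (F := F) p).symm.surjective

lemma card_ringAut {f : ℕ} (hF : Fintype.card F = p ^ f) : Nat.card (RingAut F) = f := by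
  let _ := ZMod.algebra F p
  rw [Nat.card_congr (ringAutEquivGal (F := F) p).toEquiv, IsGalois.card_aut_eq_finrank]
  have h1 : Fintype.card F = Fintype.card (ZMod p) ^ Module.finrank (ZMod p) F :=
    Module.card_eq_pow_finrank
  rw [ZMod.card, hF] at h1
  exact (Nat.pow_right_injective (Fact.out : p.Prime).two_le h1).symm

end

end Cfsg.Agent.Lib.Helper07

namespace Cfsg.Agent.Lib.Helper07

open Matrix

section
variable {F : Type*} [Field F]

local notation "G" => ProjectiveSpecialLinearGroup (Fin 2) F

lemma fieldAut_one_eq : fieldAut (F := F) 1 = 1 := map_one _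

/-- the kernel of `conjGL` is the centre of `GL₂`. -/
lemma conjGL_ker : (conjGL (F := F)).ker = Subgroup.center (GL (Fin 2) F) := by
  ext g
  rw [MonoidHom.mem_ker]
  constructor
  · intro h
    have h' : conjGL g = fieldAut (1 : RingAut F) := by rw [h, map_one]
    obtain ⟨⟨hc, hb, had⟩, -⟩ := rigid h'
    rw [GeneralLinearGroup.center_eq_range_scalar]
    have ha := (diag_ne_zero_of_lower_zero hc).1
    refine ⟨Units.mk0 _ ha, ?_⟩
    apply Units.ext
    rw [GeneralLinearGroup.coe_scalar]
    ext i j
    fin_cases i <;> fin_cases j <;> simp [hc, hb, had]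
  · intro h
    rw [Subgroup.mem_center_iff] at h
    ext z
    obtain ⟨A, rfl⟩ := prj_surjective z
    rw [conjGL_prj, MulAut.one_apply]
    congr 1
    apply conjSL_eq_of_mul_eq
    have := h (SpecialLinearGroup.toGL A)
    have h2 := congrArg Units.val this
    rw [Units.val_mul, Units.val_mul] at h2
    exact h2.symm

lemma mulAut_conj_injective :
    Function.Injective (MulAut.conj : G →* MulAut G) := by
  rw [injective_iff_map_eq_one]
  intro z hz
  obtain ⟨M, rfl⟩ := prj_surjective z
  rw [← conjGL_toGL] at hz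
  have hmem : SpecialLinearGroup.toGL M ∈ (conjGL (F := F)).ker := hz
  rw [conjGL_ker, Subgroup.mem_center_iff] at hmem
  have hM : M ∈ Subgroup.center (SpecialLinearGroup (Fin 2) F) := by
    rw [Subgroup.mem_center_iff]
    intro A
    have := hmem (SpecialLinearGroup.toGL A)
    rw [← map_mul, ← map_mul] at this
    exact SpecialLinearGroup.toGL_injective this
  exact (QuotientGroup.eq_one_iff M).mpr hM

end

end Cfsg.Agent.Lib.Helper07

namespace Cfsg.Agent.Lib.Helper07

open Matrix

section
variable {F : Type*} [Field F] [Fintype F] (p : ℕ) [Fact p.Prime] [CharP F p]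

local notation "G" => ProjectiveSpecialLinearGroup (Fin 2) F

lemma card_conjGL_range :
    Nat.card (conjGL (F := F)).range = Nat.card (SpecialLinearGroup (Fin 2) F) := by
  rw [← Subgroup.index_ker, conjGL_ker, ← card_pgl_eq_card_sl 2]
  rfl

lemma card_inn : Nat.card (Cfsg.Inn G) = Nat.card G :=
  (Nat.card_congr (MonoidHom.ofInjective (mulAut_conj_injective (F := F))).toEquiv).symm

lemma inn_le_conjGL_range : Cfsg.Inn G ≤ (conjGL (F := F)).range := by
  rintro _ ⟨z, rfl⟩
  obtain ⟨M, rfl⟩ := prj_surjective z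
  exact ⟨SpecialLinearGroup.toGL M, conjGL_toGL M⟩

end

end Cfsg.Agent.Lib.Helper07

namespace Cfsg.Agent.Lib.Helper07

open Matrix

section
variable {F : Type*} [Field F] [Fintype F] (p : ℕ) [Fact p.Prime] [CharP F p]

local notation "G" => ProjectiveSpecialLinearGroup (Fin 2) F

/-- the structure of `Out(PSL₂(q))`. -/
theorem out_psl_two {f : ℕ} (hF : Fintype.card F = p ^ f) :
    ∃ φ : Cfsg.Out G →* Multiplicative (ZMod f),
      Function.Surjective φ ∧ IsCyclic φ.ker ∧ Nat.card φ.ker = Nat.gcd 2 (p ^ f - 1) := by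
  have hDn : (conjGL (F := F)).range.Normal := conjGL_range_normal p
  set D : Subgroup (MulAut G) := (conjGL (F := F)).range with hD
  let Ψ : RingAut F →* MulAut G ⧸ D := (QuotientGroup.mk' D).comp fieldAut
  have hΨ : Function.Bijective Ψ := by
    constructor
    · rw [injective_iff_map_eq_one]
      intro τ hτ
      have h1 : fieldAut τ ∈ D := (QuotientGroup.eq_one_iff _).mp hτ
      obtain ⟨g, hg⟩ := h1
      exact (rigid hg).2
    · intro z
      obtain ⟨α, rfl⟩ := QuotientGroup.mk'_surjective D z
      obtain ⟨g, τ, rfl⟩ := aut_eq_conjGL_mul_fieldAut p α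
      refine ⟨τ, ?_⟩
      show QuotientGroup.mk' D (fieldAut τ) = QuotientGroup.mk' D (conjGL g * fieldAut τ)
      rw [map_mul]
      have : QuotientGroup.mk' D (conjGL g) = 1 :=
        (QuotientGroup.eq_one_iff _).mpr ⟨g, rfl⟩
      rw [this, one_mul]
  have hcard := card_ringAut p hF
  have hcyc := isCyclic_ringAut (F := F) p
  have hfin : Finite (RingAut F) :=
    Finite.of_injective (fun τ : RingAut F => (τ : F → F)) DFunLike.coe_injective
  have hfpos : 0 < f := by rw [← hcard]; exact Nat.card_pos
  subst hcard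
  let e₂ : Multiplicative (ZMod (Nat.card (RingAut F))) ≃* RingAut F := zmodCyclicMulEquiv hcyc
  let e : MulAut G ⧸ D ≃* Multiplicative (ZMod (Nat.card (RingAut F))) :=
    (MulEquiv.ofBijective Ψ hΨ).symm.trans e₂.symm
  let q : Cfsg.Out G →* MulAut G ⧸ D :=
    QuotientGroup.map (Cfsg.Inn G) D (MonoidHom.id _) inn_le_conjGL_range
  have hq : Function.Surjective q := by
    intro z
    obtain ⟨α, rfl⟩ := QuotientGroup.mk'_surjective D z
    exact ⟨QuotientGroup.mk α, rfl⟩
  let φ : Cfsg.Out G →* Multiplicative (ZMod (Nat.card (RingAut F))) := e.toMonoidHom.comp q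
  have hφ : Function.Surjective φ := e.surjective.comp hq
  -- cardinalities
  have c1 : Nat.card (Cfsg.Out G) = Nat.card (RingAut F) * Nat.card φ.ker := by
    rw [Subgroup.card_eq_card_quotient_mul_card_subgroup φ.ker,
      Nat.card_congr (QuotientGroup.quotientKerEquivOfSurjective φ hφ).toEquiv]
    congr 1
    rw [Nat.card_congr Multiplicative.toAdd, Nat.card_zmod]
  have c2 : Nat.card (MulAut G) = Nat.card (Cfsg.Out G) * Nat.card (Cfsg.Inn G) :=
    Subgroup.card_eq_card_quotient_mul_card_subgroup _
  have c3 : Nat.card (MulAut G) = Nat.card (RingAut F) * Nat.card D := by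
    rw [Subgroup.card_eq_card_quotient_mul_card_subgroup D, Nat.card_congr e.toEquiv]
    congr 1
    rw [Nat.card_congr Multiplicative.toAdd, Nat.card_zmod]
  have c4 : Nat.card D = Nat.card G * Nat.gcd 2 (Fintype.card F - 1) := by
    rw [hD, card_conjGL_range, card_sl_eq_card_psl_mul 2 (by norm_num)]
  have c5 : Nat.card φ.ker = Nat.gcd 2 (Fintype.card F - 1) := by
    rw [c1, card_inn] at c2
    rw [c4] at c3
    have hGpos : 0 < Nat.card G := Nat.card_pos
    have : Nat.card (RingAut F) * (Nat.card φ.ker * Nat.card G)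
        = Nat.card (RingAut F) * (Nat.gcd 2 (Fintype.card F - 1) * Nat.card G) := by
      calc Nat.card (RingAut F) * (Nat.card φ.ker * Nat.card G)
          = Nat.card (RingAut F) * Nat.card φ.ker * Nat.card G := by ring
        _ = Nat.card (MulAut G) := c2.symm
        _ = _ := by rw [c3]; ring
    exact Nat.eq_of_mul_eq_mul_right hGpos (Nat.eq_of_mul_eq_mul_left hfpos this)
  refine ⟨φ, hφ, ?_, by rw [c5, hF]⟩
  have hdvd : Nat.gcd 2 (Fintype.card F - 1) ∣ 2 := Nat.gcd_dvd_left _ _
  rcases (Nat.dvd_prime Nat.prime_two).mp hdvd with h1 | h2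
  · rw [h1] at c5
    have : Subsingleton φ.ker := (Nat.card_eq_one_iff_unique.mp c5).1
    exact isCyclic_of_subsingleton
  · rw [h2] at c5
    have : Fact (Nat.Prime 2) := ⟨Nat.prime_two⟩
    exact isCyclic_of_prime_card c5

end

end Cfsg.Agent.Lib.Helper07
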