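import Mathlib

set_option autoImplicit false

/-! Sylow 2-subgroups of `PGL₂(q)`, `q` a Mersenne prime: the normaliser of a non-split torus
is a 2-group, and any two of its conjugates meet non-trivially. -/

namespace Cfsg.Agent.Lib.Helper07

open Matrix
open scoped Pointwise

section mat
variable {F : Type*} [Field F]

/-- the matrix `[[0,-1],[1,0]]`, a square root of `-1`. -/
def rotI : Matrix (Fin 2) (Fin 2) F := !![0, -1; 1, 0]

@[simp] lemma rotI_00 : (rotI : Matrix (Fin 2) (Fin 2) F) 0 0 = 0 := rfl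
@[simp] lemma rotI_01 : (rotI : Matrix (Fin 2) (Fin 2) F) 0 1 = -1 := rfl
@[simp] lemma rotI_10 : (rotI : Matrix (Fin 2) (Fin 2) F) 1 0 = 1 := rfl
@[simp] lemma rotI_11 : (rotI : Matrix (Fin 2) (Fin 2) F) 1 1 = 0 := rfl

lemma rotI_sq : (rotI : Matrix (Fin 2) (Fin 2) F) * rotI = -1 := by
  ext i j; fin_cases i <;> fin_cases j <;> simp [Matrix.mul_apply, Fin.sum_univ_two]

lemma rotI_det : (rotI : Matrix (Fin 2) (Fin 2) F).det = 1 := by
  simp [det_fin_two]

/-- matrices commuting with `rotI`. -/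
lemma comm_rotI_iff (M : Matrix (Fin 2) (Fin 2) F) :
    M * rotI = rotI * M ↔ M 1 1 = M 0 0 ∧ M 0 1 = - M 1 0 := by
  constructor
  · intro h
    have h00 := congrFun (congrFun h 0) 0
    have h01 := congrFun (congrFun h 0) 1
    simp only [Matrix.mul_apply, Fin.sum_univ_two, rotI_00, rotI_01, rotI_10, rotI_11] at h00 h01
    constructor
    · linear_combination h01
    · linear_combination h00
  · rintro ⟨h1, h2⟩
    ext i j; fin_cases i <;> fin_cases j <;>
      simp [Matrix.mul_apply, Fin.sum_univ_two, h1, h2]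

/-- matrices anticommuting with `rotI`. -/
lemma anticomm_rotI_iff (M : Matrix (Fin 2) (Fin 2) F) :
    M * rotI = -(rotI * M) ↔ M 1 1 = - M 0 0 ∧ M 0 1 = M 1 0 := by
  constructor
  · intro h
    have h00 := congrFun (congrFun h 0) 0
    have h01 := congrFun (congrFun h 0) 1
    simp only [Matrix.mul_apply, Matrix.neg_apply, Fin.sum_univ_two, rotI_00, rotI_01, rotI_10,
      rotI_11] at h00 h01
    constructor
    · linear_combination -h01
    · linear_combination h00
  · rintro ⟨h1, h2⟩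
    ext i j; fin_cases i <;> fin_cases j <;>
      simp [Matrix.mul_apply, Fin.sum_univ_two, h1, h2]

end mat

section gl
variable {F : Type*} [Field F]

/-- `rotI` as an element of `GL₂`. -/
noncomputable def rotGL : GL (Fin 2) F :=
  GeneralLinearGroup.mkOfDetNeZero rotI (by rw [rotI_det]; exact one_ne_zero)

@[simp] lemma rotGL_val : (rotGL : GL (Fin 2) F).val = rotI := rfl

/-- the normaliser of the non-split torus `F[rotI]ˣ`: elements commuting or anticommuting
with `rotI`. -/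
def torusNorm : Subgroup (GL (Fin 2) F) where
  carrier := {g | g * rotGL = rotGL * g ∨ g * rotGL = -(rotGL * g)}
  one_mem' := Or.inl (by simp)
  mul_mem' {a b} ha hb := by
    simp only [Set.mem_ofPred_eq] at ha hb ⊢
    rcases ha with ha | ha <;> rcases hb with hb | hb
    · left; rw [mul_assoc, hb, ← mul_assoc, ha, mul_assoc]
    · right; rw [mul_assoc, hb, mul_neg, ← mul_assoc, ha, mul_assoc]
    · right; rw [mul_assoc, hb, ← mul_assoc, ha, neg_mul, mul_assoc]
    · left; rw [mul_assoc, hb, mul_neg, ← mul_assoc, ha, neg_mul, neg_neg, mul_assoc]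
  inv_mem' {a} ha := by
    simp only [Set.mem_ofPred_eq] at ha ⊢
    rcases ha with ha | ha
    · left
      calc a⁻¹ * rotGL = a⁻¹ * (rotGL * a) * a⁻¹ := by group
        _ = a⁻¹ * (a * rotGL) * a⁻¹ := by rw [ha]
        _ = rotGL * a⁻¹ := by group
    · right
      have ha' : rotGL * a = -(a * rotGL) := by rw [ha, neg_neg]
      calc a⁻¹ * rotGL = a⁻¹ * (rotGL * a) * a⁻¹ := by group
        _ = -(a⁻¹ * (a * rotGL) * a⁻¹) := by rw [ha', mul_neg, neg_mul]
        _ = -(rotGL * a⁻¹) := by congr 1; group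

lemma mem_torusNorm {g : GL (Fin 2) F} :
    g ∈ torusNorm ↔ g.val * rotI = rotI * g.val ∨ g.val * rotI = -(rotI * g.val) := by
  constructor
  · rintro (h | h)
    · left; simpa using congrArg Units.val h
    · right; simpa using congrArg Units.val h
  · rintro (h | h)
    · left; exact Units.ext (by simpa using h)
    · right; exact Units.ext (by simpa using h)

end gl

section pow

lemma rotI_pow_four_mul_add_three {F : Type*} [Field F] (m : ℕ) :
    (rotI : Matrix (Fin 2) (Fin 2) F) ^ (4 * m + 3) = -rotI := by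
  have h2 : (rotI : Matrix (Fin 2) (Fin 2) F) ^ 2 = -1 := by rw [pow_two, rotI_sq]
  have h4 : (rotI : Matrix (Fin 2) (Fin 2) F) ^ 4 = 1 := by
    rw [show 4 = 2 * 2 from rfl, pow_mul, h2]; simp
  have h3 : (rotI : Matrix (Fin 2) (Fin 2) F) ^ 3 = -rotI := by
    rw [show 3 = 2 + 1 from rfl, pow_add, h2]; simp
  rw [pow_add, pow_mul, h4, one_pow, one_mul, h3]

variable {q : ℕ} [Fact q.Prime]

lemma rotI_pow_of_mod_four (hq : q % 4 = 3) :
    (rotI : Matrix (Fin 2) (Fin 2) (ZMod q)) ^ q = -rotI := by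
  have hm : q = 4 * (q / 4) + 3 := by omega
  rw [← rotI_pow_four_mul_add_three (q / 4)]
  exact congrArg (fun n => (rotI : Matrix (Fin 2) (Fin 2) (ZMod q)) ^ n) hm

lemma comm_decomp {F : Type*} [Field F] {M : Matrix (Fin 2) (Fin 2) F}
    (h : M * rotI = rotI * M) :
    ∃ a b : F, M = a • (1 : Matrix (Fin 2) (Fin 2) F) + b • rotI := by
  obtain ⟨h1, h2⟩ := (comm_rotI_iff M).mp h
  refine ⟨M 0 0, M 1 0, ?_⟩
  ext i j; fin_cases i <;> fin_cases j <;> simp [h1, h2]

lemma pow_succ_of_comm (hq : q % 4 = 3) {M : Matrix (Fin 2) (Fin 2) (ZMod q)}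
    (h : M * rotI = rotI * M) :
    ∃ c : ZMod q, M ^ (q + 1) = c • (1 : Matrix (Fin 2) (Fin 2) (ZMod q)) := by
  obtain ⟨a, b, rfl⟩ := comm_decomp h
  refine ⟨a * a + b * b, ?_⟩
  have hc : Commute (a • (1 : Matrix (Fin 2) (Fin 2) (ZMod q))) (b • rotI) :=
    ((Commute.one_left (rotI : Matrix (Fin 2) (Fin 2) (ZMod q))).smul_left a).smul_right b
  have hq' : (a • (1 : Matrix (Fin 2) (Fin 2) (ZMod q)) + b • rotI) ^ q
      = a • (1 : Matrix (Fin 2) (Fin 2) (ZMod q)) - b • rotI := by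
    rw [add_pow_char_of_commute q hc, smul_pow, smul_pow, one_pow, ZMod.pow_card, ZMod.pow_card,
      rotI_pow_of_mod_four hq, smul_neg, sub_eq_add_neg]
  rw [pow_succ, hq']
  ext i j; fin_cases i <;> fin_cases j <;> simp [Matrix.mul_apply, Fin.sum_univ_two] <;> ring

lemma sq_of_anticomm {F : Type*} [Field F] {M : Matrix (Fin 2) (Fin 2) F}
    (h : M * rotI = -(rotI * M)) :
    M ^ 2 = (M 0 0 * M 0 0 + M 1 0 * M 1 0) • (1 : Matrix (Fin 2) (Fin 2) F) := by
  obtain ⟨h1, h2⟩ := (anticomm_rotI_iff M).mp h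
  rw [pow_two]
  ext i j; fin_cases i <;> fin_cases j <;> simp [Matrix.mul_apply, Fin.sum_univ_two, h1, h2] <;>
    ring

end pow

section pgroup

lemma scalar_mem_center {F : Type*} [Field F] {g : GL (Fin 2) F} {c : F}
    (h : g.val = c • (1 : Matrix (Fin 2) (Fin 2) F)) : g ∈ Subgroup.center (GL (Fin 2) F) :=
  Subgroup.mem_center_iff.mpr fun h' => Units.ext (by simp [h])

lemma diag_of_mem_center {F : Type*} [Field F] {g : GL (Fin 2) F}
    (h : g ∈ Subgroup.center (GL (Fin 2) F)) :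
    g.val 0 1 = 0 ∧ g.val 1 0 = 0 ∧ g.val 0 0 = g.val 1 1 := by
  rw [GeneralLinearGroup.center_eq_range_scalar] at h
  obtain ⟨u, rfl⟩ := h
  simp [GeneralLinearGroup.coe_scalar]

variable {q : ℕ} [Fact q.Prime]

omit [Fact q.Prime] in
lemma mod_four_of_mersenne {k : ℕ} (hk : q + 1 = 2 ^ k) (hq : 7 ≤ q) : q % 4 = 3 := by
  have hk2 : 2 ≤ k := by
    by_contra hlt
    have : k ≤ 1 := by omega
    have h2 : 2 ^ k ≤ 2 ^ 1 := Nat.pow_le_pow_right (by norm_num) this
    omega
  have h4 : 4 ∣ 2 ^ k := by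
    have := pow_dvd_pow 2 hk2
    simpa using this
  omega

lemma pow_mem_center {k : ℕ} (hk : q + 1 = 2 ^ k) (hq : 7 ≤ q) {g : GL (Fin 2) (ZMod q)}
    (hg : g ∈ torusNorm) : g ^ (q + 1) ∈ Subgroup.center (GL (Fin 2) (ZMod q)) := by
  have hq4 := mod_four_of_mersenne hk hq
  rcases mem_torusNorm.mp hg with h | h
  · obtain ⟨c, hc⟩ := pow_succ_of_comm hq4 h
    exact scalar_mem_center (c := c) (by rw [Units.val_pow_eq_pow_val, hc])
  · have h2 := sq_of_anticomm h
    obtain ⟨m, he⟩ : ∃ m, q + 1 = 2 * m := ⟨(q + 1) / 2, by omega⟩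
    refine scalar_mem_center (c := (g.val 0 0 * g.val 0 0 + g.val 1 0 * g.val 1 0) ^ m) ?_
    rw [Units.val_pow_eq_pow_val, he, pow_mul, h2, smul_pow, one_pow]

/-- the image of `torusNorm` in `PGL₂`. -/
def torusNormP (F : Type*) [Field F] :
    Subgroup (GL (Fin 2) F ⧸ Subgroup.center (GL (Fin 2) F)) :=
  (torusNorm : Subgroup (GL (Fin 2) F)).map (QuotientGroup.mk' _)

lemma isPGroup_torusNormP {k : ℕ} (hk : q + 1 = 2 ^ k) (hq : 7 ≤ q) :
    IsPGroup 2 (torusNormP (ZMod q)) := by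
  rintro ⟨x, g, hg, rfl⟩
  refine ⟨k, Subtype.ext ?_⟩
  rw [← hk]
  show (QuotientGroup.mk' _ g) ^ (q + 1) = 1
  rw [← map_pow]
  exact (QuotientGroup.eq_one_iff _).mpr (pow_mem_center hk hq hg)

end pgroup

section meet
variable {F : Type*} [Field F]

lemma rotGL_mul_self : (rotGL : GL (Fin 2) F) * rotGL = -1 :=
  Units.ext (by simpa using rotI_sq)

/-- the commutator-like matrix `I B - B I` anticommutes with `I`. -/
lemma bracket_anticomm_rotI (B : Matrix (Fin 2) (Fin 2) F) :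
    (rotI * B - B * rotI) * rotI = -(rotI * (rotI * B - B * rotI)) := by
  ext i j; fin_cases i <;> fin_cases j <;>
    simp [Matrix.mul_apply, Fin.sum_univ_two, Matrix.sub_apply] <;> ring

/-- the commutator-like matrix `I B - B I` anticommutes with `B` if `B² = -1`. -/
lemma bracket_anticomm (B : Matrix (Fin 2) (Fin 2) F) (hB : B * B = -1) :
    (rotI * B - B * rotI) * B = -(B * (rotI * B - B * rotI)) := by
  have hB' : ∀ M : Matrix (Fin 2) (Fin 2) F, B * (B * M) = -M := fun M => by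
    rw [← mul_assoc, hB, neg_one_mul]
  simp only [sub_mul, mul_sub, mul_assoc, hB, hB', mul_neg, mul_one]
  abel

/-- conjugates: `y⁻¹ c y` lies in `torusNorm` if `c` commutes or anticommutes with
`y I y⁻¹`. -/
lemma conj_mem_torusNorm {y c : GL (Fin 2) F}
    (h : c * (y * rotGL * y⁻¹) = y * rotGL * y⁻¹ * c ∨
      c * (y * rotGL * y⁻¹) = -(y * rotGL * y⁻¹ * c)) : y⁻¹ * c * y ∈ torusNorm := by
  rcases h with h | h
  · left
    calc y⁻¹ * c * y * rotGL = y⁻¹ * (c * (y * rotGL * y⁻¹)) * y := by group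
      _ = y⁻¹ * (y * rotGL * y⁻¹ * c) * y := by rw [h]
      _ = rotGL * (y⁻¹ * c * y) := by group
  · right
    calc y⁻¹ * c * y * rotGL = y⁻¹ * (c * (y * rotGL * y⁻¹)) * y := by group
      _ = -(y⁻¹ * (y * rotGL * y⁻¹ * c) * y) := by rw [h, mul_neg, neg_mul]
      _ = -(rotGL * (y⁻¹ * c * y)) := by congr 1; group

lemma exists_common (hns : ∀ a b : F, a * a + b * b = 0 → a = 0 ∧ b = 0) (y : GL (Fin 2) F) :
    ∃ c : GL (Fin 2) F, c ∈ torusNorm ∧ y⁻¹ * c * y ∈ torusNorm ∧
      c ∉ Subgroup.center (GL (Fin 2) F) := by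
  set b : GL (Fin 2) F := y * rotGL * y⁻¹ with hb
  have hbb : b * b = -1 := by
    calc b * b = y * (rotGL * rotGL) * y⁻¹ := by rw [hb]; group
      _ = -1 := by rw [rotGL_mul_self]; simp
  have hBB : b.val * b.val = -1 := by
    have := congrArg Units.val hbb
    simpa using this
  by_cases hC : rotI * b.val - b.val * rotI = 0
  · refine ⟨rotGL, Or.inl rfl, conj_mem_torusNorm (Or.inl ?_), ?_⟩
    · rw [← hb]
      exact Units.ext (by simpa using sub_eq_zero.mp hC)
    · intro hcen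
      have := (diag_of_mem_center hcen).2.1
      simp at this
  · set C := rotI * b.val - b.val * rotI with hCdef
    have h1 := bracket_anticomm_rotI b.val
    have h2 := bracket_anticomm b.val hBB
    rw [← hCdef] at h1 h2
    obtain ⟨e1, e2⟩ := (anticomm_rotI_iff C).mp h1
    have hne : ¬ (C 0 0 = 0 ∧ C 1 0 = 0) := by
      rintro ⟨z1, z2⟩
      apply hC
      ext i j; fin_cases i <;> fin_cases j <;> simp [e1, e2, z1, z2]
    have hdet : C.det ≠ 0 := by
      rw [det_fin_two, e1, e2]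
      intro hz
      apply hne
      apply hns
      linear_combination -hz
    set c : GL (Fin 2) F := GeneralLinearGroup.mkOfDetNeZero C hdet with hc
    have hcv : c.val = C := rfl
    refine ⟨c, mem_torusNorm.mpr (Or.inr (by rw [hcv]; exact h1)),
      conj_mem_torusNorm (Or.inr ?_), ?_⟩
    · rw [← hb]
      exact Units.ext (by simpa [hcv] using h2)
    · intro hcen
      obtain ⟨d1, d2, d3⟩ := diag_of_mem_center hcen
      rw [hcv] at d1 d2 d3
      apply hne
      refine ⟨?_, d2⟩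
      have h11 : (1 : F) * 1 + 1 * 1 ≠ 0 := fun h => one_ne_zero (hns 1 1 h).1
      have : ((1 : F) * 1 + 1 * 1) * C 0 0 = 0 := by rw [e1] at d3; linear_combination d3
      exact (mul_eq_zero.mp this).resolve_left h11

end meet

section final
variable {F : Type*} [Field F]

lemma torusNormP_inf_ne_bot (hns : ∀ a b : F, a * a + b * b = 0 → a = 0 ∧ b = 0)
    (y : GL (Fin 2) F ⧸ Subgroup.center (GL (Fin 2) F)) :
    torusNormP F ⊓ MulAut.conj y • torusNormP F ≠ ⊥ := by
  obtain ⟨y0, rfl⟩ := QuotientGroup.mk_surjective y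
  obtain ⟨c, hc1, hc2, hc3⟩ := exists_common hns y0
  intro hbot
  have hmem : (QuotientGroup.mk' (Subgroup.center (GL (Fin 2) F)) c) ∈
      torusNormP F ⊓ MulAut.conj (y0 : GL (Fin 2) F ⧸ Subgroup.center (GL (Fin 2) F)) •
        torusNormP F := by
    refine Subgroup.mem_inf.mpr ⟨Subgroup.mem_map_of_mem _ hc1, ?_⟩
    rw [Subgroup.mem_pointwise_smul_iff_inv_smul_mem]
    have : (MulAut.conj (y0 : GL (Fin 2) F ⧸ Subgroup.center (GL (Fin 2) F)))⁻¹ •
        (QuotientGroup.mk' (Subgroup.center (GL (Fin 2) F)) c) =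
        QuotientGroup.mk' (Subgroup.center (GL (Fin 2) F)) (y0⁻¹ * c * y0) := by
      simp [MulAut.smul_def]
    rw [this]
    exact Subgroup.mem_map_of_mem _ hc2
  rw [hbot, Subgroup.mem_bot] at hmem
  exact hc3 ((QuotientGroup.eq_one_iff _).mp hmem)

lemma sum_sq_zmod {q : ℕ} [Fact q.Prime] (hq : q % 4 = 3) (a b : ZMod q)
    (h : a * a + b * b = 0) : a = 0 ∧ b = 0 := by
  have hb : b = 0 := by
    by_contra hb
    have : IsSquare (-1 : ZMod q) := ⟨a / b, by field_simp; linear_combination -h⟩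
    exact (ZMod.exists_sq_eq_neg_one_iff.mp this) hq
  subst hb
  simp at h
  exact ⟨h, rfl⟩

/-- any two Sylow 2-subgroups of `PGL₂(q)`, `q ≥ 7` a Mersenne prime, meet non-trivially. -/
theorem sylow_two_meet {q k : ℕ} [Fact q.Prime] (hk : q + 1 = 2 ^ k) (hq : 7 ≤ q)
    (H : Sylow 2 (GL (Fin 2) (ZMod q) ⧸ Subgroup.center (GL (Fin 2) (ZMod q))))
    (x : GL (Fin 2) (ZMod q) ⧸ Subgroup.center (GL (Fin 2) (ZMod q))) :
    (H : Subgroup (GL (Fin 2) (ZMod q) ⧸ Subgroup.center (GL (Fin 2) (ZMod q)))) ⊓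
      MulAut.conj x • (H : Subgroup _) ≠ ⊥ := by
  have hq4 := mod_four_of_mersenne hk hq
  obtain ⟨P, hP⟩ := (isPGroup_torusNormP hk hq).exists_le_sylow
  obtain ⟨g, rfl⟩ := MulAction.exists_smul_eq
    (GL (Fin 2) (ZMod q) ⧸ Subgroup.center (GL (Fin 2) (ZMod q))) P H
  have hne := torusNormP_inf_ne_bot (sum_sq_zmod hq4) (g⁻¹ * x * g)
  intro hbot
  apply hne
  rw [eq_bot_iff]
  intro c hc
  obtain ⟨hc1, hc2⟩ := Subgroup.mem_inf.mp hc
  rw [Subgroup.mem_bot]
  have hgc : g * c * g⁻¹ ∈ ((g • P : Sylow 2 _) : Subgroup _) ⊓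
      MulAut.conj x • ((g • P : Sylow 2 _) : Subgroup _) := by
    refine Subgroup.mem_inf.mpr ⟨?_, ?_⟩
    · rw [Sylow.coe_subgroup_smul]
      rw [Subgroup.mem_pointwise_smul_iff_inv_smul_mem]
      have : (MulAut.conj g)⁻¹ • (g * c * g⁻¹) = c := by
        simp [MulAut.smul_def]; group
      rw [this]
      exact hP hc1
    · rw [Sylow.coe_subgroup_smul, Subgroup.mem_pointwise_smul_iff_inv_smul_mem,
        Subgroup.mem_pointwise_smul_iff_inv_smul_mem]
      rw [Subgroup.mem_pointwise_smul_iff_inv_smul_mem] at hc2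
      have : (MulAut.conj g)⁻¹ • (MulAut.conj x)⁻¹ • (g * c * g⁻¹) =
          (MulAut.conj (g⁻¹ * x * g))⁻¹ • c := by
        simp [MulAut.smul_def]; group
      rw [this]
      exact hP hc2
  rw [hbot, Subgroup.mem_bot] at hgc
  have : c = g⁻¹ * (g * c * g⁻¹) * g := by group
  rw [this, hgc]; group

end final

end Cfsg.Agent.Lib.Helper07
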