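import Mathlib
import Cfsg.Agent.Lib.Helper07.AutPSL6
import Cfsg.Agent.Lib.Helper07.PGL2Mersenne

set_option autoImplicit false

/-! Sylow 2-subgroups of `Aut(PSL₂(9)) = Aut(A₆)`: general transfer lemmas, `|Aut(PSL₂(q))|`,
and the 2-group `torusNormAut`. -/

open scoped Pointwise
namespace Cfsg.Agent.Lib.Helper07
open Matrix

section general
variable {A : Type*} [Group A]

/-- if a `p`-subgroup meets all its conjugates non-trivially, so does every Sylow `p`-subgroup. -/
theorem sylow_meet_of_pgroup [Finite A] {p : ℕ} [Fact p.Prime] (S : Subgroup A)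
    (hS : IsPGroup p S) (h : ∀ y : A, S ⊓ MulAut.conj y • S ≠ ⊥) (H : Sylow p A) (x : A) :
    (H : Subgroup A) ⊓ MulAut.conj x • (H : Subgroup A) ≠ ⊥ := by
  obtain ⟨P, hP⟩ := hS.exists_le_sylow
  obtain ⟨g, rfl⟩ := MulAction.exists_smul_eq A P H
  have hne := h (g⁻¹ * x * g)
  intro hbot
  apply hne
  rw [eq_bot_iff]
  intro c hc
  obtain ⟨hc1, hc2⟩ := Subgroup.mem_inf.mp hc
  rw [Subgroup.mem_bot]
  have hgc : g * c * g⁻¹ ∈ ((g • P : Sylow p _) : Subgroup _) ⊓
      MulAut.conj x • ((g • P : Sylow p _) : Subgroup _) := by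
    refine Subgroup.mem_inf.mpr ⟨?_, ?_⟩
    · rw [Sylow.coe_subgroup_smul]
      rw [Subgroup.mem_pointwise_smul_iff_inv_smul_mem]
      have : (MulAut.conj g)⁻¹ • (g * c * g⁻¹) = c := by
        simp [MulAut.smul_def]; group
      rw [this]
      exact hP hc1
    · rw [Sylow.coe_subgroup_smul, Subgroup.mem_pointwise_smul_iff_inv_smul_mem,
        Subgroup.mem_pointwise_smul_iff_inv_smul_mem]
      rw [Subgroup.mem_pointwise_smul_iff_inv_smul_mem] at hc2
      have : (MulAut.conj g)⁻¹ • (MulAut.conj x)⁻¹ • (g * c * g⁻¹) =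
          (MulAut.conj (g⁻¹ * x * g))⁻¹ • c := by
        simp [MulAut.smul_def]; group
      rw [this]
      exact hP hc2
  rw [hbot, Subgroup.mem_bot] at hgc
  have : c = g⁻¹ * (g * c * g⁻¹) * g := by group
  rw [this, hgc]; group

/-- transfer of the Sylow-meeting property along an isomorphism. -/
theorem sylow_meet_of_mulEquiv {B : Type*} [Group B] [Finite A] {p : ℕ} [Fact p.Prime]
    (Φ : A ≃* B)
    (h : ∀ (H : Sylow p B) (x : B), (H : Subgroup B) ⊓ MulAut.conj x • (H : Subgroup B) ≠ ⊥)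
    (H : Sylow p A) (x : A) :
    (H : Subgroup A) ⊓ MulAut.conj x • (H : Subgroup A) ≠ ⊥ := by
  have hf : Function.Surjective (Φ.toMonoidHom : A →* B) := Φ.surjective
  have hne := h (H.mapSurjective hf) (Φ x)
  intro hbot
  apply hne
  rw [eq_bot_iff]
  intro c hc
  obtain ⟨hc1, hc2⟩ := Subgroup.mem_inf.mp hc
  rw [Subgroup.mem_bot]
  rw [Subgroup.mem_pointwise_smul_iff_inv_smul_mem] at hc2
  rw [Sylow.coe_mapSurjective] at hc1 hc2
  obtain ⟨a, ha, rfl⟩ := hc1
  obtain ⟨b, hb, hb'⟩ := hc2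
  have ha2 : a ∈ MulAut.conj x • (H : Subgroup A) := by
    rw [Subgroup.mem_pointwise_smul_iff_inv_smul_mem]
    have : (MulAut.conj x)⁻¹ • a = b := by
      apply Φ.injective
      have hb'' : Φ b = (MulAut.conj (Φ x))⁻¹ • Φ a := hb'
      rw [hb'']
      simp [MulAut.smul_def]
    rw [this]
    exact hb
  have : a ∈ (H : Subgroup A) ⊓ MulAut.conj x • (H : Subgroup A) := Subgroup.mem_inf.mpr ⟨ha, ha2⟩
  rw [hbot, Subgroup.mem_bot] at this
  rw [this]
  exact map_one Φ.toMonoidHom

end general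

section embed
variable {G : Type*} [Group G] {L : Type*} [Group L]

/-- the conjugation action on a normal subgroup, transported to an isomorphic copy. -/
noncomputable def conjEmbed (N : Subgroup G) [N.Normal] (e : N ≃* L) : G →* MulAut L :=
  (MulAut.congr e).toMonoidHom.comp (MulAut.conjNormal (H := N))

lemma conjEmbed_injective (N : Subgroup G) [N.Normal] (e : N ≃* L)
    (hC : Subgroup.centralizer (N : Set G) = ⊥) : Function.Injective (conjEmbed N e) := by
  rw [injective_iff_map_eq_one]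
  intro g hg
  have h1 : MulAut.conjNormal (H := N) g = 1 := by
    apply (MulAut.congr e).injective
    rw [map_one]
    exact hg
  have h2 : g ∈ Subgroup.centralizer (N : Set G) := by
    rw [Subgroup.mem_centralizer_iff]
    intro n hn
    have h3 := congrArg (fun α : MulAut N => ((α ⟨n, hn⟩ : N) : G)) h1
    simp only [MulAut.conjNormal_apply, MulAut.one_apply] at h3
    calc n * g = (g * n * g⁻¹) * g := by rw [h3]
      _ = g * n := by group
  rw [hC, Subgroup.mem_bot] at h2
  exact h2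

/-- a group with a normal subgroup `N ≅ L` with trivial centraliser and `|G| = |Aut L|` is
isomorphic to `Aut L`. -/
theorem nonempty_mulEquiv_mulAut [Finite L] (N : Subgroup G) [N.Normal] (e : N ≃* L)
    (hC : Subgroup.centralizer (N : Set G) = ⊥) (hcard : Nat.card (MulAut L) ≤ Nat.card G) :
    Nonempty (G ≃* MulAut L) := by
  have : Finite (MulAut L) :=
    Finite.of_injective (fun τ : MulAut L => (τ : L → L)) DFunLike.coe_injective
  exact ⟨MulEquiv.ofBijective (conjEmbed N e)
    ((conjEmbed_injective N e hC).bijective_of_nat_card_le hcard)⟩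

end embed

section card
variable {F : Type*} [Field F] [Fintype F] (p : ℕ) [Fact p.Prime] [CharP F p]

local notation "G" => ProjectiveSpecialLinearGroup (Fin 2) F

/-- `|Aut(PSL₂(p^f))| = f · |SL₂(p^f)|`. -/
theorem card_mulAut_psl_two {f : ℕ} (hF : Fintype.card F = p ^ f) :
    Nat.card (MulAut G) = f * Nat.card (SpecialLinearGroup (Fin 2) F) := by
  have hDn : (conjGL (F := F)).range.Normal := conjGL_range_normal p
  set D : Subgroup (MulAut G) := (conjGL (F := F)).range with hD
  let Ψ : RingAut F →* MulAut G ⧸ D := (QuotientGroup.mk' D).comp fieldAut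
  have hΨ : Function.Bijective Ψ := by
    constructor
    · rw [injective_iff_map_eq_one]
      intro τ hτ
      have h1 : fieldAut τ ∈ D := (QuotientGroup.eq_one_iff _).mp hτ
      obtain ⟨g, hg⟩ := h1
      exact (rigid hg).2
    · intro z
      obtain ⟨α, rfl⟩ := QuotientGroup.mk'_surjective D z
      obtain ⟨g, τ, rfl⟩ := aut_eq_conjGL_mul_fieldAut p α
      refine ⟨τ, ?_⟩
      show QuotientGroup.mk' D (fieldAut τ) = QuotientGroup.mk' D (conjGL g * fieldAut τ)
      rw [map_mul]
      have : QuotientGroup.mk' D (conjGL g) = 1 :=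
        (QuotientGroup.eq_one_iff _).mpr ⟨g, rfl⟩
      rw [this, one_mul]
  rw [Subgroup.card_eq_card_quotient_mul_card_subgroup D,
    ← Nat.card_congr (Equiv.ofBijective Ψ hΨ), card_ringAut p hF, hD, card_conjGL_range]

end card

section mon
variable {F : Type*} [Field F]

/-- the monomial subgroup of `GL₂`. -/
def monGL : Subgroup (GL (Fin 2) F) where
  carrier := {g | (g.val 0 1 = 0 ∧ g.val 1 0 = 0) ∨ (g.val 0 0 = 0 ∧ g.val 1 1 = 0)}
  one_mem' := Or.inl (by simp)
  mul_mem' {a b} ha hb := by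
    simp only [Set.mem_ofPred_eq] at ha hb ⊢
    rcases ha with ⟨h1, h2⟩ | ⟨h1, h2⟩ <;> rcases hb with ⟨h3, h4⟩ | ⟨h3, h4⟩
    · left; simp [Matrix.mul_apply, Fin.sum_univ_two, h1, h2, h3, h4]
    · right; simp [Matrix.mul_apply, Fin.sum_univ_two, h1, h2, h3, h4]
    · right; simp [Matrix.mul_apply, Fin.sum_univ_two, h1, h2, h3, h4]
    · left; simp [Matrix.mul_apply, Fin.sum_univ_two, h1, h2, h3, h4]
  inv_mem' {a} ha := by
    simp only [Set.mem_ofPred_eq] at ha ⊢
    rw [Matrix.coe_units_inv, Matrix.inv_def, Matrix.adjugate_fin_two]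
    rcases ha with ⟨h1, h2⟩ | ⟨h1, h2⟩
    · left; simp [h1, h2]
    · right; simp [h1, h2]

lemma mem_monGL {g : GL (Fin 2) F} : g ∈ monGL ↔
    (g.val 0 1 = 0 ∧ g.val 1 0 = 0) ∨ (g.val 0 0 = 0 ∧ g.val 1 1 = 0) := Iff.rfl

lemma map_mem_monGL (τ : RingAut F) {g : GL (Fin 2) F} (hg : g ∈ monGL) :
    GeneralLinearGroup.map (τ : F →+* F) g ∈ monGL := by
  rcases hg with ⟨h1, h2⟩ | ⟨h1, h2⟩
  · left
    simp [GeneralLinearGroup.map, h1, h2]
  · right
    simp [GeneralLinearGroup.map, h1, h2]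

/-- the image of the monomial group in `Aut(PSL₂)`. -/
def monAut (F : Type*) [Field F] : Subgroup (MulAut (ProjectiveSpecialLinearGroup (Fin 2) F)) :=
  (monGL : Subgroup (GL (Fin 2) F)).map conjGL

/-- the normaliser in `Aut(PSL₂)` of the diagonal torus: monomial conjugations and field
automorphisms. -/
def torusNormAut (F : Type*) [Field F] :
    Subgroup (MulAut (ProjectiveSpecialLinearGroup (Fin 2) F)) :=
  (fieldAut (F := F)).range ⊔ monAut F

lemma conjGL_mem_torusNormAut {m : GL (Fin 2) F} (hm : m ∈ monGL) :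
    conjGL m ∈ torusNormAut F :=
  (le_sup_right : monAut F ≤ torusNormAut F) (Subgroup.mem_map_of_mem _ hm)

lemma fieldAut_mem_torusNormAut (τ : RingAut F) : fieldAut τ ∈ torusNormAut F :=
  (le_sup_left : (fieldAut (F := F)).range ≤ torusNormAut F) ⟨τ, rfl⟩

lemma conj_fieldAut_conjGL (τ : RingAut F) (g : GL (Fin 2) F) :
    fieldAut τ * conjGL g * (fieldAut τ)⁻¹ = conjGL (GeneralLinearGroup.map (τ : F →+* F) g) := by
  rw [fieldAut_mul_conjGL, mul_inv_cancel_right]

lemma conj_fieldAut_mem_monAut (τ : RingAut F)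
    {x : MulAut (ProjectiveSpecialLinearGroup (Fin 2) F)} (hx : x ∈ monAut F) :
    fieldAut τ * x * (fieldAut τ)⁻¹ ∈ monAut F := by
  obtain ⟨m, hm, rfl⟩ := hx
  rw [conj_fieldAut_conjGL]
  exact Subgroup.mem_map_of_mem _ (map_mem_monGL τ hm)

lemma fieldAut_range_le_normalizer :
    (fieldAut (F := F)).range ≤ Subgroup.normalizer ((monAut F : Subgroup _) : Set _) := by
  rintro _ ⟨τ, rfl⟩
  rw [Subgroup.mem_normalizer_iff]
  intro x
  constructor
  · exact conj_fieldAut_mem_monAut τ
  · intro hx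
    have := conj_fieldAut_mem_monAut τ⁻¹ hx
    rw [map_inv] at this
    simpa [mul_assoc] using this

end mon

section nine
variable {F : Type*} [Field F] [Fintype F]

lemma pow_eight_eq_one (hF : Fintype.card F = 9) {a : F} (ha : a ≠ 0) : a ^ 8 = 1 := by
  have := FiniteField.pow_card_sub_one_eq_one a ha
  rwa [hF] at this

lemma monGL_pow_mem_center (hF : Fintype.card F = 9) {m : GL (Fin 2) F} (hm : m ∈ monGL) :
    m ^ 8 ∈ Subgroup.center (GL (Fin 2) F) := by
  have hdet : m.val.det ≠ 0 := by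
    have := m.isUnit.map (Matrix.detMonoidHom (n := Fin 2) (R := F))
    exact this.ne_zero
  rw [det_fin_two] at hdet
  rcases hm with ⟨h1, h2⟩ | ⟨h1, h2⟩
  · rw [h1, zero_mul, sub_zero] at hdet
    have ha := left_ne_zero_of_mul hdet
    have hb := right_ne_zero_of_mul hdet
    have hm : m.val = Matrix.diagonal ![m.val 0 0, m.val 1 1] := by
      ext i j; fin_cases i <;> fin_cases j <;> simp [h1, h2]
    apply scalar_mem_center (c := 1)
    rw [Units.val_pow_eq_pow_val, hm, Matrix.diagonal_pow]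
    ext i j; fin_cases i <;> fin_cases j <;>
      simp [pow_eight_eq_one hF ha, pow_eight_eq_one hF hb]
  · have hsq : m.val ^ 2 = (m.val 0 1 * m.val 1 0) • (1 : Matrix (Fin 2) (Fin 2) F) := by
      rw [pow_two]
      ext i j; fin_cases i <;> fin_cases j <;>
        simp [Matrix.mul_apply, Fin.sum_univ_two, h1, h2, mul_comm]
    apply scalar_mem_center (c := (m.val 0 1 * m.val 1 0) ^ 4)
    rw [Units.val_pow_eq_pow_val, show 8 = 2 * 4 from rfl, pow_mul, hsq, smul_pow, one_pow]

lemma isPGroup_monAut (hF : Fintype.card F = 9) : IsPGroup 2 (monAut F) := by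
  rintro ⟨x, m, hm, rfl⟩
  refine ⟨3, Subtype.ext ?_⟩
  show (conjGL m) ^ (2 ^ 3) = 1
  rw [← map_pow]
  have : m ^ (2 ^ 3) ∈ (conjGL (F := F)).ker := by
    rw [conjGL_ker]
    exact monGL_pow_mem_center hF hm
  exact this

lemma card_ringAut_nine (hF : Fintype.card F = 9) : Nat.card (RingAut F) = 2 := by
  have hF' : Fintype.card F = 3 ^ 2 := by rw [hF]; norm_num
  have : CharP F 3 := charP_of_card_eq_prime_pow hF'
  exact card_ringAut 3 hF'

lemma isPGroup_fieldAut_range (hF : Fintype.card F = 9) :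
    IsPGroup 2 (fieldAut (F := F)).range := by
  rintro ⟨x, τ, rfl⟩
  refine ⟨1, Subtype.ext ?_⟩
  show (fieldAut τ) ^ (2 ^ 1) = 1
  have h2 : τ ^ 2 = 1 := by
    have := pow_card_eq_one' (G := RingAut F) (x := τ)
    rwa [card_ringAut_nine hF] at this
  rw [← map_pow, pow_one, h2, map_one]

theorem isPGroup_torusNormAut (hF : Fintype.card F = 9) : IsPGroup 2 (torusNormAut F) :=
  IsPGroup.to_sup_of_normal_right' (isPGroup_fieldAut_range hF) (isPGroup_monAut hF)
    fieldAut_range_le_normalizer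

end nine

end Cfsg.Agent.Lib.Helper07
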