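import Mathlib
import Cfsg.Agent.Lib.Helper07.AutA6SylowA
import Cfsg.Agent.Lib.Helper07.A6Final

set_option autoImplicit false

/-! Sylow 2-subgroups of `Aut(PSL₂(9)) = Aut(A₆)` meet pairwise non-trivially. -/

open scoped Pointwise
namespace Cfsg.Agent.Lib.Helper07
open Matrix

section key
variable {F : Type*} [Field F]

/-- the diagonal matrix `diag(a, b)` in `GL₂`. -/
noncomputable def dg (a b : F) (ha : a ≠ 0) (hb : b ≠ 0) : GL (Fin 2) F :=
  GeneralLinearGroup.mkOfDetNeZero !![a, 0; 0, b] (by simpa [det_fin_two] using ⟨ha, hb⟩)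

lemma dg_val (a b : F) (ha : a ≠ 0) (hb : b ≠ 0) : (dg a b ha hb).val = !![a, 0; 0, b] := rfl

lemma dg_mem_monGL (a b : F) (ha : a ≠ 0) (hb : b ≠ 0) : dg a b ha hb ∈ monGL :=
  Or.inl (by simp [dg_val])

/-- the antidiagonal matrix `[[0, a], [b, 0]]` in `GL₂`. -/
noncomputable def adg (a b : F) (ha : a ≠ 0) (hb : b ≠ 0) : GL (Fin 2) F :=
  GeneralLinearGroup.mkOfDetNeZero !![0, a; b, 0] (by simpa [det_fin_two] using ⟨ha, hb⟩)

lemma adg_val (a b : F) (ha : a ≠ 0) (hb : b ≠ 0) : (adg a b ha hb).val = !![0, a; b, 0] := rfl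

lemma adg_mem_monGL (a b : F) (ha : a ≠ 0) (hb : b ≠ 0) : adg a b ha hb ∈ monGL :=
  Or.inr (by simp [adg_val])

lemma diag_conj_criterion (τ : RingAut F) (g : GL (Fin 2) F) {d1 d2 n1 n2 : F}
    (hd1 : d1 ≠ 0) (hd2 : d2 ≠ 0) (hn1 : n1 ≠ 0) (hn2 : n2 ≠ 0)
    (h00 : d1 * τ (g.val 0 0) = g.val 0 0 * n1) (h01 : d1 * τ (g.val 0 1) = g.val 0 1 * n2)
    (h10 : d2 * τ (g.val 1 0) = g.val 1 0 * n1) (h11 : d2 * τ (g.val 1 1) = g.val 1 1 * n2) :
    dg d1 d2 hd1 hd2 * GeneralLinearGroup.map (τ : F →+* F) g = g * dg n1 n2 hn1 hn2 := by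
  apply Units.ext
  rw [Units.val_mul, Units.val_mul, dg_val, dg_val]
  ext i j
  fin_cases i <;> fin_cases j <;>
    simp [Matrix.mul_apply, Fin.sum_univ_two, GeneralLinearGroup.map, h00, h01, h10, h11]

/-- conjugating `conjGL d * fieldAut τ` by `conjGL g`. -/
lemma conj_of_criterion {τ : RingAut F} {g d n : GL (Fin 2) F}
    (h : d * GeneralLinearGroup.map (τ : F →+* F) g = g * n) :
    (conjGL g)⁻¹ * (conjGL d * fieldAut τ) * conjGL g = conjGL n * fieldAut τ := by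
  have h' : g⁻¹ * d * GeneralLinearGroup.map (τ : F →+* F) g = n := by
    rw [mul_assoc, h, inv_mul_cancel_left]
  rw [mul_assoc, mul_assoc, fieldAut_mul_conjGL, ← mul_assoc, ← mul_assoc, ← map_inv, ← map_mul,
    ← map_mul, h']

lemma conjGL_mul_fieldAut_ne_one {τ : RingAut F} (hτ : τ ≠ 1) (d : GL (Fin 2) F) :
    conjGL d * fieldAut τ ≠ 1 := by
  intro h
  have h2 : conjGL d⁻¹ = fieldAut τ := by
    rw [map_inv, inv_eq_iff_mul_eq_one.mpr h]
  exact hτ (rigid h2).2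

/-- the element of `torusNormAut` attached to a diagonal `d` and `τ`. -/
lemma diag_elt_mem {τ : RingAut F} {d : GL (Fin 2) F} (hd : d ∈ monGL) :
    conjGL d * fieldAut τ ∈ torusNormAut F :=
  (torusNormAut F).mul_mem (conjGL_mem_torusNormAut hd) (fieldAut_mem_torusNormAut τ)

lemma common_of_entries {τ : RingAut F} (hτ : τ ≠ 1) (g : GL (Fin 2) F) {d1 d2 n1 n2 : F}
    (hd1 : d1 ≠ 0) (hd2 : d2 ≠ 0) (hn1 : n1 ≠ 0) (hn2 : n2 ≠ 0)
    (h00 : d1 * τ (g.val 0 0) = g.val 0 0 * n1) (h01 : d1 * τ (g.val 0 1) = g.val 0 1 * n2)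
    (h10 : d2 * τ (g.val 1 0) = g.val 1 0 * n1) (h11 : d2 * τ (g.val 1 1) = g.val 1 1 * n2) :
    ∃ s ∈ torusNormAut F, s ≠ 1 ∧ (conjGL g)⁻¹ * s * conjGL g ∈ torusNormAut F := by
  have hcrit := diag_conj_criterion τ g hd1 hd2 hn1 hn2 h00 h01 h10 h11
  refine ⟨conjGL (dg d1 d2 hd1 hd2) * fieldAut τ, diag_elt_mem (dg_mem_monGL _ _ _ _),
    conjGL_mul_fieldAut_ne_one hτ _, ?_⟩
  rw [conj_of_criterion hcrit]
  exact diag_elt_mem (dg_mem_monGL _ _ _ _)

/-- key lemma: for every `g ∈ GL₂` the subgroup `torusNormAut` meets its conjugate under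
`conjGL g` non-trivially (given a non-trivial field automorphism). -/
theorem exists_common_aut {τ : RingAut F} (hτ : τ ≠ 1) (g : GL (Fin 2) F) :
    ∃ s ∈ torusNormAut F, s ≠ 1 ∧ (conjGL g)⁻¹ * s * conjGL g ∈ torusNormAut F := by
  by_cases hmon : g ∈ monGL
  · refine ⟨fieldAut τ, fieldAut_mem_torusNormAut τ, ?_, ?_⟩
    · have := conjGL_mul_fieldAut_ne_one hτ (1 : GL (Fin 2) F)
      rwa [map_one, one_mul] at this
    · exact (torusNormAut F).mul_mem ((torusNormAut F).mul_mem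
        ((torusNormAut F).inv_mem (conjGL_mem_torusNormAut hmon)) (fieldAut_mem_torusNormAut τ))
        (conjGL_mem_torusNormAut hmon)
  have hdet : g.val.det ≠ 0 := by
    have := g.isUnit.map (Matrix.detMonoidHom (n := Fin 2) (R := F))
    exact this.ne_zero
  rw [det_fin_two] at hdet
  rw [mem_monGL] at hmon
  push Not at hmon
  obtain ⟨hm1, hm2⟩ := hmon
  set p := g.val 0 0 with hp
  set q := g.val 0 1 with hq
  set r := g.val 1 0 with hr
  set s := g.val 1 1 with hs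
  have hτ0 : ∀ {x : F}, x ≠ 0 → τ x ≠ 0 := fun hx => by
    rwa [Ne, EmbeddingLike.map_eq_zero_iff]
  by_cases hr0 : r = 0
  · -- upper triangular, `q ≠ 0`
    have hp0 : p ≠ 0 := by
      intro h; rw [h, hr0] at hdet; simp at hdet
    have hs0 : s ≠ 0 := by
      intro h; rw [h, hr0] at hdet; simp at hdet
    have hq0 : q ≠ 0 := fun h => hm1 h hr0
    exact common_of_entries hτ g (d1 := p * q * τ s) (d2 := p * s * τ q)
      (n1 := q * τ s * τ p) (n2 := p * τ q * τ s)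
      (mul_ne_zero (mul_ne_zero hp0 hq0) (hτ0 hs0)) (mul_ne_zero (mul_ne_zero hp0 hs0) (hτ0 hq0))
      (mul_ne_zero (mul_ne_zero hq0 (hτ0 hs0)) (hτ0 hp0))
      (mul_ne_zero (mul_ne_zero hp0 (hτ0 hq0)) (hτ0 hs0))
      (by rw [← hp]; ring) (by rw [← hq]; ring) (by rw [← hr, hr0]; simp) (by rw [← hs]; ring)
  by_cases hq0 : q = 0
  · have hp0 : p ≠ 0 := by
      intro h; rw [h, hq0] at hdet; simp at hdet
    have hs0 : s ≠ 0 := by
      intro h; rw [h, hq0] at hdet; simp at hdet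
    exact common_of_entries hτ g (d1 := p * s * τ r) (d2 := r * s * τ p)
      (n1 := s * τ p * τ r) (n2 := r * τ p * τ s)
      (mul_ne_zero (mul_ne_zero hp0 hs0) (hτ0 hr0)) (mul_ne_zero (mul_ne_zero hr0 hs0) (hτ0 hp0))
      (mul_ne_zero (mul_ne_zero hs0 (hτ0 hp0)) (hτ0 hr0))
      (mul_ne_zero (mul_ne_zero hr0 (hτ0 hp0)) (hτ0 hs0))
      (by rw [← hp]; ring) (by rw [← hq, hq0]; simp) (by rw [← hr]; ring) (by rw [← hs]; ring)
  by_cases hp0 : p = 0
  · have hs0 : s ≠ 0 := fun h => hm2 hp0 h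
    exact common_of_entries hτ g (d1 := q * r * τ s) (d2 := r * s * τ q)
      (n1 := s * τ q * τ r) (n2 := r * τ q * τ s)
      (mul_ne_zero (mul_ne_zero hq0 hr0) (hτ0 hs0)) (mul_ne_zero (mul_ne_zero hr0 hs0) (hτ0 hq0))
      (mul_ne_zero (mul_ne_zero hs0 (hτ0 hq0)) (hτ0 hr0))
      (mul_ne_zero (mul_ne_zero hr0 (hτ0 hq0)) (hτ0 hs0))
      (by rw [← hp, hp0]; simp) (by rw [← hq]; ring) (by rw [← hr]; ring) (by rw [← hs]; ring)
  by_cases hs0 : s = 0
  · exact common_of_entries hτ g (d1 := p * q * τ r) (d2 := q * r * τ p)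
      (n1 := q * τ p * τ r) (n2 := p * τ q * τ r)
      (mul_ne_zero (mul_ne_zero hp0 hq0) (hτ0 hr0)) (mul_ne_zero (mul_ne_zero hq0 hr0) (hτ0 hp0))
      (mul_ne_zero (mul_ne_zero hq0 (hτ0 hp0)) (hτ0 hr0))
      (mul_ne_zero (mul_ne_zero hp0 (hτ0 hq0)) (hτ0 hr0))
      (by rw [← hp]; ring) (by rw [← hq]; ring) (by rw [← hr]; ring) (by rw [← hs, hs0]; simp)
  -- all entries non-zero
  have hkey : adg (p * q) (r * s) (mul_ne_zero hp0 hq0) (mul_ne_zero hr0 hs0) * g =
      g * adg (q * s) (p * r) (mul_ne_zero hq0 hs0) (mul_ne_zero hp0 hr0) := by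
    apply Units.ext
    rw [Units.val_mul, Units.val_mul, adg_val, adg_val]
    ext i j
    fin_cases i <;> fin_cases j <;>
      simp [Matrix.mul_apply, Fin.sum_univ_two, ← hp, ← hq, ← hr, ← hs] <;> ring
  refine ⟨conjGL (adg (p * q) (r * s) (mul_ne_zero hp0 hq0) (mul_ne_zero hr0 hs0)),
    conjGL_mem_torusNormAut (adg_mem_monGL _ _ _ _), ?_, ?_⟩
  · intro h1
    have hk : adg (p * q) (r * s) (mul_ne_zero hp0 hq0) (mul_ne_zero hr0 hs0) ∈
        (conjGL (F := F)).ker := h1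
    rw [conjGL_ker] at hk
    have := (diag_of_mem_center hk).1
    rw [adg_val] at this
    simp at this
    rcases this with h | h
    · exact hp0 h
    · exact hq0 h
  · rw [← map_inv, ← map_mul, ← map_mul, mul_assoc, hkey, inv_mul_cancel_left]
    exact conjGL_mem_torusNormAut (adg_mem_monGL _ _ _ _)

end key

section fin
variable {F : Type*} [Field F] [Fintype F]

theorem torusNormAut_inf_ne_bot (hF : Fintype.card F = 9)
    (y : MulAut (ProjectiveSpecialLinearGroup (Fin 2) F)) :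
    torusNormAut F ⊓ MulAut.conj y • torusNormAut F ≠ ⊥ := by
  have hF' : Fintype.card F = 3 ^ 2 := by rw [hF]; norm_num
  have : CharP F 3 := charP_of_card_eq_prime_pow hF'
  obtain ⟨g, τ', rfl⟩ := aut_eq_conjGL_mul_fieldAut 3 y
  have hfin : Finite (RingAut F) :=
    Finite.of_injective (fun τ : RingAut F => (τ : F → F)) DFunLike.coe_injective
  have hnt : Nontrivial (RingAut F) := by
    rw [← Finite.one_lt_card_iff_nontrivial, card_ringAut_nine hF]
    norm_num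
  obtain ⟨τ, hτ⟩ := exists_ne (1 : RingAut F)
  obtain ⟨s, hs, hs1, hs2⟩ := exists_common_aut hτ g
  intro hbot
  have hmem : s ∈ torusNormAut F ⊓ MulAut.conj (conjGL g * fieldAut τ') • torusNormAut F := by
    refine Subgroup.mem_inf.mpr ⟨hs, ?_⟩
    rw [Subgroup.mem_pointwise_smul_iff_inv_smul_mem]
    have : (MulAut.conj (conjGL g * fieldAut τ'))⁻¹ • s =
        (fieldAut τ')⁻¹ * ((conjGL g)⁻¹ * s * conjGL g) * fieldAut τ' := by
      simp [MulAut.smul_def, mul_assoc]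
    rw [this]
    exact (torusNormAut F).mul_mem ((torusNormAut F).mul_mem
      ((torusNormAut F).inv_mem (fieldAut_mem_torusNormAut τ')) hs2) (fieldAut_mem_torusNormAut τ')
  rw [hbot, Subgroup.mem_bot] at hmem
  exact hs1 hmem

theorem sylow_two_meet_aut_psl_two_nine (hF : Fintype.card F = 9)
    (H : Sylow 2 (MulAut (ProjectiveSpecialLinearGroup (Fin 2) F)))
    (x : MulAut (ProjectiveSpecialLinearGroup (Fin 2) F)) :
    (H : Subgroup (MulAut (ProjectiveSpecialLinearGroup (Fin 2) F))) ⊓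
      MulAut.conj x • (H : Subgroup (MulAut (ProjectiveSpecialLinearGroup (Fin 2) F))) ≠ ⊥ := by
  have : Finite (MulAut (ProjectiveSpecialLinearGroup (Fin 2) F)) :=
    Finite.of_injective (fun τ : MulAut (ProjectiveSpecialLinearGroup (Fin 2) F) =>
      (τ : ProjectiveSpecialLinearGroup (Fin 2) F → ProjectiveSpecialLinearGroup (Fin 2) F))
      DFunLike.coe_injective
  exact sylow_meet_of_pgroup (torusNormAut F) (isPGroup_torusNormAut hF)
    (torusNormAut_inf_ne_bot hF) H x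

end fin

/-- `Aut(A₆)`: a group with a normal subgroup `N ≅ A₆` of index 4 with trivial centraliser has
pairwise meeting Sylow 2-subgroups. -/
theorem sylow_two_meet_aut_alt_six {G : Type*} [Group G] [Finite G] (N : Subgroup G) [N.Normal]
    (e : N ≃* alternatingGroup (Fin 6)) (hidx : N.index = 4)
    (hC : Subgroup.centralizer (N : Set G) = ⊥) (H : Sylow 2 G) (x : G) :
    (H : Subgroup G) ⊓ MulAut.conj x • (H : Subgroup G) ≠ ⊥ := by
  obtain ⟨e2⟩ := psl_two_nine_equiv_alt (F := F9) f9_card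
  let e' : N ≃* ProjectiveSpecialLinearGroup (Fin 2) F9 := e.trans e2.symm
  have hF' : Fintype.card F9 = 3 ^ 2 := by rw [f9_card]; norm_num
  have : CharP F9 3 := charP_of_card_eq_prime_pow hF'
  have c1 : Nat.card (MulAut (ProjectiveSpecialLinearGroup (Fin 2) F9)) = 1440 := by
    rw [card_mulAut_psl_two 3 hF', card_SL_two', f9_card]
    norm_num
  have c2 : Nat.card (ProjectiveSpecialLinearGroup (Fin 2) F9) = 360 := by
    have h := card_psl_two (F := F9)
    rw [f9_card] at h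
    generalize Nat.card (ProjectiveSpecialLinearGroup (Fin 2) F9) = n at h ⊢
    norm_num at h
    omega
  have c3 : Nat.card G = 1440 := by
    rw [← Subgroup.index_mul_card N, hidx, Nat.card_congr e'.toEquiv, c2]
  obtain ⟨Φ⟩ := nonempty_mulEquiv_mulAut N e' hC (by rw [c1, c3])
  exact sylow_meet_of_mulEquiv Φ (sylow_two_meet_aut_psl_two_nine f9_card) H x

end Cfsg.Agent.Lib.Helper07
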