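import Mathlib
import Cfsg.Prelude.Def_ChevB2

set_option autoImplicit false

/-! `B₂(2) ≅ S₆`: explicit Coxeter generators inside the Chevalley group. -/

namespace Cfsg.Agent.Lib.Helper07
open Cfsg.Lie Matrix

section nat
variable {F F' : Type*} [Field F] [Field F']

lemma xMat_map (D : ChevalleyDatum) (σ : F →+* F') (r : Fin D.nroots) (t : F) :
    (D.xMat F r t).map σ = D.xMat F' r (σ t) := by
  ext row col
  simp only [Matrix.map_apply, ChevalleyDatum.xMat, Matrix.of_apply]
  rcases col with i | s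
  · rcases row with i' | u
    · simp [apply_ite σ]
    · simp [apply_ite σ]
  · by_cases h1 : s = r
    · simp only [h1, if_true]
      rcases row with i' | u
      · simp
      · simp [apply_ite σ]
    · simp only [h1, if_false]
      by_cases h2 : s.val = D.negIdx.getD r.val 0
      · simp only [h2, if_true]
        rcases row with i' | u
        · simp
        · simp [apply_ite σ]
      · simp only [h2, if_false]
        rcases row with i' | u
        · simp
        · simp [apply_ite σ, map_list_sum, List.map_map, Function.comp_def]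

end nat

section b2

/-- the root elements `x_r(1)` of `B₂(2)`. -/
def b2X (r : Fin 8) : Matrix chevB2.Idx chevB2.Idx (ZMod 2) := chevB2.xMat (ZMod 2) r 1

/-- images of the Coxeter generators of `S₆`. -/
def b2S : Fin 5 → Matrix chevB2.Idx chevB2.Idx (ZMod 2) :=
  ![b2X 7, b2X 0, b2X 2 * b2X 7 * b2X 2, b2X 3, b2X 4]

set_option maxRecDepth 100000 in
lemma b2S_liftable : (CoxeterMatrix.A 5).IsLiftable b2S := by
  unfold CoxeterMatrix.IsLiftable
  decide +kernel

set_option maxRecDepth 100000 in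
lemma b2X_sq : ∀ r : Fin 8, b2X r * b2X r = 1 := by
  decide +kernel

set_option maxRecDepth 100000 in
lemma b2X_words :
    b2X 0 = b2S 1 ∧
    b2X 1 = b2S 0 * b2S 1 * b2S 0 * b2S 2 * b2S 3 * b2S 2 * b2S 4 * b2S 3 * b2S 2 * b2S 1 * b2S 0 ∧
    b2X 2 = b2S 0 * b2S 1 * b2S 0 * b2S 2 * b2S 1 * b2S 0 * b2S 4 ∧
    b2X 3 = b2S 3 ∧ b2X 4 = b2S 4 ∧
    b2X 5 = b2S 0 * b2S 2 * b2S 3 * b2S 2 * b2S 4 * b2S 3 * b2S 2 ∧
    b2X 6 = b2S 0 * b2S 2 * b2S 4 ∧
    b2X 7 = b2S 0 := by
  decide +kernel

set_option maxRecDepth 100000 in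
lemma b2S_ne : b2S 0 * b2S 1 ≠ 1 := by
  decide +kernel

end b2

end Cfsg.Agent.Lib.Helper07
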