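import Mathlib
import Cfsg.Agent.Lib.Helper07.ChevB2A
import Cfsg.Agent.Lib.Helper07.SLTransfer
import Cfsg.Agent.S2530

set_option autoImplicit false

/-! `B₂(2) ≅ S₆`: the isomorphism, and transfer of Chevalley groups along field isomorphisms. -/

namespace Cfsg.Agent.Lib.Helper07
open Cfsg.Lie Matrix

section congr
variable {F F' : Type*} [Field F] [Field F']

/-- `GL` over isomorphic rings. -/
def glCongr' {n : Type*} [Fintype n] [DecidableEq n] (σ : F ≃+* F') :
    GL n F ≃* GL n F' :=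
  Units.mapEquiv (RingEquiv.mapMatrix σ).toMulEquiv

lemma glCongr'_val {n : Type*} [Fintype n] [DecidableEq n] (σ : F ≃+* F') (g : GL n F) :
    ((glCongr' σ g : GL n F') : Matrix n n F') = (g : Matrix n n F).map σ := rfl

lemma chevGroup_map_le (D : ChevalleyDatum) (σ : F ≃+* F') :
    (D.group F).map (glCongr' (n := D.Idx) σ).toMonoidHom ≤ D.group F' := by
  unfold ChevalleyDatum.group
  rw [MonoidHom.map_closure, Subgroup.closure_le]
  rintro _ ⟨g, ⟨r, t, hg⟩, rfl⟩
  refine Subgroup.subset_closure ⟨r, σ t, ?_⟩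
  show ((glCongr' σ g : GL D.Idx F') : Matrix D.Idx D.Idx F') = _
  rw [glCongr'_val, hg]
  exact xMat_map D σ.toRingHom r t

/-- Chevalley groups over isomorphic fields are isomorphic. -/
noncomputable def chevGroupCongr (D : ChevalleyDatum) (σ : F ≃+* F') :
    ↥(D.group F) ≃* ↥(D.group F') := by
  refine ((glCongr' (n := D.Idx) σ).subgroupMap (D.group F)).trans (MulEquiv.subgroupCongr ?_)
  apply le_antisymm (chevGroup_map_le D σ)
  intro g hg
  have h := chevGroup_map_le D σ.symm (Subgroup.mem_map_of_mem _ hg)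
  refine ⟨_, h, ?_⟩
  apply Units.ext
  ext i j
  simp [glCongr'_val]

end congr

section iso

set_option maxRecDepth 100000 in
lemma b2_xMat_zero : ∀ r : Fin 8, chevB2.xMat (ZMod 2) r 0 = 1 := by
  decide +kernel

/-- the root elements as units. -/
def b2G (r : Fin 8) : GL chevB2.Idx (ZMod 2) := ⟨b2X r, b2X r, b2X_sq r, b2X_sq r⟩

lemma b2G_mem (r : Fin 8) : b2G r ∈ chevB2.group (ZMod 2) :=
  Subgroup.subset_closure ⟨r, 1, rfl⟩

theorem chevB2_two_equiv_perm : Nonempty (↥(chevB2.group (ZMod 2)) ≃* Equiv.Perm (Fin 6)) := by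
  obtain ⟨cs, hcs⟩ := Cfsg.Agent.S2530.result 5
  let φ₀ : Equiv.Perm (Fin 6) →* Matrix chevB2.Idx chevB2.Idx (ZMod 2) :=
    cs.lift ⟨b2S, b2S_liftable⟩
  have hφ₀ : ∀ i, φ₀ (cs.simple i) = b2S i := fun i => cs.lift_apply_simple b2S_liftable i
  let φ : Equiv.Perm (Fin 6) →* GL chevB2.Idx (ZMod 2) := φ₀.toHomUnits
  have hφ : ∀ w, (φ w).val = φ₀ w := fun w => rfl
  -- the range
  have hrange : φ.range = chevB2.group (ZMod 2) := by
    apply le_antisymm
    · rw [MonoidHom.range_eq_map, ← cs.subgroup_closure_range_simple, MonoidHom.map_closure,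
        Subgroup.closure_le]
      rintro _ ⟨_, ⟨i, rfl⟩, rfl⟩
      have hS : ∀ j : Fin 5, ∃ g ∈ chevB2.group (ZMod 2), g.val = b2S j := by
        intro j
        have hj : j = 0 ∨ j = 1 ∨ j = 2 ∨ j = 3 ∨ j = 4 := by revert j; decide
        rcases hj with rfl | rfl | rfl | rfl | rfl
        · exact ⟨b2G 7, b2G_mem _, rfl⟩
        · exact ⟨b2G 0, b2G_mem _, rfl⟩
        · exact ⟨b2G 2 * b2G 7 * b2G 2, mul_mem (mul_mem (b2G_mem _) (b2G_mem _)) (b2G_mem _), rfl⟩
        · exact ⟨b2G 3, b2G_mem _, rfl⟩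
        · exact ⟨b2G 4, b2G_mem _, rfl⟩
      have h0 : φ (cs.simple i) ∈ chevB2.group (ZMod 2) := by
        obtain ⟨g, hg, hgv⟩ := hS i
        have : φ (cs.simple i) = g := Units.ext (by rw [hφ, hφ₀, hgv])
        rw [this]; exact hg
      exact h0
    · unfold ChevalleyDatum.group
      rw [Subgroup.closure_le]
      rintro g ⟨r, t, hg⟩
      have ht2 : ∀ t : ZMod 2, t = 0 ∨ t = 1 := by decide
      have ht : t = 0 ∨ t = 1 := ht2 t
      rcases ht with rfl | rfl
      · have : g = 1 := Units.ext (by rw [hg]; exact b2_xMat_zero r)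
        rw [this]; exact one_mem _
      · have hw : ∃ w : Equiv.Perm (Fin 6), φ₀ w = b2X r := by
          obtain ⟨h0, h1, h2, h3, h4, h5, h6, h7⟩ := b2X_words
          have hr : ∀ r : Fin 8, r = 0 ∨ r = 1 ∨ r = 2 ∨ r = 3 ∨ r = 4 ∨ r = 5 ∨ r = 6 ∨ r = 7 := by
            decide
          rcases hr r with rfl | rfl | rfl | rfl | rfl | rfl | rfl | rfl
          · exact ⟨cs.simple 1, by rw [hφ₀, h0]⟩
          · exact ⟨cs.simple 0 * cs.simple 1 * cs.simple 0 * cs.simple 2 * cs.simple 3 * cs.simple 2 *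
              cs.simple 4 * cs.simple 3 * cs.simple 2 * cs.simple 1 * cs.simple 0, by
              simp only [map_mul, hφ₀]; exact h1.symm⟩
          · exact ⟨cs.simple 0 * cs.simple 1 * cs.simple 0 * cs.simple 2 * cs.simple 1 * cs.simple 0 *
              cs.simple 4, by simp only [map_mul, hφ₀]; exact h2.symm⟩
          · exact ⟨cs.simple 3, by rw [hφ₀, h3]⟩
          · exact ⟨cs.simple 4, by rw [hφ₀, h4]⟩
          · exact ⟨cs.simple 0 * cs.simple 2 * cs.simple 3 * cs.simple 2 * cs.simple 4 * cs.simple 3 *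
              cs.simple 2, by simp only [map_mul, hφ₀]; exact h5.symm⟩
          · exact ⟨cs.simple 0 * cs.simple 2 * cs.simple 4, by
              simp only [map_mul, hφ₀]; exact h6.symm⟩
          · exact ⟨cs.simple 0, by rw [hφ₀, h7]⟩
        obtain ⟨w, hw⟩ := hw
        exact ⟨w, Units.ext (by rw [hφ, hw, hg]; rfl)⟩
  -- injectivity
  have hinj : Function.Injective φ := by
    rw [← MonoidHom.ker_eq_bot_iff]
    by_contra hne
    have hnt : Nontrivial φ.ker := (Subgroup.nontrivial_iff_ne_bot _).mpr hne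
    have hle := Equiv.Perm.alternatingGroup_le_of_normal (α := Fin 6) (by simp) hnt
    have hmem : cs.simple 0 * cs.simple 1 ∈ alternatingGroup (Fin 6) := by
      rw [Equiv.Perm.mem_alternatingGroup, hcs, hcs, Equiv.Perm.sign_mul,
        Equiv.Perm.sign_swap (by decide), Equiv.Perm.sign_swap (by decide)]
      decide
    have h1 := hle hmem
    rw [MonoidHom.mem_ker] at h1
    have h2 : (φ (cs.simple 0 * cs.simple 1)).val = 1 := by rw [h1]; rfl
    rw [hφ, map_mul, hφ₀, hφ₀] at h2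
    exact b2S_ne h2
  exact ⟨((MonoidHom.ofInjective hinj).trans (MulEquiv.subgroupCongr hrange)).symm⟩

end iso

/-- `B₂(F) ≅ S₆` for `|F| = 2`. -/
theorem chevB2_equiv_perm {F : Type*} [Field F] [Fintype F] (hF : Fintype.card F = 2) :
    Nonempty (↥(chevB2.group F) ≃* Equiv.Perm (Fin 6)) := by
  have : Fact (Nat.Prime 2) := ⟨Nat.prime_two⟩
  obtain ⟨e⟩ := chevB2_two_equiv_perm
  exact ⟨(chevGroupCongr chevB2 (fieldEquivZMod 2 hF)).trans e⟩

end Cfsg.Agent.Lib.Helper07
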