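import Mathlib
import Cfsg.Agent.Lib.Helper83.GSDefs

/-!
# K-GS-G1 (S4840): a normal cyclic subgroup is `Good`.
-/

set_option autoImplicit false

namespace Cfsg.Agent.Lib.Helper07.GS

open Cfsg.Agent.Lib.Helper83.GS (Good)

universe u

variable {Γ V : Type u} [Group Γ] [Finite Γ] [CommGroup V] [Finite V]

/-- conjugation character of a normal cyclic subgroup -/
noncomputable def cycChar (R : Subgroup Γ) [R.Normal] [IsCyclic R] : Γ →* (ZMod (Nat.card R))ˣ :=
  (IsCyclic.mulAutMulEquiv R).toMonoidHom.comp MulAut.conjNormal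

omit [Finite Γ] in
theorem mem_centralizer_of_cycChar (R : Subgroup Γ) [R.Normal] [IsCyclic R] (g : Γ)
    (hg : cycChar R g = 1) : g ∈ Subgroup.centralizer (R : Set Γ) := by
  have h1 : (MulAut.conjNormal g : MulAut R) = 1 := by
    have : (IsCyclic.mulAutMulEquiv R) (MulAut.conjNormal g) = 1 := hg
    exact (MulEquiv.map_eq_one_iff _).mp this
  rw [Subgroup.mem_centralizer_iff]
  intro r hr
  have h2 : (MulAut.conjNormal g : MulAut R) ⟨r, hr⟩ = ⟨r, hr⟩ := by rw [h1]; rfl
  have h3 := congrArg Subtype.val h2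
  rw [MulAut.conjNormal_apply] at h3
  -- h3 : g * r * g⁻¹ = r
  have h4 : g * r = r * g := by
    calc g * r = g * r * g⁻¹ * g := by group
      _ = r * g := by rw [h3]
  exact h4.symm

/-- G1 (MEDIUM): `R` normal cyclic is `Good`. -/
theorem good_of_isCyclic (p : ℕ) [Fact p.Prime] (R : Subgroup Γ) [R.Normal] (hR : IsCyclic R) :
    Good p R := by
  have := hR
  have hp : p.Prime := Fact.out
  set ψ : Γ →* (ZMod (Nat.card R))ˣ := cycChar R with hψ
  set n := Nat.card Γ with hn
  have hn0 : n ≠ 0 := Nat.card_pos.ne'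
  set m := n / p ^ n.factorization p with hm
  have hnm : p ^ n.factorization p * m = n := Nat.ordProj_mul_ordCompl_eq_self n p
  have hcop : Nat.Coprime p m := Nat.coprime_ordCompl hp hn0
  refine ⟨?_, ?_⟩
  · set θ : Γ →* (ZMod (Nat.card R))ˣ := (powMonoidHom m).comp ψ with hθ
    refine ⟨θ.ker, inferInstance, ?_, ?_⟩
    · rw [Subgroup.index_ker]
      have hpg : IsPGroup p θ.range := by
        rintro ⟨a, g, rfl⟩
        refine ⟨n.factorization p, ?_⟩
        apply Subtype.ext
        show (θ g) ^ (p ^ n.factorization p) = 1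
        have : θ g = (ψ g) ^ m := rfl
        rw [this, ← pow_mul, mul_comm, hnm, ← map_pow, hn, pow_card_eq_one', map_one]
      exact hpg.exists_card_eq
    · intro x hxK hxp
      obtain ⟨k, hk⟩ := hxp
      apply mem_centralizer_of_cycChar
      have h1 : (ψ x) ^ m = 1 := MonoidHom.mem_ker.mp hxK
      have h2 : (ψ x) ^ (p ^ k) = 1 := by rw [← map_pow, hk, map_one]
      have d1 := orderOf_dvd_of_pow_eq_one h1
      have d2 := orderOf_dvd_of_pow_eq_one h2
      have d3 : orderOf (ψ x) ∣ Nat.gcd m (p ^ k) := Nat.dvd_gcd d1 d2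
      have hc : Nat.gcd m (p ^ k) = 1 := (Nat.Coprime.pow_left k hcop).symm
      rw [hc] at d3
      exact orderOf_eq_one_iff.mp (Nat.dvd_one.mp d3)
  · intro P x _ y _
    apply mem_centralizer_of_cycChar
    show ψ (x * y * x⁻¹ * y⁻¹) = 1
    rw [map_mul, map_mul, map_mul, map_inv, map_inv, mul_comm (ψ x) (ψ y)]
    simp

end Cfsg.Agent.Lib.Helper07.GS
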