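import Mathlib
import Cfsg.Prelude.Def_Solvable
import Cfsg.Agent.Lib.Helper01.PCore
import Cfsg.Agent.Lib.Helper38.PGroup

/-!
# K-GAG-G14: a Frobenius kernel that is a nontrivial normal `p`-group is `O_p(G)`.
-/

set_option autoImplicit false

namespace Cfsg.Agent.Lib.Helper07.Gag

open scoped Pointwise

variable {G : Type*} [Group G] [Finite G]

/-- G14: converse: a Frobenius kernel that is a `p`-group is `O_p(G)`. -/
theorem pCore_eq_of_frobenius {p : ℕ} [Fact p.Prime] (N : Subgroup G) [N.Normal]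
    (hNp : IsPGroup p N) (hN1 : N ≠ ⊥)
    (H : Subgroup G) (hH : Cfsg.IsFrobeniusComplement H)
    (hker : Cfsg.frobeniusKernel H = (N : Set G)) :
    N = Cfsg.pCore p G := by
  have hNO : N ≤ Cfsg.pCore p G :=
    Cfsg.Agent.Lib.Helper01.le_pCore inferInstance hNp
  have hOn : (Cfsg.pCore p G).Normal := Cfsg.Agent.Lib.Helper01.pCore_normal p
  have hOp : IsPGroup p (Cfsg.pCore p G) := Cfsg.Agent.Lib.Helper01.pCore_isPGroup p
  refine le_antisymm hNO ?_
  intro y hyO
  by_contra hyN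
  have hyK : y ∉ Cfsg.frobeniusKernel H := by
    rw [hker]; exact hyN
  simp only [Cfsg.frobeniusKernel, Set.mem_ofPred_eq, not_or, not_forall, not_not] at hyK
  obtain ⟨hy1, g, hyg⟩ := hyK
  rw [Subgroup.mem_smul_pointwise_iff_exists] at hyg
  obtain ⟨y', hy'H, hy'⟩ := hyg
  have hy'eq : g * y' * g⁻¹ = y := by
    simpa [MulAut.smul_def] using hy'
  have hy'1 : y' ≠ 1 := by
    rintro rfl
    apply hy1
    rw [← hy'eq]; group
  have hy'O : y' ∈ Cfsg.pCore p G := by
    have : y' = g⁻¹ * y * g⁻¹⁻¹ := by rw [← hy'eq]; group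
    rw [this]
    exact hOn.conj_mem y hyO g⁻¹
  -- a nontrivial central element of `O_p(G)` inside `N`
  have hNsub : N.subgroupOf (Cfsg.pCore p G) ≠ ⊥ := by
    rw [Ne, Subgroup.subgroupOf_eq_bot]
    intro hdis
    apply hN1
    have := hdis.eq_bot
    rwa [inf_eq_left.mpr hNO] at this
  obtain ⟨x, hxN, hxZ, hx1⟩ := Cfsg.Agent.Lib.Helper38.normal_inf_center_ne_bot p hOp
    (N.subgroupOf (Cfsg.pCore p G)) hNsub
  have hnN : (x : G) ∈ N := Subgroup.mem_subgroupOf.mp hxN
  have hn1 : (x : G) ≠ 1 := fun h => hx1 (Subtype.ext h)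
  have hcomm : (x : G) * y' = y' * (x : G) := by
    have := Subgroup.mem_center_iff.mp hxZ ⟨y', hy'O⟩
    have h2 := congrArg Subtype.val this
    simpa using h2.symm
  -- `x ∉ H` because `x` lies in the kernel
  have hxK : (x : G) ∈ Cfsg.frobeniusKernel H := by
    rw [hker]; exact hnN
  have hxH : (x : G) ∉ H := by
    rcases hxK with h | h
    · exact absurd h hn1
    · have := h 1
      simpa using this
  have hTI := hH.2.2 (x : G) hxH
  have hy'mem : y' ∈ H ⊓ (MulAut.conj (x : G) • H) := by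
    refine ⟨hy'H, ?_⟩
    show y' ∈ MulAut.conj (x : G) • H
    rw [Subgroup.mem_smul_pointwise_iff_exists]
    refine ⟨y', hy'H, ?_⟩
    simp only [MulAut.smul_def, MulAut.conj_apply]
    rw [hcomm]; group
  rw [hTI, Subgroup.mem_bot] at hy'mem
  exact hy'1 hy'mem

end Cfsg.Agent.Lib.Helper07.Gag
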