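import Mathlib

set_option autoImplicit false
set_option linter.unusedSectionVars false

/-! Hilbert's Theorem 90 for `GL_n(F)` over a cyclic group of field automorphisms
(Serre's proof via Dedekind independence of characters). -/

namespace Cfsg.Agent.Lib.Helper07

open Matrix

section
variable {n : ℕ} {F : Type*} [Field F]

/-- partial twisted products `a_k = g σ(g) ⋯ σ^{k-1}(g)`. -/
def twProd (σ : RingAut F) (g : Matrix (Fin n) (Fin n) F) : ℕ → Matrix (Fin n) (Fin n) F
  | 0 => 1
  | (k + 1) => g * (twProd σ g k).map σ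

@[simp] lemma twProd_zero (σ : RingAut F) (g : Matrix (Fin n) (Fin n) F) : twProd σ g 0 = 1 := rfl

lemma twProd_succ (σ : RingAut F) (g : Matrix (Fin n) (Fin n) F) (k : ℕ) :
    twProd σ g (k + 1) = g * (twProd σ g k).map σ := rfl

lemma twProd_one (σ : RingAut F) (g : Matrix (Fin n) (Fin n) F) : twProd σ g 1 = g := by
  rw [twProd_succ, twProd_zero]
  have : (1 : Matrix (Fin n) (Fin n) F).map σ = 1 := by
    ext i j
    simp [Matrix.map_apply, Matrix.one_apply, apply_ite]
  rw [this, mul_one]

lemma ringAut_pow_succ_apply (σ : RingAut F) (k : ℕ) (t : F) : (σ ^ (k + 1)) t = σ ((σ ^ k) t) := by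
  rw [pow_succ']
  rfl

lemma ringAut_pow_succ_apply' (σ : RingAut F) (k : ℕ) (t : F) :
    (σ ^ (k + 1)) t = (σ ^ k) (σ t) := by
  rw [pow_succ]
  rfl

lemma map_map_pow (σ : RingAut F) (k : ℕ) (M : Matrix (Fin n) (Fin n) F) :
    (M.map (σ ^ k)).map σ = M.map (σ ^ (k + 1)) := by
  ext i j
  simp only [Matrix.map_apply]
  rw [ringAut_pow_succ_apply]

lemma map_mul_ringAut (σ : RingAut F) (A B : Matrix (Fin n) (Fin n) F) :
    (A * B).map σ = A.map σ * B.map σ :=
  Matrix.map_mul (f := (σ : F →+* F))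

/-- the other recursion `a_{k+1} = a_k σ^k(g)`. -/
lemma twProd_succ' (σ : RingAut F) (g : Matrix (Fin n) (Fin n) F) (k : ℕ) :
    twProd σ g (k + 1) = twProd σ g k * g.map (σ ^ k) := by
  induction k with
  | zero =>
    rw [twProd_one, twProd_zero, one_mul, pow_zero]
    ext i j
    rfl
  | succ k ih =>
    rw [twProd_succ, ih, map_mul_ringAut, map_map_pow, ← mul_assoc, ← twProd_succ, ih]

/-- the `i`-th term of the Poincaré series. -/
def h90T (σ : RingAut F) (g : Matrix (Fin n) (Fin n) F) (x : Fin n → F) (i : ℕ) : Fin n → F :=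
  twProd σ g i *ᵥ (fun j => (σ ^ i) (x j))

/-- the Poincaré series `b(x) = Σ_{i<r} a_i σ^i(x)`. -/
def h90b (σ : RingAut F) (g : Matrix (Fin n) (Fin n) F) (r : ℕ) (x : Fin n → F) : Fin n → F :=
  ∑ i ∈ Finset.range r, h90T σ g x i

lemma h90T_zero (σ : RingAut F) (g : Matrix (Fin n) (Fin n) F) (x : Fin n → F) :
    h90T σ g x 0 = x := by
  unfold h90T
  rw [twProd_zero, one_mulVec, pow_zero]
  rfl

lemma h90T_succ (σ : RingAut F) (g : Matrix (Fin n) (Fin n) F) (x : Fin n → F) (i : ℕ) :
    g *ᵥ (fun j => σ (h90T σ g x i j)) = h90T σ g x (i + 1) := by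
  unfold h90T
  have h1 : (fun j => σ ((twProd σ g i *ᵥ fun j => (σ ^ i) (x j)) j))
      = (twProd σ g i).map σ *ᵥ (fun j => (σ ^ (i + 1)) (x j)) := by
    funext j
    have := RingHom.map_mulVec (σ : F →+* F) (twProd σ g i) (fun j => (σ ^ i) (x j)) j
    rw [show (σ : F →+* F) ((twProd σ g i *ᵥ fun j => (σ ^ i) (x j)) j)
      = σ ((twProd σ g i *ᵥ fun j => (σ ^ i) (x j)) j) from rfl] at this
    rw [this]
    congr 1
    funext l
    simp only [Function.comp_apply]
    rw [ringAut_pow_succ_apply]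
    rfl
  rw [h1, mulVec_mulVec, ← twProd_succ]

lemma h90b_fixed (σ : RingAut F) (g : Matrix (Fin n) (Fin n) F) {r : ℕ}
    (hσ : σ ^ r = 1) (hg : twProd σ g r = 1) (x : Fin n → F) :
    g *ᵥ (fun j => σ (h90b σ g r x j)) = h90b σ g r x := by
  have h1 : (fun j => σ (h90b σ g r x j))
      = ∑ i ∈ Finset.range r, (fun j => σ (h90T σ g x i j)) := by
    funext j
    unfold h90b
    rw [Finset.sum_apply, map_sum, Finset.sum_apply]
  rw [h1, mulVec_sum]
  simp only [h90T_succ]
  have h2 : h90T σ g x r = x := by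
    unfold h90T
    rw [hg, one_mulVec, hσ]
    rfl
  have h3 := Finset.sum_range_succ' (fun i => h90T σ g x i) r
  have h4 := Finset.sum_range_succ (fun i => h90T σ g x i) r
  rw [h90T_zero] at h3
  rw [h2] at h4
  unfold h90b
  have := h3.symm.trans h4
  exact add_right_cancel this

lemma h90T_smul (σ : RingAut F) (g : Matrix (Fin n) (Fin n) F) (c : F) (x : Fin n → F) (i : ℕ) :
    h90T σ g (c • x) i = (σ ^ i) c • h90T σ g x i := by
  unfold h90T
  rw [← mulVec_smul]
  congr 1
  funext j
  simp

/-- Dedekind: the powers `σ^i`, `i < orderOf σ`, are linearly independent. -/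
lemma ringAut_pow_linearIndependent (σ : RingAut F) {r : ℕ} (hr : orderOf σ = r) :
    LinearIndependent F (fun i : Fin r => ((σ ^ (i : ℕ) : RingAut F) : F → F)) := by
  have h := linearIndependent_monoidHom F F
  let ι : Fin r → (F →* F) := fun i => (((σ ^ (i : ℕ) : RingAut F) : F →+* F) : F →* F)
  have hinj : Function.Injective ι := by
    intro i j hij
    have h1 : σ ^ (i : ℕ) = σ ^ (j : ℕ) := by
      ext t
      exact DFunLike.congr_fun hij t
    have := pow_injOn_Iio_orderOf (x := σ) (by rw [hr]; exact i.2) (by rw [hr]; exact j.2) h1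
    exact Fin.ext this
  exact h.comp ι hinj

/-- **Hilbert 90 for `GL_n`** over the cyclic group generated by `σ`. -/
theorem h90_matrix (σ : RingAut F) {r : ℕ} (hr : orderOf σ = r) (hr0 : 0 < r)
    (g : Matrix (Fin n) (Fin n) F) (hg : twProd σ g r = 1) :
    ∃ Y : Matrix (Fin n) (Fin n) F, IsUnit Y ∧ g * Y.map σ = Y := by
  have hσ : σ ^ r = 1 := by rw [← hr]; exact pow_orderOf_eq_one σ
  have hspan : Submodule.span F (Set.range (h90b σ g r)) = ⊤ := by
    by_contra hne
    obtain ⟨f, hf0, hfk⟩ := Submodule.exists_le_ker_of_lt_top _ (lt_top_iff_ne_top.mpr hne)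
    apply hf0
    have hfb : ∀ x, f (h90b σ g r x) = 0 := fun x => hfk (Submodule.subset_span ⟨x, rfl⟩)
    have hli := ringAut_pow_linearIndependent σ hr
    rw [Fintype.linearIndependent_iff] at hli
    refine LinearMap.ext fun x => ?_
    have key : ∀ c : F, ∑ i ∈ Finset.range r, (σ ^ i) c * f (h90T σ g x i) = 0 := by
      intro c
      have := hfb (c • x)
      unfold h90b at this
      rw [map_sum] at this
      simp only [h90T_smul, map_smul, smul_eq_mul] at this
      exact this
    have h0 := hli (fun i => f (h90T σ g x i)) (by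
      funext c
      rw [Finset.sum_apply]
      simp only [Pi.smul_apply, smul_eq_mul, Pi.zero_apply]
      rw [Fin.sum_univ_eq_sum_range (fun i => f (h90T σ g x i) * (σ ^ i) c) r, ← key c]
      apply Finset.sum_congr rfl
      intros
      ring) ⟨0, hr0⟩
    simpa [h90T_zero] using h0
  obtain ⟨y, hy_mem, -, hy_li⟩ := Submodule.exists_fun_fin_finrank_span_eq F (Set.range (h90b σ g r))
  have hdim : Module.finrank F (Submodule.span F (Set.range (h90b σ g r))) = n := by
    rw [hspan, finrank_top, Module.finrank_fin_fun]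
  let e : Fin n ≃ Fin (Module.finrank F (Submodule.span F (Set.range (h90b σ g r)))) :=
    finCongr hdim.symm
  have hy'li : LinearIndependent F (y ∘ e) := hy_li.comp e e.injective
  choose x hx using fun j => hy_mem (e j)
  let Y : Matrix (Fin n) (Fin n) F := Matrix.of fun i j => y (e j) i
  refine ⟨Y, ?_, ?_⟩
  · rw [← linearIndependent_cols_iff_isUnit]
    exact hy'li
  · ext i j
    rw [Matrix.mul_apply]
    have := congrFun (h90b_fixed σ g hσ hg (x j)) i
    rw [hx j] at this
    exact this

end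

end Cfsg.Agent.Lib.Helper07
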