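import Mathlib
import Cfsg.Agent.Lib.Helper07.H90A

set_option autoImplicit false
set_option linter.unusedSectionVars false

/-! Scalar Hilbert 90 and surjectivity of the norm onto the fixed field, for a finite field. -/

namespace Cfsg.Agent.Lib.Helper07

open Matrix

section
variable {F : Type*} [Field F]

/-- the norm `N(c) = ∏_{i<r} σ^i(c)`. -/
def nrmF (σ : RingAut F) (r : ℕ) (c : F) : F := ∏ i ∈ Finset.range r, (σ ^ i) c

lemma nrmF_mul (σ : RingAut F) (r : ℕ) (c d : F) : nrmF σ r (c * d) = nrmF σ r c * nrmF σ r d := by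
  unfold nrmF
  rw [← Finset.prod_mul_distrib]
  apply Finset.prod_congr rfl
  intros
  rw [map_mul]

lemma nrmF_one (σ : RingAut F) (r : ℕ) : nrmF σ r 1 = 1 := by
  unfold nrmF
  simp

lemma nrmF_ne_zero (σ : RingAut F) (r : ℕ) {c : F} (hc : c ≠ 0) : nrmF σ r c ≠ 0 := by
  unfold nrmF
  rw [Finset.prod_ne_zero_iff]
  intro i _
  exact (map_ne_zero_iff _ (σ ^ i).injective).mpr hc

lemma nrmF_succ (σ : RingAut F) (r : ℕ) (c : F) :
    nrmF σ (r + 1) c = c * σ (nrmF σ r c) := by
  unfold nrmF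
  rw [Finset.prod_range_succ', pow_zero, mul_comm, map_prod]
  congr 1
  apply Finset.prod_congr rfl
  intro i _
  rw [ringAut_pow_succ_apply]

lemma nrmF_succ' (σ : RingAut F) (r : ℕ) (c : F) :
    nrmF σ (r + 1) c = nrmF σ r c * (σ ^ r) c := by
  unfold nrmF
  rw [Finset.prod_range_succ]

/-- the norm is fixed by `σ` when `σ^r = 1`. -/
lemma nrmF_fixed (σ : RingAut F) {r : ℕ} (hσ : σ ^ r = 1) (c : F) :
    σ (nrmF σ r c) = nrmF σ r c := by
  rcases eq_or_ne c 0 with rfl | hc
  · rcases Nat.eq_zero_or_pos r with rfl | hr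
    · unfold nrmF; simp
    · have : nrmF σ r (0 : F) = 0 := by
        unfold nrmF
        rw [Finset.prod_eq_zero_iff]
        exact ⟨0, Finset.mem_range.mpr hr, by simp⟩
      rw [this, map_zero]
  · have h1 := nrmF_succ σ r c
    have h2 := nrmF_succ' σ r c
    rw [hσ] at h2
    have h3 : c * σ (nrmF σ r c) = c * nrmF σ r c := by
      rw [← h1, h2, mul_comm]
      rfl
    exact mul_left_cancel₀ hc h3

variable {n : ℕ}

lemma twProd_smul (σ : RingAut F) (c : F) (g : Matrix (Fin n) (Fin n) F) (k : ℕ) :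
    twProd σ (c • g) k = nrmF σ k c • twProd σ g k := by
  induction k with
  | zero => simp [nrmF]
  | succ k ih =>
    rw [twProd_succ, ih, nrmF_succ, twProd_succ]
    have : (nrmF σ k c • twProd σ g k).map σ = σ (nrmF σ k c) • (twProd σ g k).map σ := by
      ext i j
      simp [Matrix.map_apply]
    rw [this, Matrix.smul_mul, Matrix.mul_smul, smul_smul]

lemma twProd_one_mat (σ : RingAut F) (k : ℕ) :
    twProd σ (1 : Matrix (Fin n) (Fin n) F) k = 1 := by
  induction k with
  | zero => rfl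
  | succ k ih =>
    rw [twProd_succ, ih, one_mul]
    ext i j
    simp [Matrix.map_apply, Matrix.one_apply, apply_ite]

/-- scalar Hilbert 90. -/
theorem h90_scalar (σ : RingAut F) {r : ℕ} (hr : orderOf σ = r) (hr0 : 0 < r)
    (c : F) (hc : nrmF σ r c = 1) : ∃ y : F, y ≠ 0 ∧ c * σ y = y := by
  have hg : twProd σ (c • (1 : Matrix (Fin 1) (Fin 1) F)) r = 1 := by
    rw [twProd_smul, hc, one_smul, twProd_one_mat]
  obtain ⟨Y, hY, hYeq⟩ := h90_matrix σ hr hr0 _ hg
  refine ⟨Y 0 0, ?_, ?_⟩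
  · have := (Matrix.isUnit_iff_isUnit_det Y).mp hY
    rw [Matrix.det_fin_one] at this
    exact this.ne_zero
  · have := congrFun (congrFun hYeq 0) 0
    rw [Matrix.smul_mul, one_mul, Matrix.smul_apply, Matrix.map_apply, smul_eq_mul] at this
    exact this

end

section finite
variable {F : Type*} [Field F] [Finite F]

/-- the norm maps onto the fixed field (finite fields). -/
theorem nrmF_surjective (σ : RingAut F) {r : ℕ} (hr : orderOf σ = r) (hr0 : 0 < r)
    (a : F) (ha0 : a ≠ 0) (ha : σ a = a) : ∃ c : F, c ≠ 0 ∧ nrmF σ r c = a := by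
  have hσ : σ ^ r = 1 := by rw [← hr]; exact pow_orderOf_eq_one σ
  let S : Fˣ →* Fˣ := Units.map ((σ : F →+* F) : F →* F)
  have hS : ∀ u : Fˣ, ((S u : Fˣ) : F) = σ (u : F) := fun u => rfl
  let Nh : Fˣ →* Fˣ :=
    { toFun := fun u => Units.mk0 (nrmF σ r u) (nrmF_ne_zero σ r u.ne_zero)
      map_one' := by
        apply Units.ext
        simp [nrmF_one]
      map_mul' := fun u v => by
        apply Units.ext
        simp [nrmF_mul] }
  have hNh : ∀ u : Fˣ, ((Nh u : Fˣ) : F) = nrmF σ r u := fun u => rfl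
  let dh : Fˣ →* Fˣ :=
    { toFun := fun u => u * (S u)⁻¹
      map_one' := by simp
      map_mul' := fun u v => by rw [map_mul, mul_inv]; exact mul_mul_mul_comm _ _ _ _ }
  have hdh : ∀ u : Fˣ, dh u = u * (S u)⁻¹ := fun u => rfl
  -- ker Nh ≤ range dh
  have h1 : Nh.ker ≤ dh.range := by
    intro u hu
    rw [MonoidHom.mem_ker] at hu
    have hu' : nrmF σ r (u : F) = 1 := by
      have := congrArg Units.val hu
      rwa [hNh] at this
    obtain ⟨y, hy0, hy⟩ := h90_scalar σ hr hr0 _ hu'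
    refine ⟨Units.mk0 y hy0, ?_⟩
    rw [hdh, mul_inv_eq_iff_eq_mul]
    apply Units.ext
    rw [Units.val_mul, hS]
    exact hy.symm
  -- range Nh ≤ ker dh
  have h2 : Nh.range ≤ dh.ker := by
    rintro _ ⟨u, rfl⟩
    rw [MonoidHom.mem_ker, hdh, mul_inv_eq_one]
    apply Units.ext
    rw [hS, hNh, nrmF_fixed σ hσ]
  have c1 : Nat.card Nh.ker * Nat.card Nh.range = Nat.card Fˣ := by
    rw [← Subgroup.index_ker, Subgroup.card_mul_index]
  have c2 : Nat.card dh.ker * Nat.card dh.range = Nat.card Fˣ := by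
    rw [← Subgroup.index_ker, Subgroup.card_mul_index]
  have c3 : Nat.card Nh.ker ≤ Nat.card dh.range := Subgroup.card_le_of_le h1
  have c4 : Nat.card dh.ker ≤ Nat.card Nh.range := by
    have hpos : 0 < Nat.card Nh.ker := Nat.card_pos
    have : Nat.card Nh.ker * Nat.card dh.ker ≤ Nat.card Nh.ker * Nat.card Nh.range := by
      calc Nat.card Nh.ker * Nat.card dh.ker
          ≤ Nat.card dh.range * Nat.card dh.ker := Nat.mul_le_mul_right _ c3
        _ = Nat.card Fˣ := by rw [mul_comm, c2]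
        _ = _ := c1.symm
    exact Nat.le_of_mul_le_mul_left this hpos
  have h3 : Nh.range = dh.ker := Subgroup.eq_of_le_of_card_ge h2 c4
  have hmem : Units.mk0 a ha0 ∈ dh.ker := by
    rw [MonoidHom.mem_ker, hdh, mul_inv_eq_one]
    apply Units.ext
    rw [hS]
    exact ha.symm
  rw [← h3] at hmem
  obtain ⟨u, hu⟩ := hmem
  refine ⟨u, u.ne_zero, ?_⟩
  have := congrArg Units.val hu
  rwa [hNh] at this

end finite

end Cfsg.Agent.Lib.Helper07
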