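import Mathlib
import Cfsg.Agent.Lib.Helper07.H90B

set_option autoImplicit false
set_option linter.unusedSectionVars false

/-! Classification of non-degenerate Hermitian matrices over a finite field:
`H = P σ(P)ᵀ`. -/

namespace Cfsg.Agent.Lib.Helper07

open Matrix

section
variable {n : ℕ} {F : Type*} [Field F]

/-- the sesquilinear form `u H σ(v)`. -/
def hfm (σ : RingAut F) (H : Matrix (Fin n) (Fin n) F) (u v : Fin n → F) : F :=
  u ⬝ᵥ (H *ᵥ (fun j => σ (v j)))

lemma hfm_add_left (σ : RingAut F) (H : Matrix (Fin n) (Fin n) F) (u u' v : Fin n → F) :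
    hfm σ H (u + u') v = hfm σ H u v + hfm σ H u' v := by
  unfold hfm
  rw [add_dotProduct]

lemma hfm_smul_left (σ : RingAut F) (H : Matrix (Fin n) (Fin n) F) (c : F) (u v : Fin n → F) :
    hfm σ H (c • u) v = c * hfm σ H u v := by
  unfold hfm
  rw [smul_dotProduct, smul_eq_mul]

lemma hfm_sub_left (σ : RingAut F) (H : Matrix (Fin n) (Fin n) F) (u u' v : Fin n → F) :
    hfm σ H (u - u') v = hfm σ H u v - hfm σ H u' v := by
  unfold hfm
  rw [sub_dotProduct]

lemma hfm_sum_left {κ : Type*} (s : Finset κ) (σ : RingAut F) (H : Matrix (Fin n) (Fin n) F)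
    (u : κ → Fin n → F) (v : Fin n → F) :
    hfm σ H (∑ i ∈ s, u i) v = ∑ i ∈ s, hfm σ H (u i) v := by
  unfold hfm
  rw [sum_dotProduct]

lemma hfm_add_right (σ : RingAut F) (H : Matrix (Fin n) (Fin n) F) (u v v' : Fin n → F) :
    hfm σ H u (v + v') = hfm σ H u v + hfm σ H u v' := by
  unfold hfm
  have : (fun j => σ ((v + v') j)) = (fun j => σ (v j)) + (fun j => σ (v' j)) := by
    funext j
    simp
  rw [this, mulVec_add, dotProduct_add]

lemma hfm_smul_right (σ : RingAut F) (H : Matrix (Fin n) (Fin n) F) (c : F) (u v : Fin n → F) :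
    hfm σ H u (c • v) = σ c * hfm σ H u v := by
  unfold hfm
  have : (fun j => σ ((c • v) j)) = σ c • (fun j => σ (v j)) := by
    funext j
    simp
  rw [this, mulVec_smul, dotProduct_smul, smul_eq_mul]

lemma hfm_sub_right (σ : RingAut F) (H : Matrix (Fin n) (Fin n) F) (u v v' : Fin n → F) :
    hfm σ H u (v - v') = hfm σ H u v - hfm σ H u v' := by
  have h1 : v - v' = v + (-1 : F) • v' := by rw [neg_smul, one_smul, sub_eq_add_neg]
  rw [h1, hfm_add_right, hfm_smul_right, map_neg, map_one]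
  ring

lemma hfm_sum_right {κ : Type*} (s : Finset κ) (σ : RingAut F) (H : Matrix (Fin n) (Fin n) F)
    (u : Fin n → F) (v : κ → Fin n → F) :
    hfm σ H u (∑ i ∈ s, v i) = ∑ i ∈ s, hfm σ H u (v i) := by
  classical
  induction s using Finset.induction_on with
  | empty =>
    simp only [Finset.sum_empty]
    unfold hfm
    simp only [Pi.zero_apply, map_zero]
    show u ⬝ᵥ H *ᵥ (0 : Fin n → F) = 0
    rw [mulVec_zero, dotProduct_zero]
  | insert a s ha ih =>
    rw [Finset.sum_insert ha, Finset.sum_insert ha, hfm_add_right, ih]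

lemma hfm_apply (σ : RingAut F) (H : Matrix (Fin n) (Fin n) F) (u v : Fin n → F) :
    hfm σ H u v = ∑ i, ∑ j, u i * H i j * σ (v j) := by
  unfold hfm dotProduct mulVec dotProduct
  apply Finset.sum_congr rfl
  intro i _
  rw [Finset.mul_sum]
  apply Finset.sum_congr rfl
  intro j _
  ring

/-- Hermitian symmetry. -/
lemma hfm_herm (σ : RingAut F) (hσ : ∀ a, σ (σ a) = a) (H : Matrix (Fin n) (Fin n) F)
    (hH : H.map σ = Hᵀ) (u v : Fin n → F) : σ (hfm σ H u v) = hfm σ H v u := by
  rw [hfm_apply, hfm_apply, map_sum, Finset.sum_comm]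
  apply Finset.sum_congr rfl
  intro j _
  rw [map_sum]
  apply Finset.sum_congr rfl
  intro i _
  have h1 : ∀ a b, σ (H a b) = H b a := by
    intro a b
    have := congrFun (congrFun hH a) b
    rwa [Matrix.map_apply, Matrix.transpose_apply] at this
  rw [map_mul, map_mul, hσ, h1]
  ring

/-- non-degeneracy. -/
lemma hfm_nondeg (σ : RingAut F) (H : Matrix (Fin n) (Fin n) F) (hH : IsUnit H)
    (v : Fin n → F) (hv : ∀ w, hfm σ H v w = 0) : v = 0 := by
  have h1 : v ᵥ* H = 0 := by
    funext j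
    have := hv (fun l => σ.symm ((Pi.single j (1 : F) : Fin n → F) l))
    unfold hfm at this
    rw [dotProduct_mulVec] at this
    simp only [RingEquiv.apply_symm_apply] at this
    rw [dotProduct_single, mul_one] at this
    exact this
  have h2 := (Matrix.vecMul_injective_iff_isUnit.mpr hH)
  apply h2
  show v ᵥ* H = 0 ᵥ* H
  rw [h1, zero_vecMul]

lemma exists_tr_ne_zero (σ : RingAut F) (hσ1 : σ ≠ 1) : ∃ z : F, z + σ z ≠ 0 := by
  by_contra hcon
  push Not at hcon
  have h1 := hcon 1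
  rw [map_one] at h1
  apply hσ1
  ext x
  have h2 := hcon x
  show σ x = x
  linear_combination h2 - x * h1

end

section fin
variable {n : ℕ} {F : Type*} [Field F] [Finite F]

/-- orthonormal families for `hfm`. -/
def IsON (σ : RingAut F) (H : Matrix (Fin n) (Fin n) F) {k : ℕ} (e : Fin k → Fin n → F) : Prop :=
  ∀ i j, hfm σ H (e i) (e j) = if i = j then 1 else 0

lemma nrmF_two (σ : RingAut F) (c : F) : nrmF σ 2 c = c * σ c := by
  unfold nrmF
  rw [Finset.prod_range_succ, Finset.prod_range_succ, Finset.prod_range_zero, one_mul, pow_zero,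
    pow_one]
  rfl

lemma exists_on_extend (σ : RingAut F) (hσ : ∀ a, σ (σ a) = a) (hσ1 : σ ≠ 1)
    (H : Matrix (Fin n) (Fin n) F) (hHu : IsUnit H) (hH : H.map σ = Hᵀ) {k : ℕ} (hk : k < n)
    (e : Fin k → Fin n → F) (he : IsON σ H e) :
    ∃ w, hfm σ H w w = 1 ∧ ∀ i, hfm σ H w (e i) = 0 := by
  classical
  let pr : (Fin n → F) → (Fin n → F) := fun v => v - ∑ i, hfm σ H v (e i) • e i
  have hpr : ∀ v j, hfm σ H (pr v) (e j) = 0 := by
    intro v j
    show hfm σ H (v - ∑ i, hfm σ H v (e i) • e i) (e j) = 0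
    rw [hfm_sub_left, hfm_sum_left]
    simp only [hfm_smul_left, he _ _, mul_ite, mul_one, mul_zero, Finset.sum_ite_eq',
      Finset.mem_univ, if_true, sub_self]
  have hlt : Submodule.span F (Set.range e) < ⊤ := by
    rw [lt_top_iff_ne_top]
    intro htop
    have h1 := finrank_range_le_card (R := F) e
    have h2 : Module.finrank F (Submodule.span F (Set.range e)) = n := by
      rw [htop, finrank_top, Module.finrank_fin_fun]
    rw [Set.finrank, h2, Fintype.card_fin] at h1
    omega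
  obtain ⟨v, -, hv⟩ := SetLike.exists_of_lt hlt
  have hv' : pr v ≠ 0 := by
    intro h0
    apply hv
    have : v = ∑ i, hfm σ H v (e i) • e i := sub_eq_zero.mp h0
    rw [this]
    exact Submodule.sum_mem _ (fun i _ => Submodule.smul_mem _ _ (Submodule.subset_span ⟨i, rfl⟩))
  obtain ⟨w, hw⟩ : ∃ w, hfm σ H (pr v) w ≠ 0 := by
    by_contra hcon
    push Not at hcon
    exact hv' (hfm_nondeg σ H hHu _ hcon)
  have hvw : hfm σ H (pr v) (pr w) = hfm σ H (pr v) w := by
    show hfm σ H (pr v) (w - ∑ i, hfm σ H w (e i) • e i) = _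
    rw [hfm_sub_right, hfm_sum_right]
    simp only [hfm_smul_right, hpr v, mul_zero, Finset.sum_const_zero, sub_zero]
  -- a vector of non-zero norm orthogonal to the `e i`
  obtain ⟨u, hu0, hue⟩ : ∃ u, hfm σ H u u ≠ 0 ∧ ∀ j, hfm σ H u (e j) = 0 := by
    by_cases h1 : hfm σ H (pr v) (pr v) = 0
    · by_cases h2 : hfm σ H (pr w) (pr w) = 0
      · obtain ⟨z, hz⟩ := exists_tr_ne_zero σ hσ1
        set t := hfm σ H (pr v) (pr w) with ht
        have ht0 : t ≠ 0 := by rw [hvw]; exact hw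
        have hσt : σ t ≠ 0 := (map_ne_zero_iff _ σ.injective).mpr ht0
        have hwv : hfm σ H (pr w) (pr v) = σ t := (hfm_herm σ hσ H hH _ _).symm
        refine ⟨pr v + (z / σ t) • pr w, ?_, fun j => ?_⟩
        · have hval : hfm σ H (pr v + (z / σ t) • pr w) (pr v + (z / σ t) • pr w) = z + σ z := by
            rw [hfm_add_left, hfm_add_right, hfm_add_right, hfm_smul_left, hfm_smul_left,
              hfm_smul_right, hfm_smul_right, h1, h2, hwv, ← ht, map_div₀, hσ]
            field_simp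
            ring
          rw [hval]
          exact hz
        · rw [hfm_add_left, hfm_smul_left, hpr, hpr, mul_zero, add_zero]
      · exact ⟨pr w, h2, hpr w⟩
    · exact ⟨pr v, h1, hpr v⟩
  have hfix : σ (hfm σ H u u)⁻¹ = (hfm σ H u u)⁻¹ := by
    rw [map_inv₀, hfm_herm σ hσ H hH]
  have hord : orderOf σ = 2 := by
    have : Fact (Nat.Prime 2) := ⟨Nat.prime_two⟩
    apply orderOf_eq_prime
    · ext a
      rw [pow_two]
      exact hσ a
    · exact hσ1
  obtain ⟨c, hc0, hc⟩ := nrmF_surjective σ hord two_pos _ (inv_ne_zero hu0) hfix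
  rw [nrmF_two] at hc
  refine ⟨c • u, ?_, fun j => ?_⟩
  · rw [hfm_smul_left, hfm_smul_right, ← mul_assoc, hc, inv_mul_cancel₀ hu0]
  · rw [hfm_smul_left, hue, mul_zero]

lemma exists_on (σ : RingAut F) (hσ : ∀ a, σ (σ a) = a) (hσ1 : σ ≠ 1)
    (H : Matrix (Fin n) (Fin n) F) (hHu : IsUnit H) (hH : H.map σ = Hᵀ) :
    ∀ k, k ≤ n → ∃ e : Fin k → Fin n → F, IsON σ H e := by
  intro k
  induction k with
  | zero => exact fun _ => ⟨Fin.elim0, fun i => i.elim0⟩
  | succ k ih =>
    intro hk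
    obtain ⟨e, he⟩ := ih (by omega)
    obtain ⟨w, hww, hwe⟩ := exists_on_extend σ hσ hσ1 H hHu hH (by omega) e he
    refine ⟨Fin.cons w e, ?_⟩
    intro i j
    refine Fin.cases ?_ (fun i' => ?_) i <;> refine Fin.cases ?_ (fun j' => ?_) j
    · rw [Fin.cons_zero, hww, if_pos rfl]
    · rw [Fin.cons_zero, Fin.cons_succ, hwe, if_neg (Fin.succ_ne_zero j').symm]
    · rw [Fin.cons_zero, Fin.cons_succ, ← hfm_herm σ hσ H hH, hwe, map_zero,
        if_neg (Fin.succ_ne_zero i')]
    · rw [Fin.cons_succ, Fin.cons_succ, he i' j']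
      simp only [Fin.succ_inj]

/-- every non-degenerate Hermitian matrix over a finite field is `P σ(P)ᵀ`. -/
theorem herm_classify (σ : RingAut F) (hσ : ∀ a, σ (σ a) = a) (hσ1 : σ ≠ 1)
    (H : Matrix (Fin n) (Fin n) F) (hHu : IsUnit H) (hH : H.map σ = Hᵀ) :
    ∃ P : Matrix (Fin n) (Fin n) F, IsUnit P ∧ H = P * (P.map σ)ᵀ := by
  obtain ⟨e, he⟩ := exists_on σ hσ hσ1 H hHu hH n le_rfl
  let E : Matrix (Fin n) (Fin n) F := Matrix.of e
  have hE : E * H * (E.map σ)ᵀ = 1 := by
    ext i j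
    rw [Matrix.one_apply, ← he i j, hfm_apply, Matrix.mul_apply]
    simp only [Matrix.mul_apply, Finset.sum_mul, Matrix.transpose_apply, Matrix.map_apply]
    rw [Finset.sum_comm]
    rfl
  set P : Matrix (Fin n) (Fin n) F := H * (E.map σ)ᵀ with hP
  have hEP : E * P = 1 := by rw [hP, ← mul_assoc]; exact hE
  have hPE : P * E = 1 := mul_eq_one_comm.mp hEP
  have hPσ : (P.map σ)ᵀ = E * H := by
    have h1 : P.map σ = H.map σ * ((E.map σ)ᵀ).map σ := Matrix.map_mul (f := (σ : F →+* F))
    have h2 : ((E.map σ)ᵀ).map σ = Eᵀ := by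
      ext i j
      simp only [Matrix.map_apply, Matrix.transpose_apply]
      exact hσ _
    rw [h1, h2, hH, ← transpose_mul, transpose_transpose]
  refine ⟨P, (Matrix.isUnit_iff_isUnit_det P).mpr (Matrix.isUnit_det_of_left_inverse hEP), ?_⟩
  rw [hPσ, ← mul_assoc, hPE, one_mul]

end fin

end Cfsg.Agent.Lib.Helper07
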