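import Mathlib

/-!
# K-3806 leaf E: a normal subgroup containing an element of `γ_r ∖ γ_{r+1}` contains `γ_r`
(when `|γ_r : γ_{r+1}| = p` and the lower central series reaches `⊥`).
-/

set_option autoImplicit false

namespace Cfsg.Agent.Lib.Helper07.MC3806

/-- LEAF E (a normal subgroup containing an element of `γ_r ∖ γ_{r+1}` contains `γ_r`). -/
theorem lcs_le_of_normal_of_mem {G : Type*} [Group G] [Finite G] (p : ℕ) (hp : p.Prime) (r M : ℕ)
    (hM : (⊤ : Subgroup G).lowerCentralSeries M = ⊥)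
    (hidx : Nat.card ((⊤ : Subgroup G).lowerCentralSeries r) =
      p * Nat.card ((⊤ : Subgroup G).lowerCentralSeries (r + 1)))
    (P : Subgroup G) [P.Normal] (x0 : G) (hx0 : x0 ∈ P)
    (hx0r : x0 ∈ (⊤ : Subgroup G).lowerCentralSeries r)
    (hx0' : x0 ∉ (⊤ : Subgroup G).lowerCentralSeries (r + 1)) :
    (⊤ : Subgroup G).lowerCentralSeries r ≤ P := by
  classical
  set L : ℕ → Subgroup G := (⊤ : Subgroup G).lowerCentralSeries with hL
  have hanti : Antitone L := Subgroup.lowerCentralSeries_antitone (S := (⊤ : Subgroup G))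
  by_cases hrM : M < r
  · intro x hx
    have : x ∈ L M := hanti hrM.le hx
    rw [hM, Subgroup.mem_bot] at this
    rw [this]; exact P.one_mem
  push Not at hrM
  -- step 1: `L r = ⟨x0⟩ ⊔ L (r+1)`
  set K : Subgroup G := Subgroup.zpowers x0 ⊔ L (r + 1) with hK
  have hKr : K ≤ L r := by
    apply sup_le
    · rw [Subgroup.zpowers_le]; exact hx0r
    · exact hanti (Nat.le_succ r)
  have hLK : L (r + 1) ≤ K := le_sup_right
  have hx0K : x0 ∈ K := (le_sup_left : Subgroup.zpowers x0 ≤ K) (Subgroup.mem_zpowers x0)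
  have hKeq : K = L r := by
    obtain ⟨c, hc⟩ := Subgroup.card_dvd_of_le hLK
    obtain ⟨d, hd⟩ := Subgroup.card_dvd_of_le hKr
    have hpos : 0 < Nat.card (L (r + 1)) := Nat.card_pos
    have hcd : c * d = p := by
      have : Nat.card (L (r + 1)) * (c * d) = Nat.card (L (r + 1)) * p := by
        rw [← mul_assoc, ← hc, ← hd, hidx]; ring
      exact Nat.eq_of_mul_eq_mul_left hpos this
    have hcdvd : c ∣ p := ⟨d, hcd.symm⟩
    rcases (Nat.dvd_prime hp).1 hcdvd with h1 | h1
    · exfalso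
      apply hx0'
      have hle : Nat.card K ≤ Nat.card (L (r + 1)) := by rw [hc, h1, mul_one]
      have := Subgroup.eq_of_le_of_card_ge hLK hle
      rw [this]; exact hx0K
    · have hd1 : d = 1 := by
        rw [h1] at hcd
        have : p * d = p * 1 := by rw [hcd, mul_one]
        exact Nat.eq_of_mul_eq_mul_left hp.pos this
      apply Subgroup.eq_of_le_of_card_ge hKr
      rw [hd, hd1, mul_one]
  -- step 2: pass to `G ⧸ P`
  set π : G →* G ⧸ P := QuotientGroup.mk' P with hπ
  have hsurj : Function.Surjective π := QuotientGroup.mk'_surjective P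
  set Lb : ℕ → Subgroup (G ⧸ P) := (⊤ : Subgroup (G ⧸ P)).lowerCentralSeries with hLb
  have hmap : ∀ n, (L n).map π = Lb n := by
    intro n
    rw [hL, Subgroup.map_lowerCentralSeries, Subgroup.map_top_of_surjective π hsurj]
  have hπx0 : π x0 = 1 := (QuotientGroup.eq_one_iff x0).2 hx0
  have h1 : Lb r = Lb (r + 1) := by
    rw [← hmap r, ← hKeq, hK, Subgroup.map_sup, MonoidHom.map_zpowers, hπx0,
      Subgroup.zpowers_one_eq_bot, bot_sup_eq, hmap]
  have h2 : ∀ k, Lb (r + k) = Lb r := by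
    intro k
    induction k with
    | zero => rfl
    | succ k ih =>
      rw [← add_assoc, hLb, Subgroup.lowerCentralSeries_succ, ← hLb, ih]
      have h5 : ⁅Lb r, (⊤ : Subgroup (G ⧸ P))⁆ = Lb (r + 1) := rfl
      rw [h5, ← h1]
  obtain ⟨k, rfl⟩ := Nat.exists_eq_add_of_le hrM
  have h3 : Lb r = ⊥ := by
    rw [← h2 k, ← hmap, hM, Subgroup.map_bot]
  have h4 : (L r).map π = ⊥ := by rw [hmap, h3]
  rw [Subgroup.map_eq_bot_iff, QuotientGroup.ker_mk'] at h4
  exact h4

end Cfsg.Agent.Lib.Helper07.MC3806
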