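import Cfsg.Agent.Lib.Helper43.OmegaParabolic
import Cfsg.Agent.Lib.Helper43.OmegaSimple6

set_option autoImplicit false
set_option linter.unusedSimpArgs false
set_option linter.unusedVariables false
set_option linter.unusedSectionVars false

/-! Orthogonal groups: calculus of Siegel elements inside `Ω` (total version `sg`), fixed vectors
of a Siegel group, recognition of Siegel elements by their action on the flag `u ⊂ u^⊥`. -/

namespace Cfsg.Agent.Lib.Helper07.OG

open Module Matrix Cfsg.Agent.Lib.Helper43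

variable {F : Type*} [Field F] [Fintype F] {ι : Type} [Fintype ι] [DecidableEq ι]
variable {Q : QuadraticForm F (ι → F)}

/-- the standing hypotheses: non-degenerate polar form, dimension at least 7. -/
structure OC (Q : QuadraticForm F (ι → F)) : Prop where
  hQ : (QuadraticMap.polarBilin Q).Nondegenerate
  hn : 7 ≤ Fintype.card ι

local notation "Bf" => QuadraticMap.polarBilin Q

open Classical in
/-- total version of the Siegel element of `Ω`. -/
noncomputable def sg (C : OC Q) (u v : ι → F) : ↥(Cfsg.Omega F ⇑Q) :=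
  if h : Q u = 0 ∧ Bf u v = 0 then sO Q C.hQ C.hn u v h.1 h.2 else 1

theorem lo_sg (C : OC Q) {u v : ι → F} (hu : Q u = 0) (huv : Bf u v = 0) :
    lo Q (sg C u v) = siegelLin Q u v := by
  unfold sg
  rw [dif_pos ⟨hu, huv⟩]
  exact lo_sO Q C.hQ C.hn u v hu huv

theorem sg_apply (C : OC Q) {u v : ι → F} (hu : Q u = 0) (huv : Bf u v = 0) (x : ι → F) :
    lo Q (sg C u v) x = x + (Bf x v - Q v * Bf x u) • u + (-Bf x u) • v := by
  rw [lo_sg C hu huv, siegelLin_apply]

theorem lo_ext {g h : ↥(Cfsg.Omega F ⇑Q)} (H : ∀ x, lo Q g x = lo Q h x) : g = h :=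
  lo_injective Q (LinearMap.ext H)

theorem polar_self0 {u : ι → F} (hu : Q u = 0) : Bf u u = 0 := by
  rw [polar_self', hu, mul_zero]

theorem sg_mul (C : OC Q) {u v v' : ι → F} (hu : Q u = 0) (huv : Bf u v = 0)
    (huv' : Bf u v' = 0) : sg C u v * sg C u v' = sg C u (v + v') := by
  have h3 : Bf u (v + v') = 0 := by rw [map_add, huv, huv', add_zero]
  apply lo_ext
  intro x
  rw [lo_mul_apply, lo_sg C hu huv, lo_sg C hu huv', lo_sg C hu h3,
    ← siegelLin_comp Q u v v' hu huv huv']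
  rfl

theorem sg_zero (C : OC Q) {u : ι → F} (hu : Q u = 0) : sg C u 0 = 1 := by
  apply lo_ext
  intro x
  rw [sg_apply C hu (by simp), lo_one_apply]
  simp

theorem sg_inv (C : OC Q) {u v : ι → F} (hu : Q u = 0) (huv : Bf u v = 0) :
    (sg C u v)⁻¹ = sg C u (-v) := by
  have h3 : Bf u (-v) = 0 := by rw [map_neg, huv, neg_zero]
  rw [inv_eq_iff_mul_eq_one, sg_mul C hu huv h3, add_neg_cancel, sg_zero C hu]

theorem sg_conj (C : OC Q) (g : ↥(Cfsg.Omega F ⇑Q)) {u v : ι → F} (hu : Q u = 0)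
    (huv : Bf u v = 0) : g * sg C u v * g⁻¹ = sg C (lo Q g u) (lo Q g v) := by
  have hu' : Q (lo Q g u) = 0 := by rw [lo_isometry, hu]
  have huv' : Bf (lo Q g u) (lo Q g v) = 0 := by rw [lo_polar, huv]
  apply lo_ext
  intro x
  rw [lo_mul_apply, lo_mul_apply, lo_sg C hu huv, lo_sg C hu' huv']
  have h := siegelLin_conj Q (lo Q g) (lo_isometry Q g) u v
  have h2 := congrArg (fun f : (ι → F) →ₗ[F] (ι → F) => f (lo Q g⁻¹ x)) h
  simp only [LinearMap.comp_apply] at h2
  rw [h2, lo_apply_inv]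

theorem sg_smul_left (C : OC Q) (c : F) {u v : ι → F} (hu : Q u = 0) (huv : Bf u v = 0) :
    sg C (c • u) v = sg C u (c • v) := by
  have hu' : Q (c • u) = 0 := by rw [Q_smul, hu, mul_zero]
  have h1 : Bf (c • u) v = 0 := by rw [map_smul, LinearMap.smul_apply, huv, smul_zero]
  have h2 : Bf u (c • v) = 0 := by rw [map_smul, huv, smul_zero]
  apply lo_ext
  intro x
  rw [lo_sg C hu' h1, lo_sg C hu h2, siegelLin_smul_left]

theorem sg_add_smul (C : OC Q) (t : F) {u v : ι → F} (hu : Q u = 0) (huv : Bf u v = 0) :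
    sg C u (v + t • u) = sg C u v := by
  have huu := polar_self0 (Q := Q) hu
  have hvu : Bf v u = 0 := by rw [polar_symm, huv]
  have h2 : Bf u (v + t • u) = 0 := by rw [map_add, map_smul, huv, huu, smul_zero, add_zero]
  apply lo_ext
  intro x
  rw [sg_apply C hu h2, sg_apply C hu huv, Q_add, Q_smul, hu]
  simp only [map_add, map_smul, smul_eq_mul, hvu, mul_zero, add_zero, smul_add, smul_smul]
  module

/-- a vector pairing to one with a given non-zero vector. -/
theorem exists_pair_one (C : OC Q) {u : ι → F} (hu0 : u ≠ 0) : ∃ z : ι → F, Bf z u = 1 := by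
  obtain ⟨z, hz, -⟩ := exists_polar_repr Q C.hQ ⊥ u (by simpa using hu0)
  exact ⟨z, hz⟩

theorem sg_eq_one_iff (C : OC Q) {u v : ι → F} (hu0 : u ≠ 0) (hu : Q u = 0)
    (huv : Bf u v = 0) : sg C u v = 1 ↔ ∃ t : F, v = t • u := by
  constructor
  · intro h
    obtain ⟨z, hz⟩ := exists_pair_one C hu0
    have h1 := sg_apply C hu huv z
    rw [h, lo_one_apply, hz] at h1
    refine ⟨Bf z v - Q v * 1, ?_⟩
    have h2 : (Bf z v - Q v * 1) • u + (-(1 : F)) • v = 0 := by
      have := h1
      rw [add_assoc] at this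
      exact (left_eq_add.1 this)
    rw [neg_smul, one_smul, add_neg_eq_zero] at h2
    exact h2.symm
  · rintro ⟨t, rfl⟩
    have := sg_add_smul C t hu (show Bf u 0 = 0 by simp)
    rw [zero_add] at this
    rw [this, sg_zero C hu]

theorem sg_eq_iff (C : OC Q) {u v v' : ι → F} (hu0 : u ≠ 0) (hu : Q u = 0)
    (huv : Bf u v = 0) (huv' : Bf u v' = 0) :
    sg C u v = sg C u v' ↔ ∃ t : F, v - v' = t • u := by
  have h3 : Bf u (-v') = 0 := by rw [map_neg, huv', neg_zero]
  have h4 : Bf u (v + -v') = 0 := by rw [map_add, huv, h3, add_zero]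
  rw [← sg_eq_one_iff C hu0 hu (by rw [sub_eq_add_neg]; exact h4), sub_eq_add_neg,
    ← sg_mul C hu huv h3, ← sg_inv C hu huv', mul_inv_eq_one]

/-- the Siegel group as the image of `sg`. -/
theorem mem_siegelGrp_iff (C : OC Q) {u : ι → F} (hu : Q u = 0) (g : ↥(Cfsg.Omega F ⇑Q)) :
    g ∈ siegelGrp Q C.hQ u hu ↔ ∃ v, Bf u v = 0 ∧ g = sg C u v := by
  constructor
  · rintro ⟨v, hv, hg⟩
    refine ⟨v, hv, ?_⟩
    apply Subtype.ext
    rw [hg]
    unfold sg
    rw [dif_pos ⟨hu, hv⟩]
    rfl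
  · rintro ⟨v, hv, rfl⟩
    refine ⟨v, hv, ?_⟩
    unfold sg
    rw [dif_pos ⟨hu, hv⟩]
    rfl

theorem sg_mem_siegelGrp (C : OC Q) {u v : ι → F} (hu : Q u = 0) (huv : Bf u v = 0) :
    sg C u v ∈ siegelGrp Q C.hQ u hu :=
  (mem_siegelGrp_iff C hu _).2 ⟨v, huv, rfl⟩

/-- the vectors fixed by the whole Siegel group of `u` are the multiples of `u`. -/
theorem fixed_of_siegelGrp (C : OC Q) {u x : ι → F} (hu0 : u ≠ 0) (hu : Q u = 0)
    (hx : ∀ v, Bf u v = 0 → lo Q (sg C u v) x = x) : ∃ t : F, x = t • u := by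
  have hn' : 7 ≤ finrank F (ι → F) := by
    rw [Module.finrank_fintype_fun_eq_card]; exact C.hn
  -- first `Bf x u = 0`
  have hxu : Bf x u = 0 := by
    by_contra hne
    obtain ⟨s, y, hus, _, _, _, hs, hsy⟩ := exists_singular_pair_orth2 Q C.hQ hn' u u
    have h1 := hx s hus
    rw [sg_apply C hu hus, hs, zero_mul, sub_zero, add_assoc] at h1
    have h2 : Bf x s • u + (-Bf x u) • s = 0 := left_eq_add.1 h1.symm
    have h3 := congrArg (fun w => Bf w y) h2
    simp only [map_add, map_smul, LinearMap.add_apply, LinearMap.smul_apply, smul_eq_mul,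
      map_zero, LinearMap.zero_apply] at h3
    rw [show Bf u y = 0 from ‹_›, mul_zero, zero_add] at h3
    rcases mul_eq_zero.1 h3 with h4 | h4
    · exact hne (neg_eq_zero.1 h4)
    · exact hsy h4
  by_contra hcon
  have hxX : x ∉ Submodule.span F {u} := by
    intro hmem
    obtain ⟨t, ht⟩ := Submodule.mem_span_singleton.1 hmem
    exact hcon ⟨t, ht.symm⟩
  obtain ⟨z, hz1, hz2⟩ := exists_polar_repr Q C.hQ (Submodule.span F {u}) x hxX
  have hzu : Bf u z = 0 := by
    rw [polar_symm]; exact hz2 u (Submodule.mem_span_singleton_self u)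
  have h1 := hx z hzu
  rw [sg_apply C hu hzu, hxu, mul_zero, sub_zero, neg_zero, zero_smul, add_zero, polar_symm,
    hz1, one_smul] at h1
  exact hu0 (left_eq_add.1 h1.symm)

end Cfsg.Agent.Lib.Helper07.OG
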