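import Cfsg.Agent.Lib.Helper07.OrthA

set_option autoImplicit false
set_option linter.unusedSimpArgs false
set_option linter.unusedVariables false
set_option linter.unusedSectionVars false

/-! Orthogonal groups: recognition of Siegel transformations by their action on the flag
`u ⊂ u^⊥`; the centre of `Ω` consists of scalars `±1`; elements acting on the flag by scalars. -/

namespace Cfsg.Agent.Lib.Helper07.OG

open Module Matrix Cfsg.Agent.Lib.Helper43

variable {F : Type*} [Field F] [Fintype F] {ι : Type} [Fintype ι] [DecidableEq ι]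
variable {Q : QuadraticForm F (ι → F)}

local notation "Bf" => QuadraticMap.polarBilin Q

/-- a linear isometry fixing the singular vector `u` and acting trivially on `u^⊥ / u` is a
Siegel transformation. -/
theorem siegelLin_of_flag (C : OC Q) {u : ι → F} (hu0 : u ≠ 0) (hu : Q u = 0)
    (L : (ι → F) →ₗ[F] (ι → F)) (hL : ∀ x, Q (L x) = Q x) (hLu : L u = u)
    (hL2 : ∀ x, Bf u x = 0 → ∃ t : F, L x - x = t • u) :
    ∃ v, Bf u v = 0 ∧ L = siegelLin Q u v := by
  obtain ⟨z, hz⟩ := exists_pair_one C hu0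
  have hpol := polar_of_isometry Q L hL
  have huz : Bf u z = 1 := by rw [polar_symm]; exact hz
  have huu := polar_self0 (Q := Q) hu
  set v₀ := z - L z with hv₀
  have huv : Bf u v₀ = 0 := by
    have h1 := hpol u z
    rw [hLu] at h1
    rw [hv₀, map_sub, h1, sub_self]
  have hLz : L z = z - v₀ := by rw [hv₀]; abel
  have hQv : Q v₀ = Bf z v₀ := by
    have h1 := hL z
    rw [hLz, Q_sub] at h1
    linear_combination h1
  refine ⟨v₀, huv, ?_⟩
  -- agreement on `z`
  have hz' : L z = siegelLin Q u v₀ z := by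
    rw [siegelLin_apply, hz, hQv, mul_one, sub_self, zero_smul, add_zero, neg_smul, one_smul, hLz]
    abel
  -- agreement on `u^⊥`
  have hx' : ∀ x, Bf u x = 0 → L x = siegelLin Q u v₀ x := by
    intro x hx
    obtain ⟨t, ht⟩ := hL2 x hx
    have hLx : L x = x + t • u := by rw [← ht]; abel
    have hxu : Bf x u = 0 := by rw [polar_symm]; exact hx
    have h1 := hpol x z
    rw [hLx, hLz] at h1
    simp only [map_add, map_sub, map_smul, LinearMap.add_apply, LinearMap.sub_apply,
      LinearMap.smul_apply, smul_eq_mul, huz, huv] at h1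
    have ht' : t = Bf x v₀ := by linear_combination h1
    rw [siegelLin_apply, hxu, mul_zero, sub_zero, neg_zero, zero_smul, add_zero, hLx, ht']
  apply LinearMap.ext
  intro y
  have hy : y = (y - Bf y u • z) + Bf y u • z := by abel
  have h1 : Bf u (y - Bf y u • z) = 0 := by
    rw [map_sub, map_smul, huz, smul_eq_mul, mul_one, polar_symm, sub_self]
  rw [hy, map_add, map_add, map_smul, map_smul, hx' _ h1, hz']

/-- every element of the centre of `Ω` acts as a scalar. -/
theorem center_scalar (C : OC Q) {z : ↥(Cfsg.Omega F ⇑Q)}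
    (hz : z ∈ Subgroup.center ↥(Cfsg.Omega F ⇑Q)) : ∃ c : F, ∀ x, lo Q z x = c • x := by
  apply scalar_of_fix_lines Q C.hQ C.hn (lo Q z)
  intro x hx0 hx
  have hfix : ∀ v, Bf x v = 0 → lo Q (sg C x v) (lo Q z x) = lo Q z x := by
    intro v hv
    have hcomm : sg C x v * z = z * sg C x v := Subgroup.mem_center_iff.1 hz (sg C x v)
    rw [← lo_mul_apply, hcomm, lo_mul_apply]
    congr 1
    rw [sg_apply C hx hv, polar_self0 hx, hv]
    simp
  obtain ⟨t, ht⟩ := fixed_of_siegelGrp C hx0 hx hfix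
  exact ⟨t, ht⟩

/-- the scalar of a central element squares to one. -/
theorem center_scalar_sq (C : OC Q) {z : ↥(Cfsg.Omega F ⇑Q)} {c : F}
    (hc : ∀ x, lo Q z x = c • x) : c * c = 1 := by
  have hn' : 7 ≤ finrank F (ι → F) := by
    rw [Module.finrank_fintype_fun_eq_card]; exact C.hn
  obtain ⟨y, -, -, hy⟩ := exists_orth_value Q C.hQ hn' 0 0 1
  have h1 := lo_isometry Q z y
  rw [hc, Q_smul, hy, mul_one] at h1
  exact h1

theorem lo_pow_apply_scalar {z : ↥(Cfsg.Omega F ⇑Q)} {c : F}
    (hc : ∀ x, lo Q z x = c • x) (k : ℕ) (x : ι → F) : lo Q (z ^ k) x = c ^ k • x := by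
  induction k with
  | zero => rw [pow_zero, pow_zero, lo_one_apply, one_smul]
  | succ k ih => rw [pow_succ, lo_mul_apply, hc, map_smul, ih, smul_smul, pow_succ, mul_comm]

/-- a central element of `p`-power order is trivial. -/
theorem center_pow_eq_one (C : OC Q) (p : ℕ) [Fact p.Prime] [CharP F p]
    {z : ↥(Cfsg.Omega F ⇑Q)} (hz : z ∈ Subgroup.center ↥(Cfsg.Omega F ⇑Q)) {k : ℕ}
    (hk : z ^ (p ^ k) = 1) : z = 1 := by
  obtain ⟨c, hc⟩ := center_scalar C hz
  have hcc := center_scalar_sq C hc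
  have hn' : 7 ≤ finrank F (ι → F) := by
    rw [Module.finrank_fintype_fun_eq_card]; exact C.hn
  obtain ⟨y, -, -, hy⟩ := exists_orth_value Q C.hQ hn' 0 0 1
  have hy0 : y ≠ 0 := by
    rintro rfl
    rw [map_zero] at hy
    exact zero_ne_one hy
  have h1 := lo_pow_apply_scalar hc (p ^ k) y
  rw [hk, lo_one_apply] at h1
  have hcp : c ^ (p ^ k) = 1 := by
    have h2 : (c ^ (p ^ k) - 1) • y = 0 := by rw [sub_smul, one_smul, ← h1, sub_self]
    rcases smul_eq_zero.1 h2 with h3 | h3
    · exact sub_eq_zero.1 h3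
    · exact absurd h3 hy0
  have hc1 : c = 1 := by
    have h3 : (c - 1) ^ (p ^ k) = 0 := by
      rw [sub_pow_char_pow, hcp, one_pow, sub_self]
    exact sub_eq_zero.1 ((pow_eq_zero_iff (pow_pos (Fact.out : p.Prime).pos k).ne').1 h3)
  apply lo_ext
  intro x
  rw [hc, hc1, one_smul, lo_one_apply]

/-- elements acting on the flag `u ⊂ u^⊥` through a scalar are central times Siegel. -/
theorem mem_center_mul_sg (C : OC Q) {u : ι → F} (hu0 : u ≠ 0) (hu : Q u = 0)
    (k : ↥(Cfsg.Omega F ⇑Q)) (a : F) (hku : lo Q k u = a • u)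
    (hk2 : ∀ x, Bf u x = 0 → ∃ t : F, a • lo Q k x - x = t • u) :
    ∃ z ∈ Subgroup.center ↥(Cfsg.Omega F ⇑Q), ∃ v, Bf u v = 0 ∧ k = z * sg C u v := by
  have hn' : 7 ≤ finrank F (ι → F) := by
    rw [Module.finrank_fintype_fun_eq_card]; exact C.hn
  -- `a * a = 1`
  obtain ⟨s, y, hus, _, huy, _, hs, hsy⟩ := exists_singular_pair_orth2 Q C.hQ hn' u u
  have huu := polar_self0 (Q := Q) hu
  have haa : a * a = 1 := by
    obtain ⟨t1, ht1⟩ := hk2 s hus
    obtain ⟨t2, ht2⟩ := hk2 y huy
    have h1 : a • lo Q k s = s + t1 • u := by rw [← ht1]; abel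
    have h2 : a • lo Q k y = y + t2 • u := by rw [← ht2]; abel
    have h3 : Bf (a • lo Q k s) (a • lo Q k y) = a * a * Bf s y := by
      rw [map_smul, map_smul, LinearMap.smul_apply, lo_polar, smul_eq_mul, smul_eq_mul]
      ring
    rw [h1, h2] at h3
    simp only [map_add, map_smul, LinearMap.add_apply, LinearMap.smul_apply, smul_eq_mul,
      huu, huy, mul_zero, add_zero] at h3
    have hsu : Bf s u = 0 := by rw [polar_symm]; exact hus
    rw [hsu, mul_zero, add_zero] at h3
    have h4 : (a * a - 1) * Bf s y = 0 := by linear_combination -h3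
    rcases mul_eq_zero.1 h4 with h5 | h5
    · exact sub_eq_zero.1 h5
    · exact absurd h5 hsy
  set L : (ι → F) →ₗ[F] (ι → F) := a • lo Q k with hLdef
  have hL : ∀ x, Q (L x) = Q x := by
    intro x
    rw [hLdef, LinearMap.smul_apply, Q_smul, lo_isometry, haa, one_mul]
  have hLu : L u = u := by
    rw [hLdef, LinearMap.smul_apply, hku, smul_smul, haa, one_smul]
  obtain ⟨v, huv, hLv⟩ := siegelLin_of_flag C hu0 hu L hL hLu (fun x hx => by
    obtain ⟨t, ht⟩ := hk2 x hx
    exact ⟨t, by rw [hLdef, LinearMap.smul_apply]; exact ht⟩)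
  refine ⟨k * (sg C u v)⁻¹, ?_, v, huv, by group⟩
  apply mem_center_of_scalar Q _ a
  intro x
  rw [lo_mul_apply]
  have h1 : lo Q k = a • L := by
    rw [hLdef, smul_smul, haa, one_smul]
  rw [h1, LinearMap.smul_apply, hLv, ← lo_sg C hu huv, lo_apply_inv]

end Cfsg.Agent.Lib.Helper07.OG
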