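import Cfsg.Agent.Lib.Helper07.OrthB

set_option autoImplicit false
set_option linter.unusedSimpArgs false
set_option linter.unusedVariables false
set_option linter.unusedSectionVars false

/-! Orthogonal groups: the Siegel groups `Qs u` as `p`-groups, their images `Qb u` in `PΩ`,
and `Qb u = O_p` of the image of the line stabiliser. -/

namespace Cfsg.Agent.Lib.Helper07.OG

open Module Matrix Cfsg.Agent.Lib.Helper43

section generic

/-- a `p`-group normalising a non-trivial `p`-group centralises a non-trivial element of it. -/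
theorem exists_central_of_normalized {X : Type*} [Group X] [Finite X] (p : ℕ) [Fact p.Prime]
    (A K : Subgroup X) (hA : IsPGroup p A) (hK : IsPGroup p K) (hA1 : A ≠ ⊥)
    (hKA : ∀ k ∈ K, ∀ a ∈ A, k * a * k⁻¹ ∈ A) : ∃ a ∈ A, a ≠ 1 ∧ ∀ k ∈ K, k * a = a * k := by
  let act' : MulAction K A :=
    { smul := fun k a => ⟨(k : X) * a * (k : X)⁻¹, hKA k k.2 a a.2⟩
      one_smul := fun a => Subtype.ext (by show (1 : X) * a * (1 : X)⁻¹ = a; group)
      mul_smul := fun k l a => Subtype.ext (by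
        show ((k : X) * l) * a * ((k : X) * l)⁻¹ = k * (l * a * (l : X)⁻¹) * (k : X)⁻¹
        group) }
  have hcard : p ∣ Nat.card A := by
    rcases hA.card_eq_or_dvd with h | h
    · exfalso
      apply hA1
      exact (Subgroup.card_eq_one).1 h
    · exact h
  have h1 : (1 : A) ∈ MulAction.fixedPoints K A := by
    intro k
    apply Subtype.ext
    show (k : X) * (1 : X) * (k : X)⁻¹ = 1
    group
  obtain ⟨b, hb, hb1⟩ := hK.exists_fixed_point_of_prime_dvd_card_of_fixed_point (α := A) hcard h1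
  refine ⟨b.1, b.2, fun h => hb1 (Subtype.ext h.symm), fun k hk => ?_⟩
  have h2 := congrArg Subtype.val (hb ⟨k, hk⟩)
  have h3 : k * (b : X) * k⁻¹ = b := h2
  calc k * (b : X) = k * b * k⁻¹ * k := by group
    _ = b * k := by rw [h3]

end generic

variable {F : Type*} [Field F] [Fintype F] {ι : Type} [Fintype ι] [DecidableEq ι]
variable {Q : QuadraticForm F (ι → F)}

local notation "Bf" => QuadraticMap.polarBilin Q

/-- the projection `Ω → PΩ`. -/
def prj : ↥(Cfsg.Omega F ⇑Q) →* Cfsg.POmega F ⇑Q := QuotientGroup.mk' _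

theorem prj_surjective : Function.Surjective (prj (Q := Q)) := QuotientGroup.mk'_surjective _

theorem prj_eq_one_iff {s : ↥(Cfsg.Omega F ⇑Q)} :
    prj s = 1 ↔ s ∈ Subgroup.center ↥(Cfsg.Omega F ⇑Q) := QuotientGroup.eq_one_iff s

theorem prj_eq_iff {s t : ↥(Cfsg.Omega F ⇑Q)} :
    prj s = prj t ↔ s⁻¹ * t ∈ Subgroup.center ↥(Cfsg.Omega F ⇑Q) := QuotientGroup.eq

theorem sg_pow (C : OC Q) {u v : ι → F} (hu : Q u = 0) (huv : Bf u v = 0) (k : ℕ) :
    (sg C u v) ^ k = sg C u (k • v) := by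
  induction k with
  | zero => rw [pow_zero, zero_smul, sg_zero C hu]
  | succ k ih =>
    have h1 : Bf u (k • v) = 0 := by rw [map_nsmul, huv, smul_zero]
    rw [pow_succ, ih, sg_mul C hu h1 huv, succ_nsmul]

theorem sg_pow_p (C : OC Q) (p : ℕ) [CharP F p] {u v : ι → F} (hu : Q u = 0)
    (huv : Bf u v = 0) : (sg C u v) ^ p = 1 := by
  rw [sg_pow C hu huv]
  have : (p • v : ι → F) = 0 := by
    rw [← Nat.cast_smul_eq_nsmul F, CharP.cast_eq_zero, zero_smul]
  rw [this, sg_zero C hu]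

open Classical in
/-- the Siegel group of `u` (total version). -/
noncomputable def Qs (C : OC Q) (u : ι → F) : Subgroup ↥(Cfsg.Omega F ⇑Q) :=
  if hu : Q u = 0 then siegelGrp Q C.hQ u hu else ⊥

theorem mem_Qs (C : OC Q) {u : ι → F} (hu : Q u = 0) (g : ↥(Cfsg.Omega F ⇑Q)) :
    g ∈ Qs C u ↔ ∃ v, Bf u v = 0 ∧ g = sg C u v := by
  unfold Qs
  rw [dif_pos hu]
  exact mem_siegelGrp_iff C hu g

theorem sg_mem_Qs (C : OC Q) {u v : ι → F} (hu : Q u = 0) (huv : Bf u v = 0) :
    sg C u v ∈ Qs C u := (mem_Qs C hu _).2 ⟨v, huv, rfl⟩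

theorem isPGroup_Qs (C : OC Q) (p : ℕ) [Fact p.Prime] [CharP F p] {u : ι → F} (hu : Q u = 0) :
    IsPGroup p (Qs C u) := by
  intro g
  obtain ⟨v, hv, hg⟩ := (mem_Qs C hu g.1).1 g.2
  refine ⟨1, ?_⟩
  apply Subtype.ext
  rw [pow_one, Subgroup.coe_pow, hg, sg_pow_p C p hu hv]
  rfl

theorem Qs_comm (C : OC Q) {u : ι → F} (hu : Q u = 0) :
    ∀ a ∈ Qs C u, ∀ b ∈ Qs C u, a * b = b * a := by
  intro a ha b hb
  obtain ⟨v, hv, rfl⟩ := (mem_Qs C hu a).1 ha
  obtain ⟨v', hv', rfl⟩ := (mem_Qs C hu b).1 hb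
  rw [sg_mul C hu hv hv', sg_mul C hu hv' hv, add_comm]

/-- a central element which is a quotient of two elements of a Siegel group is trivial. -/
theorem sg_eq_of_prj_eq (C : OC Q) (p : ℕ) [Fact p.Prime] [CharP F p] {u v v' : ι → F}
    (hu : Q u = 0) (huv : Bf u v = 0) (huv' : Bf u v' = 0)
    (h : prj (sg C u v) = prj (sg C u v')) : sg C u v = sg C u v' := by
  rw [prj_eq_iff] at h
  have h3 : Bf u (-v) = 0 := by rw [map_neg, huv, neg_zero]
  rw [sg_inv C hu huv, sg_mul C hu h3 huv'] at h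
  have h4 : Bf u (-v + v') = 0 := by rw [map_add, h3, huv', add_zero]
  have h5 := center_pow_eq_one C p h (k := 1) (by rw [pow_one]; exact sg_pow_p C p hu h4)
  rw [← sg_mul C hu h3 huv', ← sg_inv C hu huv, inv_mul_eq_one] at h5
  exact h5

/-- the centre stabilises every singular line. -/
theorem center_le_lineStab (C : OC Q) {u : ι → F} (hu0 : u ≠ 0) :
    Subgroup.center ↥(Cfsg.Omega F ⇑Q) ≤ lineStab Q u hu0 := by
  intro z hz
  obtain ⟨c, hc⟩ := center_scalar C hz
  exact ⟨c, hc u⟩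

/-- a subspace containing a singular vector outside its radical is spanned by its singular
vectors. -/
theorem le_span_singular (W : Submodule F (ι → F)) {s x : ι → F} (hsW : s ∈ W) (hxW : x ∈ W)
    (hs : Q s = 0) (hsx : Bf s x ≠ 0) :
    W ≤ Submodule.span F {w | w ∈ W ∧ Q w = 0} := by
  intro z hzW
  by_contra hz
  obtain ⟨f, hfz, hf⟩ := Submodule.exists_le_ker_of_notMem hz
  obtain ⟨s', hs'W, hs', hfs'⟩ := exists_singular_functional_ne Q W s x hsW hxW hs hsx f z hzW hfz
  apply hfs'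
  exact hf (Submodule.subset_span ⟨hs'W, hs'⟩)

/-- a submodule containing the singular vectors of `u^⊥` contains `u^⊥`. -/
theorem perp_le_of_singular (C : OC Q) (u : ι → F) (S : Submodule F (ι → F))
    (hS : ∀ w, Bf u w = 0 → Q w = 0 → w ∈ S) : ∀ x, Bf u x = 0 → x ∈ S := by
  have hn' : 7 ≤ finrank F (ι → F) := by
    rw [Module.finrank_fintype_fun_eq_card]; exact C.hn
  obtain ⟨s, y, hus, _, huy, _, hs, hsy⟩ := exists_singular_pair_orth2 Q C.hQ hn' u u
  set W : Submodule F (ι → F) := LinearMap.ker (Bf u) with hW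
  have hsW : s ∈ W := hus
  have hyW : y ∈ W := huy
  have h1 := le_span_singular W hsW hyW hs hsy
  intro x hx
  have hxW : x ∈ W := hx
  have h2 := h1 hxW
  refine (Submodule.span_le (p := S)).2 ?_ h2
  rintro w ⟨hwW, hw⟩
  exact hS w hwW hw

end Cfsg.Agent.Lib.Helper07.OG
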