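import Cfsg.Agent.Lib.Helper07.OrthC

set_option autoImplicit false
set_option linter.unusedSimpArgs false
set_option linter.unusedVariables false
set_option linter.unusedSectionVars false

/-! Orthogonal groups: the images `Qb u`, `Pb u` in `PΩ` of the Siegel group and of the line
stabiliser; `Qb u` contains every normal `p`-subgroup of `Pb u`. -/

namespace Cfsg.Agent.Lib.Helper07.OG

open Module Matrix Cfsg.Agent.Lib.Helper43

variable {F : Type*} [Field F] [Fintype F] {ι : Type} [Fintype ι] [DecidableEq ι]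
variable {Q : QuadraticForm F (ι → F)}

local notation "Bf" => QuadraticMap.polarBilin Q

/-- the image of the Siegel group in `PΩ`. -/
noncomputable def Qb (C : OC Q) (u : ι → F) : Subgroup (Cfsg.POmega F ⇑Q) := (Qs C u).map prj

/-- the image of the line stabiliser in `PΩ`. -/
def Pb (u : ι → F) (hu0 : u ≠ 0) : Subgroup (Cfsg.POmega F ⇑Q) := (lineStab Q u hu0).map prj

theorem prj_mem_Pb_iff (C : OC Q) {u : ι → F} (hu0 : u ≠ 0) (g : ↥(Cfsg.Omega F ⇑Q)) :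
    prj g ∈ Pb (Q := Q) u hu0 ↔ g ∈ lineStab Q u hu0 := by
  constructor
  · rintro ⟨h, hh, hgh⟩
    rw [prj_eq_iff] at hgh
    have h1 := center_le_lineStab C hu0 hgh
    have h2 := (lineStab Q u hu0).mul_mem hh h1
    rwa [mul_inv_cancel_left] at h2
  · intro h
    exact ⟨g, h, rfl⟩

theorem prj_mem_Qb_iff (C : OC Q) {u : ι → F} (hu : Q u = 0) (g : ↥(Cfsg.Omega F ⇑Q)) :
    prj g ∈ Qb C u ↔ ∃ z ∈ Subgroup.center ↥(Cfsg.Omega F ⇑Q), ∃ v, Bf u v = 0 ∧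
      g = z * sg C u v := by
  constructor
  · rintro ⟨h, hh, hgh⟩
    obtain ⟨v, hv, rfl⟩ := (mem_Qs C hu h).1 hh
    rw [prj_eq_iff] at hgh
    have hc : g * (sg C u v)⁻¹ ∈ Subgroup.center ↥(Cfsg.Omega F ⇑Q) := by
      have h1 := (Subgroup.center ↥(Cfsg.Omega F ⇑Q)).normal_of_characteristic.conj_mem _ hgh
        (sg C u v)
      have h2 : sg C u v * ((sg C u v)⁻¹ * g) * (sg C u v)⁻¹ = g * (sg C u v)⁻¹ := by group
      rwa [h2] at h1
    exact ⟨g * (sg C u v)⁻¹, hc, v, hv, by group⟩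
  · rintro ⟨z, hz, v, hv, rfl⟩
    refine ⟨sg C u v, sg_mem_Qs C hu hv, ?_⟩
    rw [map_mul, prj_eq_one_iff.2 hz, one_mul]

theorem prj_sg_mem_Qb (C : OC Q) {u v : ι → F} (hu : Q u = 0) (huv : Bf u v = 0) :
    prj (sg C u v) ∈ Qb C u := ⟨sg C u v, sg_mem_Qs C hu huv, rfl⟩

theorem mem_Qb_iff (C : OC Q) {u : ι → F} (hu : Q u = 0) (x : Cfsg.POmega F ⇑Q) :
    x ∈ Qb C u ↔ ∃ v, Bf u v = 0 ∧ x = prj (sg C u v) := by
  constructor
  · rintro ⟨h, hh, rfl⟩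
    obtain ⟨v, hv, rfl⟩ := (mem_Qs C hu h).1 hh
    exact ⟨v, hv, rfl⟩
  · rintro ⟨v, hv, rfl⟩
    exact prj_sg_mem_Qb C hu hv

theorem isPGroup_Qb (C : OC Q) (p : ℕ) [Fact p.Prime] [CharP F p] {u : ι → F} (hu : Q u = 0) :
    IsPGroup p (Qb C u) := (isPGroup_Qs C p hu).map _

theorem Qb_comm (C : OC Q) {u : ι → F} (hu : Q u = 0) :
    ∀ a ∈ Qb C u, ∀ b ∈ Qb C u, a * b = b * a := by
  rintro _ ⟨a, ha, rfl⟩ _ ⟨b, hb, rfl⟩
  rw [← map_mul, ← map_mul, Qs_comm C hu a ha b hb]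

/-- a singular vector of `u^⊥` outside the line of `u`, with a partner. -/
theorem exists_singular_perp (C : OC Q) (u c : ι → F) :
    ∃ s y : ι → F, Bf u s = 0 ∧ Bf c s = 0 ∧ Bf u y = 0 ∧ Bf c y = 0 ∧ Q s = 0 ∧ Bf s y ≠ 0 ∧
      ¬ ∃ t : F, s = t • u := by
  have hn' : 7 ≤ finrank F (ι → F) := by
    rw [Module.finrank_fintype_fun_eq_card]; exact C.hn
  obtain ⟨s, y, hus, hcs, huy, hcy, hs, hsy⟩ := exists_singular_pair_orth2 Q C.hQ hn' u c
  refine ⟨s, y, hus, hcs, huy, hcy, hs, hsy, ?_⟩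
  rintro ⟨t, rfl⟩
  apply hsy
  rw [map_smul, LinearMap.smul_apply, huy, smul_zero]

theorem prj_sg_ne_one (C : OC Q) (p : ℕ) [Fact p.Prime] [CharP F p] {u v : ι → F} (hu0 : u ≠ 0)
    (hu : Q u = 0) (huv : Bf u v = 0) (hv : ¬ ∃ t : F, v = t • u) : prj (sg C u v) ≠ 1 := by
  intro h
  rw [prj_eq_one_iff] at h
  have h5 := center_pow_eq_one C p h (k := 1) (by rw [pow_one]; exact sg_pow_p C p hu huv)
  exact hv ((sg_eq_one_iff C hu0 hu huv).1 h5)

theorem Qb_ne_bot (C : OC Q) (p : ℕ) [Fact p.Prime] [CharP F p] {u : ι → F} (hu0 : u ≠ 0)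
    (hu : Q u = 0) : Qb C u ≠ ⊥ := by
  obtain ⟨s, y, hus, -, -, -, hs, -, hsu⟩ := exists_singular_perp C u u
  intro h
  have h1 := prj_sg_mem_Qb C hu hus
  rw [h, Subgroup.mem_bot] at h1
  exact prj_sg_ne_one C p hu0 hu hus hsu h1

/-- the line stabiliser normalises the Siegel group (total version). -/
theorem conj_sg_of_lineStab (C : OC Q) {u v : ι → F} (hu0 : u ≠ 0) (hu : Q u = 0)
    (huv : Bf u v = 0) (k : ↥(Cfsg.Omega F ⇑Q)) {a : F} (hka : lo Q k u = a • u) :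
    Bf u (a • lo Q k v) = 0 ∧ k * sg C u v * k⁻¹ = sg C u (a • lo Q k v) := by
  have ha0 : a ≠ 0 := by
    rintro rfl
    rw [zero_smul] at hka
    exact lo_ne_zero Q k u hu0 hka
  have h1 : Bf u (lo Q k v) = 0 := by
    have h2 := lo_polar Q k u v
    rw [hka, huv, map_smul, LinearMap.smul_apply, smul_eq_mul] at h2
    rcases mul_eq_zero.1 h2 with h3 | h3
    · exact absurd h3 ha0
    · exact h3
  refine ⟨by rw [map_smul, h1, smul_zero], ?_⟩
  rw [sg_conj C k hu huv, hka, sg_smul_left C a hu h1]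

theorem Pb_normalizes_Qb (C : OC Q) {u : ι → F} (hu0 : u ≠ 0) (hu : Q u = 0) :
    ∀ g ∈ Pb (Q := Q) u hu0, ∀ x ∈ Qb C u, g * x * g⁻¹ ∈ Qb C u := by
  rintro _ ⟨k, ⟨a, hka⟩, rfl⟩ _ ⟨h, hh, rfl⟩
  obtain ⟨v, hv, rfl⟩ := (mem_Qs C hu h).1 hh
  obtain ⟨h1, h2⟩ := conj_sg_of_lineStab C hu0 hu hv k hka
  rw [← map_inv, ← map_mul, ← map_mul, h2]
  exact prj_sg_mem_Qb C hu h1

theorem Qb_le_Pb (C : OC Q) {u : ι → F} (hu0 : u ≠ 0) (hu : Q u = 0) :
    Qb C u ≤ Pb (Q := Q) u hu0 := by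
  rintro _ ⟨h, hh, rfl⟩
  obtain ⟨v, hv, rfl⟩ := (mem_Qs C hu h).1 hh
  refine ⟨sg C u v, ⟨1, ?_⟩, rfl⟩
  rw [sg_apply C hu hv, polar_self0 hu, hv]
  simp

/-- Witt transitivity of the stabiliser of `u` on `u^⊥`. -/
theorem exists_fix_map (C : OC Q) {u c c' : ι → F} (hu0 : u ≠ 0) (huc : Bf u c = 0)
    (huc' : Bf u c' = 0) (hc : ¬ ∃ t : F, c = t • u) (hc' : ¬ ∃ t : F, c' = t • u)
    (hQ : Q c = Q c') : ∃ g : ↥(Cfsg.Omega F ⇑Q), lo Q g u = u ∧ lo Q g c = c' := by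
  obtain ⟨g, hg, h1, h2⟩ := exists_Omega_pair Q C.hQ C.hn u c u c'
    (indep_of_not_smul u c hu0 hc) (indep_of_not_smul u c' hu0 hc') rfl hQ (by rw [huc, huc'])
  exact ⟨⟨g, hg⟩, h1, h2⟩

/-- **`Qb u = O_p(Pb u)`**: every normal `p`-subgroup of `Pb u` lies in `Qb u`. -/
theorem pcore_le_Qb (C : OC Q) (p : ℕ) [Fact p.Prime] [CharP F p] {u : ι → F} (hu0 : u ≠ 0)
    (hu : Q u = 0) (K : Subgroup (Cfsg.POmega F ⇑Q)) (hKp : IsPGroup p K)
    (hKP : K ≤ Pb (Q := Q) u hu0)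
    (hKn : ∀ g ∈ Pb (Q := Q) u hu0, ∀ k ∈ K, g * k * g⁻¹ ∈ K) : K ≤ Qb C u := by
  have hfin : Finite (Cfsg.POmega F ⇑Q) := inferInstance
  obtain ⟨ā, hāA, hā1, hācomm⟩ := exists_central_of_normalized p (Qb C u) K
    (isPGroup_Qb C p hu) hKp (Qb_ne_bot C p hu0 hu)
    (fun k hk a ha => Pb_normalizes_Qb C hu0 hu k (hKP hk) a ha)
  obtain ⟨c, huc, rfl⟩ := (mem_Qb_iff C hu ā).1 hāA
  have hcu : ¬ ∃ t : F, c = t • u := by
    intro h
    apply hā1
    rw [(sg_eq_one_iff C hu0 hu huc).2 h, map_one]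
  -- the submodules `S k a`
  set S : ↥(Cfsg.Omega F ⇑Q) → F → Submodule F (ι → F) := fun k a =>
    (Submodule.span F {u}).comap (a • lo Q k - LinearMap.id) with hS
  have hSmem : ∀ k a x, x ∈ S k a ↔ ∃ t : F, a • lo Q k x - x = t • u := by
    intro k a x
    rw [hS]
    simp only [Submodule.mem_comap, LinearMap.sub_apply, LinearMap.smul_apply, LinearMap.id_apply]
    rw [Submodule.mem_span_singleton]
    constructor
    · rintro ⟨t, ht⟩; exact ⟨t, ht.symm⟩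
    · rintro ⟨t, ht⟩; exact ⟨t, ht.symm⟩
  set Φ : (ι → F) → Prop := fun x => ∀ k : ↥(Cfsg.Omega F ⇑Q), prj k ∈ K → ∀ a : F,
    lo Q k u = a • u → x ∈ S k a with hΦ
  have hΦc : Φ c := by
    intro k hk a hka
    rw [hSmem]
    obtain ⟨h1, h2⟩ := conj_sg_of_lineStab C hu0 hu huc k hka
    have h3 := hācomm (prj k) hk
    have h4 : prj (k * sg C u c * k⁻¹) = prj (sg C u c) := by
      rw [map_mul, map_mul, h3, map_inv]
      group
    rw [h2] at h4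
    have h5 := sg_eq_of_prj_eq C p hu h1 huc h4
    exact (sg_eq_iff C hu0 hu h1 huc).1 h5
  have hΦconj : ∀ (g : ↥(Cfsg.Omega F ⇑Q)) (b : F), lo Q g u = b • u → ∀ x, Φ x → Φ (lo Q g x) := by
    intro g b hgb x hx k hk a hka
    have hb0 : b ≠ 0 := by
      rintro rfl
      rw [zero_smul] at hgb
      exact lo_ne_zero Q g u hu0 hgb
    have hk' : prj (g⁻¹ * k * g) ∈ K := by
      have := hKn (prj g⁻¹) ((prj_mem_Pb_iff C hu0 _).2
        ((lineStab Q u hu0).inv_mem ⟨b, hgb⟩)) (prj k) hk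
      rw [← map_inv, inv_inv, ← map_mul, ← map_mul] at this
      exact this
    have hk'u : lo Q (g⁻¹ * k * g) u = a • u := by
      rw [lo_mul_apply, lo_mul_apply, hgb, map_smul, hka, map_smul, map_smul]
      have : lo Q g⁻¹ u = b⁻¹ • u := by
        have h := lo_inv_apply Q g u
        rw [hgb, map_smul] at h
        calc lo Q g⁻¹ u = b⁻¹ • (b • lo Q g⁻¹ u) := by
              rw [smul_smul, inv_mul_cancel₀ hb0, one_smul]
          _ = b⁻¹ • u := by rw [h]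
      rw [this, smul_smul, smul_smul]
      congr 1
      field_simp
    obtain ⟨t, ht⟩ := (hSmem _ _ _).1 (hx _ hk' a hk'u)
    rw [hSmem]
    refine ⟨t * b, ?_⟩
    have h6 := congrArg (lo Q g) ht
    rw [map_sub, map_smul, map_smul, hgb, lo_mul_apply, lo_mul_apply, lo_apply_inv, smul_smul] at h6
    exact h6
  -- a singular vector with `Φ`
  obtain ⟨w, huw, hw, hwu, hΦw⟩ : ∃ w, Bf u w = 0 ∧ Q w = 0 ∧ (¬ ∃ t : F, w = t • u) ∧ Φ w := by
    by_cases hQc : Q c = 0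
    · exact ⟨c, huc, hQc, hcu, hΦc⟩
    · obtain ⟨s, y, hus, hcs, -, -, hs, -, hsu⟩ := exists_singular_perp C u c
      refine ⟨s, hus, hs, hsu, ?_⟩
      have hQcs : Q (c + s) = Q c := by rw [Q_add, hs, hcs, add_zero, add_zero]
      have hcs' : ¬ ∃ t : F, c + s = t • u := by
        rintro ⟨t, ht⟩
        apply hQc
        rw [← hQcs, ht, Q_smul, hu, mul_zero]
      obtain ⟨g, hgu, hgc⟩ := exists_fix_map C hu0 huc
        (show Bf u (c + s) = 0 by rw [map_add, huc, hus, add_zero]) hcu hcs' hQcs.symm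
      have h1 := hΦconj g 1 (by rw [hgu, one_smul]) c hΦc
      rw [hgc] at h1
      intro k hk a hka
      have h2 := (S k a).sub_mem (h1 k hk a hka) (hΦc k hk a hka)
      rwa [add_sub_cancel_left] at h2
  -- all singular vectors of `u^⊥`
  have hΦsing : ∀ w', Bf u w' = 0 → Q w' = 0 → Φ w' := by
    intro w' huw' hw'
    by_cases hw'u : ∃ t : F, w' = t • u
    · obtain ⟨t, rfl⟩ := hw'u
      intro k hk a hka
      rw [hSmem]
      refine ⟨a * a * t - t, ?_⟩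
      rw [map_smul, hka, smul_smul, smul_smul, sub_smul]
      congr 1
      congr 1
      ring
    · obtain ⟨g, hgu, hgw⟩ := exists_fix_map C hu0 huw huw' hwu hw'u (by rw [hw, hw'])
      have h1 := hΦconj g 1 (by rw [hgu, one_smul]) w hΦw
      rwa [hgw] at h1
  -- conclusion
  intro x hx
  obtain ⟨k, rfl⟩ := prj_surjective x
  obtain ⟨a, hka⟩ := (prj_mem_Pb_iff C hu0 k).1 (hKP hx)
  have hall : ∀ y, Bf u y = 0 → ∃ t : F, a • lo Q k y - y = t • u := by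
    intro y hy
    rw [← hSmem]
    exact perp_le_of_singular C u (S k a) (fun w' h1 h2 => hΦsing w' h1 h2 k hx a hka) y hy
  obtain ⟨z, hz, v, hv, hkz⟩ := mem_center_mul_sg C hu0 hu k a hka hall
  exact (prj_mem_Qb_iff C hu k).2 ⟨z, hz, v, hv, hkz⟩

end Cfsg.Agent.Lib.Helper07.OG
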