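import Mathlib

set_option autoImplicit false
set_option linter.unusedSectionVars false
set_option linter.unusedVariables false

/-! Maximal `p`-subgroups of a subgroup (pure group theory). -/

namespace Cfsg.Agent.Lib.Helper07.UG

variable {G : Type*} [Group G]

/-- `S` is a maximal `p`-subgroup of `N`. -/
def IsMaxP (p : ℕ) (N S : Subgroup G) : Prop :=
  S ≤ N ∧ IsPGroup p S ∧ ∀ T : Subgroup G, T ≤ N → IsPGroup p T → S ≤ T → T = S

lemma exists_isMaxP [Finite G] (p : ℕ) [Fact p.Prime] (N : Subgroup G) :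
    ∃ S : Subgroup G, IsMaxP p N S := by
  obtain ⟨P⟩ : Nonempty (Sylow p N) := inferInstance
  refine ⟨(P : Subgroup N).map N.subtype, Subgroup.map_subtype_le _, P.isPGroup'.map _, ?_⟩
  intro T hTN hT hST
  have h1 : IsPGroup p (T.subgroupOf N) := hT.comap_subtype
  have h2 : (P : Subgroup N) ≤ T.subgroupOf N := by
    intro x hx
    rw [Subgroup.mem_subgroupOf]
    exact hST (Subgroup.mem_map_of_mem _ hx)
  have h3 := P.is_maximal' h1 h2
  rw [← h3, Subgroup.subgroupOf_map_subtype, inf_eq_left.mpr hTN]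

lemma IsMaxP.le_of_normal {p : ℕ} {N S K : Subgroup G} (h : IsMaxP p N S) (hK : K ≤ N)
    (hKp : IsPGroup p K) (hn : ∀ g ∈ N, ∀ k ∈ K, g * k * g⁻¹ ∈ K) : K ≤ S := by
  have hSn : S ≤ Subgroup.normalizer (K : Set G) := by
    intro g hg
    rw [Subgroup.mem_normalizer_iff]
    intro k
    constructor
    · intro hk
      exact hn g (h.1 hg) k hk
    · intro hk
      have := hn g⁻¹ (N.inv_mem (h.1 hg)) _ hk
      rw [inv_inv] at this
      have h2 : g⁻¹ * (g * k * g⁻¹) * g = k := by group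
      rwa [h2] at this
  have h1 : IsPGroup p (S ⊔ K : Subgroup G) := IsPGroup.to_sup_of_normal_right' h.2.1 hKp hSn
  have h2 := h.2.2 (S ⊔ K) (sup_le h.1 hK) h1 le_sup_left
  rw [← h2]
  exact le_sup_right

lemma IsMaxP.top_of_normalizer [Finite G] {p : ℕ} [Fact p.Prime] {N S : Subgroup G}
    (h : IsMaxP p N S) (hn : ∀ x : G, (∀ s ∈ S, x * s * x⁻¹ ∈ S) → x ∈ N) : IsMaxP p ⊤ S := by
  refine ⟨le_top, h.2.1, ?_⟩
  intro T _ hT hST
  by_contra hne
  -- the normaliser condition in the `p`-group `T`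
  have : Group.IsNilpotent T := hT.isNilpotent
  have hnc := Group.normalizerCondition_of_isNilpotent (G := T)
  have hlt : S.subgroupOf T < ⊤ := by
    rw [lt_top_iff_ne_top]
    intro htop
    apply hne
    apply le_antisymm _ hST
    intro t ht
    have : (⟨t, ht⟩ : T) ∈ S.subgroupOf T := by rw [htop]; exact Subgroup.mem_top _
    exact this
  have h2 := hnc _ hlt
  obtain ⟨x, hxn, hxS⟩ := SetLike.exists_of_lt h2
  have hxN : (x : G) ∈ N := by
    apply hn
    intro s hs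
    have h3 := (Subgroup.mem_normalizer_iff.mp hxn ⟨s, hST hs⟩).mp (by
      rw [Subgroup.mem_subgroupOf]; exact hs)
    rw [Subgroup.mem_subgroupOf] at h3
    exact h3
  -- `S ⊔ ⟨x⟩ ≤ T ⊓ N` is a `p`-group
  have h4 : IsPGroup p (T ⊓ N : Subgroup G) := hT.to_le inf_le_left
  have h5 := h.2.2 (T ⊓ N) inf_le_right h4 (le_inf hST h.1)
  apply hxS
  rw [Subgroup.mem_subgroupOf, ← h5]
  exact ⟨x.2, hxN⟩

lemma IsMaxP.exists_sylow {p : ℕ} {S : Subgroup G} (h : IsMaxP p ⊤ S) :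
    ∃ P : Sylow p G, (P : Subgroup G) = S :=
  ⟨⟨S, h.2.1, fun {Q} hQ hSQ => h.2.2 Q le_top hQ hSQ⟩, rfl⟩

lemma isMaxP_sylow {p : ℕ} (P : Sylow p G) : IsMaxP p ⊤ (P : Subgroup G) :=
  ⟨le_top, P.isPGroup', fun T _ hT hPT => P.is_maximal' hT hPT⟩

/-- the centre of a subgroup, as a set. -/
def ZCs (K : Subgroup G) : Set G := {x | x ∈ K ∧ ∀ y ∈ K, x * y = y * x}

lemma ZCs_map (K : Subgroup G) (e : G ≃* G) : ZCs (K.map e.toMonoidHom) = e '' ZCs K := by
  ext x
  constructor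
  · rintro ⟨⟨y, hy, rfl⟩, hx⟩
    refine ⟨y, ⟨hy, ?_⟩, rfl⟩
    intro z hz
    have := hx (e z) (Subgroup.mem_map_of_mem _ hz)
    apply e.injective
    rw [map_mul, map_mul]
    exact this
  · rintro ⟨y, ⟨hy, hy2⟩, rfl⟩
    refine ⟨Subgroup.mem_map_of_mem _ hy, ?_⟩
    rintro _ ⟨z, hz, rfl⟩
    show e y * e z = e z * e y
    rw [← map_mul, ← map_mul, hy2 z hz]

lemma ZCs_conj (K : Subgroup G) (g : G) :
    ZCs (K.map (MulAut.conj g).toMonoidHom) = (fun x => g * x * g⁻¹) '' ZCs K := by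
  rw [ZCs_map]
  rfl

end Cfsg.Agent.Lib.Helper07.UG
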