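import Cfsg.Agent.Lib.Helper07.OrthD
import Cfsg.Agent.Lib.Helper07.PSUh

set_option autoImplicit false
set_option linter.unusedSimpArgs false
set_option linter.unusedVariables false
set_option linter.unusedSectionVars false

/-! Orthogonal groups: `Pb u` is a maximal subgroup of `PΩ` containing a Sylow `p`-subgroup;
conjugation of the groups `Qb u`. -/

namespace Cfsg.Agent.Lib.Helper07.OG

open Module Matrix Cfsg.Agent.Lib.Helper43 Cfsg.Agent.Lib.Helper07.UG

variable {F : Type*} [Field F] [Fintype F] {ι : Type} [Fintype ι] [DecidableEq ι]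
variable {Q : QuadraticForm F (ι → F)}

local notation "Bf" => QuadraticMap.polarBilin Q

theorem comap_prj_map (H : Subgroup ↥(Cfsg.Omega F ⇑Q))
    (hH : Subgroup.center ↥(Cfsg.Omega F ⇑Q) ≤ H) : (H.map prj).comap prj = H := by
  apply Subgroup.comap_map_eq_self
  unfold prj
  rw [QuotientGroup.ker_mk']
  exact hH

theorem comap_prj_Pb (C : OC Q) {u : ι → F} (hu0 : u ≠ 0) :
    (Pb (Q := Q) u hu0).comap prj = lineStab Q u hu0 :=
  comap_prj_map _ (center_le_lineStab C hu0)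

theorem lineStab_ne_top (C : OC Q) {u : ι → F} (hu0 : u ≠ 0) (hu : Q u = 0) :
    lineStab Q u hu0 ≠ ⊤ := by
  obtain ⟨s, y, hus, -, -, -, hs, hsy, hsu⟩ := exists_singular_perp C u u
  have hs0 : s ≠ 0 := by
    rintro rfl
    exact hsu ⟨0, by rw [zero_smul]⟩
  obtain ⟨g, hg, hgu⟩ := exists_Omega_map Q C.hQ C.hn u s hu0 hs0 (by rw [hu, hs])
  intro htop
  have h1 : (⟨g, hg⟩ : ↥(Cfsg.Omega F ⇑Q)) ∈ lineStab Q u hu0 := by rw [htop]; exact Subgroup.mem_top _
  obtain ⟨c, hc⟩ := h1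
  apply hsu
  refine ⟨c, ?_⟩
  rw [← hc]
  exact hgu.symm

/-- `Pb u` is a maximal subgroup of `PΩ`. -/
theorem isCoatom_Pb (C : OC Q) {u : ι → F} (hu0 : u ≠ 0) (hu : Q u = 0) :
    IsCoatom (Pb (Q := Q) u hu0) := by
  constructor
  · intro htop
    have h1 := comap_prj_Pb C hu0
    rw [htop, Subgroup.comap_top] at h1
    exact lineStab_ne_top C hu0 hu h1.symm
  · intro N hN
    have h1 : lineStab Q u hu0 ≤ N.comap prj := by
      rw [← comap_prj_Pb C hu0]
      exact Subgroup.comap_mono hN.le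
    rcases lineStab_maximal Q C.hQ C.hn u hu0 hu _ h1 with h2 | h2
    · exfalso
      have h3 : N = Pb (Q := Q) u hu0 := by
        rw [← Subgroup.map_comap_eq_self_of_surjective prj_surjective N, h2]
        rfl
      exact hN.ne h3.symm
    · rw [← Subgroup.map_comap_eq_self_of_surjective prj_surjective N, h2,
        Subgroup.map_top_of_surjective _ prj_surjective]

/-- conjugation of `Qb`. -/
theorem conj_mem_Qb (C : OC Q) {u : ι → F} (hu : Q u = 0) (g : ↥(Cfsg.Omega F ⇑Q))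
    {x : Cfsg.POmega F ⇑Q} (hx : x ∈ Qb C u) : prj g * x * (prj g)⁻¹ ∈ Qb C (lo Q g u) := by
  obtain ⟨v, hv, rfl⟩ := (mem_Qb_iff C hu x).1 hx
  rw [← map_inv, ← map_mul, ← map_mul, sg_conj C g hu hv]
  exact prj_sg_mem_Qb C (by rw [lo_isometry, hu]) (by rw [lo_polar, hv])

theorem Qb_smul (C : OC Q) {u : ι → F} (hu : Q u = 0) {c : F} (hc : c ≠ 0) :
    Qb C (c • u) = Qb C u := by
  have hu' : Q (c • u) = 0 := by rw [Q_smul, hu, mul_zero]
  ext x
  rw [mem_Qb_iff C hu', mem_Qb_iff C hu]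
  constructor
  · rintro ⟨v, hv, rfl⟩
    have hv' : Bf u v = 0 := by
      rw [map_smul, LinearMap.smul_apply, smul_eq_mul] at hv
      rcases mul_eq_zero.1 hv with h | h
      · exact absurd h hc
      · exact h
    exact ⟨c • v, by rw [map_smul, hv', smul_zero], by rw [sg_smul_left C c hu hv']⟩
  · rintro ⟨v, hv, rfl⟩
    refine ⟨c⁻¹ • v, by rw [map_smul, map_smul, LinearMap.smul_apply, hv, smul_zero, smul_zero], ?_⟩
    rw [sg_smul_left C c hu (by rw [map_smul, hv, smul_zero]), smul_smul, mul_inv_cancel₀ hc,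
      one_smul]

/-- `Pb u` contains a Sylow `p`-subgroup of `PΩ`. -/
theorem exists_sylow_le_Pb (C : OC Q) (p : ℕ) [Fact p.Prime] [CharP F p] {u : ι → F}
    (hu0 : u ≠ 0) (hu : Q u = 0) :
    ∃ S : Subgroup (Cfsg.POmega F ⇑Q), IsMaxP p ⊤ S ∧ S ≤ Pb (Q := Q) u hu0 := by
  obtain ⟨S, hS⟩ := exists_isMaxP p (Pb (Q := Q) u hu0)
  refine ⟨S, ?_, hS.1⟩
  have hQS : Qb C u ≤ S := hS.le_of_normal (Qb_le_Pb C hu0 hu) (isPGroup_Qb C p hu)
    (Pb_normalizes_Qb C hu0 hu)
  apply hS.top_of_normalizer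
  intro x hx
  obtain ⟨g, rfl⟩ := prj_surjective x
  rw [prj_mem_Pb_iff C hu0]
  have hu' : Q (lo Q g u) = 0 := by rw [lo_isometry, hu]
  have hu'0 : lo Q g u ≠ 0 := lo_ne_zero Q g u hu0
  -- `u` is fixed by the Siegel group of `g u`
  have hfix : ∀ v', Bf (lo Q g u) v' = 0 → lo Q (sg C (lo Q g u) v') u = u := by
    intro v' hv'
    set v := lo Q g⁻¹ v' with hv
    have hgv : lo Q g v = v' := lo_apply_inv Q g v'
    have huv : Bf u v = 0 := by rw [← lo_polar Q g, hgv]; exact hv'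
    have h1 : prj g * prj (sg C u v) * (prj g)⁻¹ ∈ S :=
      hx _ (hQS (prj_sg_mem_Qb C hu huv))
    rw [← map_inv, ← map_mul, ← map_mul, sg_conj C g hu huv, hgv] at h1
    obtain ⟨c, hc⟩ := (prj_mem_Pb_iff C hu0 _).1 (hS.1 h1)
    have h2 : lo Q ((sg C (lo Q g u) v') ^ p) u = c ^ p • u := by
      have : ∀ k : ℕ, lo Q ((sg C (lo Q g u) v') ^ k) u = c ^ k • u := by
        intro k
        induction k with
        | zero => rw [pow_zero, pow_zero, lo_one_apply, one_smul]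
        | succ k ih => rw [pow_succ, lo_mul_apply, hc, map_smul, ih, smul_smul, pow_succ, mul_comm]
      exact this p
    rw [sg_pow_p C p hu' hv', lo_one_apply] at h2
    have hcp : c ^ p = 1 := by
      have h3 : (c ^ p - 1) • u = 0 := by rw [sub_smul, one_smul, ← h2, sub_self]
      rcases smul_eq_zero.1 h3 with h4 | h4
      · exact sub_eq_zero.1 h4
      · exact absurd h4 hu0
    have hc1 : c = 1 := by
      have h3 : (c - 1) ^ p = 0 := by rw [sub_pow_char, hcp, one_pow, sub_self]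
      exact sub_eq_zero.1 ((pow_eq_zero_iff (Fact.out : p.Prime).pos.ne').1 h3)
    rw [hc, hc1, one_smul]
  obtain ⟨t, ht⟩ := fixed_of_siegelGrp C hu'0 hu' hfix
  have ht0 : t ≠ 0 := by
    rintro rfl
    rw [zero_smul] at ht
    exact hu0 ht
  refine ⟨t⁻¹, ?_⟩
  conv_rhs => rw [ht]
  rw [smul_smul, inv_mul_cancel₀ ht0, one_smul]

end Cfsg.Agent.Lib.Helper07.OG
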