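import Cfsg.Agent.Lib.Helper07.OrthE

set_option autoImplicit false
set_option linter.unusedSimpArgs false
set_option linter.unusedVariables false
set_option linter.unusedSectionVars false

/-! Orthogonal groups: a maximal subgroup of `PΩ` containing a Sylow `p`-subgroup is the
stabiliser of a non-zero totally singular subspace. -/

namespace Cfsg.Agent.Lib.Helper07.OG

open Module Matrix Cfsg.Agent.Lib.Helper43 Cfsg.Agent.Lib.Helper07.UG

variable {F : Type*} [Field F] [Fintype F] {ι : Type} [Fintype ι] [DecidableEq ι]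
variable {Q : QuadraticForm F (ι → F)}

local notation "Bf" => QuadraticMap.polarBilin Q

theorem sO_eq_sg (C : OC Q) {u v : ι → F} (hu : Q u = 0) (huv : Bf u v = 0) :
    sO Q C.hQ C.hn u v hu huv = sg C u v := by
  unfold sg
  rw [dif_pos ⟨hu, huv⟩]

theorem siegIn_of_Qs_le (C : OC Q) {u : ι → F} (hu : Q u = 0) (K : Subgroup ↥(Cfsg.Omega F ⇑Q))
    (h : Qs C u ≤ K) : SiegIn Q C.hQ C.hn K u :=
  ⟨hu, fun v huv => by rw [sO_eq_sg C hu huv]; exact h (sg_mem_Qs C hu huv)⟩

/-- the centre stabilises every subspace. -/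
theorem center_le_subStab (C : OC Q) (T : Submodule F (ι → F)) :
    Subgroup.center ↥(Cfsg.Omega F ⇑Q) ≤ subStab Q T := by
  intro z hz
  obtain ⟨c, hc⟩ := center_scalar C hz
  have hcc := center_scalar_sq C hc
  rw [mem_subStab]
  intro v
  rw [hc]
  constructor
  · intro hv; exact T.smul_mem c hv
  · intro hv
    have := T.smul_mem c hv
    rwa [smul_smul, hcc, one_smul] at this

/-- every Sylow `p`-subgroup of `PΩ` contains some `Qb x`. -/
theorem exists_Qb_le_sylow (C : OC Q) (p : ℕ) [Fact p.Prime] [CharP F p]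
    (S : Subgroup (Cfsg.POmega F ⇑Q)) (hS : IsMaxP p ⊤ S) :
    ∃ x : ι → F, x ≠ 0 ∧ Q x = 0 ∧ Qb C x ≤ S := by
  obtain ⟨u, y, -, -, -, -, hu, huy, -⟩ := exists_singular_perp C (0 : ι → F) 0
  have hu0 : u ≠ 0 := by
    rintro rfl
    apply huy
    simp
  obtain ⟨P₀, hP₀⟩ := (isPGroup_Qb C p hu).exists_le_sylow
  obtain ⟨P, hP⟩ := hS.exists_sylow
  obtain ⟨gb, hgb⟩ := MulAction.exists_smul_eq (Cfsg.POmega F ⇑Q) P₀ P
  obtain ⟨g, rfl⟩ := prj_surjective gb
  refine ⟨lo Q g u, lo_ne_zero Q g u hu0, by rw [lo_isometry, hu], ?_⟩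
  intro y hy
  have hu' : Q (lo Q g u) = 0 := by rw [lo_isometry, hu]
  obtain ⟨v', hv', rfl⟩ := (mem_Qb_iff C hu' y).1 hy
  set v := lo Q g⁻¹ v' with hv
  have hgv : lo Q g v = v' := lo_apply_inv Q g v'
  have huv : Bf u v = 0 := by rw [← lo_polar Q g, hgv]; exact hv'
  have h1 : prj (sg C u v) ∈ (P₀ : Subgroup (Cfsg.POmega F ⇑Q)) := hP₀ (prj_sg_mem_Qb C hu huv)
  have h2 : prj g * prj (sg C u v) * (prj g)⁻¹ ∈ (P : Subgroup (Cfsg.POmega F ⇑Q)) := by
    rw [← hgb, Sylow.coe_subgroup_smul]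
    have := Subgroup.smul_mem_pointwise_smul (prj (sg C u v)) (MulAut.conj (prj g)) _ h1
    rwa [MulAut.smul_def, MulAut.conj_apply] at this
  rw [← map_inv, ← map_mul, ← map_mul, sg_conj C g hu huv, hgv, hP] at h2
  exact h2

/-- **maximal subgroups of `PΩ` containing a Sylow `p`-subgroup are stabilisers of totally
singular subspaces.** -/
theorem exists_ts_of_coatom (C : OC Q) (p : ℕ) [Fact p.Prime] [CharP F p]
    (M : Subgroup (Cfsg.POmega F ⇑Q)) (hM : IsCoatom M) (S : Subgroup (Cfsg.POmega F ⇑Q))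
    (hS : IsMaxP p ⊤ S) (hSM : S ≤ M) :
    ∃ T : Submodule F (ι → F), T ≠ ⊥ ∧ (∀ t ∈ T, Q t = 0) ∧ M.comap prj = subStab Q T := by
  obtain ⟨x₀, hx₀0, hx₀, hx₀S⟩ := exists_Qb_le_sylow C p S hS
  set M' : Subgroup ↥(Cfsg.Omega F ⇑Q) := M.comap prj with hM'
  have hM'top : M' ≠ ⊤ := by
    intro h
    apply hM.1
    rw [← Subgroup.map_comap_eq_self_of_surjective prj_surjective M, ← hM', h,
      Subgroup.map_top_of_surjective _ prj_surjective]
  set X : Set (ι → F) := {x | x ≠ 0 ∧ Q x = 0 ∧ Qs C x ≤ M'} with hX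
  have hx₀X : x₀ ∈ X := by
    refine ⟨hx₀0, hx₀, ?_⟩
    intro g hg
    show prj g ∈ M
    exact hSM (hx₀S ⟨g, hg, rfl⟩)
  have hperp : ∀ x ∈ X, ∀ y ∈ X, Bf x y = 0 := by
    rintro x ⟨-, hx, hxM⟩ y ⟨-, hy, hyM⟩
    by_contra hne
    exact hM'top (eq_top_of_SiegIn_pair M' x y (siegIn_of_Qs_le C hx M' hxM)
      (siegIn_of_Qs_le C hy M' hyM) hne)
  set T : Submodule F (ι → F) := Submodule.span F X with hT
  have hT0 : T ≠ ⊥ := by
    intro h
    have h1 : x₀ ∈ T := Submodule.subset_span hx₀X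
    rw [h, Submodule.mem_bot] at h1
    exact hx₀0 h1
  have h1 : ∀ t ∈ T, ∀ x ∈ X, Bf t x = 0 := by
    intro t ht x hx
    induction ht using Submodule.span_induction with
    | mem y hy => exact hperp y hy x hx
    | zero => simp
    | add a b _ _ ha hb => rw [map_add, LinearMap.add_apply, ha, hb, add_zero]
    | smul c a _ ha => rw [map_smul, LinearMap.smul_apply, ha, smul_zero]
  have h2 : ∀ t ∈ T, ∀ t' ∈ T, Bf t t' = 0 := by
    intro t ht t' ht'
    induction ht' using Submodule.span_induction with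
    | mem y hy => exact h1 t ht y hy
    | zero => simp
    | add a b _ _ ha hb => rw [map_add, ha, hb, add_zero]
    | smul c a _ ha => rw [map_smul, ha, smul_zero]
  have h3 : ∀ t ∈ T, Q t = 0 := by
    intro t ht
    induction ht using Submodule.span_induction with
    | mem y hy => exact hy.2.1
    | zero => simp
    | add a b ha' hb' ha hb => rw [Q_add, ha, hb, h2 a ha' b hb', add_zero, add_zero]
    | smul c a _ ha => rw [Q_smul, ha, mul_zero]
  -- `M'` permutes `X`
  have hXinv : ∀ g ∈ M', ∀ x ∈ X, lo Q g x ∈ X := by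
    rintro g hg x ⟨hx0, hx, hxM⟩
    have hx' : Q (lo Q g x) = 0 := by rw [lo_isometry, hx]
    refine ⟨lo_ne_zero Q g x hx0, hx', ?_⟩
    intro h hh
    obtain ⟨v', hv', rfl⟩ := (mem_Qs C hx' h).1 hh
    set v := lo Q g⁻¹ v' with hv
    have hgv : lo Q g v = v' := lo_apply_inv Q g v'
    have hxv : Bf x v = 0 := by rw [← lo_polar Q g, hgv]; exact hv'
    have h4 := sg_conj C g hx hxv
    rw [hgv] at h4
    rw [← h4]
    exact M'.mul_mem (M'.mul_mem hg (hxM (sg_mem_Qs C hx hxv))) (M'.inv_mem hg)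
  have hTinv : ∀ g ∈ M', ∀ t ∈ T, lo Q g t ∈ T := by
    intro g hg t ht
    induction ht using Submodule.span_induction with
    | mem y hy => exact Submodule.subset_span (hXinv g hg y hy)
    | zero => rw [map_zero]; exact T.zero_mem
    | add a b _ _ ha hb => rw [map_add]; exact T.add_mem ha hb
    | smul c a _ ha => rw [map_smul]; exact T.smul_mem c ha
  have hle : M' ≤ subStab Q T := by
    intro g hg
    rw [mem_subStab]
    intro v
    constructor
    · intro hv; exact hTinv g hg v hv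
    · intro hv
      have := hTinv g⁻¹ (M'.inv_mem hg) _ hv
      rwa [lo_inv_apply] at this
  refine ⟨T, hT0, h3, ?_⟩
  -- maximality
  obtain ⟨g₀, hg₀⟩ := subStab_ne_top Q C.hQ C.hn T hT0 h3
  have hcz : M ≤ (subStab Q T).map prj := by
    intro m hm
    obtain ⟨g, rfl⟩ := prj_surjective m
    exact ⟨g, hle hm, rfl⟩
  have hne : (subStab Q T).map prj ≠ ⊤ := by
    intro h
    have h4 := comap_prj_map (subStab Q T) (center_le_subStab C T)
    rw [h, Subgroup.comap_top] at h4
    apply hg₀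
    rw [← h4]
    exact Subgroup.mem_top _
  have heq : M = (subStab Q T).map prj := by
    by_contra hne'
    exact hne (hM.2 _ (lt_of_le_of_ne hcz hne'))
  rw [hM', heq, comap_prj_map (subStab Q T) (center_le_subStab C T)]

end Cfsg.Agent.Lib.Helper07.OG
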