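import Cfsg.Agent.Lib.Helper07.OrthTf
import Cfsg.Agent.Lib.Helper63.S2721D
import Cfsg.Agent.Lib.Helper56.S2721A
import Cfsg.Agent.Lib.Helper45.S2721C
import Cfsg.Agent.Lib.Helper32.S2721B1
import Cfsg.Agent.Lib.Helper42.S2721B2
import Cfsg.Agent.Lib.Helper19.S2721B
import Cfsg.Agent.Lib.Helper75.S2717V3

set_option autoImplicit false

/-! Class fusion of semisimple elements of odd prime order in `PΩ^±`: the generic glue
(S2721 / S2720). -/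

namespace Cfsg.Agent.Lib.Helper07.OG

open Module Matrix Cfsg.Agent.Lib.Helper08

universe u

section fus

variable {F : Type u} [Field F] [Fintype F] [DecidableEq F] {ι : Type} [Fintype ι] [DecidableEq ι]
variable {Q : QuadraticForm F (ι → F)}
variable {u0 : ι → F} (hu0 : Q u0 = 1) (n : ℕ)

include hu0 in
/-- squares of elements of `Esub` lie in `PSO`. -/
theorem sq_mem_psoAut_of_mem_Esub (hcard : Fintype.card ι = 2 * n)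
    (d : MulAut (Cfsg.POmega F ⇑Q)) (hd : d ∈ Esub Q hu0 n) : d * d ∈ Cfsg.psoAut F ⇑Q := by
  obtain ⟨g, hg, rfl⟩ := hd
  rw [SetLike.mem_coe, MonoidHom.mem_ker, delta_eq_one_iff] at hg
  rw [← map_mul]
  refine Cfsg.Agent.Lib.Helper75.S2717K.autPO_mem_psoAut_of_sq Q (g * g) (multFun Q g : F)
    (Units.ne_zero _) ?_ ?_
  · intro v
    rw [Subgroup.coe_mul, Units.val_mul, ← Matrix.mulVec_mulVec, multFun_spec, multFun_spec]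
    ring
  · rw [Subgroup.coe_mul, Units.val_mul, Matrix.det_mul, hg, hcard, ← pow_add]
    congr 1
    omega

include hu0 in
/-- generic part (2): `PO`-class = `PGO`-class, and the reduction data. -/
theorem fusion_data (C : OC Q) (p : ℕ) [Fact p.Prime] [CharP F p] (h2 : (2 : F) ≠ 0)
    (hcard : Fintype.card ι = 2 * n) {r : ℕ} (hr0 : 0 < r) (hro : Odd r) (hrF : (r : F) ≠ 0)
    (x : MulAut (Cfsg.POmega F ⇑Q)) (hx : x ∈ Cfsg.pgoAut F ⇑Q) (hxr : x ^ r = 1)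
    (g₀ : ↥(Cfsg.Geo.quadSimilarityGroup (F := F) ⇑Q))
    (hg₀ns : ¬ IsSquare ((multFun Q g₀ : Fˣ) : F)) (hg₀ : delta Q hu0 n g₀ = 1) :
    ∃ (s : ↥(Cfsg.isometryGroup F ⇑Q)) (c : ↥(Cfsg.Geo.quadSimilarityGroup (F := F) ⇑Q)),
      s ^ r = 1 ∧ x = autO (⇑Q) s ∧
      (c : GL ι F) * ((s : ↥(Cfsg.isometryGroup F ⇑Q)) : GL ι F) =
        ((s : ↥(Cfsg.isometryGroup F ⇑Q)) : GL ι F) * (c : GL ι F) ∧
      ¬ IsSquare ((multFun Q c : Fˣ) : F) ∧ delta Q hu0 n c = 1 := by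
  rw [pgoAut_eq] at hx
  obtain ⟨t, rfl⟩ := hx
  obtain ⟨s, hs, hst⟩ := Cfsg.Agent.Lib.Helper56.S2721K.exists_isometry_of_order C p h2 t hro hxr
  obtain ⟨c, hcomm, hcm, hcδ⟩ := Cfsg.Agent.Lib.Helper19.S2721K.exists_comm_sim C p h2 hu0 n hcard hro hrF
    (fun G S c ν h1 h2' h3 h4 h5 h6 h7 => Cfsg.Agent.Lib.Helper32.S2721K.det_of_comm_sim h2 n hcard G S c ν h1 h2' h3 h4 h5 hro h6 h7)
    (fun S h1 h2' w h3 h4 => Cfsg.Agent.Lib.Helper42.S2721K.exists_fixed_anisotropic Q C.hQ hr0 hrF S h1 h2' w h3 h4)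
    s hs g₀ hg₀
  exact ⟨s, c, hs, hst.symm, hcomm, by rw [hcm]; exact hg₀ns, hcδ⟩

include hu0 in
/-- `autPO c` commutes with `autO s` when the matrices commute. -/
theorem autPO_comm_autO (s : ↥(Cfsg.isometryGroup F ⇑Q))
    (c : ↥(Cfsg.Geo.quadSimilarityGroup (F := F) ⇑Q))
    (hcomm : (c : GL ι F) * ((s : ↥(Cfsg.isometryGroup F ⇑Q)) : GL ι F) =
        ((s : ↥(Cfsg.isometryGroup F ⇑Q)) : GL ι F) * (c : GL ι F)) :
    autPO (⇑Q) c * autO (⇑Q) s = autO (⇑Q) s * autPO (⇑Q) c := by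
  rw [autO_apply, ← map_mul, ← map_mul]
  congr 1
  exact Subtype.ext hcomm

include hu0 in
/-- the generic fusion theorem when `Esub / Inn` is cyclic of order 2 or 4. -/
theorem fusion_cyclic (C : OC Q) (p : ℕ) [Fact p.Prime] [CharP F p] (h2 : (2 : F) ≠ 0)
    (hcard : Fintype.card ι = 2 * n) {r : ℕ} (hr0 : 0 < r) (hro : Odd r) (hrF : (r : F) ≠ 0)
    (x : MulAut (Cfsg.POmega F ⇑Q)) (hx : x ∈ Cfsg.pgoAut F ⇑Q) (hxr : x ^ r = 1)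
    (g₀ : ↥(Cfsg.Geo.quadSimilarityGroup (F := F) ⇑Q))
    (hg₀ns : ¬ IsSquare ((multFun Q g₀ : Fˣ) : F)) (hg₀ : delta Q hu0 n g₀ = 1)
    {k : ℕ} (hk : k = 2 ∨ k = 4)
    (φ : ↥(Esub Q hu0 n) →* Multiplicative (ZMod k)) (hφs : Function.Surjective φ)
    (hφk : φ.ker = (Cfsg.Inn (Cfsg.POmega F ⇑Q)).subgroupOf (Esub Q hu0 n)) :
    (∀ y : MulAut (Cfsg.POmega F ⇑Q),
      (Cfsg.IsConjUnder (Cfsg.Inn (Cfsg.POmega F ⇑Q)) x y ↔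
        Cfsg.IsConjUnder (Esub Q hu0 n) x y) ∧
      (Cfsg.IsConjUnder (Cfsg.psoAut F ⇑Q) x y ↔ Cfsg.IsConjUnder (Esub Q hu0 n) x y)) ∧
    (∀ y : MulAut (Cfsg.POmega F ⇑Q),
      Cfsg.IsConjUnder (Cfsg.poAut F ⇑Q) x y ↔ Cfsg.IsConjUnder (Cfsg.pgoAut F ⇑Q) x y) := by
  obtain ⟨s, c, hs, rfl, hcomm, hcns, hcδ⟩ :=
    fusion_data hu0 n C p h2 hcard hr0 hro hrF x hx hxr g₀ hg₀ns hg₀
  have hcE : autPO (⇑Q) c ∈ Esub Q hu0 n := (autPO_mem_Esub_iff hu0 n C p hcard c).mpr hcδ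
  have hcP : autPO (⇑Q) c ∉ Cfsg.psoAut F ⇑Q := fun h =>
    hcns (isSquare_mult_of_mem_psoAut hu0 C p c h)
  have hcx := autPO_comm_autO hu0 s c hcomm
  have h1a : ∀ y : MulAut (Cfsg.POmega F ⇑Q),
      Cfsg.IsConjUnder (Cfsg.Inn (Cfsg.POmega F ⇑Q)) (autO (⇑Q) s) y ↔
        Cfsg.IsConjUnder (Esub Q hu0 n) (autO (⇑Q) s) y := fun y =>
    Cfsg.Agent.Lib.Helper63.S2721K.isConjUnder_iff_of_cyclic (Cfsg.Inn (Cfsg.POmega F ⇑Q)) (Cfsg.psoAut F ⇑Q) (Esub Q hu0 n)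
      inn_le_psoAut (psoAut_le_Esub hu0 n) (sq_mem_psoAut_of_mem_Esub hu0 n hcard) hk φ hφs hφk
      (autO (⇑Q) s) (autPO (⇑Q) c) hcE hcP hcx y
  refine ⟨fun y => ⟨h1a y, ?_, ?_⟩, fun y => Cfsg.Agent.Lib.Helper45.S2721K.isConjUnder_po_iff_pgo C p h2 s c hcns hcomm y⟩
  · rintro ⟨h, hh, rfl⟩
    exact ⟨h, psoAut_le_Esub hu0 n hh, rfl⟩
  · intro h
    obtain ⟨g, hg, rfl⟩ := (h1a y).mpr h
    exact ⟨g, inn_le_psoAut hg, rfl⟩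

end fus

end Cfsg.Agent.Lib.Helper07.OG
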