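import Mathlib
import Cfsg.Prelude.Def_LieTypeDatum

set_option autoImplicit false

/-! Class fusion when the quotient is a Klein four group (pure group theory). -/

namespace Cfsg.Agent.Lib.Helper07.OG

theorem klein_cases : ∀ a b t : Multiplicative (ZMod 2 × ZMod 2), a ≠ 1 → b ≠ 1 → a ≠ b →
    t = 1 ∨ t = a ∨ t = b ∨ t = a * b := by
  decide

/-- conjugating by `g * w⁻¹` when `w` commutes with `x`. -/
theorem conj_mul_inv_of_comm {X : Type*} [Group X] (g w x : X) (hw : w * x = x * w) :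
    (g * w⁻¹) * x * (g * w⁻¹)⁻¹ = g * x * g⁻¹ := by
  have h1 : w⁻¹ * x * w = x := by
    rw [mul_assoc, ← hw, ← mul_assoc, inv_mul_cancel, one_mul]
  calc (g * w⁻¹) * x * (g * w⁻¹)⁻¹ = g * (w⁻¹ * x * w) * g⁻¹ := by
        rw [mul_inv_rev, inv_inv]; group
    _ = g * x * g⁻¹ := by rw [h1]

/-- `N ≤ P ≤ E`, `E / N` a Klein four group, `c ∈ E ∖ P` and `c' ∈ P ∖ N` commute with `x`:
the `E`-class of `x` is its `N`-class. -/
theorem isConjUnder_iff_of_klein {X : Type*} [Group X] (N P E : Subgroup X) (hNP : N ≤ P)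
    (hPE : P ≤ E) (φ : ↥E →* Multiplicative (ZMod 2 × ZMod 2))
    (hφk : φ.ker = N.subgroupOf E) (x c c' : X) (hcE : c ∈ E) (hcP : c ∉ P) (hc'P : c' ∈ P)
    (hc'N : c' ∉ N) (hcx : c * x = x * c) (hc'x : c' * x = x * c') (y : X) :
    Cfsg.IsConjUnder N x y ↔ Cfsg.IsConjUnder E x y := by
  have hNE : N ≤ E := hNP.trans hPE
  have hc'E : c' ∈ E := hPE hc'P
  have hmemN : ∀ (g : X) (hg : g ∈ E), φ ⟨g, hg⟩ = 1 ↔ g ∈ N := by
    intro g hg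
    rw [← MonoidHom.mem_ker, hφk, Subgroup.mem_subgroupOf]
  constructor
  · rintro ⟨h, hh, rfl⟩
    exact ⟨h, hNE hh, rfl⟩
  · rintro ⟨g, hg, rfl⟩
    have ha : φ ⟨c, hcE⟩ ≠ 1 := fun h => hcP (hNP ((hmemN c hcE).mp h))
    have hb : φ ⟨c', hc'E⟩ ≠ 1 := fun h => hc'N ((hmemN c' hc'E).mp h)
    have hab : φ ⟨c, hcE⟩ ≠ φ ⟨c', hc'E⟩ := by
      intro h
      apply hcP
      have h1 : c * c'⁻¹ ∈ N := by
        rw [← hmemN (c * c'⁻¹) (E.mul_mem hcE (E.inv_mem hc'E))]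
        have : (⟨c * c'⁻¹, E.mul_mem hcE (E.inv_mem hc'E)⟩ : ↥E) = ⟨c, hcE⟩ * ⟨c', hc'E⟩⁻¹ := rfl
        rw [this, map_mul, map_inv, h, mul_inv_cancel]
      have h2 : c = (c * c'⁻¹) * c' := by group
      rw [h2]
      exact P.mul_mem (hNP h1) hc'P
    -- find the word
    have key : ∃ w : X, w ∈ E ∧ w * x = x * w ∧ g * w⁻¹ ∈ N := by
      rcases klein_cases _ _ (φ ⟨g, hg⟩) ha hb hab with h | h | h | h
      · refine ⟨1, E.one_mem, by simp, ?_⟩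
        rw [inv_one, mul_one]
        exact (hmemN g hg).mp h
      · refine ⟨c, hcE, hcx, ?_⟩
        rw [← hmemN (g * c⁻¹) (E.mul_mem hg (E.inv_mem hcE))]
        have : (⟨g * c⁻¹, E.mul_mem hg (E.inv_mem hcE)⟩ : ↥E) = ⟨g, hg⟩ * ⟨c, hcE⟩⁻¹ := rfl
        rw [this, map_mul, map_inv, h, mul_inv_cancel]
      · refine ⟨c', hc'E, hc'x, ?_⟩
        rw [← hmemN (g * c'⁻¹) (E.mul_mem hg (E.inv_mem hc'E))]
        have : (⟨g * c'⁻¹, E.mul_mem hg (E.inv_mem hc'E)⟩ : ↥E) = ⟨g, hg⟩ * ⟨c', hc'E⟩⁻¹ := rfl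
        rw [this, map_mul, map_inv, h, mul_inv_cancel]
      · refine ⟨c * c', E.mul_mem hcE hc'E, ?_, ?_⟩
        · rw [mul_assoc, hc'x, ← mul_assoc, hcx, mul_assoc]
        · rw [← hmemN (g * (c * c')⁻¹) (E.mul_mem hg (E.inv_mem (E.mul_mem hcE hc'E)))]
          have : (⟨g * (c * c')⁻¹, E.mul_mem hg (E.inv_mem (E.mul_mem hcE hc'E))⟩ : ↥E) =
              ⟨g, hg⟩ * (⟨c, hcE⟩ * ⟨c', hc'E⟩)⁻¹ := rfl
          rw [this, map_mul, map_inv, map_mul, h, mul_inv_cancel]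
    obtain ⟨w, -, hwx, hwN⟩ := key
    exact ⟨g * w⁻¹, hwN, (conj_mul_inv_of_comm g w x hwx).symm⟩

end Cfsg.Agent.Lib.Helper07.OG
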