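import Cfsg.Agent.Lib.Helper07.OrthFus
import Cfsg.Agent.Lib.Helper77.S2719C2
import Cfsg.Agent.Lib.Helper50.MinusInndiag

set_option autoImplicit false
set_option linter.unusedSectionVars false
set_option linter.unusedVariables false

/-! S2721: class fusion of semisimple elements of odd prime order in `PΩ⁻_{2m+2}(q)`, `q` odd. -/

namespace Cfsg.Agent.Lib.Helper07.OG

open Module Matrix Cfsg.Agent.Lib.Helper43 Cfsg.Agent.Lib.Helper08 Cfsg.Agent.Lib.Helper50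

universe u

section minus

variable {F : Type u} [Field F] [Fintype F] {m : ℕ}

/-- odd characteristic facts. -/
theorem charP_odd_facts {p : ℕ} [Fact p.Prime] [CharP F p] (hp : p ≠ 2) {r : ℕ} (hr : r.Prime)
    (hrp : r ≠ p) : (2 : F) ≠ 0 ∧ Odd (Fintype.card F) ∧ (r : F) ≠ 0 := by
  have hpp : p.Prime := Fact.out
  have h2 : (2 : F) ≠ 0 := by
    intro h
    have h1 : ((2 : ℕ) : F) = 0 := by exact_mod_cast h
    rw [CharP.cast_eq_zero_iff F p] at h1
    exact hp ((Nat.prime_dvd_prime_iff_eq hpp Nat.prime_two).mp h1)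
  refine ⟨h2, ?_, ?_⟩
  · have h1 : ringChar F ≠ 2 := by rw [ringChar.eq F p]; exact hp
    exact Nat.odd_iff.mpr (FiniteField.odd_card_of_char_ne_two h1)
  · intro h
    rw [CharP.cast_eq_zero_iff F p] at h
    exact hrp ((Nat.prime_dvd_prime_iff_eq hpp hr).mp h).symm

set_option maxHeartbeats 1600000 in
/-- S2721. -/
theorem s2721_main {p : ℕ} [Fact p.Prime] [CharP F p] (hp : p ≠ 2) (hm : 3 ≤ m) (a b : F)
    (hab : ∀ z₁ z₂ : F, z₁ ^ 2 + a * z₁ * z₂ + b * z₂ ^ 2 = 0 → z₁ = 0 ∧ z₂ = 0)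
    (x : MulAut (Cfsg.POmega F (Cfsg.quadFormMinus m F a b)))
    (hx : x ∈ Cfsg.pgoAut F (Cfsg.quadFormMinus m F a b)) {r : ℕ} (hr : r.Prime) (hro : Odd r)
    (hrp : r ≠ p) (hxr : orderOf x = r) :
    (∀ y : MulAut (Cfsg.POmega F (Cfsg.quadFormMinus m F a b)),
      (Cfsg.IsConjUnder (Cfsg.Inn (Cfsg.POmega F (Cfsg.quadFormMinus m F a b))) x y ↔
        Cfsg.IsConjUnder (Cfsg.inndiagPOmegaMinus m F a b) x y) ∧
      (Cfsg.IsConjUnder (Cfsg.psoAut F (Cfsg.quadFormMinus m F a b)) x y ↔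
        Cfsg.IsConjUnder (Cfsg.inndiagPOmegaMinus m F a b) x y)) ∧
    (∀ y : MulAut (Cfsg.POmega F (Cfsg.quadFormMinus m F a b)),
      Cfsg.IsConjUnder (Cfsg.poAut F (Cfsg.quadFormMinus m F a b)) x y ↔
        Cfsg.IsConjUnder (Cfsg.pgoAut F (Cfsg.quadFormMinus m F a b)) x y) := by
  classical
  obtain ⟨h2, hodd, hrF⟩ := charP_odd_facts (F := F) hp hr hrp
  have hcard : Fintype.card ((Fin m ⊕ Fin m) ⊕ Fin 2) = 2 * (m + 1) := by
    rw [Fintype.card_sum, Fintype.card_sum, Fintype.card_fin, Fintype.card_fin]; omega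
  have C : OC (qdataMinus43 m a b hab).qf :=
    ⟨(qdataMinus43 m a b hab).qf_nondeg, by rw [hcard]; omega⟩
  have hu0 : (qdataMinus43 m a b hab).qf (Pi.single (Sum.inr 0) 1) = 1 := by
    show Cfsg.quadFormMinus m F a b (Pi.single (Sum.inr 0) 1) = 1
    rw [quadFormMinus_eq]
    unfold qb
    simp
  have hE : Cfsg.inndiagPOmegaMinus m F a b = Esub (qdataMinus43 m a b hab).qf hu0 (m + 1) :=
    inndiagMinus_eq m a b h2 hab _ rfl hu0
  have hres := inndiag_minus_main m a b hodd hm hab ⇑(qdataMinus43 m a b hab).qf rfl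
    (Esub (qdataMinus43 m a b hab).qf hu0 (m + 1))
    (inndiagMinus_eq m a b h2 hab (qdataMinus43 m a b hab).qf rfl hu0).symm
  obtain ⟨d, hdns, hdδ⟩ :=
    Cfsg.Agent.Lib.Helper77.S2719K.exists_sim_nonsquare_delta_one hodd hm a b hab hu0
  have hxr' : x ^ r = 1 := by rw [← hxr]; exact pow_orderOf_eq_one x
  rw [hE]
  by_cases hcase : Even m ∧ Fintype.card F % 4 = 3
  · obtain ⟨φ, hφ, hk⟩ := hres.1 hcase
    exact fusion_cyclic hu0 (m + 1) C p h2 hcard hr.pos hro hrF x hx hxr' d hdns hdδ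
      (Or.inr rfl) φ hφ hk
  · obtain ⟨φ, hφ, hk⟩ := hres.2 hcase
    exact fusion_cyclic hu0 (m + 1) C p h2 hcard hr.pos hro hrF x hx hxr' d hdns hdδ
      (Or.inl rfl) φ hφ hk

end minus

end Cfsg.Agent.Lib.Helper07.OG
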