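import Cfsg.Agent.Lib.Helper07.OrthKEU
import Cfsg.Agent.Lib.Helper14.S2720S
import Cfsg.Agent.Lib.Helper84.S2720G
import Cfsg.Agent.Lib.Helper18.S2720T
import Cfsg.Agent.Lib.Helper78.S2720M
import Cfsg.Agent.Lib.Helper43.S2720F
import Cfsg.Agent.Lib.Helper49.PrimeOrderOrth
import Cfsg.Agent.Lib.Helper50.SpinorIndex
import Cfsg.Agent.Lib.Helper50.SpinorCrit

set_option autoImplicit false
set_option linter.unusedSectionVars false
set_option linter.unusedVariables false

/-! K-E: an isometry of determinant one outside `Ω` commuting with a given isometry of odd order. -/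

namespace Cfsg.Agent.Lib.Helper07.KE

open Module Matrix Polynomial Cfsg.Agent.Lib.Helper50 Cfsg.Agent.Lib.Helper49
  Cfsg.Agent.Lib.Helper19

variable {ι : Type} [Fintype ι] [DecidableEq ι] {F : Type*} [Field F] [Fintype F]

/-- both sign characters `-1` forces determinant one. -/
theorem detHom_eq_one_of_theta (h2 : (2 : F) ≠ 0) (Q : QuadraticForm F (ι → F))
    (hQ : (QuadraticMap.polarBilin Q).Nondegenerate) (ζ : F) (hζ : ¬ IsSquare ζ)
    (g : ↥(Cfsg.isometryGroup F (⇑Q))) (h1 : theta (⇑Q) 1 g = -1) (h3 : theta (⇑Q) ζ g = -1) :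
    detHom (⇑Q) g = 1 := by
  obtain ⟨l, hl, hA⟩ := isometry_eq_prod_reflectionMatrix h2 Q hQ _ (O_isometry (⇑Q) g)
  have hgp : g = (l.map (reflO Q)).prod := by
    apply O_ext
    rw [hA, reflO_prod_val Q l hl]
  have hk := theta_mul_theta_prod h2 Q ζ hζ l hl
  rw [← hgp, h1, h3] at hk
  have hev : Even l.length := by
    refine (neg_one_pow_eq_one_iff_even (R := ℤˣ) (by decide)).mp ?_
    rw [← hk]; decide
  apply Units.ext
  rw [detHom_val, hA, det_prod_reflection Q l hl, hev.neg_one_pow, Units.val_one]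

theorem toLin'_pow_apply (M : Matrix ι ι F) (j : ℕ) (v : ι → F) :
    ((Matrix.toLin' M) ^ j) v = (M ^ j) *ᵥ v := by
  have h : (Matrix.toLin' M) ^ j = Matrix.toLin' (M ^ j) := by
    have := map_pow (Matrix.toLinAlgEquiv' (R := F) (n := ι)) M j
    exact this.symm
  rw [h, Matrix.toLin'_apply]

set_option maxHeartbeats 1600000 in
/-- **K-E**. -/
theorem exists_comm_SO_not_Omega (h2 : (2 : F) ≠ 0) (Q : QuadraticForm F (ι → F))
    (hQ : (QuadraticMap.polarBilin Q).Nondegenerate) (heven : Even (Fintype.card ι))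
    (hpos : 0 < Fintype.card ι) {r : ℕ} (hro : Odd r) (hrF : (r : F) ≠ 0)
    (s : ↥(Cfsg.isometryGroup F ⇑Q)) (hs : s ^ r = 1) :
    ∃ c : ↥(Cfsg.isometryGroup F ⇑Q), c * s = s * c ∧ detHom (⇑Q) c = 1 ∧
      c ∉ commutator ↥(Cfsg.isometryGroup F (⇑Q)) := by
  classical
  have hr0 : 0 < r := hro.pos
  obtain ⟨ζ, hζ⟩ := exists_nonsquare_of_two_ne_zero h2
  have hζ0 : ζ ≠ 0 := fun h => hζ (h ▸ ⟨0, by ring⟩)
  obtain ⟨σ, hσdef⟩ : ∃ σ : (ι → F) →ₗ[F] (ι → F), σ = Matrix.toLin' (omat Q s) := ⟨_, rfl⟩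
  obtain ⟨σ', hσ'def⟩ : ∃ σ' : (ι → F) →ₗ[F] (ι → F), σ' = Matrix.toLin' (omat Q s⁻¹) :=
    ⟨_, rfl⟩
  have hσ : ∀ v, Q (σ v) = Q v := fun v => by rw [hσdef]; exact omat_preserves Q s v
  have hσσ' : ∀ v, σ' (σ v) = v := by
    intro v
    rw [hσdef, hσ'def, Matrix.toLin'_apply, Matrix.toLin'_apply, Matrix.mulVec_mulVec, ← omat_mul,
      inv_mul_cancel, omat_one, Matrix.one_mulVec]
  have hσ'σ : ∀ v, σ (σ' v) = v := by
    intro v
    rw [hσdef, hσ'def, Matrix.toLin'_apply, Matrix.toLin'_apply, Matrix.mulVec_mulVec, ← omat_mul,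
      mul_inv_cancel, omat_one, Matrix.one_mulVec]
  have hσr : σ ^ r = 1 := by
    apply LinearMap.ext
    intro v
    rw [hσdef, toLin'_pow_apply, ← omat_pow, hs, omat_one, Matrix.one_mulVec]
    rfl
  by_cases hfix : ∃ w, σ w = w ∧ w ≠ 0
  · -- a nonzero fixed vector: two reflections
    obtain ⟨w, hw, hw0⟩ := hfix
    have hev : Even (Module.finrank F (ι → F)) := by
      rw [Module.finrank_fintype_fun_eq_card]; exact heven
    obtain ⟨u, u', hu, hu', hQu, hQu'⟩ :=
      Cfsg.Agent.Lib.Helper43.S2720K.exists_fixed_pair h2 Q hQ σ hσ hro hrF hσr hev w hw hw0 ζ hζ0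
    have hu0 : Q u ≠ 0 := by rw [hQu]; exact one_ne_zero
    have hu'0 : Q u' ≠ 0 := by rw [hQu']; exact hζ0
    have hsu : ((s : GL ι F) : Matrix ι ι F) *ᵥ u = u := by
      rw [← Matrix.toLin'_apply]; rw [hσdef] at hu; exact hu
    have hsu' : ((s : GL ι F) : Matrix ι ι F) *ᵥ u' = u' := by
      rw [← Matrix.toLin'_apply]; rw [hσdef] at hu'; exact hu'
    have hc1 : s * reflO Q u = reflO Q u * s := by
      have := conj_reflO Q s u hu0
      rw [hsu] at this
      exact this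
    have hc2 : s * reflO Q u' = reflO Q u' * s := by
      have := conj_reflO Q s u' hu'0
      rw [hsu'] at this
      exact this
    refine ⟨reflO Q u * reflO Q u', ?_, ?_, ?_⟩
    · rw [mul_assoc, ← hc2, ← mul_assoc, ← hc1, mul_assoc]
    · rw [map_mul, detHom_reflO Q u hu0, detHom_reflO Q u' hu'0]
      simp
    · have hvs : ∀ v ∈ [u, u'], Q v ≠ 0 := by
        intro v hv
        simp only [List.mem_cons, List.not_mem_nil, or_false] at hv
        rcases hv with rfl | rfl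
        · exact hu0
        · exact hu'0
      have hg : (((reflO Q u * reflO Q u' : ↥(Cfsg.isometryGroup F (⇑Q))) : GL ι F) :
          Matrix ι ι F) = ([u, u'].map (fun v => Cfsg.reflectionMatrix (⇑Q) v)).prod := by
        simp only [Subgroup.coe_mul, Units.val_mul, reflO_val Q u hu0, reflO_val Q u' hu'0,
          List.map_cons, List.map_nil, List.prod_cons, List.prod_nil, mul_one]
      rw [spinor_criterion h2 Q _ [u, u'] hvs hg]
      rintro ⟨-, hsq⟩
      apply hζ
      simpa [hQu, hQu'] using hsq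
  · -- no nonzero fixed vector
    have hfix' : ∀ v, σ v = v → v = 0 := by
      intro v hv
      by_contra h0
      exact hfix ⟨v, hv, h0⟩
    have hV : Nontrivial (ι → F) := by
      have : Nonempty ι := Fintype.card_pos_iff.mp hpos
      infer_instance
    obtain ⟨L, hL0, hσL, hirr, hcase⟩ :=
      Cfsg.Agent.Lib.Helper78.S2720K.exists_irreducible h2 Q hQ σ σ' hσ hσσ' hσ'σ hr0 hrF hσr hV
    have FD : FreeData Q σ := by
      rcases hcase with hnd | ⟨hTS, L', hdis, hσL', hTS', hp, hp'⟩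
      · exact freeData_of_nondeg h2 Q hQ σ σ' hσ hσσ' hσ'σ hro hσr hfix' L hσL hL0 hirr hnd
      · obtain ⟨f, hf1, hf2⟩ := Cfsg.Agent.Lib.Helper84.S2720K.exists_singer σ L hσL hL0 hirr
        exact Cfsg.Agent.Lib.Helper18.S2720K.freeData_of_split h2 Q hQ σ σ' hσ hσσ' hσ'σ L L' hdis hσL hσL' hTS hTS' hp hp' hL0
          f hf1 hf2
    obtain ⟨g, W, W', k, N, hgQ, hgσ, hc, horth, hgW, hgW', hk, hk0, hgk, hfree, hN, hodd,
      hevenN⟩ := FD
    -- `g ^ k = 1`
    have hgW'pow : ∀ j : ℕ, ∀ y ∈ W', (g ^ j) y = y := by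
      intro j
      induction j with
      | zero => intro y _; simp
      | succ j ih =>
        intro y hy
        rw [pow_succ, Module.End.mul_apply, hgW' y hy, ih y hy]
    have hgk1 : g ^ k = 1 := by
      apply LinearMap.ext
      intro v
      obtain ⟨x, y, hx, hy, rfl⟩ := Submodule.codisjoint_iff_exists_add_eq.mp hc.codisjoint v
      rw [map_add, hgk x hx, hgW'pow k y hy]
      rfl
    obtain ⟨k', rfl⟩ : ∃ k', k = k' + 1 := ⟨k - 1, by omega⟩
    have h1 : g * g ^ k' = 1 := by rw [← pow_succ', hgk1]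
    have h1' : g ^ k' * g = 1 := by rw [← pow_succ, hgk1]
    let gE : (ι → F) ≃ₗ[F] (ι → F) := LinearEquiv.ofLinear g (g ^ k') h1 h1'
    obtain ⟨c, hcg⟩ := exists_isometryGroup_of_equiv Q gE hgQ
    have hcg' : Matrix.toLin' (omat Q c) = g := hcg
    have hcv : ∀ v, ((c : GL ι F) : Matrix ι ι F) *ᵥ v = g v := by
      intro v
      rw [← Matrix.toLin'_apply]
      exact congrArg (fun φ : (ι → F) →ₗ[F] (ι → F) => φ v) hcg'
    have hcpow : ∀ (j : ℕ) (v : ι → F), (((c : GL ι F) : Matrix ι ι F) ^ j) *ᵥ v = (g ^ j) v := by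
      intro j v
      rw [← toLin'_pow_apply]
      exact congrArg (fun φ : (ι → F) →ₗ[F] (ι → F) => (φ ^ j) v) hcg'
    have hθ : ∀ b : F, b ≠ 0 → theta (⇑Q) b c = -1 := by
      intro b hb
      refine Cfsg.Agent.Lib.Helper14.S2720K.theta_eq_neg_one_of_free h2 Q c W W' (k' + 1) N hc horth ?_ ?_ hk hk0 ?_ ?_ hN hodd
        hevenN b hb
      · intro x hx; rw [hcv]; exact hgW x hx
      · intro y hy; rw [hcv]; exact hgW' y hy
      · intro x hx; rw [hcpow]; exact hgk x hx
      · intro x hx hx0 j hj hjk; rw [hcpow]; exact hfree x hx hx0 j hj hjk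
    refine ⟨c, ?_, ?_, ?_⟩
    · apply omat_injective Q
      rw [omat_mul, omat_mul]
      apply (Matrix.toLin' (R := F) (m := ι) (n := ι)).injective
      rw [Matrix.toLin'_mul, Matrix.toLin'_mul, hcg', ← hσdef]
      apply LinearMap.ext
      intro v
      exact hgσ v
    · exact detHom_eq_one_of_theta h2 Q hQ ζ hζ c (hθ 1 one_ne_zero) (hθ ζ hζ0)
    · rw [mem_commutator_iff h2 Q hQ ζ hζ]
      rintro ⟨-, h⟩
      rw [hθ ζ hζ0] at h
      exact absurd h (by decide)

end Cfsg.Agent.Lib.Helper07.KE
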