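import Cfsg.Agent.Lib.Helper07.OrthFus
import Cfsg.Agent.Lib.Helper07.OrthFusK
import Cfsg.Agent.Lib.Helper07.OrthKEGlue
import Cfsg.Agent.Lib.Helper50.S2717V6

set_option autoImplicit false
set_option linter.unusedSectionVars false
set_option linter.unusedVariables false

/-! Class fusion of semisimple elements of odd prime order when `Esub / Inn` is a Klein four group. -/

namespace Cfsg.Agent.Lib.Helper07.OG

open Module Matrix Cfsg.Agent.Lib.Helper43 Cfsg.Agent.Lib.Helper08 Cfsg.Agent.Lib.Helper50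

universe u

section fusK

variable {F : Type u} [Field F] [Fintype F] [DecidableEq F] {ι : Type} [Fintype ι] [DecidableEq ι]
variable {Q : QuadraticForm F (ι → F)}
variable {u0 : ι → F} (hu0 : Q u0 = 1) (n : ℕ)

include hu0 in
set_option maxHeartbeats 1600000 in
/-- the generic fusion theorem when `Esub / Inn` is a Klein four group and `-1 ∈ Ω`. -/
theorem fusion_klein (C : OC Q) (p : ℕ) [Fact p.Prime] [CharP F p] (h2 : (2 : F) ≠ 0)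
    (hcard : Fintype.card ι = 2 * n) {r : ℕ} (hr0 : 0 < r) (hro : Odd r) (hrF : (r : F) ≠ 0)
    (x : MulAut (Cfsg.POmega F ⇑Q)) (hx : x ∈ Cfsg.pgoAut F ⇑Q) (hxr : x ^ r = 1)
    (g₀ : ↥(Cfsg.Geo.quadSimilarityGroup (F := F) ⇑Q))
    (hg₀ns : ¬ IsSquare ((multFun Q g₀ : Fˣ) : F)) (hg₀ : delta Q hu0 n g₀ = 1)
    (e f : Fin 3 → ι → F) (HT : HypTriple Q e f)
    (hneg : ∃ g : ↥(Cfsg.isometryGroup F ⇑Q), g ∈ Cfsg.Omega F ⇑Q ∧
      ((g : GL ι F) : Matrix ι ι F) = -1)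
    (φ : ↥(Esub Q hu0 n) →* Multiplicative (ZMod 2 × ZMod 2))
    (hφk : φ.ker = (Cfsg.Inn (Cfsg.POmega F ⇑Q)).subgroupOf (Esub Q hu0 n)) :
    (∀ y : MulAut (Cfsg.POmega F ⇑Q),
      (Cfsg.IsConjUnder (Cfsg.Inn (Cfsg.POmega F ⇑Q)) x y ↔
        Cfsg.IsConjUnder (Esub Q hu0 n) x y) ∧
      (Cfsg.IsConjUnder (Cfsg.psoAut F ⇑Q) x y ↔ Cfsg.IsConjUnder (Esub Q hu0 n) x y)) ∧
    (∀ y : MulAut (Cfsg.POmega F ⇑Q),
      Cfsg.IsConjUnder (Cfsg.poAut F ⇑Q) x y ↔ Cfsg.IsConjUnder (Cfsg.pgoAut F ⇑Q) x y) := by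
  obtain ⟨s, c, hs, rfl, hcomm, hcns, hcδ⟩ :=
    fusion_data hu0 n C p h2 hcard hr0 hro hrF x hx hxr g₀ hg₀ns hg₀
  have hcE : autPO (⇑Q) c ∈ Esub Q hu0 n := (autPO_mem_Esub_iff hu0 n C p hcard c).mpr hcδ
  have hcP : autPO (⇑Q) c ∉ Cfsg.psoAut F ⇑Q := fun h =>
    hcns (isSquare_mult_of_mem_psoAut hu0 C p c h)
  have hcx := autPO_comm_autO hu0 s c hcomm
  -- the second element
  have hpos : 0 < Fintype.card ι := by have := C.hn; omega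
  obtain ⟨c', hc's, hc'det, hc'Ω⟩ := Cfsg.Agent.Lib.Helper07.KE.exists_comm_SO_not_Omega h2 Q C.hQ
    (by rw [hcard]; exact even_two_mul n) hpos hro hrF s hs
  have hc'P : autO (⇑Q) c' ∈ Cfsg.psoAut F ⇑Q := by
    rw [psoAut_eq]
    refine ⟨c', ?_, rfl⟩
    rw [SetLike.mem_coe, mem_SO_iff_det]
    have := congrArg (fun z : Fˣ => (z : F)) hc'det
    simpa [detHom_val] using this
  have hc'N : autO (⇑Q) c' ∉ Cfsg.Inn (Cfsg.POmega F ⇑Q) := by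
    rw [Cfsg.Agent.Lib.Helper50.S2717K.autO_mem_inn_iff_of_neg Q h2 C.hQ e f HT hneg c']
    exact hc'Ω
  have hc'x : autO (⇑Q) c' * autO (⇑Q) s = autO (⇑Q) s * autO (⇑Q) c' := by
    rw [← map_mul, ← map_mul, hc's]
  have h1a : ∀ y : MulAut (Cfsg.POmega F ⇑Q),
      Cfsg.IsConjUnder (Cfsg.Inn (Cfsg.POmega F ⇑Q)) (autO (⇑Q) s) y ↔
        Cfsg.IsConjUnder (Esub Q hu0 n) (autO (⇑Q) s) y := fun y =>
    isConjUnder_iff_of_klein (Cfsg.Inn (Cfsg.POmega F ⇑Q)) (Cfsg.psoAut F ⇑Q) (Esub Q hu0 n)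
      inn_le_psoAut (psoAut_le_Esub hu0 n) φ hφk
      (autO (⇑Q) s) (autPO (⇑Q) c) (autO (⇑Q) c') hcE hcP hc'P hc'N hcx hc'x y
  refine ⟨fun y => ⟨h1a y, ?_, ?_⟩, fun y =>
    Cfsg.Agent.Lib.Helper45.S2721K.isConjUnder_po_iff_pgo C p h2 s c hcns hcomm y⟩
  · rintro ⟨h, hh, rfl⟩
    exact ⟨h, psoAut_le_Esub hu0 n hh, rfl⟩
  · intro h
    obtain ⟨g, hg, rfl⟩ := (h1a y).mpr h
    exact ⟨g, inn_le_psoAut hg, rfl⟩

end fusK

end Cfsg.Agent.Lib.Helper07.OG
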