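import Cfsg.Agent.Lib.Helper07.OrthFusP
import Cfsg.Agent.Lib.Helper07.OrthFusM
import Cfsg.Agent.Lib.Helper50.PlusInndiag
import Cfsg.Agent.Lib.Helper08.OmegaStd

set_option autoImplicit false
set_option linter.unusedSectionVars false
set_option linter.unusedVariables false

/-! S2720: class fusion of semisimple elements of odd prime order in `PΩ⁺_{2m}(q)`, `q` odd. -/

namespace Cfsg.Agent.Lib.Helper07.OG

open Module Matrix Cfsg.Agent.Lib.Helper43 Cfsg.Agent.Lib.Helper08 Cfsg.Agent.Lib.Helper50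

universe u

section plus

variable {F : Type u} [Field F] [Fintype F] {m : ℕ}

set_option maxHeartbeats 1600000 in
/-- S2720. -/
theorem s2720_main {p : ℕ} [Fact p.Prime] [CharP F p] (hp : p ≠ 2) (hm : 4 ≤ m)
    (x : MulAut (Cfsg.POmega F (Cfsg.quadFormPlus m F)))
    (hx : x ∈ Cfsg.pgoAut F (Cfsg.quadFormPlus m F)) {r : ℕ} (hr : r.Prime) (hro : Odd r)
    (hrp : r ≠ p) (hxr : orderOf x = r) :
    (∀ y : MulAut (Cfsg.POmega F (Cfsg.quadFormPlus m F)),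
      (Cfsg.IsConjUnder (Cfsg.Inn (Cfsg.POmega F (Cfsg.quadFormPlus m F))) x y ↔
        Cfsg.IsConjUnder (Cfsg.inndiagPOmegaPlus m F) x y) ∧
      (Cfsg.IsConjUnder (Cfsg.psoAut F (Cfsg.quadFormPlus m F)) x y ↔
        Cfsg.IsConjUnder (Cfsg.inndiagPOmegaPlus m F) x y)) ∧
    (∀ y : MulAut (Cfsg.POmega F (Cfsg.quadFormPlus m F)),
      Cfsg.IsConjUnder (Cfsg.poAut F (Cfsg.quadFormPlus m F)) x y ↔
        Cfsg.IsConjUnder (Cfsg.pgoAut F (Cfsg.quadFormPlus m F)) x y) := by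
  classical
  obtain ⟨h2, hodd, hrF⟩ := charP_odd_facts (F := F) hp hr hrp
  have hm3 : 3 ≤ m := by omega
  have hm1 : 1 ≤ m := by omega
  have hcard : Fintype.card (Fin m ⊕ Fin m) = 2 * m := by
    rw [Fintype.card_sum, Fintype.card_fin]; ring
  obtain ⟨Q, hQdef⟩ : ∃ Q : QuadraticForm F (Fin m ⊕ Fin m → F), Q = (qdataPlus (F := F) m).qf :=
    ⟨_, rfl⟩
  have hcoe : ⇑Q = Cfsg.quadFormPlus m F := by rw [hQdef]; rfl
  have hQ : (QuadraticMap.polarBilin Q).Nondegenerate := by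
    rw [hQdef]; exact (qdataPlus (F := F) m).qf_nondeg
  have C : OC Q := ⟨hQ, by rw [hcard]; omega⟩
  obtain ⟨e, he⟩ : ∃ e : Fin 3 → (Fin m ⊕ Fin m → F),
      e = fun i => Pi.single (Sum.inl (Fin.castLE hm3 i)) 1 := ⟨_, rfl⟩
  obtain ⟨f, hf⟩ : ∃ f : Fin 3 → (Fin m ⊕ Fin m → F),
      f = fun i => Pi.single (Sum.inr (Fin.castLE hm3 i)) 1 := ⟨_, rfl⟩
  have HT : HypTriple Q e f := by
    rw [hQdef, he, hf]; exact hypTriple_plus (F := F) m hm3
  have hu : Q (e 0 + f 0) = 1 := by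
    rw [QuadraticMap.map_add (⇑Q), HT.qe 0, HT.qf 0, HT.ef]; simp
  obtain ⟨ζ, hζ⟩ := exists_nonsquare_of_two_ne_zero h2
  have hζ0 : ζ ≠ 0 := fun h => hζ (h ▸ ⟨0, by ring⟩)
  have hmem : dilGL m (Units.mk0 ζ hζ0) ∈ Cfsg.Geo.quadSimilarityGroup (F := F) ⇑Q := by
    rw [hcoe]; exact ⟨Units.mk0 ζ hζ0, fun v => quadFormPlus_dil m ζ v⟩
  have hmult : multFun Q ⟨_, hmem⟩ = Units.mk0 ζ hζ0 :=
    multFun_unique Q hu ⟨_, hmem⟩ _ (fun v => by
      have h1 := quadFormPlus_dil m ζ v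
      rw [← hcoe] at h1
      exact h1)
  have hδ : delta Q hu m ⟨_, hmem⟩ = 1 := by
    rw [delta_eq_one_iff, hmult]
    show (dilMat m ζ).det = _
    rw [det_dilMat]
    rfl
  have hE := inndiagPlus_eq m h2 Q hcoe hQ hu
  have hmain := inndiag_plus_main m hodd hm ⇑Q hcoe.symm (Esub Q hu m) hE.symm
  have hxr' : x ^ r = 1 := by rw [← hxr]; exact pow_orderOf_eq_one x
  have hq4 : Fintype.card F % 4 = 1 ∨ Fintype.card F % 4 = 3 := by
    rcases hodd with ⟨t, ht⟩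
    omega
  have key : ∀ (q : (Fin m ⊕ Fin m → F) → F) (hq : ⇑Q = q)
      (x : MulAut (Cfsg.POmega F q)) (hx : x ∈ Cfsg.pgoAut F q) (hxr' : x ^ r = 1)
      (P : Subgroup (MulAut (Cfsg.POmega F q)))
      (hP : P = Subgroup.closure {β : MulAut (Cfsg.POmega F q) |
        ∃ g : GL (Fin m ⊕ Fin m) F, g ∈ Cfsg.Geo.quadSimilarityGroup (F := F) q ∧
          Cfsg.PreservesSingularClasses q (g : Matrix _ _ F) ∧
          Cfsg.IsInducedBySemilinearPOmega q g (RingEquiv.refl F) β}),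
      (∀ y : MulAut (Cfsg.POmega F q),
        (Cfsg.IsConjUnder (Cfsg.Inn (Cfsg.POmega F q)) x y ↔ Cfsg.IsConjUnder P x y) ∧
        (Cfsg.IsConjUnder (Cfsg.psoAut F q) x y ↔ Cfsg.IsConjUnder P x y)) ∧
      (∀ y : MulAut (Cfsg.POmega F q),
        Cfsg.IsConjUnder (Cfsg.poAut F q) x y ↔ Cfsg.IsConjUnder (Cfsg.pgoAut F q) x y) := by
    rintro q rfl x hx hxr' P rfl
    rw [hE]
    rcases Nat.even_or_odd m with hme | hmo
    · obtain ⟨φ, hφ, hk⟩ := hmain.2.2 hme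
      have hneg : ∃ g : ↥(Cfsg.isometryGroup F ⇑Q), g ∈ Cfsg.Omega F ⇑Q ∧
          ((g : GL (Fin m ⊕ Fin m) F) : Matrix (Fin m ⊕ Fin m) (Fin m ⊕ Fin m) F) = -1 := by
        have hcrit := Cfsg.Agent.S0790.result (F := F) rfl hodd m hm1
        rw [← hcoe] at hcrit
        rw [hcrit]
        rcases hq4 with h1 | h3
        · exact pow_mod_four_of_mod_one h1 m
        · exact pow_mod_four_of_mod_three_even h3 hme
      exact fusion_klein hu m C p h2 hcard hr.pos hro hrF x hx hxr' ⟨_, hmem⟩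
        (by rw [hmult]; exact hζ) hδ e f HT hneg φ hk
    · rcases hq4 with h1 | h3
      · obtain ⟨φ, hφ, hk⟩ := hmain.2.1 ⟨hmo, h1⟩
        exact fusion_cyclic hu m C p h2 hcard hr.pos hro hrF x hx hxr' ⟨_, hmem⟩
          (by rw [hmult]; exact hζ) hδ (Or.inr rfl) φ hφ hk
      · obtain ⟨φ, hφ, hk⟩ := hmain.1 ⟨hmo, h3⟩
        exact fusion_cyclic hu m C p h2 hcard hr.pos hro hrF x hx hxr' ⟨_, hmem⟩
          (by rw [hmult]; exact hζ) hδ (Or.inl rfl) φ hφ hk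
  exact key (Cfsg.quadFormPlus m F) hcoe x hx hxr' (Cfsg.inndiagPOmegaPlus m F) rfl

end plus

end Cfsg.Agent.Lib.Helper07.OG
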