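import Cfsg.Agent.Lib.Helper07.OrthF

set_option autoImplicit false
set_option linter.unusedSimpArgs false
set_option linter.unusedVariables false
set_option linter.unusedSectionVars false

/-! Orthogonal groups: the unipotent radical `Ks T` of the stabiliser of a totally singular
subspace `T`: a normal `p`-subgroup containing the Siegel elements `sg t v`, `t ∈ T`, `v ∈ T^⊥`;
it is non-abelian when `dim T ≥ 2` and `T^⊥` is not totally isotropic. -/

namespace Cfsg.Agent.Lib.Helper07.OG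

open Module Matrix Cfsg.Agent.Lib.Helper43 Cfsg.Agent.Lib.Helper07.UG

variable {F : Type*} [Field F] [Fintype F] {ι : Type} [Fintype ι] [DecidableEq ι]
variable {Q : QuadraticForm F (ι → F)}

local notation "Bf" => QuadraticMap.polarBilin Q

variable (Q) in
/-- the orthogonal complement of a subspace. -/
def perpS (T : Submodule F (ι → F)) : Submodule F (ι → F) where
  carrier := {x | ∀ t ∈ T, Bf t x = 0}
  zero_mem' := fun t _ => by simp
  add_mem' := fun {a b} ha hb t ht => by rw [map_add, ha t ht, hb t ht, add_zero]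
  smul_mem' := fun c a ha t ht => by rw [map_smul, ha t ht, smul_zero]

theorem mem_perpS (T : Submodule F (ι → F)) (x : ι → F) :
    x ∈ perpS Q T ↔ ∀ t ∈ T, Bf t x = 0 := Iff.rfl

theorem le_perpS_of_ts {T : Submodule F (ι → F)} (hT : ∀ t ∈ T, Q t = 0) : T ≤ perpS Q T := by
  intro x hx t ht
  exact polar_eq_zero_of_ts Q T hT t x ht hx

/-- the unipotent radical of the stabiliser of the totally singular subspace `T`. -/
def Ks (T : Submodule F (ι → F)) (hT : ∀ t ∈ T, Q t = 0) : Subgroup ↥(Cfsg.Omega F ⇑Q) where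
  carrier := {g | (∀ t ∈ T, lo Q g t = t) ∧ (∀ x ∈ perpS Q T, lo Q g x - x ∈ T) ∧
    ∀ x, lo Q g x - x ∈ perpS Q T}
  one_mem' := by
    refine ⟨fun t _ => lo_one_apply Q t, fun x _ => ?_, fun x => ?_⟩
    · rw [lo_one_apply, sub_self]; exact T.zero_mem
    · rw [lo_one_apply, sub_self]; exact (perpS Q T).zero_mem
  mul_mem' := by
    rintro g h ⟨hg1, hg2, hg3⟩ ⟨hh1, hh2, hh3⟩
    refine ⟨fun t ht => by rw [lo_mul_apply, hh1 t ht, hg1 t ht], fun x hx => ?_, fun x => ?_⟩
    · have h1 : lo Q h x ∈ perpS Q T := by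
        have := (perpS Q T).add_mem (le_perpS_of_ts hT (hh2 x hx)) hx
        rwa [sub_add_cancel] at this
      have := T.add_mem (hg2 _ h1) (hh2 x hx)
      rw [lo_mul_apply]
      rwa [sub_add_sub_cancel] at this
    · have := (perpS Q T).add_mem (hg3 (lo Q h x)) (hh3 x)
      rw [lo_mul_apply]
      rwa [sub_add_sub_cancel] at this
  inv_mem' := by
    rintro g ⟨hg1, hg2, hg3⟩
    have hinv : ∀ t ∈ T, lo Q g⁻¹ t = t := by
      intro t ht
      have := lo_inv_apply Q g t
      rwa [hg1 t ht] at this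
    refine ⟨hinv, fun x hx => ?_, fun x => ?_⟩
    · have h1 : lo Q g⁻¹ x ∈ perpS Q T := by
        intro t ht
        rw [← lo_polar Q g, hg1 t ht, lo_apply_inv]
        exact hx t ht
      have := T.neg_mem (hg2 _ h1)
      rwa [lo_apply_inv, neg_sub] at this
    · have := (perpS Q T).neg_mem (hg3 (lo Q g⁻¹ x))
      rwa [lo_apply_inv, neg_sub] at this

theorem mem_Ks (T : Submodule F (ι → F)) (hT : ∀ t ∈ T, Q t = 0) (g : ↥(Cfsg.Omega F ⇑Q)) :
    g ∈ Ks T hT ↔ (∀ t ∈ T, lo Q g t = t) ∧ (∀ x ∈ perpS Q T, lo Q g x - x ∈ T) ∧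
      ∀ x, lo Q g x - x ∈ perpS Q T := Iff.rfl

theorem lo_pow (g : ↥(Cfsg.Omega F ⇑Q)) (k : ℕ) : lo Q (g ^ k) = (lo Q g) ^ k := by
  induction k with
  | zero =>
    apply LinearMap.ext
    intro x
    rw [pow_zero, pow_zero, lo_one_apply]
    rfl
  | succ k ih =>
    apply LinearMap.ext
    intro x
    rw [pow_succ, pow_succ, lo_mul_apply, ih]
    rfl

theorem isPGroup_Ks (C : OC Q) (p : ℕ) [Fact p.Prime] [CharP F p] (T : Submodule F (ι → F))
    (hT : ∀ t ∈ T, Q t = 0) : IsPGroup p (Ks T hT) := by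
  rintro ⟨g, hg⟩
  obtain ⟨hg1, hg2, hg3⟩ := (mem_Ks T hT g).1 hg
  refine ⟨2, ?_⟩
  apply Subtype.ext
  rw [Subgroup.coe_pow]
  show g ^ (p ^ 2) = 1
  have hnt : Nontrivial (ι → F) := by
    have : 0 < Fintype.card ι := by have := C.hn; omega
    have : Nonempty ι := Fintype.card_pos_iff.1 this
    infer_instance
  have hchar : CharP (Module.End F (ι → F)) p :=
    charP_of_injective_algebraMap (algebraMap F (Module.End F (ι → F))).injective p
  set N : Module.End F (ι → F) := lo Q g - 1 with hN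
  have hN3 : N ^ 3 = 0 := by
    apply LinearMap.ext
    intro x
    have e : ∀ y, N y = lo Q g y - y := fun y => by rw [hN]; rfl
    have h1 : N x ∈ perpS Q T := by rw [e]; exact hg3 x
    have h2 : N (N x) ∈ T := by rw [e (N x)]; exact hg2 _ h1
    have h3 : N (N (N x)) = 0 := by rw [e (N (N x)), hg1 _ h2, sub_self]
    rw [pow_succ, pow_succ, pow_one]
    exact h3
  have hNp : N ^ (p ^ 2) = 0 := by
    have h3 : 3 ≤ p ^ 2 := by
      have := (Fact.out : p.Prime).two_le
      nlinarith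
    exact pow_eq_zero_of_le h3 hN3
  have hg : lo Q g = 1 + N := by rw [hN]; abel
  apply lo_injective Q
  rw [lo_pow, hg, add_pow_char_pow_of_commute (p := p) (n := 2) (Commute.one_left N), hNp, one_pow,
    add_zero]
  apply LinearMap.ext
  intro x
  rw [lo_one_apply]
  rfl

theorem Ks_le_subStab (T : Submodule F (ι → F)) (hT : ∀ t ∈ T, Q t = 0) :
    Ks T hT ≤ subStab Q T := by
  intro g hg
  obtain ⟨hg1, hg2, hg3⟩ := (mem_Ks T hT g).1 hg
  rw [mem_subStab]
  intro v
  constructor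
  · intro hv; rw [hg1 v hv]; exact hv
  · intro hv
    have h1 := hg1 _ hv
    have h2 : v = lo Q g⁻¹ (lo Q g v) := (lo_inv_apply Q g v).symm
    have h3 : lo Q g⁻¹ (lo Q g v) = lo Q g v := by
      have := lo_inv_apply Q g (lo Q g v)
      rwa [h1] at this
    rw [h2, h3]
    exact hv

theorem perpS_invariant (T : Submodule F (ι → F)) {g : ↥(Cfsg.Omega F ⇑Q)}
    (hg : g ∈ subStab Q T) {x : ι → F} (hx : x ∈ perpS Q T) : lo Q g x ∈ perpS Q T := by
  intro t ht
  have h1 : lo Q g⁻¹ t ∈ T := by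
    have := (mem_subStab Q T g).1 hg (lo Q g⁻¹ t)
    rw [lo_apply_inv] at this
    exact this.2 ht
  have h2 := lo_polar Q g (lo Q g⁻¹ t) x
  rw [lo_apply_inv] at h2
  rw [h2]
  exact hx _ h1

theorem Ks_normal (T : Submodule F (ι → F)) (hT : ∀ t ∈ T, Q t = 0) :
    ∀ g ∈ subStab Q T, ∀ k ∈ Ks T hT, g * k * g⁻¹ ∈ Ks T hT := by
  intro g hg k hk
  obtain ⟨hk1, hk2, hk3⟩ := (mem_Ks T hT k).1 hk
  have hginv : g⁻¹ ∈ subStab Q T := (subStab Q T).inv_mem hg
  have hgT : ∀ t ∈ T, lo Q g t ∈ T := fun t ht => ((mem_subStab Q T g).1 hg t).1 ht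
  have hgiT : ∀ t ∈ T, lo Q g⁻¹ t ∈ T := fun t ht => ((mem_subStab Q T g⁻¹).1 hginv t).1 ht
  refine (mem_Ks T hT _).2 ⟨fun t ht => ?_, fun x hx => ?_, fun x => ?_⟩
  · rw [lo_mul_apply, lo_mul_apply, hk1 _ (hgiT t ht), lo_apply_inv]
  · have h1 := hk2 _ (perpS_invariant T hginv hx)
    have h2 := hgT _ h1
    rw [map_sub, lo_apply_inv] at h2
    rw [lo_mul_apply, lo_mul_apply]
    exact h2
  · have h1 := hk3 (lo Q g⁻¹ x)
    have h2 := perpS_invariant T hg h1
    rw [map_sub, lo_apply_inv] at h2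
    rw [lo_mul_apply, lo_mul_apply]
    exact h2

theorem sg_mem_Ks (C : OC Q) (T : Submodule F (ι → F)) (hT : ∀ t ∈ T, Q t = 0) {t v : ι → F}
    (ht : t ∈ T) (hv : v ∈ perpS Q T) : sg C t v ∈ Ks T hT := by
  have hQt := hT t ht
  have htv : Bf t v = 0 := hv t ht
  refine (mem_Ks T hT _).2 ⟨fun x hx => ?_, fun x hx => ?_, fun x => ?_⟩
  · rw [sg_apply C hQt htv, hv x hx, polar_eq_zero_of_ts Q T hT x t hx ht]
    simp
  · have hxt : Bf x t = 0 := by rw [polar_symm]; exact hx t ht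
    rw [sg_apply C hQt htv, hxt]
    simp only [mul_zero, sub_zero, neg_zero, zero_smul, add_zero, add_sub_cancel_left]
    exact T.smul_mem _ ht
  · rw [sg_apply C hQt htv, add_assoc, add_sub_cancel_left]
    exact (perpS Q T).add_mem ((perpS Q T).smul_mem _ (le_perpS_of_ts hT ht))
      ((perpS Q T).smul_mem _ hv)

/-- two Siegel elements with centres in `T` and non-orthogonal directions commute only if the
centres are proportional. -/
theorem sg_comm_imp (C : OC Q) {t t' v v' : ι → F} (ht0 : t ≠ 0) (ht : Q t = 0) (ht' : Q t' = 0)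
    (htt' : Bf t t' = 0) (htv : Bf t v = 0) (htv' : Bf t v' = 0) (ht'v : Bf t' v = 0)
    (ht'v' : Bf t' v' = 0) (hvv' : Bf v v' ≠ 0)
    (h : sg C t v * sg C t' v' = sg C t' v' * sg C t v) : ∃ c : F, t' = c • t := by
  obtain ⟨x, hx⟩ := exists_pair_one C ht0
  have h1 := congrArg (fun g => lo Q g x) h
  simp only [lo_mul_apply] at h1
  have e1 : Bf t' t = 0 := by rw [polar_symm]; exact htt'
  have e2 : Bf v t = 0 := by rw [polar_symm]; exact htv
  have e3 : Bf v' t = 0 := by rw [polar_symm]; exact htv'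
  have e4 : Bf v t' = 0 := by rw [polar_symm]; exact ht'v
  have e5 : Bf v' t' = 0 := by rw [polar_symm]; exact ht'v'
  have e6 : Bf v' v = Bf v v' := polar_symm Q v' v
  have ett := polar_self0 (Q := Q) ht
  have et't' := polar_self0 (Q := Q) ht'
  have key : Bf v v' • (Bf x t • t' - Bf x t' • t) = 0 := by
    have h2 : lo Q (sg C t v) (lo Q (sg C t' v') x) - lo Q (sg C t' v') (lo Q (sg C t v) x) = 0 :=
      sub_eq_zero.2 h1
    rw [← h2, sg_apply C ht' ht'v' x, sg_apply C ht htv x, sg_apply C ht htv, sg_apply C ht' ht'v']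
    simp only [map_add, map_smul, map_neg, LinearMap.add_apply, LinearMap.smul_apply,
      LinearMap.neg_apply, smul_eq_mul, htt', htv, htv', ht'v, ht'v', e1, e2, e3, e4, e5, e6, ett,
      et't', mul_zero, add_zero, zero_add, neg_zero, sub_zero]
    module
  rcases smul_eq_zero.1 key with h3 | h3
  · exact absurd h3 hvv'
  · rw [hx, one_smul, sub_eq_zero] at h3
    exact ⟨Bf x t', h3⟩

end Cfsg.Agent.Lib.Helper07.OG
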