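import Cfsg.Agent.Lib.Helper07.OrthG

set_option autoImplicit false
set_option linter.unusedSimpArgs false
set_option linter.unusedVariables false
set_option linter.unusedSectionVars false

/-! Orthogonal groups: the abstract predicate `IsRad` (abelian `p`-core of a maximal subgroup
containing a Sylow `p`-subgroup, of prescribed order), its invariance under automorphisms, and
its identification with the groups `Qb u`. -/

namespace Cfsg.Agent.Lib.Helper07.OG

open Module Matrix Cfsg.Agent.Lib.Helper43 Cfsg.Agent.Lib.Helper07.UG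

section generic

variable {X : Type*} [Group X]

/-- `R` is the largest normal `p`-subgroup of `M`. -/
def IsPCore (p : ℕ) (M R : Subgroup X) : Prop :=
  R ≤ M ∧ IsPGroup p R ∧ (∀ g ∈ M, ∀ r ∈ R, g * r * g⁻¹ ∈ R) ∧
    ∀ K : Subgroup X, K ≤ M → IsPGroup p K → (∀ g ∈ M, ∀ k ∈ K, g * k * g⁻¹ ∈ K) → K ≤ R

/-- `R` is the abelian `p`-core, of order `N`, of a maximal subgroup containing a Sylow
`p`-subgroup. -/
def IsRad (p N : ℕ) (R : Subgroup X) : Prop :=
  ∃ M S : Subgroup X, IsCoatom M ∧ IsMaxP p ⊤ S ∧ S ≤ M ∧ IsPCore p M R ∧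
    (∀ a ∈ R, ∀ b ∈ R, a * b = b * a) ∧ Nat.card R = N

theorem map_comap_equiv (α : X ≃* X) (K : Subgroup X) :
    (K.comap α.toMonoidHom).map α.toMonoidHom = K :=
  Subgroup.map_comap_eq_self_of_surjective α.surjective K

theorem IsMaxP.map_equiv {p : ℕ} {S : Subgroup X} (h : IsMaxP p ⊤ S) (α : X ≃* X) :
    IsMaxP p ⊤ (S.map α.toMonoidHom) := by
  refine ⟨le_top, h.2.1.map _, ?_⟩
  intro T _ hT hST
  have h1 : IsPGroup p (T.comap α.toMonoidHom) := hT.comap_of_injective _ α.injective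
  have h2 : S ≤ T.comap α.toMonoidHom := by
    intro s hs
    exact hST (Subgroup.mem_map_of_mem _ hs)
  have h3 := h.2.2 _ le_top h1 h2
  rw [← map_comap_equiv α T, h3]

theorem IsPCore.map_equiv {p : ℕ} {M R : Subgroup X} (h : IsPCore p M R) (α : X ≃* X) :
    IsPCore p (M.map α.toMonoidHom) (R.map α.toMonoidHom) := by
  obtain ⟨h1, h2, h3, h4⟩ := h
  refine ⟨Subgroup.map_mono h1, h2.map _, ?_, ?_⟩
  · rintro _ ⟨g, hg, rfl⟩ _ ⟨r, hr, rfl⟩
    refine ⟨g * r * g⁻¹, h3 g hg r hr, ?_⟩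
    simp
  · intro K hK hKp hKn
    have e1 : K.comap α.toMonoidHom ≤ M := by
      intro k hk
      obtain ⟨m, hm, hmk⟩ := hK hk
      have : m = k := α.injective hmk
      rwa [← this]
    have e2 : IsPGroup p (K.comap α.toMonoidHom) := hKp.comap_of_injective _ α.injective
    have e3 : ∀ g ∈ M, ∀ k ∈ K.comap α.toMonoidHom, g * k * g⁻¹ ∈ K.comap α.toMonoidHom := by
      intro g hg k hk
      have := hKn (α g) (Subgroup.mem_map_of_mem _ hg) (α k) hk
      show α.toMonoidHom (g * k * g⁻¹) ∈ K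
      simpa using this
    have e4 := h4 _ e1 e2 e3
    rw [← map_comap_equiv α K]
    exact Subgroup.map_mono e4

theorem IsRad.map_equiv {p N : ℕ} {R : Subgroup X} (h : IsRad p N R) (α : X ≃* X) :
    IsRad p N (R.map α.toMonoidHom) := by
  obtain ⟨M, S, hM, hS, hSM, hc, hab, hcard⟩ := h
  refine ⟨M.map α.toMonoidHom, S.map α.toMonoidHom, ?_, IsMaxP.map_equiv hS α, Subgroup.map_mono hSM,
    hc.map_equiv α, ?_, ?_⟩
  · exact (OrderIso.isCoatom_iff (α.mapSubgroup) M).2 hM
  · rintro _ ⟨a, ha, rfl⟩ _ ⟨b, hb, rfl⟩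
    show α.toMonoidHom a * α.toMonoidHom b = α.toMonoidHom b * α.toMonoidHom a
    rw [← map_mul, ← map_mul, hab a ha b hb]
  · rw [← hcard]
    exact Nat.card_congr (R.equivMapOfInjective α.toMonoidHom α.injective).symm.toEquiv

end generic

variable {F : Type*} [Field F] [Fintype F] {ι : Type} [Fintype ι] [DecidableEq ι]
variable {Q : QuadraticForm F (ι → F)}

local notation "Bf" => QuadraticMap.polarBilin Q

theorem lineStab_eq_subStab {u : ι → F} (hu0 : u ≠ 0) :
    subStab Q (Submodule.span F {u}) = lineStab Q u hu0 := by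
  ext g
  rw [mem_subStab, mem_lineStab]
  constructor
  · intro h
    have := (h u).1 (Submodule.mem_span_singleton_self u)
    obtain ⟨c, hc⟩ := Submodule.mem_span_singleton.1 this
    exact ⟨c, hc.symm⟩
  · rintro ⟨c, hc⟩ v
    have hc0 : c ≠ 0 := by
      rintro rfl
      rw [zero_smul] at hc
      exact lo_ne_zero Q g u hu0 hc
    constructor
    · intro hv
      obtain ⟨a, rfl⟩ := Submodule.mem_span_singleton.1 hv
      rw [map_smul, hc, smul_smul]
      exact Submodule.smul_mem _ _ (Submodule.mem_span_singleton_self u)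
    · intro hv
      obtain ⟨a, ha⟩ := Submodule.mem_span_singleton.1 hv
      have h1 : lo Q g ((a * c⁻¹) • u) = lo Q g v := by
        rw [map_smul, hc, smul_smul, mul_assoc, inv_mul_cancel₀ hc0, mul_one, ha]
      have h2 := congrArg (lo Q g⁻¹) h1
      rw [lo_inv_apply, lo_inv_apply] at h2
      rw [← h2]
      exact Submodule.smul_mem _ _ (Submodule.mem_span_singleton_self u)

/-- the groups `Qb u` all have the same order. -/
theorem card_Qb_eq (C : OC Q) {u u' : ι → F} (hu0 : u ≠ 0) (hu : Q u = 0) (hu'0 : u' ≠ 0)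
    (hu' : Q u' = 0) : Nat.card (Qb C u) = Nat.card (Qb C u') := by
  obtain ⟨g, hg, hgu⟩ := exists_Omega_map Q C.hQ C.hn u u' hu0 hu'0 (by rw [hu, hu'])
  set g' : ↥(Cfsg.Omega F ⇑Q) := ⟨g, hg⟩ with hg'
  have hgu' : lo Q g' u = u' := hgu
  have hinv : lo Q g'⁻¹ u' = u := by rw [← hgu', lo_inv_apply]
  apply Nat.card_eq_of_bijective
    (fun x : Qb C u => (⟨prj g' * x.1 * (prj g')⁻¹, by
      have := conj_mem_Qb C hu g' x.2
      rwa [hgu'] at this⟩ : Qb C u'))
  constructor
  · intro x y hxy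
    have h1 := congrArg Subtype.val hxy
    simp only at h1
    apply Subtype.ext
    have h2 : (prj g')⁻¹ * (prj g' * x.1 * (prj g')⁻¹) * prj g' = x.1 := by group
    have h3 : (prj g')⁻¹ * (prj g' * y.1 * (prj g')⁻¹) * prj g' = y.1 := by group
    rw [← h2, ← h3, h1]
  · intro y
    have h1 := conj_mem_Qb C hu' g'⁻¹ y.2
    rw [hinv] at h1
    refine ⟨⟨_, h1⟩, ?_⟩
    apply Subtype.ext
    simp only [map_inv]
    group

/-- `Qb u` satisfies the abstract predicate. -/
theorem isRad_Qb (C : OC Q) (p : ℕ) [Fact p.Prime] [CharP F p] {u : ι → F} (hu0 : u ≠ 0)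
    (hu : Q u = 0) : IsRad p (Nat.card (Qb C u)) (Qb C u) := by
  obtain ⟨S, hS, hSP⟩ := exists_sylow_le_Pb C p hu0 hu
  exact ⟨Pb (Q := Q) u hu0, S, isCoatom_Pb C hu0 hu, hS, hSP,
    ⟨Qb_le_Pb C hu0 hu, isPGroup_Qb C p hu, Pb_normalizes_Qb C hu0 hu,
      fun K hK hKp hKn => pcore_le_Qb C p hu0 hu K hKp hK hKn⟩, Qb_comm C hu, rfl⟩

/-- double orthogonal complement. -/
theorem mem_of_perp_perp (C : OC Q) (T : Submodule F (ι → F)) {x : ι → F}
    (hx : ∀ z ∈ perpS Q T, Bf z x = 0) : x ∈ T := by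
  by_contra hxT
  obtain ⟨z, hz1, hz2⟩ := exists_polar_repr Q C.hQ T x hxT
  have hz : z ∈ perpS Q T := by
    intro t ht
    rw [polar_symm]
    exact hz2 t ht
  have := hx z hz
  rw [hz1] at this
  exact one_ne_zero this

/-- **identification of the abstract radicals**: they are the groups `Qb u`. -/
theorem rad_classify (C : OC Q) (p : ℕ) [Fact p.Prime] [CharP F p] {u₀ : ι → F} (hu₀0 : u₀ ≠ 0)
    (hu₀ : Q u₀ = 0)
    (hD : ∀ (T : Submodule F (ι → F)) (hT : ∀ t ∈ T, Q t = 0), perpS Q T ≤ T →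
      ∀ R : Subgroup (Cfsg.POmega F ⇑Q), IsPCore p ((subStab Q T).map prj) R →
        (∀ a ∈ R, ∀ b ∈ R, a * b = b * a) → Nat.card R ≠ Nat.card (Qb C u₀))
    {R : Subgroup (Cfsg.POmega F ⇑Q)} (hR : IsRad p (Nat.card (Qb C u₀)) R) :
    ∃ u : ι → F, u ≠ 0 ∧ Q u = 0 ∧ R = Qb C u := by
  obtain ⟨M, S, hM, hS, hSM, hc, hab, hcard⟩ := hR
  obtain ⟨T, hT0, hT, hMT⟩ := exists_ts_of_coatom C p M hM S hS hSM
  have hMeq : M = (subStab Q T).map prj := by
    rw [← hMT]
    exact (Subgroup.map_comap_eq_self_of_surjective prj_surjective M).symm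
  obtain ⟨t, htT, ht0⟩ := (Submodule.ne_bot_iff T).1 hT0
  have hQt := hT t htT
  by_cases hline : T = Submodule.span F {t}
  · -- the point case
    refine ⟨t, ht0, hQt, ?_⟩
    have hMP : M = Pb (Q := Q) t ht0 := by
      rw [hMeq, hline, lineStab_eq_subStab ht0]
      rfl
    have hle : Qb C t ≤ R := by
      apply hc.2.2.2 (Qb C t)
      · rw [hMP]; exact Qb_le_Pb C ht0 hQt
      · exact isPGroup_Qb C p hQt
      · rw [hMP]; exact Pb_normalizes_Qb C ht0 hQt
    have hcard' : Nat.card (Qb C t) = Nat.card R := by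
      rw [hcard]; exact card_Qb_eq C ht0 hQt hu₀0 hu₀
    have hfin : Finite R := inferInstance
    symm
    exact Subgroup.eq_of_le_of_card_ge hle (le_of_eq hcard'.symm)
  · exfalso
    -- a second independent vector of `T`
    have hlt : Submodule.span F {t} < T := by
      refine lt_of_le_of_ne ?_ (Ne.symm hline)
      rw [Submodule.span_le]
      intro x hx
      rw [Set.mem_singleton_iff.1 hx]
      exact htT
    obtain ⟨t', ht'T, ht'⟩ := SetLike.exists_of_lt hlt
    have hQt' := hT t' ht'T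
    have hKR : (Ks T hT).map prj ≤ R := by
      apply hc.2.2.2
      · rw [hMeq]; exact Subgroup.map_mono (Ks_le_subStab T hT)
      · exact (isPGroup_Ks C p T hT).map _
      · rw [hMeq]
        rintro _ ⟨g, hg, rfl⟩ _ ⟨k, hk, rfl⟩
        refine ⟨g * k * g⁻¹, Ks_normal T hT g hg k hk, ?_⟩
        simp
    by_cases hiso : ∀ v ∈ perpS Q T, ∀ v' ∈ perpS Q T, Bf v v' = 0
    · have hle : perpS Q T ≤ T := by
        intro x hx
        exact mem_of_perp_perp C T (fun z hz => hiso z hz x hx)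
      rw [hMeq] at hc
      exact hD T hT hle R hc hab hcard
    · push Not at hiso
      obtain ⟨v, hv, v', hv', hvv'⟩ := hiso
      have ha := sg_mem_Ks C T hT htT hv
      have hb := sg_mem_Ks C T hT ht'T hv'
      have h1 := hab _ (hKR ⟨_, ha, rfl⟩) _ (hKR ⟨_, hb, rfl⟩)
      rw [← map_mul, ← map_mul, prj_eq_iff] at h1
      -- the central element is a `p`-element of `Ks`
      have h2 : (sg C t v * sg C t' v')⁻¹ * (sg C t' v' * sg C t v) ∈ Ks T hT :=
        (Ks T hT).mul_mem ((Ks T hT).inv_mem ((Ks T hT).mul_mem ha hb)) ((Ks T hT).mul_mem hb ha)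
      obtain ⟨k, hk⟩ := (isPGroup_Ks C p T hT) ⟨_, h2⟩
      have hk' := congrArg Subtype.val hk
      rw [Subgroup.coe_pow] at hk'
      have h3 := center_pow_eq_one C p h1 hk'
      have h4 : sg C t v * sg C t' v' = sg C t' v' * sg C t v := by
        rw [inv_mul_eq_one] at h3
        exact h3
      obtain ⟨c, hc'⟩ := sg_comm_imp C ht0 hQt hQt' (polar_eq_zero_of_ts Q T hT t t' htT ht'T)
        (hv t htT) (hv' t htT) (hv t' ht'T) (hv' t' ht'T) hvv' h4
      apply ht'
      rw [hc']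
      exact Submodule.smul_mem _ _ (Submodule.mem_span_singleton_self t)

end Cfsg.Agent.Lib.Helper07.OG
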