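import Cfsg.Agent.Lib.Helper07.OrthH

set_option autoImplicit false
set_option linter.unusedSimpArgs false
set_option linter.unusedVariables false
set_option linter.unusedSectionVars false

/-! Orthogonal groups: intersections of the groups `Qb x`, recovery of the point from `Qb x`,
and the permutation of the groups `Qb x` by an automorphism. -/

namespace Cfsg.Agent.Lib.Helper07.OG

open Module Matrix Cfsg.Agent.Lib.Helper43 Cfsg.Agent.Lib.Helper07.UG

variable {F : Type*} [Field F] [Fintype F] {ι : Type} [Fintype ι] [DecidableEq ι]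
variable {Q : QuadraticForm F (ι → F)}

local notation "Bf" => QuadraticMap.polarBilin Q

/-- two elements of order dividing `p` with the same image in `PΩ` are equal. -/
theorem eq_of_prj_eq_of_pow (C : OC Q) (p : ℕ) [Fact p.Prime] [CharP F p]
    {a b : ↥(Cfsg.Omega F ⇑Q)} (ha : a ^ p = 1) (hb : b ^ p = 1) (h : prj a = prj b) : a = b := by
  rw [prj_eq_iff] at h
  have hcomm : Commute a (a⁻¹ * b) := by
    show a * (a⁻¹ * b) = a⁻¹ * b * a
    exact (Subgroup.mem_center_iff.1 h) a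
  have h1 : (a⁻¹ * b) ^ p = 1 := by
    have h2 : b = a * (a⁻¹ * b) := by group
    have h3 : b ^ p = a ^ p * (a⁻¹ * b) ^ p := by
      conv_lhs => rw [h2]
      exact hcomm.mul_pow p
    rw [hb, ha, one_mul] at h3
    exact h3.symm
  have h4 := center_pow_eq_one C p h (k := 1) (by rw [pow_one]; exact h1)
  rw [inv_mul_eq_one] at h4
  exact h4

theorem sg_swap (C : OC Q) {x y : ι → F} (hx : Q x = 0) (hy : Q y = 0) (hxy : Bf x y = 0)
    (t : F) : sg C x (t • y) = sg C y (-t • x) := by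
  have hyx : Bf y x = 0 := by rw [polar_symm]; exact hxy
  have h1 : Bf x (t • y) = 0 := by rw [map_smul, hxy, smul_zero]
  have h2 : Bf y (-t • x) = 0 := by rw [map_smul, hyx, smul_zero]
  apply lo_ext
  intro v
  rw [sg_apply C hx h1, sg_apply C hy h2, Q_smul, Q_smul, hx, hy]
  simp only [map_smul, smul_eq_mul, mul_zero, zero_mul, sub_zero, smul_smul]
  module

theorem prj_sg_mem_inf (C : OC Q) {x y : ι → F} (hx : Q x = 0) (hy : Q y = 0) (hxy : Bf x y = 0)
    (t : F) : prj (sg C x (t • y)) ∈ Qb C x ⊓ Qb C y := by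
  have hyx : Bf y x = 0 := by rw [polar_symm]; exact hxy
  refine ⟨prj_sg_mem_Qb C hx (by rw [map_smul, hxy, smul_zero]), ?_⟩
  rw [sg_swap C hx hy hxy]
  exact prj_sg_mem_Qb C hy (by rw [map_smul, hyx, smul_zero])

/-- a vector pairing to one with `x` and to zero with `y`, for `x` not a multiple of `y`. -/
theorem exists_pair_one_zero (C : OC Q) {x y : ι → F} (hxy : ¬ ∃ t : F, x = t • y) :
    ∃ a : ι → F, Bf a x = 1 ∧ Bf a y = 0 := by
  have hx : x ∉ Submodule.span F {y} := by
    intro h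
    obtain ⟨t, ht⟩ := Submodule.mem_span_singleton.1 h
    exact hxy ⟨t, ht.symm⟩
  obtain ⟨z, hz1, hz2⟩ := exists_polar_repr Q C.hQ (Submodule.span F {y}) x hx
  exact ⟨z, hz1, hz2 y (Submodule.mem_span_singleton_self y)⟩

/-- the intersection of `Qb x` and `Qb y` for perpendicular distinct singular points. -/
theorem mem_inf_Qb_perp (C : OC Q) (p : ℕ) [Fact p.Prime] [CharP F p] {x y : ι → F}
    (hx : Q x = 0) (hy : Q y = 0) (hxy : ¬ ∃ t : F, x = t • y)
    {g : Cfsg.POmega F ⇑Q} (hg : g ∈ Qb C x ⊓ Qb C y) : ∃ t : F, g = prj (sg C x (t • y)) := by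
  obtain ⟨hg1, hg2⟩ := hg
  obtain ⟨v, hv, rfl⟩ := (mem_Qb_iff C hx g).1 hg1
  obtain ⟨v', hv', hvv'⟩ := (mem_Qb_iff C hy _).1 hg2
  have h1 := eq_of_prj_eq_of_pow C p (sg_pow_p C p hx hv) (sg_pow_p C p hy hv') hvv'
  obtain ⟨a, ha1, ha2⟩ := exists_pair_one_zero C hxy
  have h2 := congrArg (fun k => lo Q k a) h1
  simp only [sg_apply C hx hv, sg_apply C hy hv', ha1, ha2] at h2
  have h3 : v = (Bf a v - Q v) • x + (-Bf a v') • y := by
    have h4 : (Bf a v - Q v * 1) • x + (-(1 : F)) • v = (Bf a v' - Q v' * 0) • y + (-(0 : F)) • v' := by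
      rw [add_assoc, add_assoc] at h2
      exact add_left_cancel h2
    rw [mul_one, mul_zero, sub_zero, neg_zero, zero_smul, add_zero, neg_smul, one_smul] at h4
    rw [neg_smul, ← h4]
    abel
  obtain ⟨r, hr⟩ : ∃ r : F, r = -Bf a v' := ⟨_, rfl⟩
  obtain ⟨s, hs⟩ : ∃ s : F, v = r • y + s • x := ⟨Bf a v - Q v, by rw [hr]; conv_lhs => rw [h3]; exact add_comm _ _⟩
  refine ⟨r, ?_⟩
  have h7 : Bf x (r • y) = 0 := by
    have h5 := hv
    rw [hs, map_add, map_smul, map_smul, polar_self0 hx, smul_zero, add_zero] at h5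
    rw [map_smul]
    exact h5
  rw [hs, sg_add_smul C s hx h7]

end Cfsg.Agent.Lib.Helper07.OG
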