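import Cfsg.Agent.Lib.Helper07.OrthI

set_option autoImplicit false
set_option linter.unusedSimpArgs false
set_option linter.unusedVariables false
set_option linter.unusedSectionVars false

/-! Orthogonal groups: perpendicularity of singular points read off the groups `Qb x`;
automorphisms permute the groups `Qb x`; normalisation of an automorphism by Witt's lemma. -/

namespace Cfsg.Agent.Lib.Helper07.OG

open Module Matrix Cfsg.Agent.Lib.Helper43 Cfsg.Agent.Lib.Helper07.UG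

variable {F : Type*} [Field F] [Fintype F] {ι : Type} [Fintype ι] [DecidableEq ι]
variable {Q : QuadraticForm F (ι → F)}

local notation "Bf" => QuadraticMap.polarBilin Q

theorem sg_of_not (C : OC Q) {u v : ι → F} (h : ¬ (Q u = 0 ∧ Bf u v = 0)) : sg C u v = 1 := by
  unfold sg
  rw [dif_neg h]

theorem inf_Qb_eq_bot (C : OC Q) (p : ℕ) [Fact p.Prime] [CharP F p] {x y : ι → F}
    (hx : Q x = 0) (hy : Q y = 0) (hxy : Bf x y ≠ 0) : Qb C x ⊓ Qb C y = ⊥ := by
  have hnot : ¬ ∃ t : F, x = t • y := by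
    rintro ⟨t, rfl⟩
    apply hxy
    rw [map_smul, LinearMap.smul_apply, polar_self0 hy, smul_zero]
  rw [Subgroup.eq_bot_iff_forall]
  intro g hg
  obtain ⟨t, rfl⟩ := mem_inf_Qb_perp C p hx hy hnot hg
  by_cases ht : t = 0
  · rw [ht, zero_smul, sg_zero C hx, map_one]
  · rw [sg_of_not C, map_one]
    rintro ⟨-, h⟩
    rw [map_smul, smul_eq_mul] at h
    rcases mul_eq_zero.1 h with h1 | h1
    · exact ht h1
    · exact hxy h1

theorem inf_Qb_ne_bot (C : OC Q) (p : ℕ) [Fact p.Prime] [CharP F p] {x y : ι → F}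
    (hx0 : x ≠ 0) (hx : Q x = 0) (hy : Q y = 0) (hxy : Bf x y = 0) (hnot : ¬ ∃ t : F, y = t • x) :
    Qb C x ⊓ Qb C y ≠ ⊥ := by
  intro h
  have h1 := prj_sg_mem_inf C hx hy hxy 1
  rw [h, Subgroup.mem_bot, one_smul] at h1
  exact prj_sg_ne_one C p hx0 hx hxy hnot h1

/-- the point is determined by the group `Qb`. -/
theorem Qb_eq_imp (C : OC Q) (p : ℕ) [Fact p.Prime] [CharP F p] {x y : ι → F} (hx0 : x ≠ 0)
    (hx : Q x = 0) (hy : Q y = 0) (h : Qb C x = Qb C y) : ∃ t : F, y = t • x := by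
  apply fixed_of_siegelGrp C hx0 hx
  intro v hv
  have h1 : prj (sg C x v) ∈ Qb C y := by rw [← h]; exact prj_sg_mem_Qb C hx hv
  obtain ⟨v', hv', h2⟩ := (mem_Qb_iff C hy _).1 h1
  have h3 := eq_of_prj_eq_of_pow C p (sg_pow_p C p hx hv) (sg_pow_p C p hy hv') h2
  rw [h3, sg_apply C hy hv', polar_self0 hy, hv']
  simp

theorem inf_Qb_eq_bot_iff (C : OC Q) (p : ℕ) [Fact p.Prime] [CharP F p] {x y : ι → F}
    (hx0 : x ≠ 0) (hx : Q x = 0) (hy0 : y ≠ 0) (hy : Q y = 0) :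
    Qb C x ⊓ Qb C y = ⊥ ↔ Bf x y ≠ 0 := by
  constructor
  · intro h hxy
    by_cases hnot : ∃ t : F, y = t • x
    · obtain ⟨t, rfl⟩ := hnot
      have ht : t ≠ 0 := by
        rintro rfl
        exact hy0 (zero_smul _ _)
      rw [Qb_smul C hx ht, inf_idem] at h
      exact Qb_ne_bot C p hx0 hx h
    · exact inf_Qb_ne_bot C p hx0 hx hy hxy hnot h
  · exact inf_Qb_eq_bot C p hx hy

/-- the hypothesis excluding the triality situation: no self-perpendicular totally singular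
subspace has an abelian `p`-core of the order of a Siegel group. -/
def GoodD (C : OC Q) (p : ℕ) : Prop :=
  ∀ (u₀ : ι → F), u₀ ≠ 0 → Q u₀ = 0 → ∀ (T : Submodule F (ι → F)) (hT : ∀ t ∈ T, Q t = 0),
    perpS Q T ≤ T → ∀ R : Subgroup (Cfsg.POmega F ⇑Q), IsPCore p ((subStab Q T).map prj) R →
      (∀ a ∈ R, ∀ b ∈ R, a * b = b * a) → Nat.card R ≠ Nat.card (Qb C u₀)

/-- **automorphisms of `PΩ` permute the groups `Qb u`.** -/
theorem aut_Qb (C : OC Q) (p : ℕ) [Fact p.Prime] [CharP F p] (hD : GoodD C p)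
    (α : MulAut (Cfsg.POmega F ⇑Q)) {u : ι → F} (hu0 : u ≠ 0) (hu : Q u = 0) :
    ∃ u' : ι → F, u' ≠ 0 ∧ Q u' = 0 ∧ (Qb C u).map α.toMonoidHom = Qb C u' :=
  rad_classify C p hu0 hu (hD u hu0 hu) ((isRad_Qb C p hu0 hu).map_equiv α)

theorem Qb_conj (C : OC Q) (g : ↥(Cfsg.Omega F ⇑Q)) {u : ι → F} (hu : Q u = 0) :
    (Qb C u).map (MulAut.conj (prj g)).toMonoidHom = Qb C (lo Q g u) := by
  apply le_antisymm
  · rintro _ ⟨x, hx, rfl⟩
    exact conj_mem_Qb C hu g hx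
  · intro y hy
    have hu' : Q (lo Q g u) = 0 := by rw [lo_isometry, hu]
    have h1 := conj_mem_Qb C hu' g⁻¹ hy
    rw [lo_inv_apply] at h1
    refine ⟨_, h1, ?_⟩
    show prj g * (prj g⁻¹ * y * (prj g⁻¹)⁻¹) * (prj g)⁻¹ = y
    rw [map_inv]
    group

/-- normalisation: up to an inner automorphism, an automorphism stabilises `Qb e` and `Qb f`
for a given hyperbolic pair. -/
theorem exists_normalize (C : OC Q) (p : ℕ) [Fact p.Prime] [CharP F p] (hD : GoodD C p)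
    (α : MulAut (Cfsg.POmega F ⇑Q)) {e f : ι → F} (he : Q e = 0) (hf : Q f = 0)
    (hef : Bf e f = 1) :
    ∃ g : ↥(Cfsg.Omega F ⇑Q),
      (Qb C e).map (MulAut.conj (prj g) * α).toMonoidHom = Qb C e ∧
      (Qb C f).map (MulAut.conj (prj g) * α).toMonoidHom = Qb C f := by
  have he0 : e ≠ 0 := by
    rintro rfl
    simp at hef
  have hf0 : f ≠ 0 := by
    rintro rfl
    simp at hef
  obtain ⟨e', he'0, he', hαe⟩ := aut_Qb C p hD α he0 he
  obtain ⟨f', hf'0, hf', hαf⟩ := aut_Qb C p hD α hf0 hf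
  have h1 : Qb C e ⊓ Qb C f = ⊥ := inf_Qb_eq_bot C p he hf (by rw [hef]; exact one_ne_zero)
  have h2 : Qb C e' ⊓ Qb C f' = ⊥ := by
    rw [← hαe, ← hαf, ← Subgroup.map_inf_eq _ _ _ α.injective, h1, Subgroup.map_bot]
  have h3 : Bf e' f' ≠ 0 := (inf_Qb_eq_bot_iff C p he'0 he' hf'0 hf').1 h2
  -- rescale `f'`
  set f'' := (Bf e' f')⁻¹ • f' with hf''
  have hf''Q : Q f'' = 0 := by rw [hf'', Q_smul, hf', mul_zero]
  have hef'' : Bf e' f'' = 1 := by rw [hf'', map_smul, smul_eq_mul, inv_mul_cancel₀ h3]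
  have hQbf'' : Qb C f'' = Qb C f' := Qb_smul C hf' (inv_ne_zero h3)
  obtain ⟨g, hg, hge, hgf⟩ := exists_Omega_pair Q C.hQ C.hn e' f'' e f
    (indep_of_polar_ne Q e' f'' he'0 he' (by rw [hef'']; exact one_ne_zero))
    (indep_of_polar_ne Q e f he0 he (by rw [hef]; exact one_ne_zero))
    (by rw [he', he]) (by rw [hf''Q, hf]) (by rw [hef'', hef])
  refine ⟨⟨g, hg⟩, ?_, ?_⟩
  · have : (Qb C e).map (MulAut.conj (prj ⟨g, hg⟩) * α).toMonoidHom =
        ((Qb C e).map α.toMonoidHom).map (MulAut.conj (prj ⟨g, hg⟩)).toMonoidHom := by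
      rw [Subgroup.map_map]
      rfl
    rw [this, hαe, Qb_conj C _ he']
    congr 1
  · have : (Qb C f).map (MulAut.conj (prj ⟨g, hg⟩) * α).toMonoidHom =
        ((Qb C f).map α.toMonoidHom).map (MulAut.conj (prj ⟨g, hg⟩)).toMonoidHom := by
      rw [Subgroup.map_map]
      rfl
    rw [this, hαf, ← hQbf'', Qb_conj C _ hf''Q]
    congr 1

end Cfsg.Agent.Lib.Helper07.OG
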