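import Cfsg.Agent.Lib.Helper43.OmegaSimple1

set_option autoImplicit false
set_option linter.unusedSimpArgs false
set_option linter.unusedVariables false
set_option linter.unusedSectionVars false

/-! Pure linear algebra: an additive injective map of a quadratic space preserving singular
lines is semilinear (given enough singular vectors). -/

namespace Cfsg.Agent.Lib.Helper07.OG

open Module Cfsg.Agent.Lib.Helper43

variable {F : Type*} [Field F] [Finite F] {V : Type*} [AddCommGroup V] [Module F V]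
variable {Q : QuadraticForm F V}

local notation "Bf" => QuadraticMap.polarBilin Q

/-- an additive map preserving the subspace `W`, injective on it, mapping singular lines to
singular lines. -/
structure SemiData (Q : QuadraticForm F V) (W : Submodule F V) (φ : V → V) : Prop where
  add : ∀ x ∈ W, ∀ y ∈ W, φ (x + y) = φ x + φ y
  mem : ∀ x ∈ W, φ x ∈ W
  inj : ∀ x ∈ W, φ x = 0 → x = 0
  sing : ∀ w ∈ W, Q w = 0 → Q (φ w) = 0
  line : ∀ w ∈ W, Q w = 0 → ∀ t : F, ∃ s : F, φ (t • w) = s • φ w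

variable (Q) in
/-- the geometric hypotheses on `W`. -/
structure GeoW (W : Submodule F V) : Prop where
  connect : ∀ w₁ ∈ W, ∀ w₂ ∈ W, w₁ ≠ 0 → w₂ ≠ 0 → Q w₁ = 0 → Q w₂ = 0 →
    ∃ z ∈ W, Q z = 0 ∧ Bf w₁ z = 0 ∧ Bf w₂ z = 0 ∧ (¬ ∃ t : F, z = t • w₁) ∧ ¬ ∃ t : F, z = t • w₂
  span : W ≤ Submodule.span F {w | w ∈ W ∧ Q w = 0}
  nondeg : ∀ a ∈ W, a ≠ 0 → Q a = 0 → ∃ y ∈ W, Q y = 0 ∧ Bf a y ≠ 0
  spanPerp : ∀ a ∈ W, a ≠ 0 → Q a = 0 →
    W ⊓ LinearMap.ker (Bf a) ≤ Submodule.span F {w | w ∈ W ∧ Bf a w = 0 ∧ Q w = 0}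

namespace SemiData

variable {W : Submodule F V} {φ : V → V}

theorem map_zero (D : SemiData Q W φ) : φ 0 = 0 := by
  have h := D.add 0 W.zero_mem 0 W.zero_mem
  rw [add_zero] at h
  exact left_eq_add.1 h

theorem ne_zero (D : SemiData Q W φ) {w : V} (hw : w ∈ W) (hw0 : w ≠ 0) : φ w ≠ 0 :=
  fun h => hw0 (D.inj w hw h)

theorem inj' (D : SemiData Q W φ) {x y : V} (hx : x ∈ W) (hy : y ∈ W) (h : φ x = φ y) : x = y := by
  have h1 := D.add (x - y) (W.sub_mem hx hy) y hy
  rw [sub_add_cancel, h] at h1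
  have h2 : φ (x - y) = 0 := by
    have := h1
    exact (right_eq_add.1 this)
  exact sub_eq_zero.1 (D.inj _ (W.sub_mem hx hy) h2)

/-- the multiplier relation along the line of a singular vector. -/
def Mul (φ : V → V) (w : V) (t s : F) : Prop := φ (t • w) = s • φ w

theorem mul_unique (D : SemiData Q W φ) {w : V} (hw : w ∈ W) (hw0 : w ≠ 0) {t s s' : F}
    (h : Mul φ w t s) (h' : Mul φ w t s') : s = s' := by
  unfold Mul at h h'
  rw [h] at h'
  have h1 : (s - s') • φ w = 0 := by rw [sub_smul, h', sub_self]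
  rcases smul_eq_zero.1 h1 with h2 | h2
  · exact sub_eq_zero.1 h2
  · exact absurd h2 (D.ne_zero hw hw0)

/-- every scalar is a multiplier value: the multiplier map of a singular vector is onto. -/
theorem mul_surj (D : SemiData Q W φ) {w : V} (hw : w ∈ W) (hw0 : w ≠ 0) (hQ : Q w = 0) (s : F) :
    ∃ t : F, Mul φ w t s := by
  classical
  choose f hf using D.line w hw hQ
  have hinj : Function.Injective f := by
    intro t t' htt'
    have h1 : φ (t • w) = φ (t' • w) := by rw [hf t, hf t', htt']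
    have h2 := D.inj' (W.smul_mem t hw) (W.smul_mem t' hw) h1
    have h3 : (t - t') • w = 0 := by rw [sub_smul, h2, sub_self]
    rcases smul_eq_zero.1 h3 with h4 | h4
    · exact sub_eq_zero.1 h4
    · exact absurd h4 hw0
  obtain ⟨t, ht⟩ := (Finite.injective_iff_surjective.1 hinj) s
  exact ⟨t, by unfold Mul; rw [hf t, ht]⟩

/-- images of independent singular vectors are independent. -/
theorem indep_image (D : SemiData Q W φ) {w w' : V} (hw : w ∈ W) (hw' : w' ∈ W) (hw0 : w ≠ 0)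
    (hQ : Q w = 0) (hnot : ¬ ∃ t : F, w' = t • w) {a b : F} (h : a • φ w + b • φ w' = 0) :
    a = 0 ∧ b = 0 := by
  by_cases hb : b = 0
  · rw [hb, zero_smul, add_zero] at h
    rcases smul_eq_zero.1 h with h1 | h1
    · exact ⟨h1, hb⟩
    · exact absurd h1 (D.ne_zero hw hw0)
  · exfalso
    have h1 : φ w' = (-a / b) • φ w := by
      have h2 : b • φ w' = (-a) • φ w := by
        rw [neg_smul]
        exact eq_neg_of_add_eq_zero_right h
      rw [div_eq_inv_mul, ← smul_smul, ← h2, smul_smul, inv_mul_cancel₀ hb, one_smul]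
    obtain ⟨t, ht⟩ := D.mul_surj hw hw0 hQ (-a / b)
    unfold Mul at ht
    rw [← ht] at h1
    exact hnot ⟨t, D.inj' hw' (W.smul_mem t hw) h1⟩

/-- perpendicular independent singular vectors have the same multipliers. -/
theorem mul_perp (D : SemiData Q W φ) {w w' : V} (hw : w ∈ W) (hw' : w' ∈ W) (hw0 : w ≠ 0)
    (hQ : Q w = 0) (hQ' : Q w' = 0) (hperp : Bf w w' = 0) (hnot : ¬ ∃ t : F, w' = t • w)
    {t s : F} (h : Mul φ w t s) : Mul φ w' t s := by
  have hw'0 : w' ≠ 0 := by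
    rintro rfl
    exact hnot ⟨0, (zero_smul _ _).symm⟩
  have hsum : w + w' ∈ W := W.add_mem hw hw'
  have hQs : Q (w + w') = 0 := by rw [Q_add, hQ, hQ', hperp]; simp
  obtain ⟨s', hs'⟩ := D.line w' hw' hQ' t
  obtain ⟨s'', hs''⟩ := D.line (w + w') hsum hQs t
  unfold Mul at h ⊢
  rw [smul_add, D.add _ (W.smul_mem t hw) _ (W.smul_mem t hw'), D.add w hw w' hw', h, hs',
    smul_add] at hs''
  have h1 : (s - s'') • φ w + (s' - s'') • φ w' = 0 := by
    rw [sub_smul, sub_smul]
    have : s • φ w + s' • φ w' - (s'' • φ w + s'' • φ w') = 0 := sub_eq_zero.2 hs''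
    rw [← this]
    abel
  obtain ⟨h2, h3⟩ := D.indep_image hw hw' hw0 hQ hnot h1
  rw [hs']
  congr 1
  rw [sub_eq_zero] at h2 h3
  rw [h3, ← h2]

/-- all singular vectors of `W` have the same multipliers. -/
theorem mul_all (D : SemiData Q W φ) (G : GeoW Q W) {w w' : V} (hw : w ∈ W) (hw' : w' ∈ W)
    (hw0 : w ≠ 0) (hw'0 : w' ≠ 0) (hQ : Q w = 0) (hQ' : Q w' = 0) {t s : F} (h : Mul φ w t s) :
    Mul φ w' t s := by
  obtain ⟨z, hz, hQz, h1, h2, h3, h4⟩ := G.connect w hw w' hw' hw0 hw'0 hQ hQ'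
  have hz0 : z ≠ 0 := by
    rintro rfl
    exact h3 ⟨0, (zero_smul _ _).symm⟩
  have h5 := D.mul_perp hw hz hw0 hQ hQz h1 h3 h
  have h6 : ¬ ∃ t : F, w' = t • z := by
    rintro ⟨c, hc⟩
    have hc0 : c ≠ 0 := by
      rintro rfl
      rw [zero_smul] at hc
      exact hw'0 hc
    apply h4
    refine ⟨c⁻¹, ?_⟩
    rw [hc, smul_smul, inv_mul_cancel₀ hc0, one_smul]
  exact D.mul_perp hz hw' hz0 hQz hQ' (by rw [polar_symm]; exact h2) h6 h5

/-- **semilinearity.** -/
theorem exists_semilinear (D : SemiData Q W φ) (G : GeoW Q W) {w₀ : V} (hw₀ : w₀ ∈ W)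
    (hw₀0 : w₀ ≠ 0) (hQ₀ : Q w₀ = 0) :
    ∃ lam : F ≃+* F, ∀ t : F, ∀ x ∈ W, φ (t • x) = lam t • φ x := by
  classical
  choose f hf using D.line w₀ hw₀ hQ₀
  have hfM : ∀ t, Mul φ w₀ t (f t) := hf
  -- the multiplier of any singular vector is `f`
  have hall : ∀ w ∈ W, Q w = 0 → ∀ t, φ (t • w) = f t • φ w := by
    intro w hw hQw t
    by_cases hw0 : w = 0
    · rw [hw0, smul_zero, D.map_zero, smul_zero]
    · exact D.mul_all G hw₀ hw hw₀0 hw0 hQ₀ hQw (hfM t)
  have hf1 : f 1 = 1 := by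
    have h1 := hf 1
    rw [one_smul] at h1
    have h2 : (1 - f 1) • φ w₀ = 0 := by rw [sub_smul, one_smul, ← h1, sub_self]
    rcases smul_eq_zero.1 h2 with h3 | h3
    · exact (sub_eq_zero.1 h3).symm
    · exact absurd h3 (D.ne_zero hw₀ hw₀0)
  have hfadd : ∀ a b, f (a + b) = f a + f b := by
    intro a b
    have h1 := hf (a + b)
    rw [add_smul, D.add _ (W.smul_mem a hw₀) _ (W.smul_mem b hw₀), hf a, hf b, ← add_smul] at h1
    have h2 : (f a + f b - f (a + b)) • φ w₀ = 0 := by rw [sub_smul, h1, sub_self]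
    rcases smul_eq_zero.1 h2 with h3 | h3
    · exact (sub_eq_zero.1 h3).symm
    · exact absurd h3 (D.ne_zero hw₀ hw₀0)
  have hfmul : ∀ a b, f (a * b) = f a * f b := by
    intro a b
    have h1 := hf (a * b)
    rw [mul_smul, hall (b • w₀) (W.smul_mem b hw₀) (by rw [Q_smul, hQ₀, mul_zero]) a, hf b,
      smul_smul] at h1
    have h2 : (f a * f b - f (a * b)) • φ w₀ = 0 := by rw [sub_smul, h1, sub_self]
    rcases smul_eq_zero.1 h2 with h3 | h3
    · exact (sub_eq_zero.1 h3).symm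
    · exact absurd h3 (D.ne_zero hw₀ hw₀0)
  have hf0 : f 0 = 0 := by
    have := hfadd 0 0
    rw [add_zero] at this
    exact left_eq_add.1 this
  let fr : F →+* F :=
    { toFun := f
      map_one' := hf1
      map_mul' := hfmul
      map_zero' := hf0
      map_add' := hfadd }
  have hbij : Function.Bijective fr :=
    ⟨fr.injective, Finite.injective_iff_surjective.1 fr.injective⟩
  refine ⟨RingEquiv.ofBijective fr hbij, ?_⟩
  intro t x hx
  have hx' := G.span hx
  show φ (t • x) = f t • φ x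
  -- span induction
  have key : ∀ y ∈ Submodule.span F {w | w ∈ W ∧ Q w = 0}, y ∈ W ∧ ∀ t, φ (t • y) = f t • φ y := by
    intro y hy
    induction hy using Submodule.span_induction with
    | mem w hw => exact ⟨hw.1, hall w hw.1 hw.2⟩
    | zero => exact ⟨W.zero_mem, fun t => by rw [smul_zero, D.map_zero, smul_zero]⟩
    | add a b _ _ ha hb =>
      refine ⟨W.add_mem ha.1 hb.1, fun t => ?_⟩
      rw [smul_add, D.add _ (W.smul_mem t ha.1) _ (W.smul_mem t hb.1), ha.2, hb.2,
        D.add a ha.1 b hb.1, smul_add]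
    | smul c a _ ha =>
      refine ⟨W.smul_mem c ha.1, fun t => ?_⟩
      rw [smul_smul, ha.2, ha.2, hfmul, smul_smul]
  exact (key x hx').2 t

end SemiData

end Cfsg.Agent.Lib.Helper07.OG
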