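import Cfsg.Agent.Lib.Helper07.OrthKE
import Cfsg.Agent.Lib.Helper03.S2720U0
import Cfsg.Agent.Lib.Helper49.SpSemiIso
import Cfsg.Agent.Lib.Helper43.WittQuad

set_option autoImplicit false
set_option linter.unusedSectionVars false
set_option linter.unusedVariables false

/-! K-S2720-U: the unitary torus on a nondegenerate irreducible invariant subspace (geometry part,
on top of the pure finite-field count `torus_count`). -/

namespace Cfsg.Agent.Lib.Helper07.KE

open Polynomial Module Cfsg.Agent.Lib.Helper49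

section absolute

variable {F : Type*} [Field F] {V : Type*} [AddCommGroup V] [Module F V] [FiniteDimensional F V]

/-- the minimal polynomial of an irreducible operator is irreducible. -/
theorem minpoly_irreducible_of_irr [Nontrivial V] (σ : V →ₗ[F] V)
    (hirr : ∀ M : Submodule F V, (∀ x ∈ M, σ x ∈ M) → M = ⊥ ∨ M = ⊤) :
    Irreducible (minpoly F σ) := by
  have hint : IsIntegral F σ := Algebra.IsIntegral.isIntegral σ
  have hmonic := minpoly.monic hint
  have hnu : ¬ IsUnit (minpoly F σ) := minpoly.not_isUnit F σ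
  refine ⟨hnu, ?_⟩
  intro a b hab
  by_contra hcon
  push Not at hcon
  obtain ⟨ha, hb⟩ := hcon
  have ha0 : a ≠ 0 := by
    rintro rfl; rw [zero_mul] at hab; exact minpoly.ne_zero hint hab
  have hb0 : b ≠ 0 := by
    rintro rfl; rw [mul_zero] at hab; exact minpoly.ne_zero hint hab
  -- normalise: both `aeval σ a` and `aeval σ b` are nonzero
  have hane : aeval σ a ≠ 0 := by
    intro h0
    have hdvd := minpoly.dvd F σ h0
    rw [hab] at hdvd
    -- `a * b ∣ a` forces `b` unit
    have : b ∣ 1 := by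
      obtain ⟨c, hc⟩ := hdvd
      have h1 : a * 1 = a * (b * c) := by rw [mul_one, ← mul_assoc]; exact hc
      exact ⟨c, mul_left_cancel₀ ha0 h1⟩
    exact hb (isUnit_of_dvd_one this)
  have hbne : aeval σ b ≠ 0 := by
    intro h0
    have hdvd := minpoly.dvd F σ h0
    rw [hab] at hdvd
    have : a ∣ 1 := by
      obtain ⟨c, hc⟩ := hdvd
      have h1 : b * 1 = b * (a * c) := by rw [mul_one, ← mul_assoc, mul_comm b a]; exact hc
      exact ⟨c, mul_left_cancel₀ hb0 h1⟩
    exact ha (isUnit_of_dvd_one this)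
  have hprod : aeval σ a * aeval σ b = 0 := by
    rw [← map_mul, ← hab, minpoly.aeval]
  -- `ker (aeval σ a)` is invariant
  have hinv : ∀ x ∈ LinearMap.ker (aeval σ a), σ x ∈ LinearMap.ker (aeval σ a) := by
    intro x hx
    rw [LinearMap.mem_ker] at hx ⊢
    have hc : aeval σ a * σ = σ * aeval σ a := by
      have : Commute (aeval σ a) σ := by
        have h1 : Commute (aeval σ a) (aeval σ (X : F[X])) := by
          rw [Commute, SemiconjBy, ← map_mul, ← map_mul, mul_comm]
        rwa [aeval_X] at h1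
      exact this.eq
    have := congrArg (fun φ : Module.End F V => φ x) hc
    simp only [Module.End.mul_apply] at this
    rw [this, hx, map_zero]
  rcases hirr _ hinv with h | h
  · -- kernel trivial: `aeval σ b = 0`
    apply hbne
    apply LinearMap.ext
    intro v
    have : aeval σ b v ∈ LinearMap.ker (aeval σ a) := by
      rw [LinearMap.mem_ker]
      have := congrArg (fun φ : Module.End F V => φ v) hprod
      simpa using this
    rw [h, Submodule.mem_bot] at this
    rw [this]; rfl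
  · apply hane
    apply LinearMap.ext
    intro v
    have : v ∈ LinearMap.ker (aeval σ a) := by rw [h]; trivial
    rw [LinearMap.mem_ker] at this
    rw [this]; rfl

/-- `polar (σ' x) (σ' y) = polar x y`. -/
theorem formInv_inv (Q : QuadraticForm F V) (σ σ' : V →ₗ[F] V) (hσ : ∀ v, Q (σ v) = Q v)
    (hσ'σ : ∀ v, σ (σ' v) = v) : ∀ v, Q (σ' v) = Q v := by
  intro v
  rw [← hσ (σ' v), hσ'σ]

set_option maxHeartbeats 3200000 in
/-- the unitary torus of an irreducible nondegenerate quadratic space with a fixed-point-free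
isometry of odd order: absolute version. -/
theorem torus_data_abs [Fintype F] (h2 : (2 : F) ≠ 0) (Q : QuadraticForm F V)
    (hQ : (QuadraticMap.polarBilin Q).Nondegenerate) (σ σ' : V →ₗ[F] V)
    (hσ : ∀ v, Q (σ v) = Q v) (hσσ' : ∀ v, σ' (σ v) = v) (hσ'σ : ∀ v, σ (σ' v) = v)
    {r : ℕ} (hro : Odd r) (hσr : σ ^ r = 1) (hfix : ∀ v, σ v = v → v = 0) [Nontrivial V]
    (hirr : ∀ M : Submodule F V, (∀ x ∈ M, σ x ∈ M) → M = ⊥ ∨ M = ⊤) :
    ∃ (u : V →ₗ[F] V) (k : ℕ) (N : F → ℕ), (∀ v, Q (u v) = Q v) ∧ (∀ v, u (σ v) = σ (u v)) ∧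
      Even k ∧ 0 < k ∧ u ^ k = 1 ∧
      (∀ x, x ≠ 0 → ∀ j : ℕ, 0 < j → j < k → (u ^ j) x ≠ x) ∧
      (∀ b : F, Nat.card {x : V // x ≠ 0 ∧ Q x = b} = k * N b) ∧
      (∀ b : F, b ≠ 0 → Odd (N b)) ∧ Even (N 0) := by
  classical
  have hint : IsIntegral F σ := Algebra.IsIntegral.isIntegral σ
  obtain ⟨P, hPdef⟩ : ∃ P : F[X], P = minpoly F σ := ⟨_, rfl⟩
  have hPirr : Irreducible P := by rw [hPdef]; exact minpoly_irreducible_of_irr σ hirr
  have hP0 : P ≠ 0 := hPirr.ne_zero
  haveI : Fact (Irreducible P) := ⟨hPirr⟩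
  have hPσ : aeval σ P = 0 := by rw [hPdef]; exact minpoly.aeval F σ
  -- the field
  let K := AdjoinRoot P
  haveI : Module.Finite F K := (AdjoinRoot.powerBasis hP0).finite
  haveI : Finite K := Module.finite_of_finite F
  haveI : Fintype K := Fintype.ofFinite K
  let φ : K →ₐ[F] Module.End F V := liftA P σ hPσ
  have hφroot : φ (AdjoinRoot.root P) = σ := liftA_root P σ hPσ
  have hφinj : Function.Injective φ := φ.toRingHom.injective
  have hφmk : ∀ f : F[X], φ (AdjoinRoot.mk P f) = aeval σ f := fun f => liftA_mk P σ hPσ f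
  -- polar bilinear form
  set β := QuadraticMap.polarBilin Q with hβ
  have hI : FormInv β σ := fun u v => Cfsg.Agent.Lib.Helper43.polar_of_isometry Q σ hσ u v
  have hI' : FormInv β σ' := fun u v =>
    Cfsg.Agent.Lib.Helper43.polar_of_isometry Q σ' (formInv_inv Q σ σ' hσ hσ'σ) u v
  have hsymm : ∀ x y, β x y = β y x := Cfsg.Agent.Lib.Helper43.polar_symm Q
  -- `σ ^ (r - 1) = σ'`
  obtain ⟨t, rfl⟩ : ∃ t, r = t + 1 := ⟨r - 1, by have := hro.pos; omega⟩
  have hσt : σ ^ t = σ' := by
    apply LinearMap.ext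
    intro v
    have h1 : (σ ^ t) v = (σ ^ t) (σ (σ' v)) := by rw [hσ'σ]
    rw [h1, ← Module.End.mul_apply, ← pow_succ, hσr]
    rfl
  -- kernel lemma
  have hker : ∀ a : K, ∀ x : V, x ≠ 0 → φ a x = 0 → a = 0 := by
    intro a x hx hax
    have hinv : ∀ y ∈ LinearMap.ker (φ a), σ y ∈ LinearMap.ker (φ a) := by
      intro y hy
      rw [LinearMap.mem_ker] at hy ⊢
      have hc : φ a * σ = σ * φ a := by
        rw [← hφroot, ← map_mul, ← map_mul, mul_comm]
      have := congrArg (fun ψ : Module.End F V => ψ y) hc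
      simp only [Module.End.mul_apply] at this
      rw [this, hy, map_zero]
    rcases hirr _ hinv with h | h
    · exfalso
      apply hx
      have : x ∈ LinearMap.ker (φ a) := LinearMap.mem_ker.mpr hax
      rw [h, Submodule.mem_bot] at this
      exact this
    · apply hφinj
      rw [map_zero]
      apply LinearMap.ext
      intro v
      have : v ∈ LinearMap.ker (φ a) := by rw [h]; trivial
      exact LinearMap.mem_ker.mp this
  -- a vector with `Q w ≠ 0`
  obtain ⟨w, hw⟩ : ∃ w : V, Q w ≠ 0 := by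
    by_contra hcon
    push Not at hcon
    obtain ⟨v, hv⟩ := exists_ne (0 : V)
    apply hv
    apply hQ.1 v
    intro y
    show QuadraticMap.polarBilin Q v y = 0
    rw [QuadraticMap.polarBilin_apply_apply, QuadraticMap.polar, hcon, hcon, hcon]
    simp
  have hw0 : w ≠ 0 := by
    rintro rfl
    exact hw (QuadraticMap.map_zero Q)
  -- evaluation at `w`
  let ev : K →ₗ[F] V := (LinearMap.applyₗ w : Module.End F V →ₗ[F] V) ∘ₗ φ.toLinearMap
  have hev : ∀ a : K, ev a = φ a w := fun a => rfl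
  have hevinj : Function.Injective ev := by
    rw [← LinearMap.ker_eq_bot, LinearMap.ker_eq_bot']
    intro a ha
    exact hker a w hw0 ha
  have hevsurj : Function.Surjective ev := by
    rw [← LinearMap.range_eq_top]
    have hinv : ∀ y ∈ LinearMap.range ev, σ y ∈ LinearMap.range ev := by
      rintro _ ⟨a, rfl⟩
      refine ⟨AdjoinRoot.root P * a, ?_⟩
      rw [hev, hev, map_mul, hφroot, Module.End.mul_apply]
    rcases hirr _ hinv with h | h
    · exfalso
      have : ev 1 ∈ LinearMap.range ev := ⟨1, rfl⟩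
      rw [h, Submodule.mem_bot, hev, map_one, Module.End.one_apply] at this
      exact hw0 this
    · exact h
  -- `root ^ (t + 1) = 1`
  have hroot : (AdjoinRoot.root P) ^ (t + 1) = 1 := by
    apply hφinj
    rw [map_pow, hφroot, hσr, map_one]
  -- the involution
  have hPσ' : aeval σ' P = 0 := by
    apply LinearMap.ext
    intro x
    apply hQ.1 (aeval σ' P x)
    intro y
    rw [hI'.adj_aeval hσσ' P x y, hPσ]
    simp
  have hτ0 : aeval ((AdjoinRoot.root P) ^ t) P = 0 := by
    apply hφinj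
    rw [map_zero, ← Polynomial.aeval_algHom_apply, map_pow, hφroot, hσt, hPσ']
  let τ₀ : K →ₐ[F] K := liftA P ((AdjoinRoot.root P) ^ t) hτ0
  have hτ₀root : τ₀ (AdjoinRoot.root P) = (AdjoinRoot.root P) ^ t := liftA_root P _ hτ0
  have hτ₀mk : ∀ f : F[X], τ₀ (AdjoinRoot.mk P f) = aeval ((AdjoinRoot.root P) ^ t) f :=
    fun f => liftA_mk P _ hτ0 f
  have hτ₀τ₀ : τ₀.comp τ₀ = AlgHom.id F K := by
    apply AdjoinRoot.algHom_ext
    rw [AlgHom.comp_apply, hτ₀root, map_pow, hτ₀root, AlgHom.id_apply, ← pow_mul]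
    rcases Nat.eq_zero_or_pos t with h0 | hpos
    · subst h0
      simpa using hroot.symm
    · obtain ⟨s, rfl⟩ : ∃ s, t = s + 1 := ⟨t - 1, by omega⟩
      have : (s + 1) * (s + 1) = (s + 1 + 1) * s + 1 := by ring
      rw [this, pow_succ, pow_mul, hroot, one_pow, one_mul]
  let τ : K ≃ₐ[F] K := AlgEquiv.ofAlgHom τ₀ τ₀ hτ₀τ₀ hτ₀τ₀
  have hτapp : ∀ a, τ a = τ₀ a := fun a => rfl
  have hτ2 : ∀ a, τ (τ a) = a := by
    intro a
    have := congrArg (fun ψ : K →ₐ[F] K => ψ a) hτ₀τ₀
    show τ₀ (τ₀ a) = a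
    simpa using this
  -- `φ ∘ τ` is the adjoint
  have hφτ : ∀ a : K, ∀ x y : V, β (φ a x) y = β x (φ (τ a) y) := by
    intro a x y
    obtain ⟨f, rfl⟩ := AdjoinRoot.mk_surjective a
    rw [hτapp, hτ₀mk, hφmk, ← Polynomial.aeval_algHom_apply, map_pow, hφroot, hσt]
    exact hI.adj_aeval hσ'σ f x y
  -- `τ ≠ 1`
  have hτ1 : ∃ a, τ a ≠ a := by
    refine ⟨AdjoinRoot.root P, ?_⟩
    intro h
    rw [hτapp, hτ₀root] at h
    have h1 : σ' = σ := by
      have := congrArg φ h
      rw [map_pow, hφroot, hσt] at this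
      exact this
    obtain ⟨v, hv⟩ := exists_ne (0 : V)
    apply hv
    apply hfix
    -- `σ (σ v) = v`, hence `σ v = v` as the order is odd
    have hsq : ∀ v, σ (σ v) = v := by
      intro v
      have := hσ'σ v
      rw [h1] at this
      exact this
    have hpow : ∀ n : ℕ, ∀ v, (σ ^ (2 * n)) v = v := by
      intro n
      induction n with
      | zero => intro v; simp
      | succ n ih =>
        intro v
        have : 2 * (n + 1) = 2 * n + 1 + 1 := by ring
        rw [this, pow_succ, pow_succ, Module.End.mul_apply, Module.End.mul_apply, hsq, ih]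
    obtain ⟨n, hn⟩ := hro
    have h3 : (σ ^ (t + 1 + 1)) v = σ v := by
      rw [pow_succ, Module.End.mul_apply, hσr]
      rfl
    have h4 : t + 1 + 1 = 2 * (n + 1) := by omega
    rw [h4, hpow] at h3
    exact h3.symm
  -- the linear form
  let T : K →ₗ[F] F := ((2 : F)⁻¹) • ((β.flip w) ∘ₗ ev)
  have hTapp : ∀ n : K, T n = (2 : F)⁻¹ * β (φ n w) w := fun n => rfl
  have hQT : ∀ a : K, Q (φ a w) = T (a * τ a) := by
    intro a
    rw [hTapp, mul_comm a (τ a), map_mul, Module.End.mul_apply, hsymm, ← hφτ]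
    have : β (φ a w) (φ a w) = 2 * Q (φ a w) := by
      show QuadraticMap.polarBilin Q (φ a w) (φ a w) = _
      rw [QuadraticMap.polarBilin_apply_apply, QuadraticMap.polar_self]
      simp
    rw [this, ← mul_assoc, inv_mul_cancel₀ h2, one_mul]
  have hT : ∃ n : K, τ n = n ∧ T n ≠ 0 := by
    refine ⟨1, map_one τ, ?_⟩
    have := hQT 1
    rw [map_one, Module.End.one_apply, map_one, mul_one] at this
    rw [← this]
    exact hw
  have h2K : (2 : K) ≠ 0 := by
    intro h
    apply h2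
    have : algebraMap F K 2 = 0 := by rw [map_ofNat]; exact h
    exact (map_eq_zero (algebraMap F K)).mp this
  obtain ⟨Q₀, e, u, hcardK, he, hQ₀, huτ, hord, hcnt, hcnt0⟩ :=
    Cfsg.Agent.Lib.Helper03.S2720K.torus_count h2K τ hτ2 hτ1 T hT
  -- `Q (φ u x) = Q x`
  have hQu : ∀ x, Q (φ (u : K) x) = Q x := by
    intro x
    obtain ⟨a, rfl⟩ := hevsurj x
    rw [hev, ← Module.End.mul_apply, ← map_mul, hQT, hQT]
    congr 1
    rw [map_mul]
    calc (u : K) * a * (τ (u : K) * τ a) = ((u : K) * τ (u : K)) * (a * τ a) := by ring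
      _ = a * τ a := by rw [huτ, one_mul]
  have hq_odd : Odd (Fintype.card F) := by
    have h1 : ringChar F ≠ 2 := by
      intro h
      apply h2
      have := CharP.cast_eq_zero F (ringChar F)
      rw [h] at this
      exact_mod_cast this
    exact Nat.odd_iff.mpr (FiniteField.odd_card_of_char_ne_two h1)
  have hQ₀odd : Odd Q₀ := by rw [hQ₀]; exact hq_odd.pow
  have hdiv : Q₀ / Fintype.card F = Fintype.card F ^ (e - 1) := by
    obtain ⟨e', rfl⟩ : ∃ e', e = e' + 1 := ⟨e - 1, by omega⟩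
    rw [hQ₀, pow_succ, Nat.mul_div_cancel _ Fintype.card_pos]
    simp
  refine ⟨φ (u : K), Q₀ + 1, fun b => if b = 0 then Q₀ / Fintype.card F - 1
    else Q₀ / Fintype.card F, hQu, ?_, ?_, Nat.succ_pos _, ?_, ?_, ?_, ?_, ?_⟩
  · intro v
    rw [← hφroot, ← Module.End.mul_apply, ← Module.End.mul_apply, ← map_mul, ← map_mul, mul_comm]
  · exact hQ₀odd.add_one
  · rw [← map_pow, ← hord]
    have : ((u : K)) ^ orderOf u = 1 := by
      rw [← Units.val_pow_eq_pow_val, pow_orderOf_eq_one, Units.val_one]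
    rw [this, map_one]
  · intro x hx j hj hjk hfixx
    have h1 : φ ((u : K) ^ j - 1) x = 0 := by
      rw [map_sub, map_pow, map_one, LinearMap.sub_apply, hfixx, Module.End.one_apply, sub_self]
    have h3 := hker _ x hx h1
    have h4 : u ^ j = 1 := by
      apply Units.ext
      rw [Units.val_pow_eq_pow_val, Units.val_one]
      exact sub_eq_zero.mp h3
    have h5 := orderOf_dvd_of_pow_eq_one h4
    rw [hord] at h5
    exact absurd (Nat.le_of_dvd hj h5) (by omega)
  · intro b
    have hequiv : {x : V // x ≠ 0 ∧ Q x = b} ≃ {a : K // a ≠ 0 ∧ T (a * τ a) = b} := by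
      let evE : K ≃ V := Equiv.ofBijective ev ⟨hevinj, hevsurj⟩
      refine (Equiv.subtypeEquiv evE ?_).symm
      intro a
      show (a ≠ 0 ∧ T (a * τ a) = b) ↔ (ev a ≠ 0 ∧ Q (ev a) = b)
      rw [hev, hQT]
      constructor
      · rintro ⟨ha, hb⟩
        refine ⟨fun h => ha (hker a w hw0 h), hb⟩
      · rintro ⟨ha, hb⟩
        refine ⟨fun h => ha (by rw [h, map_zero]; rfl), hb⟩
    rw [Nat.card_congr hequiv]
    dsimp only
    by_cases hb : b = 0
    · subst hb
      rw [if_pos rfl]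
      exact hcnt0
    · rw [if_neg hb]
      exact hcnt b hb
  · intro b hb
    dsimp only
    rw [if_neg hb, hdiv]
    exact hq_odd.pow
  · dsimp only
    rw [if_pos rfl, hdiv]
    have : Odd (Fintype.card F ^ (e - 1)) := hq_odd.pow
    exact Nat.Odd.sub_odd this odd_one

end absolute

section relative

variable {F : Type*} [Field F] [Fintype F] {V : Type*} [AddCommGroup V] [Module F V]
  [FiniteDimensional F V]

set_option maxHeartbeats 3200000 in
/-- **K-S2720-U**: the unitary torus on a nondegenerate irreducible invariant subspace. -/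
theorem freeData_of_nondeg (h2 : (2 : F) ≠ 0) (Q : QuadraticForm F V)
    (hQ : (QuadraticMap.polarBilin Q).Nondegenerate) (σ σ' : V →ₗ[F] V)
    (hσ : ∀ v, Q (σ v) = Q v) (hσσ' : ∀ v, σ' (σ v) = v) (hσ'σ : ∀ v, σ (σ' v) = v)
    {r : ℕ} (hro : Odd r) (hσr : σ ^ r = 1) (hfix : ∀ v, σ v = v → v = 0)
    (L : Submodule F V) (hσL : ∀ x ∈ L, σ x ∈ L) (hL0 : L ≠ ⊥)
    (hirr : ∀ M : Submodule F V, M ≤ L → (∀ x ∈ M, σ x ∈ M) → M = ⊥ ∨ M = L)
    (hLnd : ∀ x ∈ L, (∀ y ∈ L, QuadraticMap.polar (⇑Q) x y = 0) → x = 0) :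
    FreeData Q σ := by
  classical
  set β := QuadraticMap.polarBilin Q with hβ
  have hβapp : ∀ x y, β x y = QuadraticMap.polar (⇑Q) x y := fun x y => rfl
  have hsymm : ∀ x y, β x y = β y x := Cfsg.Agent.Lib.Helper43.polar_symm Q
  have hI : FormInv β σ := fun u v => Cfsg.Agent.Lib.Helper43.polar_of_isometry Q σ hσ u v
  -- `σ'` preserves `L`
  obtain ⟨t, rfl⟩ : ∃ t, r = t + 1 := ⟨r - 1, by have := hro.pos; omega⟩
  have hσt : σ ^ t = σ' := by
    apply LinearMap.ext
    intro v
    have h1 : (σ ^ t) v = (σ ^ t) (σ (σ' v)) := by rw [hσ'σ]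
    rw [h1, ← Module.End.mul_apply, ← pow_succ, hσr]
    rfl
  have hpowL : ∀ n : ℕ, ∀ x ∈ L, (σ ^ n) x ∈ L := by
    intro n
    induction n with
    | zero => intro x hx; simpa using hx
    | succ n ih =>
      intro x hx
      rw [pow_succ', Module.End.mul_apply]
      exact hσL _ (ih x hx)
  have hσ'L : ∀ x ∈ L, σ' x ∈ L := by
    intro x hx
    rw [← hσt]
    exact hpowL t x hx
  -- the restricted data
  let QL : QuadraticForm F ↥L := Q.comp L.subtype
  have hQLapp : ∀ x : ↥L, QL x = Q (x : V) := fun x => rfl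
  have hpolL : ∀ x y : ↥L, QuadraticMap.polarBilin QL x y = β (x : V) (y : V) := by
    intro x y
    rw [QuadraticMap.polarBilin_apply_apply, hβapp]
    unfold QuadraticMap.polar
    rw [hQLapp, hQLapp, hQLapp]
    rfl
  have hQL : (QuadraticMap.polarBilin QL).Nondegenerate := by
    apply LinearMap.BilinForm.Nondegenerate.ofSeparatingLeft
    intro x hx
    apply Subtype.ext
    apply hLnd x.1 x.2
    intro y hy
    have := hx ⟨y, hy⟩
    rw [hpolL] at this
    exact this
  let σL : ↥L →ₗ[F] ↥L := σ.restrict hσL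
  let σL' : ↥L →ₗ[F] ↥L := σ'.restrict hσ'L
  have hσLr : σL ^ (t + 1) = 1 := by
    show (σ.restrict hσL) ^ (t + 1) = 1
    rw [Module.End.pow_restrict (t + 1) hσL]
    apply LinearMap.ext
    intro v
    apply Subtype.ext
    rw [LinearMap.coe_restrict_apply, hσr]
    rfl
  haveI : Nontrivial ↥L := Submodule.nontrivial_iff_ne_bot.mpr hL0
  have hirrL : ∀ M : Submodule F ↥L, (∀ x ∈ M, σL x ∈ M) → M = ⊥ ∨ M = ⊤ := by
    intro M hM
    have h1 : M.map L.subtype ≤ L := by
      rintro _ ⟨x, -, rfl⟩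
      exact x.2
    have h3 : ∀ x ∈ M.map L.subtype, σ x ∈ M.map L.subtype := by
      rintro _ ⟨x, hx, rfl⟩
      exact ⟨σL x, hM x hx, rfl⟩
    rcases hirr _ h1 h3 with h | h
    · left
      rw [eq_bot_iff]
      intro x hx
      have : (x : V) ∈ M.map L.subtype := ⟨x, hx, rfl⟩
      rw [h, Submodule.mem_bot] at this
      rw [Submodule.mem_bot]
      exact Subtype.ext this
    · right
      rw [eq_top_iff]
      intro x _
      have : (x : V) ∈ M.map L.subtype := by rw [h]; exact x.2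
      obtain ⟨y, hy, hyx⟩ := this
      have : y = x := Subtype.ext hyx
      rw [← this]
      exact hy
  obtain ⟨u, k, N, huQ, huσ, hk, hk0, huk, hfree, hN, hodd, heven⟩ :=
    torus_data_abs h2 QL hQL σL σL' (fun v => hσ v) (fun v => Subtype.ext (hσσ' v))
      (fun v => Subtype.ext (hσ'σ v)) hro hσLr
      (fun v hv => Subtype.ext (hfix v (congrArg Subtype.val hv))) hirrL
  -- the orthogonal complement
  have hrefl : β.IsRefl := fun x y h => by rw [hsymm]; exact h
  have hrestr : (LinearMap.BilinForm.restrict β L).Nondegenerate := by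
    apply LinearMap.BilinForm.Nondegenerate.ofSeparatingLeft
    intro x hx
    apply Subtype.ext
    apply hLnd x.1 x.2
    intro y hy
    exact hx ⟨y, hy⟩
  have hc : IsCompl L (LinearMap.BilinForm.orthogonal β L) :=
    LinearMap.BilinForm.isCompl_orthogonal_of_restrict_nondegenerate hrefl hrestr
  set W' := LinearMap.BilinForm.orthogonal β L with hW'
  have horth : ∀ x ∈ L, ∀ y ∈ W', QuadraticMap.polar (⇑Q) x y = 0 := by
    intro x hx y hy
    exact hy x hx
  have hσW' : ∀ y ∈ W', σ y ∈ W' := by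
    intro y hy x hx
    show β x (σ y) = 0
    have h1 : β x (σ y) = β (σ (σ' x)) (σ y) := by rw [hσ'σ]
    rw [h1, hI]
    exact hy _ (hσ'L x hx)
  let g : V →ₗ[F] V := LinearMap.ofIsCompl hc (L.subtype ∘ₗ u) W'.subtype
  have hgL : ∀ x : ↥L, g (x : V) = (u x : V) := fun x => LinearMap.ofIsCompl_apply_left hc x
  have hgW' : ∀ y ∈ W', g y = y := fun y hy => LinearMap.ofIsCompl_apply_right hc ⟨y, hy⟩
  have hdec : ∀ v : V, ∃ x : ↥L, ∃ y ∈ W', v = (x : V) + y := by
    intro v
    obtain ⟨x, y, hx, hy, rfl⟩ := Submodule.codisjoint_iff_exists_add_eq.mp hc.codisjoint v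
    exact ⟨⟨x, hx⟩, y, hy, rfl⟩
  have hQadd : ∀ (x : ↥L) (y : V), y ∈ W' → Q ((x : V) + y) = Q (x : V) + Q y := by
    intro x y hy
    have := QuadraticMap.map_add (⇑Q) (x : V) y
    rw [this, horth x.1 x.2 y hy, add_zero]
  have hgpowL : ∀ (j : ℕ) (x : ↥L), (g ^ j) (x : V) = ((u ^ j) x : V) := by
    intro j
    induction j with
    | zero => intro x; simp
    | succ j ih =>
      intro x
      rw [pow_succ, Module.End.mul_apply, hgL, ih, pow_succ, Module.End.mul_apply]
  refine ⟨g, L, W', k, N, ?_, ?_, hc, horth, ?_, hgW', hk, hk0, ?_, ?_, ?_, hodd, heven⟩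
  · intro v
    obtain ⟨x, y, hy, rfl⟩ := hdec v
    rw [map_add, hgL, hgW' y hy, hQadd _ y hy, hQadd x y hy]
    congr 1
    exact huQ x
  · intro v
    obtain ⟨x, y, hy, rfl⟩ := hdec v
    have h1 : σ (x : V) = ((σL x : ↥L) : V) := rfl
    have h3 : g (σ (x : V)) = σ ((u x : ↥L) : V) := by
      rw [h1, hgL, huσ]; rfl
    have h4 : g ((x : V) + y) = ((u x : ↥L) : V) + y := by
      rw [map_add, hgL, hgW' y hy]
    rw [h4, map_add, map_add, hgW' _ (hσW' y hy), h3, map_add]
  · intro x hx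
    rw [hgL ⟨x, hx⟩]
    exact (u ⟨x, hx⟩).2
  · intro x hx
    rw [hgpowL k ⟨x, hx⟩, huk]
    rfl
  · intro x hx hx0 j hj hjk hfx
    rw [hgpowL j ⟨x, hx⟩] at hfx
    refine hfree ⟨x, hx⟩ (fun h => hx0 (congrArg Subtype.val h)) j hj hjk (Subtype.ext hfx)
  · intro b
    rw [← hN b]
    apply Nat.card_congr
    refine ⟨fun x => ⟨⟨x.1, x.2.1⟩, fun h => x.2.2.1 (congrArg Subtype.val h), x.2.2.2⟩,
      fun x => ⟨x.1.1, x.1.2, fun h => x.2.1 (Subtype.ext h), x.2.2⟩, fun x => rfl, fun x => rfl⟩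

end relative

end Cfsg.Agent.Lib.Helper07.KE
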