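import Cfsg.Agent.Lib.Helper07.OrthK

set_option autoImplicit false
set_option linter.unusedSimpArgs false
set_option linter.unusedVariables false
set_option linter.unusedSectionVars false

/-! Pure linear algebra: a semilinear bijection of a quadratic space preserving singular vectors
is a semisimilarity. -/

namespace Cfsg.Agent.Lib.Helper07.OG

open Module Cfsg.Agent.Lib.Helper43

variable {F : Type*} [Field F] [Finite F] {V : Type*} [AddCommGroup V] [Module F V]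
variable {Q : QuadraticForm F V}

local notation "Bf" => QuadraticMap.polarBilin Q

namespace SemiData

variable {W : Submodule F V} {φ : V → V}

/-- vanishing of a semilinear functional on a span. -/
theorem semilin_vanish (lam : F ≃+* F) (ψ : V → F)
    (hadd : ∀ x ∈ W, ∀ y ∈ W, ψ (x + y) = ψ x + ψ y)
    (hsmul : ∀ t : F, ∀ x ∈ W, ψ (t • x) = lam t * ψ x) (S : Set V)
    (hS : ∀ s ∈ S, s ∈ W ∧ ψ s = 0) : ∀ x ∈ Submodule.span F S, x ∈ W ∧ ψ x = 0 := by
  intro x hx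
  induction hx using Submodule.span_induction with
  | mem s hs => exact hS s hs
  | zero =>
    refine ⟨W.zero_mem, ?_⟩
    have := hsmul 0 0 W.zero_mem
    rw [zero_smul, _root_.map_zero, zero_mul] at this
    exact this
  | add a b _ _ ha hb => exact ⟨W.add_mem ha.1 hb.1, by rw [hadd a ha.1 b hb.1, ha.2, hb.2, add_zero]⟩
  | smul c a _ ha => exact ⟨W.smul_mem c ha.1, by rw [hsmul c a ha.1, ha.2, mul_zero]⟩

theorem polar_perp (D : SemiData Q W φ) {a b : V} (ha : a ∈ W) (hb : b ∈ W) (hQa : Q a = 0)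
    (hQb : Q b = 0) (hab : Bf a b = 0) : Bf (φ a) (φ b) = 0 := by
  have h1 : Q (a + b) = 0 := by rw [Q_add, hQa, hQb, hab]; simp
  have h2 := D.sing (a + b) (W.add_mem ha hb) h1
  rw [D.add a ha b hb, Q_add, D.sing a ha hQa, D.sing b hb hQb, zero_add, zero_add] at h2
  exact h2

/-- the polar form is multiplied by a constant, against a fixed singular vector. -/
theorem polar_sing (D : SemiData Q W φ) (G : GeoW Q W) (lam : F ≃+* F)
    (hlam : ∀ t : F, ∀ x ∈ W, φ (t • x) = lam t • φ x) {a y : V} (ha : a ∈ W) (ha0 : a ≠ 0)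
    (hQa : Q a = 0) (hy : y ∈ W) (hay : Bf a y ≠ 0) (c : F)
    (hc : Bf (φ a) (φ y) = c * lam (Bf a y)) :
    ∀ x ∈ W, Bf (φ a) (φ x) = c * lam (Bf a x) := by
  set ψ : V → F := fun x => Bf (φ a) (φ x) - c * lam (Bf a x) with hψ
  have hadd : ∀ x ∈ W, ∀ y ∈ W, ψ (x + y) = ψ x + ψ y := by
    intro x hx z hz
    simp only [hψ]
    rw [D.add x hx z hz, map_add, map_add, map_add]
    ring
  have hsmul : ∀ t : F, ∀ x ∈ W, ψ (t • x) = lam t * ψ x := by
    intro t x hx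
    simp only [hψ]
    rw [hlam t x hx, map_smul, map_smul, smul_eq_mul, smul_eq_mul, map_mul]
    ring
  have h1 := semilin_vanish lam ψ hadd hsmul {w | w ∈ W ∧ Bf a w = 0 ∧ Q w = 0} (by
    rintro s ⟨hsW, has, hQs⟩
    refine ⟨hsW, ?_⟩
    simp only [hψ]
    rw [D.polar_perp ha hsW hQa hQs has, has, _root_.map_zero, mul_zero, sub_zero])
  have hψy : ψ y = 0 := by
    simp only [hψ]
    rw [hc, sub_self]
  intro x hx
  set r := Bf a x / Bf a y with hr
  have hx' : x - r • y ∈ W ⊓ LinearMap.ker (Bf a) := by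
    refine ⟨W.sub_mem hx (W.smul_mem r hy), ?_⟩
    show Bf a (x - r • y) = 0
    rw [map_sub, map_smul, smul_eq_mul, hr, div_mul_cancel₀ _ hay, sub_self]
  have h2 := (h1 _ (G.spanPerp a ha ha0 hQa hx')).2
  have h3 : ψ x = ψ (x - r • y) + ψ (r • y) := by
    rw [← hadd _ (W.sub_mem hx (W.smul_mem r hy)) _ (W.smul_mem r hy), sub_add_cancel]
  rw [h2, hsmul r y hy, hψy, mul_zero, add_zero] at h3
  simp only [hψ] at h3
  exact sub_eq_zero.1 h3

/-- **a semilinear bijection preserving singular vectors is a semisimilarity.** -/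
theorem exists_similarity (D : SemiData Q W φ) (G : GeoW Q W) (lam : F ≃+* F)
    (hlam : ∀ t : F, ∀ x ∈ W, φ (t • x) = lam t • φ x) (hsurj : ∀ y ∈ W, ∃ x ∈ W, φ x = y)
    {w₀ : V} (hw₀ : w₀ ∈ W) (hw₀0 : w₀ ≠ 0) (hQ₀ : Q w₀ = 0) :
    ∃ c : F, c ≠ 0 ∧ ∀ x ∈ W, Q (φ x) = c * lam (Q x) := by
  -- the constant attached to a singular vector
  have hex : ∀ a ∈ W, a ≠ 0 → Q a = 0 → ∃ c : F, ∀ x ∈ W, Bf (φ a) (φ x) = c * lam (Bf a x) := by
    intro a ha ha0 hQa
    obtain ⟨y, hy, hQy, hay⟩ := G.nondeg a ha ha0 hQa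
    have hl0 : lam (Bf a y) ≠ 0 := by
      intro h
      exact hay ((map_eq_zero lam).1 h)
    refine ⟨Bf (φ a) (φ y) / lam (Bf a y), ?_⟩
    exact D.polar_sing G lam hlam ha ha0 hQa hy hay _ (by rw [div_mul_cancel₀ _ hl0])
  obtain ⟨c, hc⟩ := hex w₀ hw₀ hw₀0 hQ₀
  -- non-perpendicular singular vectors have the same constant
  have hsame : ∀ a ∈ W, ∀ b ∈ W, Q a = 0 → Q b = 0 → Bf a b ≠ 0 → ∀ c₁ : F,
      (∀ x ∈ W, Bf (φ a) (φ x) = c₁ * lam (Bf a x)) →
      ∀ x ∈ W, Bf (φ b) (φ x) = c₁ * lam (Bf b x) := by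
    intro a ha b hb hQa hQb hab c₁ h1
    have hb0 : b ≠ 0 := by
      rintro rfl
      simp at hab
    obtain ⟨c₂, h2⟩ := hex b hb hb0 hQb
    have h3 := h1 b hb
    have h4 := h2 a ha
    rw [polar_symm, h3, polar_symm Q b a] at h4
    have hl0 : lam (Bf a b) ≠ 0 := by
      intro h
      exact hab ((map_eq_zero lam).1 h)
    have h5 : c₁ = c₂ := mul_right_cancel₀ hl0 h4
    rw [h5]
    exact h2
  -- all singular vectors have the constant `c`
  have hall : ∀ a ∈ W, Q a = 0 → ∀ x ∈ W, Bf (φ a) (φ x) = c * lam (Bf a x) := by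
    intro a ha hQa
    by_cases ha0 : a = 0
    · intro x hx
      rw [ha0, D.map_zero]
      simp
    by_cases hab : Bf w₀ a ≠ 0
    · exact hsame w₀ hw₀ a ha hQ₀ hQa hab c hc
    · push Not at hab
      obtain ⟨y₁, hy₁, hQy₁, h1⟩ := G.nondeg w₀ hw₀ hw₀0 hQ₀
      obtain ⟨y₂, hy₂, hQy₂, h2⟩ := G.nondeg a ha ha0 hQa
      have hc1 := hsame w₀ hw₀ y₁ hy₁ hQ₀ hQy₁ h1 c hc
      by_cases h3 : Bf y₁ a ≠ 0
      · exact hsame y₁ hy₁ a ha hQy₁ hQa h3 c hc1
      push Not at h3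
      by_cases h4 : Bf w₀ y₂ ≠ 0
      · have hc2 := hsame w₀ hw₀ y₂ hy₂ hQ₀ hQy₂ h4 c hc
        exact hsame y₂ hy₂ a ha hQy₂ hQa (by rw [polar_symm]; exact h2) c hc2
      push Not at h4
      by_cases h5 : Bf y₁ y₂ ≠ 0
      · have hc2 := hsame y₁ hy₁ y₂ hy₂ hQy₁ hQy₂ h5 c hc1
        exact hsame y₂ hy₂ a ha hQy₂ hQa (by rw [polar_symm]; exact h2) c hc2
      push Not at h5
      -- `y₁ + y₂` is singular and not perpendicular to `w₀` and `a`
      have hQs : Q (y₁ + y₂) = 0 := by rw [Q_add, hQy₁, hQy₂, h5]; simp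
      have hs := W.add_mem hy₁ hy₂
      have h6 : Bf w₀ (y₁ + y₂) ≠ 0 := by rw [map_add, h4, add_zero]; exact h1
      have h7 : Bf (y₁ + y₂) a ≠ 0 := by
        rw [map_add, LinearMap.add_apply, h3, zero_add, polar_symm]; exact h2
      have hc2 := hsame w₀ hw₀ _ hs hQ₀ hQs h6 c hc
      exact hsame _ hs a ha hQs hQa h7 c hc2
  -- the polar form everywhere
  have hpolar : ∀ x ∈ W, ∀ y ∈ W, Bf (φ x) (φ y) = c * lam (Bf x y) := by
    intro x hx y hy
    set ψ : V → F := fun z => Bf (φ z) (φ y) - c * lam (Bf z y) with hψ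
    have hadd : ∀ z ∈ W, ∀ z' ∈ W, ψ (z + z') = ψ z + ψ z' := by
      intro z hz z' hz'
      simp only [hψ]
      rw [D.add z hz z' hz', map_add, map_add, LinearMap.add_apply, LinearMap.add_apply, map_add]
      ring
    have hsmul : ∀ t : F, ∀ z ∈ W, ψ (t • z) = lam t * ψ z := by
      intro t z hz
      simp only [hψ]
      rw [hlam t z hz, map_smul, map_smul, LinearMap.smul_apply, LinearMap.smul_apply, smul_eq_mul,
        smul_eq_mul, map_mul]
      ring
    have h1 := semilin_vanish lam ψ hadd hsmul {w | w ∈ W ∧ Q w = 0} (by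
      rintro s ⟨hsW, hQs⟩
      refine ⟨hsW, ?_⟩
      simp only [hψ]
      rw [hall s hsW hQs y hy, sub_self])
    have h2 := (h1 x (G.span hx)).2
    simp only [hψ] at h2
    exact sub_eq_zero.1 h2
  -- the quadratic form
  have hquad : ∀ x ∈ Submodule.span F {w | w ∈ W ∧ Q w = 0}, x ∈ W ∧ Q (φ x) = c * lam (Q x) := by
    intro x hx
    induction hx using Submodule.span_induction with
    | mem s hs => exact ⟨hs.1, by rw [D.sing s hs.1 hs.2, hs.2, _root_.map_zero, mul_zero]⟩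
    | zero => exact ⟨W.zero_mem, by rw [D.map_zero, _root_.map_zero, _root_.map_zero, mul_zero]⟩
    | add a b _ _ ha hb =>
      refine ⟨W.add_mem ha.1 hb.1, ?_⟩
      rw [D.add a ha.1 b hb.1, Q_add, Q_add, ha.2, hb.2, hpolar a ha.1 b hb.1, map_add, map_add]
      ring
    | smul t a _ ha =>
      refine ⟨W.smul_mem t ha.1, ?_⟩
      rw [hlam t a ha.1, Q_smul, Q_smul, ha.2, map_mul, map_mul]
      ring
  refine ⟨c, ?_, fun x hx => (hquad x (G.span hx)).2⟩
  -- `c ≠ 0`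
  intro hc0
  obtain ⟨y, hy, hQy, hwy⟩ := G.nondeg w₀ hw₀ hw₀0 hQ₀
  have hφw : φ w₀ ∈ W := D.mem w₀ hw₀
  have hφw0 : φ w₀ ≠ 0 := D.ne_zero hw₀ hw₀0
  obtain ⟨y', hy', hQy', h1⟩ := G.nondeg (φ w₀) hφw hφw0 (D.sing w₀ hw₀ hQ₀)
  obtain ⟨x', hx', hxy'⟩ := hsurj y' hy'
  have h2 := hpolar w₀ hw₀ x' hx'
  rw [hxy', hc0, zero_mul] at h2
  exact h1 h2

end SemiData

end Cfsg.Agent.Lib.Helper07.OG
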