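import Cfsg.Agent.Lib.Helper07.OrthJ
import Cfsg.Agent.Lib.Helper07.OrthL
import Cfsg.Agent.Lib.Helper43.OmegaNondeg1

set_option autoImplicit false
set_option linter.unusedSimpArgs false
set_option linter.unusedVariables false
set_option linter.unusedSectionVars false

/-! Orthogonal groups: the geometry of `W = ⟨e, f⟩^⊥` for a hyperbolic pair `e, f`. -/

namespace Cfsg.Agent.Lib.Helper07.OG

open Module Matrix Cfsg.Agent.Lib.Helper43 Cfsg.Agent.Lib.Helper07.UG

variable {F : Type*} [Field F] [Fintype F] {ι : Type} [Fintype ι] [DecidableEq ι]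
variable {Q : QuadraticForm F (ι → F)}

local notation "Bf" => QuadraticMap.polarBilin Q

variable (Q) in
/-- the orthogonal complement of the pair `e, f`. -/
def Wsp (e f : ι → F) : Submodule F (ι → F) := LinearMap.ker (Bf e) ⊓ LinearMap.ker (Bf f)

theorem mem_Wsp {e f x : ι → F} : x ∈ Wsp Q e f ↔ Bf e x = 0 ∧ Bf f x = 0 := Iff.rfl

variable (Q) in
/-- the projection onto `Wsp e f` for a hyperbolic pair. -/
def pW (e f x : ι → F) : ι → F := x - Bf f x • e - Bf e x • f

theorem pW_mem {e f : ι → F} (he : Q e = 0) (hf : Q f = 0) (hef : Bf e f = 1) (x : ι → F) :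
    pW Q e f x ∈ Wsp Q e f := by
  have hfe : Bf f e = 1 := by rw [polar_symm]; exact hef
  constructor
  · show Bf e (pW Q e f x) = 0
    unfold pW
    rw [map_sub, map_sub, map_smul, map_smul, polar_self0 he, hef]
    simp
  · show Bf f (pW Q e f x) = 0
    unfold pW
    rw [map_sub, map_sub, map_smul, map_smul, polar_self0 hf, hfe]
    simp

theorem pW_of_mem {e f x : ι → F} (hx : x ∈ Wsp Q e f) : pW Q e f x = x := by
  unfold pW
  rw [hx.1, hx.2]
  simp

theorem polar_pW {e f s : ι → F} (hs : s ∈ Wsp Q e f) (x : ι → F) :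
    Bf s (pW Q e f x) = Bf s x := by
  have h1 : Bf s e = 0 := by rw [polar_symm]; exact hs.1
  have h2 : Bf s f = 0 := by rw [polar_symm]; exact hs.2
  unfold pW
  rw [map_sub, map_sub, map_smul, map_smul, h1, h2]
  simp

/-- singular vectors perpendicular to finitely many given vectors and outside a small
subspace. -/
theorem exists_singular_orth_fin (C : OC Q) {k : ℕ} (v : Fin k → ι → F)
    (U : Submodule F (ι → F)) (h : finrank F U + 3 + k ≤ Fintype.card ι) :
    ∃ s : ι → F, (∀ i, Bf (v i) s = 0) ∧ s ∉ U ∧ Q s = 0 := by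
  set Y : Submodule F (ι → F) := Submodule.span F (Set.range v) with hY
  have h1 : finrank F Y ≤ k := by
    have := finrank_range_le_card (R := F) v
    rw [Fintype.card_fin] at this
    exact this
  have h2 := finrank_orthC Q C.hQ Y
  obtain ⟨s, hs, hsU, hQs⟩ := exists_singular_mem_notMem Q (orthC Q Y) U (by omega)
  refine ⟨s, fun i => ?_, hsU, hQs⟩
  exact (mem_orthC Q Y s).1 hs (v i) (Submodule.subset_span ⟨i, rfl⟩)

theorem geoW (C : OC Q) {e f : ι → F} (he : Q e = 0) (hf : Q f = 0) (hef : Bf e f = 1) :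
    GeoW Q (Wsp Q e f) := by
  have hn' : 7 ≤ finrank F (ι → F) := by
    rw [Module.finrank_fintype_fun_eq_card]; exact C.hn
  have hn := C.hn
  -- non-degeneracy
  have hnondeg : ∀ a ∈ Wsp Q e f, a ≠ 0 → Q a = 0 → ∃ y ∈ Wsp Q e f, Q y = 0 ∧ Bf a y ≠ 0 := by
    intro a ha ha0 hQa
    obtain ⟨z, hz⟩ := exists_pair_one C ha0
    have hz' : Bf a (pW Q e f z) ≠ 0 := by
      rw [polar_pW ha, polar_symm, hz]; exact one_ne_zero
    obtain ⟨s', hs'W, hQs', hs'⟩ := exists_singular_functional_ne Q (Wsp Q e f) a (pW Q e f z) ha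
      (pW_mem he hf hef z) hQa hz' (Bf a) (pW Q e f z) (pW_mem he hf hef z) hz'
    exact ⟨s', hs'W, hQs', hs'⟩
  refine ⟨?_, ?_, hnondeg, ?_⟩
  · -- connectivity
    intro w₁ hw₁ w₂ hw₂ hw₁0 hw₂0 hQ₁ hQ₂
    by_cases hdep : ∃ t : F, w₂ = t • w₁
    · obtain ⟨t, rfl⟩ := hdep
      have hU : finrank F (Submodule.span F {w₁}) ≤ 1 := by
        have := finrank_span_singleton (K := F) hw₁0
        omega
      obtain ⟨s, hs, hsU, hQs⟩ := exists_singular_orth_fin C ![e, f, w₁] (Submodule.span F {w₁})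
        (by omega)
      have h1 : Bf e s = 0 := hs 0
      have h2 : Bf f s = 0 := hs 1
      have h3 : Bf w₁ s = 0 := hs 2
      refine ⟨s, ⟨h1, h2⟩, hQs, h3, by rw [map_smul, LinearMap.smul_apply, h3, smul_zero], ?_, ?_⟩
      · rintro ⟨c, rfl⟩
        exact hsU (Submodule.smul_mem _ _ (Submodule.mem_span_singleton_self w₁))
      · rintro ⟨c, rfl⟩
        apply hsU
        rw [smul_smul]
        exact Submodule.smul_mem _ _ (Submodule.mem_span_singleton_self w₁)
    · by_cases hperp : Bf w₁ w₂ = 0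
      · refine ⟨w₁ + w₂, (Wsp Q e f).add_mem hw₁ hw₂, by rw [Q_add, hQ₁, hQ₂, hperp]; simp,
          by rw [map_add, polar_self0 hQ₁, hperp, add_zero],
          by rw [map_add, polar_self0 hQ₂, polar_symm, hperp, add_zero], ?_, ?_⟩
        · rintro ⟨c, hc⟩
          apply hdep
          refine ⟨c - 1, ?_⟩
          rw [sub_smul, one_smul, ← hc]
          abel
        · rintro ⟨c, hc⟩
          have hc1 : c - 1 ≠ 0 := by
            intro h
            have : c = 1 := sub_eq_zero.1 h
            rw [this, one_smul] at hc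
            exact hw₁0 (by
              have := hc
              exact add_eq_right.1 this)
          apply hdep
          refine ⟨(c - 1)⁻¹, ?_⟩
          have h1 : w₁ = (c - 1) • w₂ := by
            rw [sub_smul, one_smul, ← hc]
            abel
          rw [h1, smul_smul, inv_mul_cancel₀ hc1, one_smul]
      · obtain ⟨s, hs, hsU, hQs⟩ := exists_singular_orth_fin C ![e, f, w₁, w₂] ⊥ (by
          rw [finrank_bot]; omega)
        have h1 : Bf e s = 0 := hs 0
        have h2 : Bf f s = 0 := hs 1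
        have h3 : Bf w₁ s = 0 := hs 2
        have h4 : Bf w₂ s = 0 := hs 3
        have hs0 : s ≠ 0 := by
          intro h
          apply hsU
          rw [h]
          exact Submodule.zero_mem _
        refine ⟨s, ⟨h1, h2⟩, hQs, h3, h4, ?_, ?_⟩
        · rintro ⟨c, rfl⟩
          rw [map_smul, smul_eq_mul] at h4
          rcases mul_eq_zero.1 h4 with h5 | h5
          · rw [h5, zero_smul] at hs0
            exact hs0 rfl
          · rw [polar_symm] at h5
            exact hperp h5
        · rintro ⟨c, rfl⟩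
          rw [map_smul, smul_eq_mul] at h3
          rcases mul_eq_zero.1 h3 with h5 | h5
          · rw [h5, zero_smul] at hs0
            exact hs0 rfl
          · exact hperp h5
  · -- spanning
    obtain ⟨s, x, hes, hfs, hex, hfx, hQs, hsx⟩ := exists_singular_pair_orth2 Q C.hQ hn' e f
    exact le_span_singular (Wsp Q e f) (show s ∈ Wsp Q e f from ⟨hes, hfs⟩)
      (show x ∈ Wsp Q e f from ⟨hex, hfx⟩) hQs hsx
  · -- spanning of `a^⊥ ∩ W`
    intro a ha ha0 hQa
    obtain ⟨y, hy, hQy, hay⟩ := hnondeg a ha ha0 hQa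
    obtain ⟨s, hs, hsU, hQs⟩ := exists_singular_orth_fin C ![e, f, a, y] ⊥ (by
      rw [finrank_bot]; omega)
    have h1 : Bf e s = 0 := hs 0
    have h2 : Bf f s = 0 := hs 1
    have h3 : Bf a s = 0 := hs 2
    have h4 : Bf y s = 0 := hs 3
    have hs0 : s ≠ 0 := by
      intro h
      apply hsU
      rw [h]
      exact Submodule.zero_mem _
    have hsW : s ∈ Wsp Q e f := ⟨h1, h2⟩
    obtain ⟨z, hz⟩ := exists_pair_one C hs0
    set z₀ := pW Q e f z with hz₀
    have hz₀W : z₀ ∈ Wsp Q e f := pW_mem he hf hef z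
    set x := z₀ - (Bf a z₀ / Bf a y) • y with hx
    have hxW : x ∈ Wsp Q e f := (Wsp Q e f).sub_mem hz₀W ((Wsp Q e f).smul_mem _ hy)
    have hax : Bf a x = 0 := by
      rw [hx, map_sub, map_smul, smul_eq_mul, div_mul_cancel₀ _ hay, sub_self]
    have hsx : Bf s x ≠ 0 := by
      have hsy : Bf s y = 0 := by rw [polar_symm]; exact h4
      rw [hx, map_sub, map_smul, hsy, smul_zero, sub_zero, hz₀, polar_pW hsW, polar_symm, hz]
      exact one_ne_zero
    have h5 := le_span_singular (Wsp Q e f ⊓ LinearMap.ker (Bf a))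
      (show s ∈ Wsp Q e f ⊓ LinearMap.ker (Bf a) from ⟨hsW, h3⟩)
      (show x ∈ Wsp Q e f ⊓ LinearMap.ker (Bf a) from ⟨hxW, hax⟩) hQs hsx
    refine h5.trans (Submodule.span_mono ?_)
    rintro w ⟨⟨hwW, hwa⟩, hQw⟩
    exact ⟨hwW, hwa, hQw⟩

end Cfsg.Agent.Lib.Helper07.OG
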