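import Cfsg.Agent.Lib.Helper07.OrthM

set_option autoImplicit false
set_option linter.unusedSimpArgs false
set_option linter.unusedVariables false
set_option linter.unusedSectionVars false

/-! Orthogonal groups: the additive map `phi` induced on `W = ⟨e, f⟩^⊥` by a normalised
automorphism of `PΩ`; it is a semilinear similarity. -/

namespace Cfsg.Agent.Lib.Helper07.OG

open Module Matrix Cfsg.Agent.Lib.Helper43 Cfsg.Agent.Lib.Helper07.UG

variable {F : Type*} [Field F] [Fintype F] {ι : Type} [Fintype ι] [DecidableEq ι]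
variable {Q : QuadraticForm F (ι → F)}

local notation "Bf" => QuadraticMap.polarBilin Q

/-- a normalised automorphism: it stabilises `Qb e` and `Qb f` for a hyperbolic pair. -/
structure Std (C : OC Q) (α : MulAut (Cfsg.POmega F ⇑Q)) (e f : ι → F) : Prop where
  he : Q e = 0
  hf : Q f = 0
  hef : Bf e f = 1
  hαe : (Qb C e).map α.toMonoidHom = Qb C e
  hαf : (Qb C f).map α.toMonoidHom = Qb C f

namespace Std

variable {C : OC Q} {α : MulAut (Cfsg.POmega F ⇑Q)} {e f : ι → F}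

theorem hfe (S : Std C α e f) : Bf f e = 1 := by rw [polar_symm]; exact S.hef

theorem he0 (S : Std C α e f) : e ≠ 0 := by
  rintro rfl
  have := S.hef
  simp at this

theorem hf0 (S : Std C α e f) : f ≠ 0 := by
  rintro rfl
  have := S.hef
  simp at this

theorem prj_sg_mem (S : Std C α e f) (x : ι → F) : prj (sg C e x) ∈ Qb C e := by
  by_cases h : Bf e x = 0
  · exact prj_sg_mem_Qb C S.he h
  · rw [sg_of_not C (fun h' => h h'.2), map_one]
    exact Subgroup.one_mem _

/-- normalising a vector of `e^⊥` into `W` without changing the Siegel element. -/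
theorem sg_norm (S : Std C α e f) {v : ι → F} (hv : Bf e v = 0) :
    v - Bf f v • e ∈ Wsp Q e f ∧ sg C e (v - Bf f v • e) = sg C e v := by
  refine ⟨⟨?_, ?_⟩, ?_⟩
  · show Bf e (v - Bf f v • e) = 0
    rw [map_sub, map_smul, hv, polar_self0 S.he]
    simp
  · show Bf f (v - Bf f v • e) = 0
    rw [map_sub, map_smul, S.hfe]
    simp
  · rw [sub_eq_add_neg, ← neg_smul]
    exact sg_add_smul C _ S.he hv

theorem exists_phi (S : Std C α e f) (x : ι → F) :
    ∃ w ∈ Wsp Q e f, α (prj (sg C e x)) = prj (sg C e w) := by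
  have h1 : α (prj (sg C e x)) ∈ Qb C e := by
    rw [← S.hαe]
    exact ⟨_, S.prj_sg_mem x, rfl⟩
  obtain ⟨v, hv, h2⟩ := (mem_Qb_iff C S.he _).1 h1
  obtain ⟨h3, h4⟩ := S.sg_norm hv
  exact ⟨_, h3, by rw [h4]; exact h2⟩

/-- the map induced on `W`. -/
noncomputable def phi (S : Std C α e f) (x : ι → F) : ι → F := Classical.choose (S.exists_phi x)

theorem phi_mem (S : Std C α e f) (x : ι → F) : S.phi x ∈ Wsp Q e f :=
  (Classical.choose_spec (S.exists_phi x)).1

theorem phi_spec (S : Std C α e f) (x : ι → F) : α (prj (sg C e x)) = prj (sg C e (S.phi x)) :=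
  (Classical.choose_spec (S.exists_phi x)).2

theorem eq_of_prj_sg_eq (S : Std C α e f) (p : ℕ) [Fact p.Prime] [CharP F p] {w w' : ι → F}
    (hw : w ∈ Wsp Q e f) (hw' : w' ∈ Wsp Q e f) (h : prj (sg C e w) = prj (sg C e w')) :
    w = w' := by
  have h1 := sg_eq_of_prj_eq C p S.he hw.1 hw'.1 h
  obtain ⟨t, ht⟩ := (sg_eq_iff C S.he0 S.he hw.1 hw'.1).1 h1
  have hw2 : Bf f w = 0 := hw.2
  have hw'2 : Bf f w' = 0 := hw'.2
  have h2 : Bf f (w - w') = Bf f (t • e) := by rw [ht]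
  rw [map_sub, map_smul, hw2, hw'2, S.hfe, smul_eq_mul, mul_one, sub_zero] at h2
  rw [← h2, zero_smul] at ht
  exact sub_eq_zero.1 ht

theorem phi_unique (S : Std C α e f) (p : ℕ) [Fact p.Prime] [CharP F p] {x w : ι → F}
    (hw : w ∈ Wsp Q e f) (h : α (prj (sg C e x)) = prj (sg C e w)) : S.phi x = w := by
  apply S.eq_of_prj_sg_eq p (S.phi_mem x) hw
  rw [← S.phi_spec x, h]

theorem phi_add (S : Std C α e f) (p : ℕ) [Fact p.Prime] [CharP F p] {x y : ι → F}
    (hx : Bf e x = 0) (hy : Bf e y = 0) : S.phi (x + y) = S.phi x + S.phi y := by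
  apply S.phi_unique p ((Wsp Q e f).add_mem (S.phi_mem x) (S.phi_mem y))
  rw [← sg_mul C S.he hx hy, map_mul, map_mul, S.phi_spec x, S.phi_spec y, ← map_mul,
    sg_mul C S.he (S.phi_mem x).1 (S.phi_mem y).1]

theorem phi_zero (S : Std C α e f) (p : ℕ) [Fact p.Prime] [CharP F p] : S.phi 0 = 0 := by
  apply S.phi_unique p (Wsp Q e f).zero_mem
  rw [sg_zero C S.he, map_one, map_one]

theorem phi_inj (S : Std C α e f) (p : ℕ) [Fact p.Prime] [CharP F p] {x : ι → F}
    (hx : x ∈ Wsp Q e f) (h : S.phi x = 0) : x = 0 := by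
  have h1 := S.phi_spec x
  rw [h, sg_zero C S.he, map_one] at h1
  have h2 : prj (sg C e x) = 1 := by
    have := α.injective (h1.trans (map_one α).symm)
    exact this
  by_contra hx0
  have h3 : ¬ ∃ t : F, x = t • e := by
    rintro ⟨t, rfl⟩
    have h4 : Bf f (t • e) = 0 := hx.2
    rw [map_smul, S.hfe, smul_eq_mul, mul_one] at h4
    rw [h4, zero_smul] at hx0
    exact hx0 rfl
  exact prj_sg_ne_one C p S.he0 S.he hx.1 h3 h2

theorem phi_surj (S : Std C α e f) (p : ℕ) [Fact p.Prime] [CharP F p] {y : ι → F}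
    (hy : y ∈ Wsp Q e f) : ∃ x ∈ Wsp Q e f, S.phi x = y := by
  have h1 : prj (sg C e y) ∈ (Qb C e).map α.toMonoidHom := by
    rw [S.hαe]; exact prj_sg_mem_Qb C S.he hy.1
  obtain ⟨g, hg, hgy⟩ := h1
  obtain ⟨v, hv, rfl⟩ := (mem_Qb_iff C S.he g).1 hg
  obtain ⟨h3, h4⟩ := S.sg_norm hv
  refine ⟨_, h3, S.phi_unique p hy ?_⟩
  rw [h4]
  exact hgy

/-- singular lines of `W` go to singular lines. -/
theorem phi_line (S : Std C α e f) (p : ℕ) [Fact p.Prime] [CharP F p] (hD : GoodD C p)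
    {w : ι → F} (hw : w ∈ Wsp Q e f) (hQw : Q w = 0) :
    Q (S.phi w) = 0 ∧ ∀ t : F, ∃ s : F, S.phi (t • w) = s • S.phi w := by
  by_cases hw0 : w = 0
  · rw [hw0, S.phi_zero p]
    refine ⟨map_zero Q, fun t => ⟨0, ?_⟩⟩
    rw [smul_zero, S.phi_zero p, smul_zero]
  have hwe : ¬ ∃ t : F, w = t • e := by
    rintro ⟨t, rfl⟩
    have h4 : Bf f (t • e) = 0 := hw.2
    rw [map_smul, S.hfe, smul_eq_mul, mul_one] at h4
    rw [h4, zero_smul] at hw0
    exact hw0 rfl
  obtain ⟨w', hw'0, hQw', hαw⟩ := aut_Qb C p hD α hw0 hQw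
  -- `e` is not a multiple of `w'`
  have hew' : ¬ ∃ t : F, e = t • w' := by
    rintro ⟨t, ht⟩
    have ht0 : t ≠ 0 := by
      rintro rfl
      rw [zero_smul] at ht
      exact S.he0 ht
    have h1 : Qb C e = Qb C w' := by rw [ht, Qb_smul C hQw' ht0]
    have h2 : (Qb C e).map α.toMonoidHom = (Qb C w).map α.toMonoidHom := by rw [S.hαe, hαw, h1]
    have h3 := Subgroup.map_injective α.injective h2
    exact hwe (Qb_eq_imp C p S.he0 S.he hQw h3)
  -- images of the root elements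
  have himg : ∀ t : F, ∃ s : F, α (prj (sg C e (t • w))) = prj (sg C e (s • w')) := by
    intro t
    have h1 := prj_sg_mem_inf C S.he hQw hw.1 t
    have h2 : α (prj (sg C e (t • w))) ∈ Qb C e ⊓ Qb C w' := by
      constructor
      · rw [← S.hαe]; exact ⟨_, h1.1, rfl⟩
      · rw [← hαw]; exact ⟨_, h1.2, rfl⟩
    exact mem_inf_Qb_perp C p S.he hQw' hew' h2
  -- `w'` is perpendicular to `e`
  have hew'0 : Bf e w' = 0 := by
    by_contra hne
    obtain ⟨s, hs⟩ := himg 1
    rw [one_smul] at hs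
    have h1 : sg C e (s • w') = 1 := by
      by_cases hs0 : s = 0
      · rw [hs0, zero_smul, sg_zero C S.he]
      · apply sg_of_not C
        rintro ⟨-, h⟩
        rw [map_smul, smul_eq_mul] at h
        rcases mul_eq_zero.1 h with h2 | h2
        · exact hs0 h2
        · exact hne h2
    rw [h1, map_one] at hs
    have h2 : prj (sg C e w) = 1 := α.injective (hs.trans (map_one α).symm)
    exact prj_sg_ne_one C p S.he0 S.he hw.1 hwe h2
  obtain ⟨hw''W, -⟩ := S.sg_norm hew'0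
  set w'' := w' - Bf f w' • e with hw''
  have hQw'' : Q w'' = 0 := by
    have h1 : Bf w' e = 0 := by rw [polar_symm]; exact hew'0
    rw [hw'', sub_eq_add_neg, ← neg_smul, Q_add, Q_smul, S.he, hQw', map_smul, smul_eq_mul, h1]
    ring
  have hphi : ∀ t : F, ∃ s : F, S.phi (t • w) = s • w'' := by
    intro t
    obtain ⟨s, hs⟩ := himg t
    refine ⟨s, S.phi_unique p ((Wsp Q e f).smul_mem s hw''W) ?_⟩
    rw [hs]
    congr 1
    have h1 : s • w' = s • w'' + (s * Bf f w') • e := by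
      rw [hw'', smul_sub, smul_smul]
      abel
    rw [h1]
    exact sg_add_smul C _ S.he (by rw [map_smul, hw''W.1, smul_zero])
  obtain ⟨s₁, hs₁⟩ := hphi 1
  rw [one_smul] at hs₁
  have hs₁0 : s₁ ≠ 0 := by
    rintro rfl
    rw [zero_smul] at hs₁
    exact hw0 (S.phi_inj p hw hs₁)
  refine ⟨by rw [hs₁, Q_smul, hQw'', mul_zero], fun t => ?_⟩
  obtain ⟨s, hs⟩ := hphi t
  refine ⟨s * s₁⁻¹, ?_⟩
  rw [hs, hs₁, smul_smul, mul_assoc, inv_mul_cancel₀ hs₁0, mul_one]

theorem semiData (S : Std C α e f) (p : ℕ) [Fact p.Prime] [CharP F p] (hD : GoodD C p) :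
    SemiData Q (Wsp Q e f) S.phi where
  add x hx y hy := S.phi_add p hx.1 hy.1
  mem x _ := S.phi_mem x
  inj x hx h := S.phi_inj p hx h
  sing w hw hQ := (S.phi_line p hD hw hQ).1
  line w hw hQ := (S.phi_line p hD hw hQ).2

/-- **the induced map is a semilinear similarity of `W`.** -/
theorem exists_semisimilarity (S : Std C α e f) (p : ℕ) [Fact p.Prime] [CharP F p]
    (hD : GoodD C p) :
    ∃ (lam : F ≃+* F) (c : F), c ≠ 0 ∧ (∀ t : F, ∀ x ∈ Wsp Q e f, S.phi (t • x) = lam t • S.phi x) ∧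
      ∀ x ∈ Wsp Q e f, Q (S.phi x) = c * lam (Q x) := by
  have hn' : 7 ≤ finrank F (ι → F) := by
    rw [Module.finrank_fintype_fun_eq_card]; exact C.hn
  obtain ⟨s, x, hes, hfs, -, -, hQs, hsx⟩ := exists_singular_pair_orth2 Q C.hQ hn' e f
  have hs0 : s ≠ 0 := by
    rintro rfl
    simp at hsx
  have hsW : s ∈ Wsp Q e f := ⟨hes, hfs⟩
  have D := S.semiData p hD
  have G := geoW C S.he S.hf S.hef
  obtain ⟨lam, hlam⟩ := D.exists_semilinear G hsW hs0 hQs
  obtain ⟨c, hc0, hc⟩ := D.exists_similarity G lam hlam (fun y hy => S.phi_surj p hy) hsW hs0 hQs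
  exact ⟨lam, c, hc0, hlam, hc⟩

end Std

end Cfsg.Agent.Lib.Helper07.OG
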