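import Cfsg.Agent.Lib.Helper07.OrthN
import Cfsg.Agent.Lib.Helper08.AutOmega

set_option autoImplicit false
set_option linter.unusedSimpArgs false
set_option linter.unusedVariables false
set_option linter.unusedSectionVars false

/-! Orthogonal groups: the automorphism of `PΩ` induced by a semisimilarity `v ↦ g σ(v)`, and its
effect on Siegel elements. -/

namespace Cfsg.Agent.Lib.Helper07.OG

open Module Matrix Cfsg.Agent.Lib.Helper43 Cfsg.Agent.Lib.Helper07.UG

variable {F : Type*} [Field F] [Fintype F] {ι : Type} [Fintype ι] [DecidableEq ι]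
variable {Q : QuadraticForm F (ι → F)}

local notation "Bf" => QuadraticMap.polarBilin Q

/-- the semilinear map `v ↦ g σ(v)`. -/
def semiAct (g : GL ι F) (σ : F ≃+* F) (v : ι → F) : ι → F :=
  (g : Matrix ι ι F) *ᵥ (fun i => σ (v i))

theorem semiAct_add (g : GL ι F) (σ : F ≃+* F) (v w : ι → F) :
    semiAct g σ (v + w) = semiAct g σ v + semiAct g σ w := by
  unfold semiAct
  rw [← Matrix.mulVec_add]
  congr 1
  funext i
  simp

theorem semiAct_smul (g : GL ι F) (σ : F ≃+* F) (t : F) (v : ι → F) :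
    semiAct g σ (t • v) = σ t • semiAct g σ v := by
  unfold semiAct
  rw [← Matrix.mulVec_smul]
  congr 1
  funext i
  simp

theorem semiAct_surjective (g : GL ι F) (σ : F ≃+* F) : Function.Surjective (semiAct g σ) := by
  intro u
  refine ⟨fun i => σ.symm ((((g⁻¹ : GL ι F) : Matrix ι ι F) *ᵥ u) i), ?_⟩
  unfold semiAct
  simp only [RingEquiv.apply_symm_apply]
  rw [Matrix.mulVec_mulVec, ← Units.val_mul, mul_inv_cancel, Units.val_one, Matrix.one_mulVec]

/-- the matrix of the conjugate `g σ(s) g⁻¹`. -/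
def semiConj (g : GL ι F) (σ : F ≃+* F) : GL ι F →* GL ι F where
  toFun s := g * Matrix.GeneralLinearGroup.map (σ : F →+* F) s * g⁻¹
  map_one' := by simp
  map_mul' s t := by
    rw [map_mul]
    group

theorem semiConj_val (g : GL ι F) (σ : F ≃+* F) (s : GL ι F) :
    ((semiConj g σ s : GL ι F) : Matrix ι ι F) =
      (g : Matrix ι ι F) * ((s : Matrix ι ι F)).map σ * ((g⁻¹ : GL ι F) : Matrix ι ι F) := rfl

theorem semiConj_mulVec (g : GL ι F) (σ : F ≃+* F) (s : GL ι F) (v : ι → F) :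
    ((semiConj g σ s : GL ι F) : Matrix ι ι F) *ᵥ semiAct g σ v =
      semiAct g σ ((s : Matrix ι ι F) *ᵥ v) := by
  rw [semiConj_val]
  unfold semiAct
  rw [Matrix.mulVec_mulVec, Matrix.mul_assoc, Matrix.mul_assoc, ← Units.val_mul, inv_mul_cancel,
    Units.val_one, Matrix.mul_one, ← Matrix.mulVec_mulVec]
  congr 1
  funext i
  exact ((σ : F →+* F).map_mulVec (s : Matrix ι ι F) v i).symm

theorem semiConj_injective (g : GL ι F) (σ : F ≃+* F) : Function.Injective (semiConj g σ) := by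
  intro s t h
  have h1 : Matrix.GeneralLinearGroup.map (σ : F →+* F) s =
      Matrix.GeneralLinearGroup.map (σ : F →+* F) t := by
    have h2 : g * Matrix.GeneralLinearGroup.map (σ : F →+* F) s * g⁻¹ =
        g * Matrix.GeneralLinearGroup.map (σ : F →+* F) t * g⁻¹ := h
    exact mul_left_cancel (mul_right_cancel h2)
  apply Units.ext
  ext i j
  have h3 := congrArg (fun u : GL ι F => (u : Matrix ι ι F) i j) h1
  simp only [Matrix.GeneralLinearGroup.map_apply] at h3
  exact σ.injective h3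

theorem semiConj_mem (g : GL ι F) (σ : F ≃+* F) (h : Cfsg.IsSemisimilarityPair (⇑Q) g σ)
    {s : GL ι F} (hs : s ∈ Cfsg.isometryGroup F ⇑Q) : semiConj g σ s ∈ Cfsg.isometryGroup F ⇑Q := by
  rw [Cfsg.Agent.Lib.Helper19.mem_isometryGroup_iff] at hs ⊢
  obtain ⟨c, hc⟩ := h
  intro u
  obtain ⟨v, rfl⟩ := semiAct_surjective g σ u
  rw [semiConj_mulVec]
  have h1 := hc ((s : Matrix ι ι F) *ᵥ v)
  have h2 := hc v
  unfold semiAct
  rw [h1, h2, hs]

/-- the automorphism of the isometry group induced by a semisimilarity. -/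
noncomputable def semiO (g : GL ι F) (σ : F ≃+* F) (h : Cfsg.IsSemisimilarityPair (⇑Q) g σ) :
    MulAut ↥(Cfsg.isometryGroup F ⇑Q) :=
  MulEquiv.ofBijective
    ({ toFun := fun s => ⟨semiConj g σ s.1, semiConj_mem g σ h s.2⟩
       map_one' := Subtype.ext (map_one _)
       map_mul' := fun s t => Subtype.ext (map_mul _ _ _) } :
      ↥(Cfsg.isometryGroup F ⇑Q) →* ↥(Cfsg.isometryGroup F ⇑Q))
    (by
      have hinj : Function.Injective
          (fun s : ↥(Cfsg.isometryGroup F ⇑Q) =>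
            (⟨semiConj g σ s.1, semiConj_mem g σ h s.2⟩ : ↥(Cfsg.isometryGroup F ⇑Q))) := by
        intro s t hst
        exact Subtype.ext (semiConj_injective g σ (congrArg Subtype.val hst))
      exact ⟨hinj, Finite.injective_iff_surjective.1 hinj⟩)

theorem semiO_val (g : GL ι F) (σ : F ≃+* F) (h : Cfsg.IsSemisimilarityPair (⇑Q) g σ)
    (s : ↥(Cfsg.isometryGroup F ⇑Q)) :
    ((semiO g σ h s : ↥(Cfsg.isometryGroup F ⇑Q)) : GL ι F) = semiConj g σ s.1 := rfl

/-- the automorphism of `PΩ` induced by a semisimilarity. -/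
noncomputable def autS (g : GL ι F) (σ : F ≃+* F) (h : Cfsg.IsSemisimilarityPair (⇑Q) g σ) :
    MulAut (Cfsg.POmega F ⇑Q) :=
  Cfsg.Agent.Lib.Helper08.autQuot (Subgroup.center ↥(Cfsg.Omega F ⇑Q))
    (MulAut.characteristic (Cfsg.Omega F ⇑Q) (semiO g σ h))

/-- the lift of `autS` to `Ω`. -/
noncomputable def autSΩ (g : GL ι F) (σ : F ≃+* F) (h : Cfsg.IsSemisimilarityPair (⇑Q) g σ) :
    MulAut ↥(Cfsg.Omega F ⇑Q) := MulAut.characteristic (Cfsg.Omega F ⇑Q) (semiO g σ h)

theorem autS_prj (g : GL ι F) (σ : F ≃+* F) (h : Cfsg.IsSemisimilarityPair (⇑Q) g σ)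
    (s : ↥(Cfsg.Omega F ⇑Q)) : autS g σ h (prj s) = prj (autSΩ g σ h s) := rfl

theorem autSΩ_val (g : GL ι F) (σ : F ≃+* F) (h : Cfsg.IsSemisimilarityPair (⇑Q) g σ)
    (s : ↥(Cfsg.Omega F ⇑Q)) :
    (((autSΩ g σ h s : ↥(Cfsg.Omega F ⇑Q)) : ↥(Cfsg.isometryGroup F ⇑Q)) : GL ι F) =
      semiConj g σ ((s : ↥(Cfsg.isometryGroup F ⇑Q)) : GL ι F) := rfl

theorem lo_autSΩ (g : GL ι F) (σ : F ≃+* F) (h : Cfsg.IsSemisimilarityPair (⇑Q) g σ)
    (s : ↥(Cfsg.Omega F ⇑Q)) (v : ι → F) :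
    lo Q (autSΩ g σ h s) (semiAct g σ v) = semiAct g σ (lo Q s v) := by
  unfold lo
  rw [linOf_apply, linOf_apply, autSΩ_val, semiConj_mulVec]

theorem isInduced_autS (g : GL ι F) (σ : F ≃+* F) (h : Cfsg.IsSemisimilarityPair (⇑Q) g σ) :
    Cfsg.IsInducedBySemilinearPOmega (⇑Q) g σ (autS g σ h) := by
  intro s s' hss'
  show autS g σ h (prj s) = prj s'
  rw [autS_prj]
  congr 1
  apply Cfsg.Agent.Lib.Helper08.Omega_ext
  rw [hss', autSΩ_val, semiConj_val]

end Cfsg.Agent.Lib.Helper07.OG
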