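import Cfsg.Agent.Lib.Helper07.OrthO

set_option autoImplicit false
set_option linter.unusedSimpArgs false
set_option linter.unusedVariables false
set_option linter.unusedSectionVars false

/-! Orthogonal groups: the effect of a semisimilarity on Siegel elements; the semisimilarity
attached to a normalised automorphism. -/

namespace Cfsg.Agent.Lib.Helper07.OG

open Module Matrix Cfsg.Agent.Lib.Helper43 Cfsg.Agent.Lib.Helper07.UG

variable {F : Type*} [Field F] [Fintype F] {ι : Type} [Fintype ι] [DecidableEq ι]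
variable {Q : QuadraticForm F (ι → F)}

local notation "Bf" => QuadraticMap.polarBilin Q

theorem polar_semiAct {g : GL ι F} {σ : F ≃+* F} {c : F}
    (hc : ∀ v, Q (semiAct g σ v) = c * σ (Q v)) (x y : ι → F) :
    Bf (semiAct g σ x) (semiAct g σ y) = c * σ (Bf x y) := by
  have h1 := hc (x + y)
  rw [semiAct_add, Q_add, Q_add, hc x, hc y, map_add, map_add] at h1
  linear_combination h1

/-- a semisimilarity maps Siegel elements to Siegel elements. -/
theorem autSΩ_sg (C : OC Q) (g : GL ι F) (σ : F ≃+* F) (h : Cfsg.IsSemisimilarityPair (⇑Q) g σ)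
    {c : F} (hc0 : c ≠ 0) (hc : ∀ v, Q (semiAct g σ v) = c * σ (Q v)) {u w : ι → F}
    (hu : Q u = 0) (huw : Bf u w = 0) :
    autSΩ g σ h (sg C u w) = sg C (semiAct g σ u) (c⁻¹ • semiAct g σ w) := by
  have hu' : Q (semiAct g σ u) = 0 := by rw [hc, hu, map_zero, mul_zero]
  have huw' : Bf (semiAct g σ u) (c⁻¹ • semiAct g σ w) = 0 := by
    rw [map_smul, polar_semiAct hc, huw, map_zero, mul_zero, smul_zero]
  apply lo_ext
  intro y
  obtain ⟨v, rfl⟩ := semiAct_surjective g σ y
  rw [lo_autSΩ, sg_apply C hu huw, sg_apply C hu' huw', semiAct_add, semiAct_add, semiAct_smul,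
    semiAct_smul, map_smul, polar_semiAct hc, polar_semiAct hc, Q_smul, hc w]
  simp only [map_sub, map_mul, map_neg, smul_eq_mul, smul_smul]
  have e1 : c⁻¹ * (c * σ (Bf v w)) - c⁻¹ * c⁻¹ * (c * σ (Q w)) * (c * σ (Bf v u)) =
      σ (Bf v w) - σ (Q w) * σ (Bf v u) := by
    field_simp
  have e2 : -(c * σ (Bf v u)) * c⁻¹ = -σ (Bf v u) := by
    field_simp
  rw [e1, e2]

end Cfsg.Agent.Lib.Helper07.OG
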