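import Cfsg.Agent.Lib.Helper07.OrthP

set_option autoImplicit false
set_option linter.unusedSimpArgs false
set_option linter.unusedVariables false
set_option linter.unusedSectionVars false

/-! Orthogonal groups: the semisimilarity of the whole space attached to a normalised
automorphism, as a matrix together with a field automorphism. -/

namespace Cfsg.Agent.Lib.Helper07.OG

open Module Matrix Cfsg.Agent.Lib.Helper43 Cfsg.Agent.Lib.Helper07.UG

variable {F : Type*} [Field F] [Fintype F] {ι : Type} [Fintype ι] [DecidableEq ι]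
variable {Q : QuadraticForm F (ι → F)}

local notation "Bf" => QuadraticMap.polarBilin Q

theorem pW_add (e f x y : ι → F) : pW Q e f (x + y) = pW Q e f x + pW Q e f y := by
  unfold pW
  rw [map_add, map_add, add_smul, add_smul]
  abel

theorem pW_smul (e f : ι → F) (t : F) (x : ι → F) : pW Q e f (t • x) = t • pW Q e f x := by
  unfold pW
  rw [map_smul, map_smul, smul_sub, smul_sub, smul_smul, smul_smul]
  rfl

theorem self_eq_pW_add (e f x : ι → F) : x = pW Q e f x + Bf f x • e + Bf e x • f := by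
  unfold pW
  abel

namespace Std

variable {C : OC Q} {α : MulAut (Cfsg.POmega F ⇑Q)} {e f : ι → F}

/-- the extension of `phi` to the whole space. -/
noncomputable def PhiV (S : Std C α e f) (lam : F ≃+* F) (c : F) (x : ι → F) : ι → F :=
  lam (Bf x f) • (c • e) + lam (Bf x e) • f + S.phi (pW Q e f x)

theorem PhiV_add (S : Std C α e f) (p : ℕ) [Fact p.Prime] [CharP F p] (lam : F ≃+* F) (c : F)
    (x y : ι → F) : S.PhiV lam c (x + y) = S.PhiV lam c x + S.PhiV lam c y := by
  unfold PhiV
  rw [pW_add, S.phi_add p (pW_mem S.he S.hf S.hef x).1 (pW_mem S.he S.hf S.hef y).1]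
  simp only [map_add, LinearMap.add_apply, add_smul]
  abel

theorem PhiV_smul (S : Std C α e f) (lam : F ≃+* F) (c : F)
    (hlam : ∀ t : F, ∀ x ∈ Wsp Q e f, S.phi (t • x) = lam t • S.phi x) (t : F) (x : ι → F) :
    S.PhiV lam c (t • x) = lam t • S.PhiV lam c x := by
  unfold PhiV
  rw [pW_smul, hlam t _ (pW_mem S.he S.hf S.hef x)]
  simp only [map_smul, LinearMap.smul_apply, smul_eq_mul, map_mul, smul_add, smul_smul]
  module

theorem PhiV_Q (S : Std C α e f) (lam : F ≃+* F) (c : F)
    (hQ : ∀ x ∈ Wsp Q e f, Q (S.phi x) = c * lam (Q x)) (x : ι → F) :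
    Q (S.PhiV lam c x) = c * lam (Q x) := by
  have hw := pW_mem S.he S.hf S.hef x
  have hφ := S.phi_mem (pW Q e f x)
  have h1 : Q x = Q (pW Q e f x) + Bf x f * Bf x e := by
    conv_lhs => rw [self_eq_pW_add (Q := Q) e f x]
    have e1 : Bf (pW Q e f x) e = 0 := by rw [polar_symm]; exact hw.1
    have e2 : Bf (pW Q e f x) f = 0 := by rw [polar_symm]; exact hw.2
    rw [Q_add, Q_add, Q_smul, Q_smul, S.he, S.hf]
    simp only [map_add, map_smul, LinearMap.add_apply, LinearMap.smul_apply, smul_eq_mul, e1, e2,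
      S.hef, polar_symm Q f x, polar_symm Q e x]
    ring
  have e3 : Bf e (S.phi (pW Q e f x)) = 0 := hφ.1
  have e4 : Bf f (S.phi (pW Q e f x)) = 0 := hφ.2
  unfold PhiV
  rw [Q_add, Q_add, Q_smul, Q_smul, Q_smul, S.he, S.hf, hQ _ hw, h1]
  simp only [map_add, map_smul, LinearMap.add_apply, LinearMap.smul_apply, smul_eq_mul, e3, e4,
    S.hef, map_mul]
  ring

/-- the linear map `v ↦ Φ(λ⁻¹ v)`. -/
noncomputable def linV (S : Std C α e f) (p : ℕ) [Fact p.Prime] [CharP F p] (lam : F ≃+* F) (c : F)
    (hlam : ∀ t : F, ∀ x ∈ Wsp Q e f, S.phi (t • x) = lam t • S.phi x) :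
    (ι → F) →ₗ[F] (ι → F) where
  toFun v := S.PhiV lam c (fun i => lam.symm (v i))
  map_add' v w := by
    rw [← S.PhiV_add p]
    congr 1
    funext i
    simp
  map_smul' t v := by
    have : (fun i => lam.symm ((t • v) i)) = lam.symm t • (fun i => lam.symm (v i)) := by
      funext i
      simp
    rw [this, S.PhiV_smul lam c hlam, RingEquiv.apply_symm_apply]
    rfl

theorem linV_apply (S : Std C α e f) (p : ℕ) [Fact p.Prime] [CharP F p] (lam : F ≃+* F) (c : F)
    (hlam : ∀ t : F, ∀ x ∈ Wsp Q e f, S.phi (t • x) = lam t • S.phi x) (v : ι → F) :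
    S.linV p lam c hlam (fun i => lam (v i)) = S.PhiV lam c v := by
  show S.PhiV lam c (fun i => lam.symm (lam (v i))) = S.PhiV lam c v
  congr 1
  funext i
  simp

/-- **the semisimilarity attached to a normalised automorphism.** -/
theorem exists_gl (S : Std C α e f) (p : ℕ) [Fact p.Prime] [CharP F p] (lam : F ≃+* F) (c : F)
    (hc0 : c ≠ 0) (hlam : ∀ t : F, ∀ x ∈ Wsp Q e f, S.phi (t • x) = lam t • S.phi x)
    (hQ : ∀ x ∈ Wsp Q e f, Q (S.phi x) = c * lam (Q x)) :
    ∃ g : GL ι F, ∀ v, semiAct g lam v = S.PhiV lam c v := by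
  set L := S.linV p lam c hlam with hL
  -- injectivity
  have hpol : ∀ x y, Bf (S.PhiV lam c x) (S.PhiV lam c y) = c * lam (Bf x y) := by
    intro x y
    have h1 := S.PhiV_Q lam c hQ (x + y)
    rw [S.PhiV_add p, Q_add, Q_add, S.PhiV_Q lam c hQ x, S.PhiV_Q lam c hQ y, map_add, map_add] at h1
    linear_combination h1
  have hPinj : ∀ x, S.PhiV lam c x = 0 → x = 0 := by
    intro x hx
    apply C.hQ.1
    intro y
    have h1 := hpol x y
    rw [hx] at h1
    simp only [map_zero, LinearMap.zero_apply] at h1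
    have h2 : lam (Bf x y) = 0 := by
      rcases mul_eq_zero.1 h1.symm with h3 | h3
      · exact absurd h3 hc0
      · exact h3
    exact (map_eq_zero lam).1 h2
  have hLinj : Function.Injective L := by
    rw [← LinearMap.ker_eq_bot, LinearMap.ker_eq_bot']
    intro v hv
    have h1 : S.PhiV lam c (fun i => lam.symm (v i)) = 0 := hv
    have h2 := hPinj _ h1
    funext i
    have h3 := congrFun h2 i
    simp only [Pi.zero_apply] at h3 ⊢
    exact (map_eq_zero lam.symm).1 h3
  have hinjM : Function.Injective (LinearMap.toMatrix' L).mulVec := by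
    intro v w hvw
    rw [LinearMap.toMatrix'_mulVec, LinearMap.toMatrix'_mulVec] at hvw
    exact hLinj hvw
  have hU : IsUnit (LinearMap.toMatrix' L) := Matrix.mulVec_injective_iff_isUnit.1 hinjM
  refine ⟨hU.unit, fun v => ?_⟩
  unfold semiAct
  rw [IsUnit.unit_spec, LinearMap.toMatrix'_mulVec, hL]
  exact S.linV_apply p lam c hlam v

end Std

end Cfsg.Agent.Lib.Helper07.OG
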