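import Cfsg.Agent.Lib.Helper07.OrthQ

set_option autoImplicit false
set_option linter.unusedSimpArgs false
set_option linter.unusedVariables false
set_option linter.unusedSectionVars false

/-! Orthogonal groups: rigidity. An automorphism of `PΩ` fixing `Qb e` pointwise and stabilising
`Qb f` (for a hyperbolic pair `e, f`) is trivial. -/

namespace Cfsg.Agent.Lib.Helper07.OG

open Module Matrix Cfsg.Agent.Lib.Helper43 Cfsg.Agent.Lib.Helper07.UG

section generic

variable {X : Type*} [Group X]

theorem map_conj_map (α : MulAut X) (k : X) (H : Subgroup X) :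
    (H.map (MulAut.conj k).toMonoidHom).map α.toMonoidHom =
      (H.map α.toMonoidHom).map (MulAut.conj (α k)).toMonoidHom := by
  ext x
  constructor
  · rintro ⟨_, ⟨h, hh, rfl⟩, rfl⟩
    refine ⟨α h, ⟨h, hh, rfl⟩, ?_⟩
    show α k * α h * (α k)⁻¹ = α (k * h * k⁻¹)
    rw [map_mul, map_mul, map_inv]
  · rintro ⟨_, ⟨h, hh, rfl⟩, rfl⟩
    refine ⟨k * h * k⁻¹, ⟨h, hh, rfl⟩, ?_⟩
    show α (k * h * k⁻¹) = α k * α h * (α k)⁻¹
    rw [map_mul, map_mul, map_inv]

end generic

variable {F : Type*} [Field F] [Fintype F] {ι : Type} [Fintype ι] [DecidableEq ι]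
variable {Q : QuadraticForm F (ι → F)}

local notation "Bf" => QuadraticMap.polarBilin Q

/-- **rigidity.** -/
theorem rigid (C : OC Q) (p : ℕ) [Fact p.Prime] [CharP F p] (hD : GoodD C p)
    (α : MulAut (Cfsg.POmega F ⇑Q)) {e f : ι → F} (he : Q e = 0) (hf : Q f = 0)
    (hef : Bf e f = 1) (hfix : ∀ x, Bf e x = 0 → α (prj (sg C e x)) = prj (sg C e x))
    (hαf : (Qb C f).map α.toMonoidHom = Qb C f) : α = 1 := by
  have hfe : Bf f e = 1 := by rw [polar_symm]; exact hef
  have he0 : e ≠ 0 := by
    rintro rfl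
    simp at hef
  have hf0 : f ≠ 0 := by
    rintro rfl
    simp at hef
  -- (R0)
  have hαe : (Qb C e).map α.toMonoidHom = Qb C e := by
    ext z
    constructor
    · rintro ⟨y, hy, rfl⟩
      obtain ⟨v, hv, rfl⟩ := (mem_Qb_iff C he y).1 hy
      show α (prj (sg C e v)) ∈ Qb C e
      rw [hfix v hv]
      exact prj_sg_mem_Qb C he hv
    · intro hz
      obtain ⟨v, hv, rfl⟩ := (mem_Qb_iff C he z).1 hz
      exact ⟨_, prj_sg_mem_Qb C he hv, hfix v hv⟩
  -- (R1) far points
  have hfar : ∀ x, Bf e x = 0 → (Qb C (lo Q (sg C e x) f)).map α.toMonoidHom =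
      Qb C (lo Q (sg C e x) f) := by
    intro x hx
    rw [← Qb_conj C (sg C e x) hf, map_conj_map, hαf]
    have : α (prj (sg C e x)) = prj (sg C e x) := hfix x hx
    rw [this]
  -- points perpendicular to `e`
  have hperp : ∀ q : ι → F, Q q = 0 → Bf e q = 0 → (¬ ∃ t : F, q = t • e) →
      (Qb C q).map α.toMonoidHom = Qb C q := by
    intro q hQq heq hqe
    have hq0 : q ≠ 0 := by
      rintro rfl
      exact hqe ⟨0, (zero_smul _ _).symm⟩
    obtain ⟨q', hq'0, hQq', hαq⟩ := aut_Qb C p hD α hq0 hQq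
    -- `e` is not a multiple of `q'`
    have heq' : ¬ ∃ t : F, e = t • q' := by
      rintro ⟨t, ht⟩
      have ht0 : t ≠ 0 := by
        rintro rfl
        rw [zero_smul] at ht
        exact he0 ht
      have h1 : Qb C e = Qb C q' := by rw [ht, Qb_smul C hQq' ht0]
      have h2 : (Qb C e).map α.toMonoidHom = (Qb C q).map α.toMonoidHom := by rw [hαe, hαq, h1]
      exact hqe (Qb_eq_imp C p he0 he hQq (Subgroup.map_injective α.injective h2))
    have h1 : prj (sg C e q) ∈ Qb C e ⊓ Qb C q' := by
      have h2 := prj_sg_mem_inf C he hQq heq 1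
      rw [one_smul] at h2
      refine ⟨h2.1, ?_⟩
      rw [← hαq]
      exact ⟨_, h2.2, hfix q heq⟩
    have hne : prj (sg C e q) ≠ 1 := prj_sg_ne_one C p he0 he heq hqe
    obtain ⟨s, hs⟩ := mem_inf_Qb_perp C p he hQq' heq' h1
    have hs0 : s ≠ 0 := by
      rintro rfl
      rw [zero_smul, sg_zero C he, map_one] at hs
      exact hne hs
    have heq'0 : Bf e q' = 0 := by
      by_contra hcon
      apply hne
      rw [hs, sg_of_not C, map_one]
      rintro ⟨-, h⟩
      rw [map_smul, smul_eq_mul] at h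
      rcases mul_eq_zero.1 h with h2 | h2
      · exact hs0 h2
      · exact hcon h2
    have hesq' : Bf e (s • q') = 0 := by rw [map_smul, heq'0, smul_zero]
    have h3 := sg_eq_of_prj_eq C p he heq hesq' hs
    obtain ⟨r, hr⟩ := (sg_eq_iff C he0 he heq hesq').1 h3
    -- a far point perpendicular to `q`
    obtain ⟨a, ha1, ha2⟩ := exists_pair_one_zero C hqe
    set x := Bf f q • a with hx
    have hea : Bf e a = 0 := by rw [polar_symm]; exact ha2
    have hex : Bf e x = 0 := by rw [hx, map_smul, hea, smul_zero]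
    set y := lo Q (sg C e x) f with hy
    have hy' : y = f + (Bf f x - Q x) • e - x := by
      rw [hy, sg_apply C he hex, hfe]
      simp only [mul_one, neg_smul, one_smul]
      abel
    have hQy : Q y = 0 := by rw [hy, lo_isometry, hf]
    have hye : Bf y e = 1 := by
      rw [hy', map_sub, map_add, map_smul, LinearMap.sub_apply, LinearMap.add_apply,
        LinearMap.smul_apply, hfe, polar_self0 he, polar_symm Q x e, hex]
      simp
    have hyq : Bf y q = 0 := by
      rw [hy', map_sub, map_add, map_smul, LinearMap.sub_apply, LinearMap.add_apply,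
        LinearMap.smul_apply, heq, hx]
      have h9 : Bf (Bf f q • a) q = Bf f q := by
        rw [map_smul, LinearMap.smul_apply, ha1, smul_eq_mul, mul_one]
      rw [h9]
      simp
    have hy0 : y ≠ 0 := by
      rintro h
      rw [h] at hye
      simp at hye
    have hqy : ¬ ∃ t : F, q = t • y := by
      rintro ⟨t, ht⟩
      have h4 : Bf q e = 0 := by rw [polar_symm]; exact heq
      rw [ht, map_smul, LinearMap.smul_apply, hye, smul_eq_mul, mul_one] at h4
      rw [h4, zero_smul] at ht
      exact hq0 ht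
    have h5 : Qb C y ⊓ Qb C q ≠ ⊥ := inf_Qb_ne_bot C p hy0 hQy hQq hyq hqy
    have h6 : Qb C y ⊓ Qb C q' ≠ ⊥ := by
      rw [← hfar x hex, ← hαq, ← Subgroup.map_inf_eq _ _ _ α.injective]
      intro h
      apply h5
      rw [← hy] at h
      exact (Subgroup.map_eq_bot_iff_of_injective _ α.injective).1 h
    have hyq' : Bf y q' = 0 := by
      by_contra hcon
      exact h6 ((inf_Qb_eq_bot_iff C p hy0 hQy hq'0 hQq').2 hcon)
    -- conclude `r = 0`
    have h7 : Bf y (q - s • q') = Bf y (r • e) := by rw [hr]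
    rw [map_sub, map_smul, map_smul, hyq, hyq', hye, smul_zero, sub_zero, smul_eq_mul, mul_one] at h7
    rw [← h7, zero_smul, sub_eq_zero] at hr
    rw [hαq, hr, Qb_smul C hQq' hs0]
  -- all points
  have hall : ∀ q : ι → F, q ≠ 0 → Q q = 0 → (Qb C q).map α.toMonoidHom = Qb C q := by
    intro q hq0 hQq
    by_cases heq : Bf e q = 0
    · by_cases hqe : ∃ t : F, q = t • e
      · obtain ⟨t, rfl⟩ := hqe
        have ht0 : t ≠ 0 := by
          rintro rfl
          exact hq0 (zero_smul _ _)
        rw [Qb_smul C he ht0, hαe]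
      · exact hperp q hQq heq hqe
    · -- far point
      set b := Bf e q with hb
      set q' := b⁻¹ • q with hq'
      have hQq' : Q q' = 0 := by rw [hq', Q_smul, hQq, mul_zero]
      have heq' : Bf e q' = 1 := by rw [hq', map_smul, smul_eq_mul, inv_mul_cancel₀ heq]
      set x := f - q' with hx
      have hex : Bf e x = 0 := by rw [hx, map_sub, hef, heq', sub_self]
      have hQx : Q x = -Bf f q' := by
        rw [hx, Q_sub, hf, hQq']
        ring
      have hfx : Bf f x = -Bf f q' := by
        rw [hx, map_sub, polar_self0 hf, zero_sub]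
      have hy : lo Q (sg C e x) f = q' := by
        rw [sg_apply C he hex, hfe, hfx, hQx]
        simp only [mul_one, sub_self, zero_smul, add_zero, neg_smul, one_smul]
        rw [hx]
        abel
      have h1 := hfar x hex
      rw [hy] at h1
      have hb0 : b⁻¹ ≠ 0 := inv_ne_zero heq
      rw [hq', Qb_smul C hQq hb0] at h1
      exact h1
  -- conclusion
  ext z
  obtain ⟨g, rfl⟩ := prj_surjective z
  obtain ⟨g', hg'⟩ := prj_surjective (α (prj g))
  show α (prj g) = prj g
  rw [← hg']
  have hfixlines : ∀ x : ι → F, x ≠ 0 → Q x = 0 → ∃ c : F, lo Q (g⁻¹ * g') x = c • x := by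
    intro x hx0 hQx
    have hgx0 : lo Q g x ≠ 0 := lo_ne_zero Q g x hx0
    have hQgx : Q (lo Q g x) = 0 := by rw [lo_isometry, hQx]
    have h1 := hall (lo Q g x) hgx0 hQgx
    rw [← Qb_conj C g hQx, map_conj_map, hall x hx0 hQx, ← hg', Qb_conj C g' hQx,
      Qb_conj C g hQx] at h1
    obtain ⟨t, ht⟩ := Qb_eq_imp C p hgx0 hQgx (by rw [lo_isometry, hQx]) h1.symm
    refine ⟨t, ?_⟩
    rw [lo_mul_apply, ht, map_smul, lo_inv_apply]
  obtain ⟨c, hc⟩ := scalar_of_fix_lines Q C.hQ C.hn (lo Q (g⁻¹ * g')) hfixlines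
  have hcen := mem_center_of_scalar Q (g⁻¹ * g') c hc
  exact (prj_eq_iff.2 hcen).symm

end Cfsg.Agent.Lib.Helper07.OG
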