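import Cfsg.Agent.Lib.Helper07.OrthTc

set_option autoImplicit false
set_option linter.unusedSimpArgs false
set_option linter.unusedVariables false
set_option linter.unusedSectionVars false
set_option linter.style.haveILetI false

/-! Rectangular version of `OrthTb`/`OrthTc`: a linear isometry `(ι → F, Q') → (κ → F, Q)` between
spaces with different index types, given by a pair of mutually inverse rectangular matrices,
identifies `PΩ(Q')` with `PΩ(Q)`. -/

namespace Cfsg.Agent.Lib.Helper07.OG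

open Module Matrix Cfsg.Agent.Lib.Helper43 Cfsg.Agent.Lib.Helper07.UG Cfsg.Agent.Lib.Helper08

section rect

variable {F : Type*} [Field F] {ι κ : Type} [Fintype ι] [DecidableEq ι] [Fintype κ] [DecidableEq κ]

/-- a pair of mutually inverse rectangular matrices. -/
structure RPair (P : Matrix κ ι F) (P' : Matrix ι κ F) : Prop where
  h1 : P * P' = 1
  h2 : P' * P = 1

theorem RPair.symm {P : Matrix κ ι F} {P' : Matrix ι κ F} (R : RPair P P') : RPair P' P :=
  ⟨R.h2, R.h1⟩

/-- conjugation by a rectangular pair, as a ring isomorphism of matrix rings. -/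
def rconjRing {P : Matrix κ ι F} {P' : Matrix ι κ F} (R : RPair P P') :
    Matrix ι ι F ≃+* Matrix κ κ F where
  toFun M := P * M * P'
  invFun N := P' * N * P
  left_inv M := by
    show P' * (P * M * P') * P = M
    calc P' * (P * M * P') * P = (P' * P) * M * (P' * P) := by simp only [Matrix.mul_assoc]
      _ = M := by rw [R.h2, Matrix.one_mul, Matrix.mul_one]
  right_inv N := by
    show P * (P' * N * P) * P' = N
    calc P * (P' * N * P) * P' = (P * P') * N * (P * P') := by simp only [Matrix.mul_assoc]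
      _ = N := by rw [R.h1, Matrix.one_mul, Matrix.mul_one]
  map_mul' M N := by
    show P * (M * N) * P' = P * M * P' * (P * N * P')
    have : P * M * P' * (P * N * P') = P * M * (P' * P) * N * P' := by
      simp only [Matrix.mul_assoc]
    rw [this, R.h2, Matrix.mul_one]
    simp only [Matrix.mul_assoc]
  map_add' M N := by
    show P * (M + N) * P' = P * M * P' + P * N * P'
    rw [Matrix.mul_add, Matrix.add_mul]

/-- conjugation by a rectangular pair on the general linear groups. -/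
def rconj {P : Matrix κ ι F} {P' : Matrix ι κ F} (R : RPair P P') : GL ι F ≃* GL κ F :=
  Units.mapEquiv (rconjRing R).toMulEquiv

theorem rconj_val {P : Matrix κ ι F} {P' : Matrix ι κ F} (R : RPair P P') (g : GL ι F) :
    ((rconj R g : GL κ F) : Matrix κ κ F) = P * (g : Matrix ι ι F) * P' := rfl

theorem rconj_symm_rconj {P : Matrix κ ι F} {P' : Matrix ι κ F} (R : RPair P P') (g : GL ι F) :
    rconj R.symm (rconj R g) = g := by
  apply Units.ext
  rw [rconj_val, rconj_val]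
  exact (rconjRing R).left_inv _

theorem rconj_rconj_symm {P : Matrix κ ι F} {P' : Matrix ι κ F} (R : RPair P P') (g : GL κ F) :
    rconj R (rconj R.symm g) = g := by
  apply Units.ext
  rw [rconj_val, rconj_val]
  exact (rconjRing R).right_inv _

theorem rconj_mulVec {P : Matrix κ ι F} {P' : Matrix ι κ F} (R : RPair P P') (g : GL ι F)
    (u : κ → F) :
    ((rconj R g : GL κ F) : Matrix κ κ F) *ᵥ u =
      P *ᵥ ((g : Matrix ι ι F) *ᵥ (P' *ᵥ u)) := by
  rw [rconj_val]
  simp only [Matrix.mulVec_mulVec, Matrix.mul_assoc]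

theorem RPair.inv_isometry {P : Matrix κ ι F} {P' : Matrix ι κ F} (R : RPair P P')
    (Q : (κ → F) → F) (Q' : (ι → F) → F) (h : ∀ v, Q (P *ᵥ v) = Q' v) :
    ∀ u, Q' (P' *ᵥ u) = Q u := by
  intro u
  rw [← h, Matrix.mulVec_mulVec, R.h1, Matrix.one_mulVec]

variable (Q : (κ → F) → F) (Q' : (ι → F) → F)

theorem rconj_mem_iso {P : Matrix κ ι F} {P' : Matrix ι κ F} (R : RPair P P')
    (h : ∀ v, Q (P *ᵥ v) = Q' v) {s : GL ι F} (hs : s ∈ Cfsg.isometryGroup F Q') :
    rconj R s ∈ Cfsg.isometryGroup F Q := by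
  rw [Cfsg.Agent.Lib.Helper19.mem_isometryGroup_iff] at hs ⊢
  intro u
  rw [rconj_mulVec, h, hs, R.inv_isometry Q Q' h]

/-- conjugation by a rectangular linear isometry, on the isometry groups. -/
def conjIsoR {P : Matrix κ ι F} {P' : Matrix ι κ F} (R : RPair P P')
    (h : ∀ v, Q (P *ᵥ v) = Q' v) :
    ↥(Cfsg.isometryGroup F Q') ≃* ↥(Cfsg.isometryGroup F Q) where
  toFun s := ⟨rconj R s.1, rconj_mem_iso Q Q' R h s.2⟩
  invFun s := ⟨rconj R.symm s.1, rconj_mem_iso Q' Q R.symm (R.inv_isometry Q Q' h) s.2⟩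
  left_inv s := Subtype.ext (rconj_symm_rconj R s.1)
  right_inv s := Subtype.ext (rconj_rconj_symm R s.1)
  map_mul' s t := Subtype.ext (map_mul (rconj R) s.1 t.1)

theorem conjIsoR_val {P : Matrix κ ι F} {P' : Matrix ι κ F} (R : RPair P P')
    (h : ∀ v, Q (P *ᵥ v) = Q' v) (s : ↥(Cfsg.isometryGroup F Q')) :
    ((conjIsoR Q Q' R h s : ↥(Cfsg.isometryGroup F Q)) : GL κ F) = rconj R s.1 := rfl

/-- the isomorphism `PΩ(Q') ≃* PΩ(Q)` induced by a rectangular linear isometry. -/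
noncomputable def isoPOR {P : Matrix κ ι F} {P' : Matrix ι κ F} (R : RPair P P')
    (h : ∀ v, Q (P *ᵥ v) = Q' v) : Cfsg.POmega F Q' ≃* Cfsg.POmega F Q :=
  pcEquiv (conjIsoR Q Q' R h)

theorem isoPOR_mk {P : Matrix κ ι F} {P' : Matrix ι κ F} (R : RPair P P')
    (h : ∀ v, Q (P *ᵥ v) = Q' v) (s : ↥(Cfsg.Omega F Q')) :
    ∃ s' : ↥(Cfsg.Omega F Q), isoPOR Q Q' R h (QuotientGroup.mk s) = QuotientGroup.mk s' ∧
      ((s' : ↥(Cfsg.isometryGroup F Q)) : GL κ F) = rconj R (s.1 : GL ι F) :=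
  ⟨commEquiv (conjIsoR Q Q' R h) s, rfl, rfl⟩

theorem isoPOR_symm_mk {P : Matrix κ ι F} {P' : Matrix ι κ F} (R : RPair P P')
    (h : ∀ v, Q (P *ᵥ v) = Q' v) (s : ↥(Cfsg.Omega F Q)) :
    ∃ s' : ↥(Cfsg.Omega F Q'), (isoPOR Q Q' R h).symm (QuotientGroup.mk s) = QuotientGroup.mk s' ∧
      ((s' : ↥(Cfsg.isometryGroup F Q')) : GL ι F) = rconj R.symm (s.1 : GL κ F) := by
  refine ⟨(commEquiv (conjIsoR Q Q' R h)).symm s, ?_, ?_⟩
  · rw [MulEquiv.symm_apply_eq]
    show _ = QuotientGroup.mk (commEquiv (conjIsoR Q Q' R h) _)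
    rw [MulEquiv.apply_symm_apply]
  · have h1 : commEquiv (conjIsoR Q Q' R h) ((commEquiv (conjIsoR Q Q' R h)).symm s) = s :=
      MulEquiv.apply_symm_apply _ _
    have h2 : (((commEquiv (conjIsoR Q Q' R h) ((commEquiv (conjIsoR Q Q' R h)).symm s) :
        ↥(Cfsg.Omega F Q)) : ↥(Cfsg.isometryGroup F Q)) : GL κ F) =
        ((s : ↥(Cfsg.isometryGroup F Q)) : GL κ F) := by rw [h1]
    rw [commEquiv_val, conjIsoR_val] at h2
    rw [← h2, rconj_symm_rconj]

/-- conjugating a similarity by a rectangular linear isometry. -/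
theorem rconj_mem_sim {P : Matrix κ ι F} {P' : Matrix ι κ F} (R : RPair P P')
    (h : ∀ v, Q (P *ᵥ v) = Q' v) {t : GL ι F}
    (ht : t ∈ Cfsg.Geo.quadSimilarityGroup (F := F) Q') :
    rconj R t ∈ Cfsg.Geo.quadSimilarityGroup (F := F) Q := by
  obtain ⟨c, hc⟩ := ht
  refine ⟨c, fun u => ?_⟩
  rw [rconj_mulVec, h, hc, R.inv_isometry Q Q' h]

/-- **transport of `autPO`** along the isomorphism induced by a rectangular linear isometry. -/
theorem congr_isoPOR_autPO {P : Matrix κ ι F} {P' : Matrix ι κ F} (R : RPair P P')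
    (h : ∀ v, Q (P *ᵥ v) = Q' v) (t : ↥(Cfsg.Geo.quadSimilarityGroup (F := F) Q')) :
    MulAut.congr (isoPOR Q Q' R h) (autPO Q' t) =
      autPO Q ⟨rconj R t.1, rconj_mem_sim Q Q' R h t.2⟩ := by
  rw [← isInduced_iff]
  intro s s₂ hs
  obtain ⟨s₁, h1, h1v⟩ := isoPOR_symm_mk Q Q' R h s
  obtain ⟨s₃, h3, h3v⟩ := autPO_mk_val Q' t s₁
  obtain ⟨s₄, h4, h4v⟩ := isoPOR_mk Q Q' R h s₃
  have e1 : MulAut.congr (isoPOR Q Q' R h) (autPO Q' t) (QuotientGroup.mk s) =
      isoPOR Q Q' R h (autPO Q' t ((isoPOR Q Q' R h).symm (QuotientGroup.mk s))) := rfl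
  rw [e1, h1, h3, h4]
  congr 1
  apply Omega_ext
  rw [hs, h4v, h3v, h1v, map_mul, map_mul, rconj_rconj_symm, map_inv]
  simp only [Units.val_mul, RingEquiv.coe_refl, Matrix.map_id', Units.val_inv_eq_inv_val,
    Matrix.map_id]

end rect

end Cfsg.Agent.Lib.Helper07.OG
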