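import Cfsg.Agent.Lib.Helper07.OrthZg
import Cfsg.Agent.Lib.Helper08.SimilarityMult

set_option autoImplicit false
set_option linter.unusedSimpArgs false
set_option linter.unusedVariables false
set_option linter.unusedSectionVars false
set_option linter.style.haveILetI false

/-! Orthogonal groups in odd characteristic, even dimension `2m`: the subgroup `Esub` of `Aut(PΩ)`
induced by the similarities with `det = μ^m`; it is normal in `Aut(PΩ)`. -/

namespace Cfsg.Agent.Lib.Helper07.OG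

open Module Matrix Cfsg.Agent.Lib.Helper43 Cfsg.Agent.Lib.Helper07.UG Cfsg.Agent.Lib.Helper08

variable {F : Type*} [Field F] [Fintype F] [DecidableEq F] {ι : Type} [Fintype ι] [DecidableEq ι]
variable {Q : QuadraticForm F (ι → F)}

/-- the conjugate `g₀ σ(s) g₀⁻¹` of a similarity by a semisimilarity. -/
def conjS (g₀ : GL ι F) (σ : F ≃+* F) (s : GL ι F) : GL ι F :=
  g₀ * Matrix.GeneralLinearGroup.map (σ : F →+* F) s * g₀⁻¹

theorem det_conjS (g₀ : GL ι F) (σ : F ≃+* F) (s : GL ι F) :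
    ((conjS g₀ σ s : GL ι F) : Matrix ι ι F).det = σ ((s : Matrix ι ι F).det) := by
  unfold conjS
  rw [Units.val_mul, Units.val_mul, Matrix.det_mul, Matrix.det_mul, det_GLmap]
  have h1 : ((g₀ : Matrix ι ι F)).det * ((g₀⁻¹ : GL ι F) : Matrix ι ι F).det = 1 := by
    rw [← Matrix.det_mul, ← Units.val_mul, mul_inv_cancel, Units.val_one, Matrix.det_one]
  calc (g₀ : Matrix ι ι F).det * σ ((s : Matrix ι ι F).det) * ((g₀⁻¹ : GL ι F) : Matrix ι ι F).det
      = ((g₀ : Matrix ι ι F).det * ((g₀⁻¹ : GL ι F) : Matrix ι ι F).det) *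
          σ ((s : Matrix ι ι F).det) := by ring
    _ = _ := by rw [h1, one_mul]

/-- the multiplier of the conjugate. -/
theorem conjS_mult {g₀ : GL ι F} {σ : F ≃+* F} (h₀ : Cfsg.IsSemisimilarityPair (⇑Q) g₀ σ)
    {s : GL ι F} {μ : F} (hs : ∀ v, Q ((s : Matrix ι ι F) *ᵥ v) = μ * Q v) (v : ι → F) :
    Q (((conjS g₀ σ s : GL ι F) : Matrix ι ι F) *ᵥ v) = σ μ * Q v := by
  obtain ⟨c₀, hc₀⟩ := h₀
  obtain ⟨w, hw⟩ : ∃ w : ι → F, w = fun i => σ.symm ((((g₀⁻¹ : GL ι F) : Matrix ι ι F) *ᵥ v) i) :=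
    ⟨_, rfl⟩
  have hw1 : (fun i => σ (w i)) = ((g₀⁻¹ : GL ι F) : Matrix ι ι F) *ᵥ v := by
    funext i
    rw [hw]
    simp
  have hv : (g₀ : Matrix ι ι F) *ᵥ (fun i => σ (w i)) = v := by
    rw [hw1, Matrix.mulVec_mulVec, ← Units.val_mul, mul_inv_cancel, Units.val_one,
      Matrix.one_mulVec]
  have h1 : ((conjS g₀ σ s : GL ι F) : Matrix ι ι F) *ᵥ v =
      (g₀ : Matrix ι ι F) *ᵥ (fun i => σ (((s : Matrix ι ι F) *ᵥ w) i)) := by
    unfold conjS
    rw [Units.val_mul, Units.val_mul, ← Matrix.mulVec_mulVec, ← Matrix.mulVec_mulVec, ← hw1]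
    congr 1
    funext i
    have := RingHom.map_mulVec (σ : F →+* F) (s : Matrix ι ι F) w i
    exact this.symm
  rw [h1, hc₀, hs, map_mul]
  have h2 := hc₀ w
  rw [hv] at h2
  rw [h2]
  ring

theorem conjS_semi {g₀ : GL ι F} {σ : F ≃+* F} (h₀ : Cfsg.IsSemisimilarityPair (⇑Q) g₀ σ)
    {s : GL ι F} (hs : Cfsg.IsSemisimilarityPair (⇑Q) s (RingEquiv.refl F)) :
    Cfsg.IsSemisimilarityPair (⇑Q) (conjS g₀ σ s) (RingEquiv.refl F) := by
  obtain ⟨c, hc⟩ := hs
  have hs' : ∀ v, Q ((s : Matrix ι ι F) *ᵥ v) = (c : F) * Q v := fun v => by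
    have := hc v
    simpa using this
  refine ⟨Units.map (σ : F →* F) c, fun v => ?_⟩
  have := conjS_mult h₀ hs' v
  simpa using this

/-- conjugation of a linear automorphism by a semilinear one. -/
theorem autS_conj {g₀ : GL ι F} {σ : F ≃+* F} (h₀ : Cfsg.IsSemisimilarityPair (⇑Q) g₀ σ)
    {s : GL ι F} (hs : Cfsg.IsSemisimilarityPair (⇑Q) s (RingEquiv.refl F)) :
    autS g₀ σ h₀ * autS s (RingEquiv.refl F) hs * (autS g₀ σ h₀)⁻¹ =
      autS (conjS g₀ σ s) (RingEquiv.refl F) (conjS_semi h₀ hs) := by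
  rw [autS_mul, autS_inv, autS_mul]
  apply autS_congr
  · unfold conjS
    have e1 : (((RingEquiv.refl F).trans σ : F ≃+* F) : F →+* F) = (σ : F →+* F) := by
      ext x; rfl
    rw [e1, map_map_symm]
  · ext x
    simp

section esub

variable {u0 : ι → F} (hu0 : Q u0 = 1) (m : ℕ)

theorem delta_eq_one_iff (s : ↥(Cfsg.Geo.quadSimilarityGroup (F := F) ⇑Q)) :
    delta Q hu0 m s = 1 ↔
      ((s : GL ι F) : Matrix ι ι F).det = (multFun Q s : F) ^ m := by
  rw [delta_apply, inv_pow, mul_inv_eq_one, Units.ext_iff, Units.val_pow_eq_pow_val, detGO_val]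

theorem autPO_eq_autS (s : ↥(Cfsg.Geo.quadSimilarityGroup (F := F) ⇑Q)) :
    autPO (⇑Q) s = autS (s : GL ι F) (RingEquiv.refl F) ((semi_refl_iff _).2 s.2) :=
  (autS_refl_eq_autPO _).symm

/-- scalars have `det = μ^m`. -/
theorem delta_of_scalar (hcard : Fintype.card ι = 2 * m)
    (s : ↥(Cfsg.Geo.quadSimilarityGroup (F := F) ⇑Q)) (c : F)
    (hc : ∀ v, ((s : GL ι F) : Matrix ι ι F) *ᵥ v = c • v) : delta Q hu0 m s = 1 := by
  rw [delta_eq_one_iff]
  have hmat : ((s : GL ι F) : Matrix ι ι F) = c • (1 : Matrix ι ι F) := by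
    rw [Matrix.ext_iff_mulVec]
    intro v
    rw [hc, Matrix.smul_mulVec, Matrix.one_mulVec]
  have hμ : (multFun Q s : F) = c * c := by
    have h1 := multFun_spec Q s u0
    rw [hc, QuadraticMap.map_smul, hu0, smul_eq_mul, mul_one, mul_one] at h1
    exact h1.symm
  rw [hμ, hmat, Matrix.det_smul, Matrix.det_one, mul_one, hcard, ← pow_two, ← pow_mul]

/-- the kernel of `autPO` consists of scalars. -/
theorem ker_autPO_le_ker_delta (C : OC Q) (p : ℕ) [Fact p.Prime] [CharP F p]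
    (hcard : Fintype.card ι = 2 * m) : (autPO (⇑Q)).ker ≤ (delta Q hu0 m).ker := by
  intro s hs
  rw [MonoidHom.mem_ker, autPO_eq_autS] at hs
  obtain ⟨-, c, hc⟩ := autS_eq_one_imp C p _ hs
  rw [MonoidHom.mem_ker]
  exact delta_of_scalar hu0 m hcard s c hc

variable (Q) in
/-- the subgroup of `Aut(PΩ)` induced by the similarities with `det = μ^m`. -/
noncomputable def Esub : Subgroup (MulAut (Cfsg.POmega F ⇑Q)) :=
  (delta Q hu0 m).ker.map (autPO (⇑Q))

theorem autPO_mem_Esub_iff (C : OC Q) (p : ℕ) [Fact p.Prime] [CharP F p]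
    (hcard : Fintype.card ι = 2 * m) (s : ↥(Cfsg.Geo.quadSimilarityGroup (F := F) ⇑Q)) :
    autPO (⇑Q) s ∈ Esub Q hu0 m ↔ delta Q hu0 m s = 1 := by
  constructor
  · rintro ⟨t, ht, hts⟩
    have h1 : t⁻¹ * s ∈ (autPO (⇑Q)).ker := by
      rw [MonoidHom.mem_ker, map_mul, map_inv, hts, inv_mul_cancel]
    have h2 := ker_autPO_le_ker_delta hu0 m C p hcard h1
    rw [MonoidHom.mem_ker, map_mul, map_inv, MonoidHom.mem_ker.1 ht, inv_one, one_mul] at h2
    exact h2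
  · intro h
    exact ⟨s, MonoidHom.mem_ker.2 h, rfl⟩

theorem Esub_le_range : Esub Q hu0 m ≤ (autPO (⇑Q)).range := by
  rintro _ ⟨s, -, rfl⟩
  exact ⟨s, rfl⟩

theorem inn_le_Esub : Cfsg.Inn (Cfsg.POmega F ⇑Q) ≤ Esub Q hu0 m := by
  rw [inn_eq]
  rintro _ ⟨ω, hω, rfl⟩
  refine ⟨inclGO Q ω, ?_, rfl⟩
  rw [SetLike.mem_coe, MonoidHom.mem_ker, delta_eq_one_iff, multFun_inclGO Q hu0, inclGO_val]
  have := (mem_SO_iff_det Q ω).1 (Omega_le_SO Q hω)
  rw [this]
  simp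

/-- **`Esub` is normal in `Aut(PΩ)`**. -/
theorem Esub_normal (htop : Cfsg.gammaPOmega F ⇑Q = ⊤) : (Esub Q hu0 m).Normal := by
  constructor
  rintro _ ⟨s, hs, rfl⟩ β
  obtain ⟨g₀, σ, h₀, rfl⟩ := exists_autS htop β
  rw [autPO_eq_autS, autS_conj, autS_refl_eq_autPO]
  refine ⟨_, ?_, rfl⟩
  rw [SetLike.mem_coe, MonoidHom.mem_ker, delta_eq_one_iff] at hs ⊢
  have hmult : multFun Q ⟨conjS g₀ σ (s : GL ι F),
      (semi_refl_iff _).1 (conjS_semi h₀ ((semi_refl_iff _).2 s.2))⟩ =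
      Units.map (σ : F →* F) (multFun Q s) := by
    apply multFun_unique Q hu0
    intro v
    exact conjS_mult h₀ (multFun_spec Q s) v
  rw [hmult]
  show ((conjS g₀ σ (s : GL ι F) : GL ι F) : Matrix ι ι F).det = _
  rw [det_conjS, hs]
  simp

/-- an isometry of determinant `-1` induces an automorphism outside `Esub`. -/
theorem autO_not_mem_Esub (C : OC Q) (p : ℕ) [Fact p.Prime] [CharP F p] (h2 : (2 : F) ≠ 0)
    (hcard : Fintype.card ι = 2 * m) (N : ↥(Cfsg.isometryGroup F ⇑Q))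
    (hN : ((N : GL ι F) : Matrix ι ι F).det = -1) : autO (⇑Q) N ∉ Esub Q hu0 m := by
  rw [autO_eq_comp, MonoidHom.comp_apply, autPO_mem_Esub_iff hu0 m C p hcard, delta_eq_one_iff,
    multFun_inclGO Q hu0, inclGO_val, hN]
  simp only [Units.val_one, one_pow]
  intro h
  apply h2
  linear_combination -h

include hu0 in
/-- an automorphism induced by a similarity is inner only if the multiplier is a square. -/
theorem isSquare_mult_of_mem_inn (C : OC Q) (p : ℕ) [Fact p.Prime] [CharP F p]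
    (s : ↥(Cfsg.Geo.quadSimilarityGroup (F := F) ⇑Q))
    (hs : autPO (⇑Q) s ∈ Cfsg.Inn (Cfsg.POmega F ⇑Q)) : IsSquare (multFun Q s : F) := by
  rw [inn_eq] at hs
  obtain ⟨ω, hω, hωs⟩ := hs
  rw [autO_eq_autS, autPO_eq_autS] at hωs
  obtain ⟨-, c, hc⟩ := autS_eq_autS_imp C p _ _ hωs
  refine ⟨c, ?_⟩
  have h1 := multFun_spec Q s u0
  rw [hc, QuadraticMap.map_smul, (Cfsg.Agent.Lib.Helper19.mem_isometryGroup_iff _ _).1 ω.2, hu0,
    smul_eq_mul, mul_one, mul_one] at h1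
  exact h1.symm

/-- an element of `Esub` that is not inner. -/
theorem exists_mem_Esub_not_inn (C : OC Q) (p : ℕ) [Fact p.Prime] [CharP F p]
    (hcard : Fintype.card ι = 2 * m) (N : ↥(Cfsg.isometryGroup F ⇑Q))
    (hN : ((N : GL ι F) : Matrix ι ι F).det = -1)
    (g0 : ↥(Cfsg.Geo.quadSimilarityGroup (F := F) ⇑Q)) (hg0 : ¬ IsSquare (multFun Q g0 : F)) :
    ∃ e1 : MulAut (Cfsg.POmega F ⇑Q), e1 ∈ Esub Q hu0 m ∧
      e1 ∉ Cfsg.Inn (Cfsg.POmega F ⇑Q) := by
  have hδN : delta Q hu0 m (inclGO Q N) = -1 := by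
    apply Units.ext
    rw [delta_apply, multFun_inclGO Q hu0]
    simp only [inv_one, one_pow, mul_one, detGO_val, inclGO_val, hN, Units.val_neg, Units.val_one]
  have hμN : multFun Q (inclGO Q N) = 1 := multFun_inclGO Q hu0 N
  rcases delta_cases Q hu0 m C.hQ hcard g0 with h | h
  · refine ⟨autPO (⇑Q) g0, ⟨g0, MonoidHom.mem_ker.2 h, rfl⟩, fun hI => ?_⟩
    exact hg0 (isSquare_mult_of_mem_inn hu0 C p g0 hI)
  · refine ⟨autPO (⇑Q) (g0 * inclGO Q N), ⟨_, ?_, rfl⟩, fun hI => ?_⟩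
    · rw [SetLike.mem_coe, MonoidHom.mem_ker, map_mul, h, hδN]
      simp
    · have h1 := isSquare_mult_of_mem_inn hu0 C p _ hI
      have h3 : multFun Q (g0 * inclGO Q N) = multFun Q g0 := by
        have := map_mul (mult Q hu0) g0 (inclGO Q N)
        rw [mult_apply, mult_apply, mult_apply, hμN, mul_one] at this
        exact this
      rw [h3] at h1
      exact hg0 h1

end esub

end Cfsg.Agent.Lib.Helper07.OG
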