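import Cfsg.Agent.Lib.Helper07.OrthRa
import Cfsg.Agent.Lib.Helper07.OrthZh

set_option autoImplicit false
set_option linter.unusedSimpArgs false
set_option linter.unusedVariables false
set_option linter.unusedSectionVars false
set_option linter.style.haveILetI false

/-! Rectangular transport: `Esub`, and the semilinear automorphisms. -/

namespace Cfsg.Agent.Lib.Helper07.OG

open Module Matrix Cfsg.Agent.Lib.Helper43 Cfsg.Agent.Lib.Helper07.UG Cfsg.Agent.Lib.Helper08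

section esubR

variable {F : Type*} [Field F] [Fintype F] [DecidableEq F] {ι κ : Type} [Fintype ι] [DecidableEq ι]
  [Fintype κ] [DecidableEq κ]
variable {Q : QuadraticForm F (κ → F)} {Q' : QuadraticForm F (ι → F)}

theorem multFun_rconj {u0 : κ → F} (hu0 : Q u0 = 1) {P : Matrix κ ι F} {P' : Matrix ι κ F}
    (R : RPair P P') (h : ∀ v, Q (P *ᵥ v) = Q' v)
    (t : ↥(Cfsg.Geo.quadSimilarityGroup (F := F) ⇑Q')) :
    multFun Q ⟨rconj R t.1, rconj_mem_sim (⇑Q) (⇑Q') R h t.2⟩ = multFun Q' t := by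
  apply multFun_unique Q hu0
  intro u
  show Q (((rconj R t.1 : GL κ F) : Matrix κ κ F) *ᵥ u) = _
  rw [rconj_mulVec, h, multFun_spec Q' t, R.inv_isometry (⇑Q) (⇑Q') h]

theorem det_rconj {P : Matrix κ ι F} {P' : Matrix ι κ F} (R : RPair P P') (g : GL ι F) :
    ((rconj R g : GL κ F) : Matrix κ κ F).det = (g : Matrix ι ι F).det := by
  rw [rconj_val]
  exact Matrix.det_conj_of_mul_eq_one R.h1 R.h2

theorem delta_rconj {u0 : κ → F} {u0' : ι → F} (hu0 : Q u0 = 1) (hu0' : Q' u0' = 1) (m : ℕ)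
    {P : Matrix κ ι F} {P' : Matrix ι κ F} (R : RPair P P') (h : ∀ v, Q (P *ᵥ v) = Q' v)
    (t : ↥(Cfsg.Geo.quadSimilarityGroup (F := F) ⇑Q')) :
    delta Q hu0 m ⟨rconj R t.1, rconj_mem_sim (⇑Q) (⇑Q') R h t.2⟩ = 1 ↔
      delta Q' hu0' m t = 1 := by
  rw [delta_eq_one_iff, delta_eq_one_iff, multFun_rconj hu0 R h t]
  have hdet : (((⟨rconj R t.1, rconj_mem_sim (⇑Q) (⇑Q') R h t.2⟩ :
      ↥(Cfsg.Geo.quadSimilarityGroup (F := F) ⇑Q)) : GL κ F) : Matrix κ κ F).det =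
      ((t : GL ι F) : Matrix ι ι F).det := det_rconj R t.1
  rw [hdet]

/-- the isomorphism induced by a rectangular linear isometry carries `Esub` to `Esub`. -/
theorem Esub_congr_isoPOR {u0 : κ → F} {u0' : ι → F} (hu0 : Q u0 = 1) (hu0' : Q' u0' = 1) {m : ℕ}
    {P : Matrix κ ι F} {P' : Matrix ι κ F} (R : RPair P P') (h : ∀ v, Q (P *ᵥ v) = Q' v)
    (γ : MulAut (Cfsg.POmega F ⇑Q')) :
    γ ∈ Esub Q' hu0' m ↔ MulAut.congr (isoPOR (⇑Q) (⇑Q') R h) γ ∈ Esub Q hu0 m := by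
  constructor
  · rintro ⟨t, ht, rfl⟩
    rw [congr_isoPOR_autPO]
    refine ⟨_, ?_, rfl⟩
    rw [SetLike.mem_coe, MonoidHom.mem_ker] at ht ⊢
    exact (delta_rconj hu0 hu0' m R h t).2 ht
  · rintro ⟨s, hs, hsγ⟩
    have hinv := R.inv_isometry (⇑Q) (⇑Q') h
    obtain ⟨t, ht⟩ : ∃ t : ↥(Cfsg.Geo.quadSimilarityGroup (F := F) ⇑Q'),
        t = ⟨rconj R.symm s.1, rconj_mem_sim (⇑Q') (⇑Q) R.symm hinv s.2⟩ := ⟨_, rfl⟩
    have hts : (⟨rconj R t.1, rconj_mem_sim (⇑Q) (⇑Q') R h t.2⟩ :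
        ↥(Cfsg.Geo.quadSimilarityGroup (F := F) ⇑Q)) = s := by
      apply Subtype.ext
      rw [ht]
      exact rconj_rconj_symm R s.1
    have h1 : MulAut.congr (isoPOR (⇑Q) (⇑Q') R h) (autPO (⇑Q') t) =
        MulAut.congr (isoPOR (⇑Q) (⇑Q') R h) γ := by
      rw [congr_isoPOR_autPO, hts, hsγ]
    have h2 : autPO (⇑Q') t = γ := (MulAut.congr (isoPOR (⇑Q) (⇑Q') R h)).injective h1
    rw [← h2]
    refine ⟨t, ?_, rfl⟩
    rw [SetLike.mem_coe, MonoidHom.mem_ker] at hs ⊢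
    rw [← delta_rconj hu0 hu0' m R h t, hts]
    exact hs

end esubR

section semiR

variable {F : Type*} [Field F] [Fintype F] {ι κ : Type} [Fintype ι] [DecidableEq ι]
  [Fintype κ] [DecidableEq κ]
variable {Q : QuadraticForm F (κ → F)} {Q' : QuadraticForm F (ι → F)}

/-- **a twisted field automorphism becomes standard**: if `P g τ(P') = 1`, the automorphism
induced by `v ↦ g τ(v)` on `PΩ(Q')` corresponds to the standard field automorphism of `PΩ(Q)`. -/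
theorem congr_isoPOR_autS {P : Matrix κ ι F} {P' : Matrix ι κ F} (R : RPair P P')
    (h : ∀ v, Q (P *ᵥ v) = Q' v) (g : GL ι F) (τ : F ≃+* F)
    (hg : Cfsg.IsSemisimilarityPair (⇑Q') g τ)
    (hP : P * (g : Matrix ι ι F) * P'.map τ = 1) :
    Cfsg.IsFieldAutPOmegaOf (⇑Q) τ (MulAut.congr (isoPOR (⇑Q) (⇑Q') R h) (autS g τ hg)) := by
  intro s s' hss'
  obtain ⟨s₁, h1, h1v⟩ := isoPOR_symm_mk (⇑Q) (⇑Q') R h s
  obtain ⟨s₄, h4, h4v⟩ := isoPOR_mk (⇑Q) (⇑Q') R h (autSΩ g τ hg s₁)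
  have e1 : MulAut.congr (isoPOR (⇑Q) (⇑Q') R h) (autS g τ hg) (QuotientGroup.mk s) =
      isoPOR (⇑Q) (⇑Q') R h (autS g τ hg ((isoPOR (⇑Q) (⇑Q') R h).symm (QuotientGroup.mk s))) := rfl
  rw [e1, h1]
  have e2 : autS g τ hg (QuotientGroup.mk s₁) = QuotientGroup.mk (autSΩ g τ hg s₁) :=
    autS_prj g τ hg s₁
  rw [e2, h4]
  congr 1
  apply Omega_ext
  rw [hss', h4v, rconj_val, autSΩ_val, semiConj_val, h1v, rconj_val]
  -- the matrix identity
  have hP2 : P.map τ * ((g⁻¹ : GL ι F) : Matrix ι ι F) * P' = 1 := by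
    have e : (P * (g : Matrix ι ι F) * P'.map τ) * (P.map τ * ((g⁻¹ : GL ι F) : Matrix ι ι F) * P')
        = 1 := by
      have h3 : P'.map τ * P.map τ = 1 := by
        rw [← Matrix.map_mul, R.h2]
        exact Matrix.map_one _ (map_zero _) (map_one _)
      calc (P * (g : Matrix ι ι F) * P'.map τ) *
          (P.map τ * ((g⁻¹ : GL ι F) : Matrix ι ι F) * P')
          = P * ((g : Matrix ι ι F) * ((P'.map τ * P.map τ) *
              ((g⁻¹ : GL ι F) : Matrix ι ι F))) * P' := by simp only [Matrix.mul_assoc]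
        _ = P * ((g : Matrix ι ι F) * ((g⁻¹ : GL ι F) : Matrix ι ι F)) * P' := by
            rw [h3, Matrix.one_mul]
        _ = 1 := by
            rw [← Units.val_mul, mul_inv_cancel, Units.val_one, Matrix.mul_one, R.h1]
    rw [hP, Matrix.one_mul] at e
    exact e
  have hmap : (P' * (((s : ↥(Cfsg.isometryGroup F ⇑Q)) : GL κ F) : Matrix κ κ F) * P).map τ =
      P'.map τ * ((((s : ↥(Cfsg.isometryGroup F ⇑Q)) : GL κ F) : Matrix κ κ F)).map τ * P.map τ := by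
    rw [Matrix.map_mul, Matrix.map_mul]
  rw [hmap]
  calc P * ((g : Matrix ι ι F) * (P'.map τ *
        ((((s : ↥(Cfsg.isometryGroup F ⇑Q)) : GL κ F) : Matrix κ κ F)).map τ * P.map τ) *
        ((g⁻¹ : GL ι F) : Matrix ι ι F)) * P'
      = (P * (g : Matrix ι ι F) * P'.map τ) *
        ((((s : ↥(Cfsg.isometryGroup F ⇑Q)) : GL κ F) : Matrix κ κ F)).map τ *
        (P.map τ * ((g⁻¹ : GL ι F) : Matrix ι ι F) * P') := by simp only [Matrix.mul_assoc]
    _ = _ := by rw [hP, hP2, Matrix.one_mul, Matrix.mul_one]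

end semiR

end Cfsg.Agent.Lib.Helper07.OG
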