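import Cfsg.Agent.Lib.Helper07.OrthRb
import Cfsg.Agent.Lib.Helper50.PlusForm

set_option autoImplicit false
set_option linter.unusedSimpArgs false
set_option linter.unusedVariables false
set_option linter.unusedSectionVars false
set_option linter.style.haveILetI false

/-! The explicit isometry between the hyperbolic form in `2(k+1)` variables and the form
`quadFormMinus k F a b` whose binary part splits as `(z₁ - ρ z₂)(z₁ - ρ' z₂)`. -/

namespace Cfsg.Agent.Lib.Helper07.OG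

open Module Matrix Cfsg.Agent.Lib.Helper43 Cfsg.Agent.Lib.Helper07.UG Cfsg.Agent.Lib.Helper08

section gf

variable {F : Type*} [Field F] [Fintype F] (k : ℕ)

/-- the index bijection. -/
def eIdx : Fin (k + 1) ⊕ Fin (k + 1) ≃ (Fin k ⊕ Fin k) ⊕ Fin 2 where
  toFun := Sum.elim (Fin.lastCases (Sum.inr 0) (fun i => Sum.inl (Sum.inl i)))
    (Fin.lastCases (Sum.inr 1) (fun i => Sum.inl (Sum.inr i)))
  invFun := Sum.elim (Sum.elim (fun i => Sum.inl i.castSucc) (fun i => Sum.inr i.castSucc))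
    (fun t => if t = 0 then Sum.inl (Fin.last k) else Sum.inr (Fin.last k))
  left_inv := by
    rintro (i | i)
    · induction i using Fin.lastCases with
      | last => simp
      | cast i => simp
    · induction i using Fin.lastCases with
      | last => simp
      | cast i => simp
  right_inv := by
    rintro ((i | i) | t)
    · simp
    · simp
    · fin_cases t <;> simp

@[simp] theorem eIdx_inl_castSucc (i : Fin k) :
    eIdx k (Sum.inl i.castSucc) = Sum.inl (Sum.inl i) := by simp [eIdx]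

@[simp] theorem eIdx_inr_castSucc (i : Fin k) :
    eIdx k (Sum.inr i.castSucc) = Sum.inl (Sum.inr i) := by simp [eIdx]

@[simp] theorem eIdx_inl_last : eIdx k (Sum.inl (Fin.last k)) = Sum.inr 0 := by simp [eIdx]

@[simp] theorem eIdx_inr_last : eIdx k (Sum.inr (Fin.last k)) = Sum.inr 1 := by simp [eIdx]

/-- the hyperbolic form read through the index bijection. -/
theorem quadFormPlus_comp_eIdx (w : (Fin k ⊕ Fin k) ⊕ Fin 2 → F) :
    Cfsg.quadFormPlus (k + 1) F (w ∘ eIdx k) =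
      (∑ i : Fin k, w (.inl (.inl i)) * w (.inl (.inr i))) + w (.inr 0) * w (.inr 1) := by
  unfold Cfsg.quadFormPlus
  rw [Fin.sum_univ_castSucc]
  simp

/-- the binary change of coordinates `(z₁, z₂) ↦ (z₁ - ρ z₂, z₁ - ρ' z₂)`. -/
def Bp (ρ ρ' : F) : Matrix (Fin 2) (Fin 2) F := !![1, -ρ; 1, -ρ']

/-- its inverse. -/
def Bi (ρ ρ' : F) : Matrix (Fin 2) (Fin 2) F := (ρ - ρ')⁻¹ • !![-ρ', ρ; -1, 1]

theorem Bp_mul_Bi {ρ ρ' : F} (h : ρ ≠ ρ') : Bp ρ ρ' * Bi ρ ρ' = 1 := by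
  have hd : ρ - ρ' ≠ 0 := sub_ne_zero.mpr h
  have h1 : Bp ρ ρ' * !![-ρ', ρ; -1, 1] = (ρ - ρ') • (1 : Matrix (Fin 2) (Fin 2) F) := by
    unfold Bp
    ext i j
    fin_cases i <;> fin_cases j <;> simp [Matrix.mul_apply, Fin.sum_univ_two] <;> ring
  unfold Bi
  rw [Matrix.mul_smul, h1, smul_smul, inv_mul_cancel₀ hd, one_smul]

theorem Bi_mul_Bp {ρ ρ' : F} (h : ρ ≠ ρ') : Bi ρ ρ' * Bp ρ ρ' = 1 := by
  have hd : ρ - ρ' ≠ 0 := sub_ne_zero.mpr h
  have h1 : !![-ρ', ρ; -1, 1] * Bp ρ ρ' = (ρ - ρ') • (1 : Matrix (Fin 2) (Fin 2) F) := by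
    unfold Bp
    ext i j
    fin_cases i <;> fin_cases j <;> simp [Matrix.mul_apply, Fin.sum_univ_two] <;> ring
  unfold Bi
  rw [Matrix.smul_mul, h1, smul_smul, inv_mul_cancel₀ hd, one_smul]

/-- `P'`: from the minus coordinates to the plus coordinates. -/
def Pp (ρ ρ' : F) : Matrix (Fin (k + 1) ⊕ Fin (k + 1)) ((Fin k ⊕ Fin k) ⊕ Fin 2) F :=
  (blkM k (Bp ρ ρ')).submatrix (eIdx k) id

/-- `P`: from the plus coordinates to the minus coordinates. -/
def Pm (ρ ρ' : F) : Matrix ((Fin k ⊕ Fin k) ⊕ Fin 2) (Fin (k + 1) ⊕ Fin (k + 1)) F :=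
  (blkM k (Bi ρ ρ')).submatrix id (eIdx k)

theorem rpair_Pm_Pp {ρ ρ' : F} (h : ρ ≠ ρ') : RPair (Pm k ρ ρ') (Pp k ρ ρ') := by
  constructor
  · unfold Pm Pp
    have := Matrix.submatrix_mul_equiv (blkM k (Bi ρ ρ')) (blkM k (Bp ρ ρ'))
      (id : (Fin k ⊕ Fin k) ⊕ Fin 2 → _) (eIdx k) (id : (Fin k ⊕ Fin k) ⊕ Fin 2 → _)
    rw [this, ← blkM_mul, Bi_mul_Bp h, blkM_one]
    exact Matrix.submatrix_one_equiv (Equiv.refl _)
  · unfold Pm Pp
    have := Matrix.submatrix_mul_equiv (blkM k (Bp ρ ρ')) (blkM k (Bi ρ ρ'))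
      (eIdx k) (Equiv.refl ((Fin k ⊕ Fin k) ⊕ Fin 2)) (eIdx k)
    rw [Equiv.coe_refl] at this
    rw [this, ← blkM_mul, Bp_mul_Bi h, blkM_one]
    exact Matrix.submatrix_one_equiv (eIdx k)

theorem Pp_mulVec (ρ ρ' : F) (u : (Fin k ⊕ Fin k) ⊕ Fin 2 → F) :
    Pp k ρ ρ' *ᵥ u = (blkM k (Bp ρ ρ') *ᵥ u) ∘ eIdx k := by
  unfold Pp
  have := Matrix.submatrix_mulVec_equiv (blkM k (Bp ρ ρ')) u (eIdx k)
    (Equiv.refl ((Fin k ⊕ Fin k) ⊕ Fin 2))
  rw [Equiv.coe_refl] at this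
  rw [this]
  rfl

/-- the hyperbolic form in the new coordinates is the form with split binary part. -/
theorem quadFormPlus_Pp (ρ ρ' : F) (u : (Fin k ⊕ Fin k) ⊕ Fin 2 → F) :
    Cfsg.quadFormPlus (k + 1) F (Pp k ρ ρ' *ᵥ u) =
      Cfsg.quadFormMinus k F (-(ρ + ρ')) (ρ * ρ') u := by
  rw [Pp_mulVec, quadFormPlus_comp_eIdx, blkM_mulVec, quadFormMinus_eq]
  simp only [Sum.elim_inl, Sum.elim_inr, Function.comp_apply]
  congr 1
  unfold qb Bp
  simp [Matrix.mulVec, dotProduct, Fin.sum_univ_two]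
  ring

theorem quadFormMinus_Pm {ρ ρ' : F} (h : ρ ≠ ρ') (v : Fin (k + 1) ⊕ Fin (k + 1) → F) :
    Cfsg.quadFormMinus k F (-(ρ + ρ')) (ρ * ρ') (Pm k ρ ρ' *ᵥ v) =
      Cfsg.quadFormPlus (k + 1) F v := by
  rw [← quadFormPlus_Pp, Matrix.mulVec_mulVec, (rpair_Pm_Pp k h).h2, Matrix.one_mulVec]

/-- polar form of the hyperbolic form. -/
theorem polar_quadFormPlus' (n : ℕ) (v x : Fin n ⊕ Fin n → F) :
    QuadraticMap.polar (Cfsg.quadFormPlus n F) v x =
      ∑ i : Fin n, (v (.inl i) * x (.inr i) + x (.inl i) * v (.inr i)) := by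
  unfold QuadraticMap.polar Cfsg.quadFormPlus
  rw [← Finset.sum_sub_distrib, ← Finset.sum_sub_distrib]
  refine Finset.sum_congr rfl fun i _ => ?_
  simp only [Pi.add_apply]
  ring

/-- the vector `e_last - f_last`. -/
def v0 : Fin (k + 1) ⊕ Fin (k + 1) → F :=
  Pi.single (Sum.inl (Fin.last k)) 1 - Pi.single (Sum.inr (Fin.last k)) 1

theorem v0_fixed (τ : F ≃+* F) (i : Fin (k + 1) ⊕ Fin (k + 1)) : τ (v0 (F := F) k i) = v0 k i := by
  unfold v0
  rcases i with i | i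
  · by_cases h : i = Fin.last k
    · subst h; simp
    · simp [h]
  · by_cases h : i = Fin.last k
    · subst h; simp
    · simp [h]

theorem quadFormPlus_v0 : Cfsg.quadFormPlus (k + 1) F (v0 k) = -1 := by
  unfold Cfsg.quadFormPlus v0
  rw [Fin.sum_univ_castSucc]
  simp

theorem polar_v0 (x : Fin (k + 1) ⊕ Fin (k + 1) → F) :
    QuadraticMap.polar (Cfsg.quadFormPlus (k + 1) F) (v0 k) x =
      x (.inr (Fin.last k)) - x (.inl (Fin.last k)) := by
  rw [polar_quadFormPlus']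
  unfold v0
  rw [Fin.sum_univ_castSucc]
  simp
  ring

/-- the reflection in `e_last - f_last` interchanges the last two coordinates. -/
theorem refl_v0_mulVec (x : Fin (k + 1) ⊕ Fin (k + 1) → F) :
    Cfsg.reflectionMatrix (Cfsg.quadFormPlus (k + 1) F) (v0 k) *ᵥ x =
      fun r => x (Sum.elim (Fin.lastCases (Sum.inr (Fin.last k)) (fun i => Sum.inl i.castSucc))
        (Fin.lastCases (Sum.inl (Fin.last k)) (fun i => Sum.inr i.castSucc)) r) := by
  have h1 := Cfsg.Agent.Lib.Helper19.reflectionMatrix_mulVec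
    (Cfsg.Agent.Lib.Helper50.QPlus (k + 1) F) (v0 k) x
  rw [Cfsg.Agent.Lib.Helper50.QPlus_coe] at h1
  rw [h1]
  rw [quadFormPlus_v0, polar_v0]
  funext r
  rcases r with i | i
  · induction i using Fin.lastCases with
    | last => simp [v0]
    | cast i => simp [v0]
  · induction i using Fin.lastCases with
    | last => simp [v0]
    | cast i => simp [v0]

/-- the reflection carries `P'(ρ', ρ)` to `P'(ρ, ρ')`. -/
theorem refl_v0_Pp (ρ ρ' : F) (u : (Fin k ⊕ Fin k) ⊕ Fin 2 → F) :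
    Cfsg.reflectionMatrix (Cfsg.quadFormPlus (k + 1) F) (v0 k) *ᵥ (Pp k ρ' ρ *ᵥ u) =
      Pp k ρ ρ' *ᵥ u := by
  rw [refl_v0_mulVec, Pp_mulVec, Pp_mulVec, blkM_mulVec, blkM_mulVec]
  funext r
  rcases r with i | i
  · induction i using Fin.lastCases with
    | last => simp [Bp, Matrix.mulVec, dotProduct, Fin.sum_univ_two]
    | cast i => simp
  · induction i using Fin.lastCases with
    | last => simp [Bp, Matrix.mulVec, dotProduct, Fin.sum_univ_two]
    | cast i => simp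

theorem Pp_map (τ : F ≃+* F) (ρ ρ' : F) : (Pp k ρ ρ').map τ = Pp k (τ ρ) (τ ρ') := by
  unfold Pp
  rw [← Matrix.submatrix_map, blkM_map]
  congr 2
  unfold Bp
  ext i j
  fin_cases i <;> fin_cases j <;> simp

/-- **the key identity**: `P · r_{v₀} · τ(P') = 1` when `τ` interchanges `ρ` and `ρ'`. -/
theorem Pm_refl_Pp_map (τ : F ≃+* F) {ρ ρ' : F} (h : ρ ≠ ρ') (h1 : τ ρ = ρ') (h2 : τ ρ' = ρ) :
    Pm k ρ ρ' * Cfsg.reflectionMatrix (Cfsg.quadFormPlus (k + 1) F) (v0 k) * (Pp k ρ ρ').map τ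
      = 1 := by
  rw [Pp_map, h1, h2, Matrix.ext_iff_mulVec]
  intro u
  rw [← Matrix.mulVec_mulVec, ← Matrix.mulVec_mulVec, refl_v0_Pp, Matrix.mulVec_mulVec,
    (rpair_Pm_Pp k h).h1]

end gf

end Cfsg.Agent.Lib.Helper07.OG
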