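import Cfsg.Agent.Lib.Helper07.OrthR

set_option autoImplicit false
set_option linter.unusedSimpArgs false
set_option linter.unusedVariables false
set_option linter.unusedSectionVars false

/-! Orthogonal groups: every automorphism of `PΩ` is induced by a semisimilarity
(generic theorem, modulo the hypothesis `GoodD`). -/

namespace Cfsg.Agent.Lib.Helper07.OG

open Module Matrix Cfsg.Agent.Lib.Helper43 Cfsg.Agent.Lib.Helper07.UG

variable {F : Type*} [Field F] [Fintype F] {ι : Type} [Fintype ι] [DecidableEq ι]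
variable {Q : QuadraticForm F (ι → F)}

local notation "Bf" => QuadraticMap.polarBilin Q

theorem exists_hyp (C : OC Q) : ∃ e f : ι → F, Q e = 0 ∧ Q f = 0 ∧ Bf e f = 1 := by
  have hn' : 7 ≤ finrank F (ι → F) := by
    rw [Module.finrank_fintype_fun_eq_card]; exact C.hn
  obtain ⟨s, x, -, -, -, -, hs, hsx⟩ := exists_singular_pair_orth2 Q C.hQ hn' 0 0
  obtain ⟨b, hb⟩ : ∃ b, b = Bf s x := ⟨_, rfl⟩
  have hb0 : b ≠ 0 := by rw [hb]; exact hsx
  refine ⟨s, b⁻¹ • (x - (Q x / b) • s), hs, ?_, ?_⟩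
  · rw [Q_smul, Q_sub, Q_smul, hs, map_smul, polar_symm Q x s, ← hb]
    simp only [smul_eq_mul]
    field_simp
    ring
  · rw [map_smul, map_sub, map_smul, polar_self0 hs, ← hb]
    simp only [smul_eq_mul, mul_zero, sub_zero]
    field_simp

/-- inner automorphisms are induced by isometries. -/
theorem conj_mem_gamma (s : ↥(Cfsg.Omega F ⇑Q)) :
    MulAut.conj (prj s) ∈ Cfsg.gammaPOmega F ⇑Q := by
  apply Subgroup.subset_closure
  refine ⟨((s : ↥(Cfsg.isometryGroup F ⇑Q)) : GL ι F), RingEquiv.refl F, ?_, ?_⟩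
  · refine ⟨1, ?_⟩
    intro v
    have h1 := (Cfsg.Agent.Lib.Helper19.mem_isometryGroup_iff (Q := ⇑Q)
      (g := ((s : ↥(Cfsg.isometryGroup F ⇑Q)) : GL ι F))).1 s.1.2 v
    simpa using h1
  · intro t t' htt'
    show prj s * prj t * (prj s)⁻¹ = prj t'
    rw [← map_mul, ← map_inv, ← map_mul]
    congr 1
    apply Cfsg.Agent.Lib.Helper08.Omega_ext
    rw [htt']
    have : ((((t : ↥(Cfsg.isometryGroup F ⇑Q)) : GL ι F) : Matrix ι ι F)).map (RingEquiv.refl F) =
        (((t : ↥(Cfsg.isometryGroup F ⇑Q)) : GL ι F) : Matrix ι ι F) := by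
      ext i j
      simp
    rw [this]
    rfl

theorem autS_mem_gamma (g : GL ι F) (σ : F ≃+* F) (h : Cfsg.IsSemisimilarityPair (⇑Q) g σ) :
    autS g σ h ∈ Cfsg.gammaPOmega F ⇑Q :=
  Subgroup.subset_closure ⟨g, σ, h, isInduced_autS g σ h⟩

section generic

variable {X : Type*} [Group X]

theorem map_mul_aut (a b : MulAut X) (H : Subgroup X) :
    H.map (a * b).toMonoidHom = (H.map b.toMonoidHom).map a.toMonoidHom := by
  rw [Subgroup.map_map]
  rfl

theorem map_inv_aut (a : MulAut X) {H K : Subgroup X} (h : H.map a.toMonoidHom = K) :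
    K.map (a⁻¹).toMonoidHom = H := by
  rw [← h, ← map_mul_aut, inv_mul_cancel]
  ext x
  simp

end generic

/-- **Every automorphism of `PΩ(Q)` is induced by a semisimilarity** (given `GoodD`). -/
theorem gammaPOmega_eq_top (C : OC Q) (p : ℕ) [Fact p.Prime] [CharP F p] (hD : GoodD C p) :
    Cfsg.gammaPOmega F ⇑Q = ⊤ := by
  rw [eq_top_iff]
  rintro β -
  obtain ⟨e, f, he, hf, hef⟩ := exists_hyp C
  obtain ⟨g₀, h1, h2⟩ := exists_normalize C p hD β he hf hef
  obtain ⟨α, hα⟩ : ∃ α, α = MulAut.conj (prj g₀) * β := ⟨_, rfl⟩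
  rw [← hα] at h1 h2
  have S : Std C α e f := ⟨he, hf, hef, h1, h2⟩
  have hfe : Bf f e = 1 := S.hfe
  obtain ⟨lam, c, hc0, hlam, hQc⟩ := S.exists_semisimilarity p hD
  obtain ⟨g, hg⟩ := S.exists_gl p lam c hc0 hlam hQc
  have hsemi : ∀ v, Q (semiAct g lam v) = c * lam (Q v) := by
    intro v
    rw [hg, S.PhiV_Q lam c hQc]
  have h : Cfsg.IsSemisimilarityPair (⇑Q) g lam := ⟨Units.mk0 c hc0, hsemi⟩
  obtain ⟨γ, hγ⟩ : ∃ γ, γ = autS g lam h := ⟨_, rfl⟩
  -- values of `PhiV`
  have hpWe : pW Q e f e = 0 := by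
    unfold pW
    rw [hfe, polar_self0 he]
    simp
  have hpWf : pW Q e f f = 0 := by
    unfold pW
    rw [hef, polar_self0 hf]
    simp
  have hPe : semiAct g lam e = c • e := by
    rw [hg]
    unfold Std.PhiV
    rw [hpWe, S.phi_zero p, hef, polar_self0 he]
    simp
  have hPf : semiAct g lam f = f := by
    rw [hg]
    unfold Std.PhiV
    rw [hpWf, S.phi_zero p, hfe, polar_self0 hf]
    simp
  have hPw : ∀ w ∈ Wsp Q e f, semiAct g lam w = S.phi w := by
    intro w hw
    rw [hg]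
    unfold Std.PhiV
    have e1 : Bf w f = 0 := by rw [polar_symm]; exact hw.2
    have e2 : Bf w e = 0 := by rw [polar_symm]; exact hw.1
    rw [pW_of_mem hw, e1, e2]
    simp
  -- `γ` agrees with `α` on `Qb e`
  have hγW : ∀ w ∈ Wsp Q e f, γ (prj (sg C e w)) = prj (sg C e (S.phi w)) := by
    intro w hw
    have hw1 : Bf e w = 0 := hw.1
    have hφ1 : Bf e (S.phi w) = 0 := (S.phi_mem w).1
    rw [hγ, autS_prj, autSΩ_sg C g lam h hc0 hsemi he hw1, hPe, hPw w hw,
      sg_smul_left C c he (by rw [map_smul, hφ1, smul_zero]), smul_smul, mul_inv_cancel₀ hc0,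
      one_smul]
  have hγα : ∀ x, Bf e x = 0 → γ (prj (sg C e x)) = α (prj (sg C e x)) := by
    intro x hx
    obtain ⟨h3, h4⟩ := S.sg_norm hx
    rw [← h4, hγW _ h3, S.phi_spec]
  -- `γ` stabilises `Qb f`
  have hγf : (Qb C f).map γ.toMonoidHom = Qb C f := by
    apply Subgroup.eq_of_le_of_card_ge
    · rintro _ ⟨y, hy, rfl⟩
      obtain ⟨v, hv, rfl⟩ := (mem_Qb_iff C hf y).1 hy
      show γ (prj (sg C f v)) ∈ Qb C f
      rw [hγ, autS_prj, autSΩ_sg C g lam h hc0 hsemi hf hv, hPf]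
      apply prj_sg_mem_Qb C hf
      have h9 : Bf f (semiAct g lam v) = 0 := by
        conv_lhs => rw [← hPf]
        rw [polar_semiAct hsemi, hv, map_zero, mul_zero]
      rw [map_smul, h9, smul_zero]
    · rw [Subgroup.card_map_of_injective γ.injective]
  have hα' : γ⁻¹ * α = 1 := by
    apply rigid C p hD (γ⁻¹ * α) he hf hef
    · intro x hx
      show γ⁻¹ (α (prj (sg C e x))) = prj (sg C e x)
      rw [← hγα x hx]
      exact γ.symm_apply_apply _
    · rw [map_mul_aut, h2]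
      exact map_inv_aut γ hγf
  have hβ : β = (MulAut.conj (prj g₀))⁻¹ * γ := by
    have h5 : α = γ := by
      have := congrArg (fun z => γ * z) hα'
      simpa [mul_assoc] using this
    rw [← h5, hα]
    group
  rw [hβ]
  exact Subgroup.mul_mem _ (Subgroup.inv_mem _ (conj_mem_gamma g₀)) (by rw [hγ]; exact autS_mem_gamma g lam h)

end Cfsg.Agent.Lib.Helper07.OG
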