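import Cfsg.Agent.Lib.Helper07.OrthZj
import Cfsg.Agent.Lib.Helper46.ArtinSchreier2

set_option autoImplicit false
set_option linter.unusedSimpArgs false
set_option linter.unusedVariables false
set_option linter.unusedSectionVars false
set_option linter.style.haveILetI false

/-! Two anisotropic binary forms over a finite field differ by a change of basis
`(z₁, z₂) ↦ (z₁ + s z₂, t z₂)`; the induced linear isometry between the two minus-type forms. -/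

namespace Cfsg.Agent.Lib.Helper07.OG

open Module Matrix Cfsg.Agent.Lib.Helper43 Cfsg.Agent.Lib.Helper07.UG

section st

variable {F : Type*} [Field F] [Fintype F]

theorem exists_st_odd' (h2 : (2 : F) ≠ 0) (a b a' b' : F)
    (hab : ∀ z₁ z₂ : F, z₁ ^ 2 + a * z₁ * z₂ + b * z₂ ^ 2 = 0 → z₁ = 0 ∧ z₂ = 0)
    (hab' : ∀ z₁ z₂ : F, z₁ ^ 2 + a' * z₁ * z₂ + b' * z₂ ^ 2 = 0 → z₁ = 0 ∧ z₂ = 0) :
    ∃ s t : F, t ≠ 0 ∧ 2 * s + a * t = a' ∧ s ^ 2 + a * s * t + b * t ^ 2 = b' := by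
  classical
  obtain ⟨D, hD⟩ : ∃ D, D = a ^ 2 - 4 * b := ⟨_, rfl⟩
  obtain ⟨D', hD'⟩ : ∃ D', D' = a' ^ 2 - 4 * b' := ⟨_, rfl⟩
  have hDns : ¬ IsSquare D := by rw [hD]; exact disc_not_isSquare a b h2 hab
  have hDns' : ¬ IsSquare D' := by rw [hD']; exact disc_not_isSquare a' b' h2 hab'
  have hD0 : D ≠ 0 := by rintro rfl; exact hDns IsSquare.zero
  have hD0' : D' ≠ 0 := by rintro rfl; exact hDns' IsSquare.zero
  have hsq : IsSquare (D' * D) := by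
    rw [← quadraticChar_neg_one_iff_not_isSquare] at hDns hDns'
    rw [← quadraticChar_one_iff_isSquare (mul_ne_zero hD0' hD0), map_mul, hDns, hDns']
    norm_num
  obtain ⟨r, hr⟩ := hsq
  have hr0 : r ≠ 0 := by
    rintro rfl
    rw [mul_zero] at hr
    exact mul_ne_zero hD0' hD0 hr
  refine ⟨(a' - a * (r / D)) / 2, r / D, div_ne_zero hr0 hD0, ?_, ?_⟩
  · field_simp
    ring
  · have ht : (r / D) ^ 2 * D = a' ^ 2 - 4 * b' := by
      rw [← hD']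
      field_simp
      linear_combination -hr
    obtain ⟨t, htdef⟩ : ∃ t, t = r / D := ⟨_, rfl⟩
    rw [← htdef] at ht ⊢
    rw [hD] at ht
    field_simp
    linear_combination -ht

theorem exists_st_even' {f : ℕ} (hF : Fintype.card F = 2 ^ f) (a b a' b' : F)
    (hab : ∀ z₁ z₂ : F, z₁ ^ 2 + a * z₁ * z₂ + b * z₂ ^ 2 = 0 → z₁ = 0 ∧ z₂ = 0)
    (hab' : ∀ z₁ z₂ : F, z₁ ^ 2 + a' * z₁ * z₂ + b' * z₂ ^ 2 = 0 → z₁ = 0 ∧ z₂ = 0) :
    ∃ s t : F, t ≠ 0 ∧ 2 * s + a * t = a' ∧ s ^ 2 + a * s * t + b * t ^ 2 = b' := by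
  have h2 : (2 : F) = 0 := Cfsg.Agent.Lib.Helper46.AS2.two_eq_zero hF
  obtain ⟨ha, htr⟩ := Cfsg.Agent.Lib.Helper46.AS2.trace_eq_one hF a b hab
  obtain ⟨ha', htr'⟩ := Cfsg.Agent.Lib.Helper46.AS2.trace_eq_one hF a' b' hab'
  have h0 : Cfsg.Agent.Lib.Helper46.AS2.tr f (b / a ^ 2 + b' / a' ^ 2) = 0 := by
    rw [Cfsg.Agent.Lib.Helper46.AS2.tr_add hF]
    unfold Cfsg.Agent.Lib.Helper46.AS2.tr
    rw [htr, htr']
    linear_combination h2
  obtain ⟨y, hy⟩ := Cfsg.Agent.Lib.Helper46.AS2.exists_wp_of_tr_eq_zero hF _ h0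
  refine ⟨a' * y, a' / a, div_ne_zero ha' ha, ?_, ?_⟩
  · field_simp
    linear_combination y * h2
  · have hy' : a' ^ 2 * (y ^ 2 + y) = a' ^ 2 * (b / a ^ 2 + b' / a' ^ 2) := by rw [hy]
    field_simp at hy' ⊢
    linear_combination hy' + (a' ^ 2 * b) * h2

theorem exists_st' {p f : ℕ} [Fact p.Prime] (hF : Fintype.card F = p ^ f) (a b a' b' : F)
    (hab : ∀ z₁ z₂ : F, z₁ ^ 2 + a * z₁ * z₂ + b * z₂ ^ 2 = 0 → z₁ = 0 ∧ z₂ = 0)
    (hab' : ∀ z₁ z₂ : F, z₁ ^ 2 + a' * z₁ * z₂ + b' * z₂ ^ 2 = 0 → z₁ = 0 ∧ z₂ = 0) :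
    ∃ s t : F, t ≠ 0 ∧ 2 * s + a * t = a' ∧ s ^ 2 + a * s * t + b * t ^ 2 = b' := by
  by_cases hp : p = 2
  · subst hp
    exact exists_st_even' hF a b a' b' hab hab'
  · have hpodd : Odd p := (Fact.out : p.Prime).odd_of_ne_two hp
    have hodd : Odd (Fintype.card F) := by rw [hF]; exact hpodd.pow
    have h2 : (2 : F) ≠ 0 := Cfsg.Agent.Lib.Helper50.two_ne_zero_of_odd_card rfl hodd
    exact exists_st_odd' h2 a b a' b' hab hab'

end st

section iso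

variable {F : Type*} [Field F] [Fintype F] (m : ℕ)

/-- the change of basis matrix. -/
def stM (s t : F) : Matrix (Fin 2) (Fin 2) F := !![1, s; 0, t]

theorem stM_mulVec (s t : F) (w : Fin 2 → F) : stM s t *ᵥ w = ![w 0 + s * w 1, t * w 1] := by
  funext i
  fin_cases i <;> simp [stM, Matrix.mulVec, dotProduct, Fin.sum_univ_two]

/-- the change of basis as an element of `GL₂`. -/
noncomputable def stG (s t : F) (ht : t ≠ 0) : GL (Fin 2) F :=
  Matrix.GeneralLinearGroup.mkOfDetNeZero (stM s t) (by simp [stM, Matrix.det_fin_two, ht])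

theorem stG_val (s t : F) (ht : t ≠ 0) :
    ((stG s t ht : GL (Fin 2) F) : Matrix (Fin 2) (Fin 2) F) = stM s t := rfl

theorem qb_stM {a b a' b' s t : F} (h1 : 2 * s + a * t = a')
    (h2 : s ^ 2 + a * s * t + b * t ^ 2 = b') (z : Fin 2 → F) :
    qb a b (stM s t *ᵥ z) = qb a' b' z := by
  rw [stM_mulVec]
  unfold qb
  simp only [Matrix.cons_val_zero, Matrix.cons_val_one]
  rw [← h1, ← h2]
  ring

/-- the linear isometry from `quadFormMinus m F a' b'` to `quadFormMinus m F a b`. -/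
theorem quadFormMinus_stG {a b a' b' s t : F} (ht : t ≠ 0) (h1 : 2 * s + a * t = a')
    (h2 : s ^ 2 + a * s * t + b * t ^ 2 = b') (v : (Fin m ⊕ Fin m) ⊕ Fin 2 → F) :
    Cfsg.quadFormMinus m F a b
      (((blkG m (stG s t ht) : GL ((Fin m ⊕ Fin m) ⊕ Fin 2) F) :
        Matrix ((Fin m ⊕ Fin m) ⊕ Fin 2) ((Fin m ⊕ Fin m) ⊕ Fin 2) F) *ᵥ v) =
      Cfsg.quadFormMinus m F a' b' v := by
  rw [blkG_val, blkM_mulVec, quadFormMinus_eq, quadFormMinus_eq]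
  have h3 : (Sum.elim (v ∘ Sum.inl)
      (((stG s t ht : GL (Fin 2) F) : Matrix (Fin 2) (Fin 2) F) *ᵥ (v ∘ Sum.inr))) ∘ Sum.inr =
      stM s t *ᵥ (v ∘ Sum.inr) := by
    funext k
    simp [stG_val]
  rw [h3, qb_stM h1 h2]
  simp only [Sum.elim_inl, Function.comp_apply]

end iso

end Cfsg.Agent.Lib.Helper07.OG
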