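import Cfsg.Agent.Lib.Helper07.OrthTa

set_option autoImplicit false
set_option linter.unusedSimpArgs false
set_option linter.unusedVariables false
set_option linter.unusedSectionVars false
set_option linter.style.haveILetI false

/-! A linear isometry `g₁ : (V, Q') → (V, Q)` identifies `PΩ(Q')` with `PΩ(Q)`; the induced
isomorphism of automorphism groups carries `autPO Q' h` to `autPO Q (g₁ h g₁⁻¹)`. -/

namespace Cfsg.Agent.Lib.Helper07.OG

open Module Matrix Cfsg.Agent.Lib.Helper43 Cfsg.Agent.Lib.Helper07.UG Cfsg.Agent.Lib.Helper08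

section grp

variable {G H : Type*} [Group G] [Group H] (e : G ≃* H)

theorem map_commutator_equiv : (commutator G).map e.toMonoidHom = commutator H := by
  rw [commutator_def, commutator_def, Subgroup.map_commutator,
    Subgroup.map_top_of_surjective e.toMonoidHom e.surjective]

/-- the induced isomorphism of derived subgroups. -/
noncomputable def commEquiv : ↥(commutator G) ≃* ↥(commutator H) :=
  (e.subgroupMap (commutator G)).trans (MulEquiv.subgroupCongr (map_commutator_equiv e))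

theorem commEquiv_val (x : ↥(commutator G)) : ((commEquiv e x : ↥(commutator H)) : H) = e x := rfl

theorem map_center_equiv {A B : Type*} [Group A] [Group B] (e : A ≃* B) :
    (Subgroup.center A).map e.toMonoidHom = Subgroup.center B := by
  ext y
  constructor
  · rintro ⟨x, hx, rfl⟩
    rw [Subgroup.mem_center_iff]
    intro b
    obtain ⟨a, rfl⟩ := e.surjective b
    rw [SetLike.mem_coe, Subgroup.mem_center_iff] at hx
    show e a * e x = e x * e a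
    rw [← map_mul, ← map_mul, hx a]
  · intro hy
    refine ⟨e.symm y, ?_, e.apply_symm_apply y⟩
    rw [SetLike.mem_coe, Subgroup.mem_center_iff]
    intro a
    rw [Subgroup.mem_center_iff] at hy
    apply e.injective
    rw [map_mul, map_mul, e.apply_symm_apply]
    exact hy (e a)

/-- the induced isomorphism `G'/Z(G') ≃* H'/Z(H')`. -/
noncomputable def pcEquiv : (↥(commutator G) ⧸ Subgroup.center ↥(commutator G)) ≃*
    (↥(commutator H) ⧸ Subgroup.center ↥(commutator H)) :=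
  QuotientGroup.congr _ _ (commEquiv e) (map_center_equiv (commEquiv e))

theorem pcEquiv_mk (x : ↥(commutator G)) :
    pcEquiv e (QuotientGroup.mk x) = QuotientGroup.mk (commEquiv e x) := rfl

end grp

section conj

variable {F : Type*} [Field F] {ι : Type} [Fintype ι] [DecidableEq ι]
variable (Q Q' : (ι → F) → F)

theorem conj_mem_iso {g₁ : GL ι F} (h : ∀ v, Q ((g₁ : Matrix ι ι F) *ᵥ v) = Q' v) {s : GL ι F}
    (hs : s ∈ Cfsg.isometryGroup F Q') : g₁ * s * g₁⁻¹ ∈ Cfsg.isometryGroup F Q := by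
  rw [Cfsg.Agent.Lib.Helper19.mem_isometryGroup_iff] at hs ⊢
  intro u
  have h1 : ((g₁ * s * g₁⁻¹ : GL ι F) : Matrix ι ι F) *ᵥ u =
      (g₁ : Matrix ι ι F) *ᵥ ((s : Matrix ι ι F) *ᵥ (((g₁⁻¹ : GL ι F) : Matrix ι ι F) *ᵥ u)) := by
    simp only [Units.val_mul, Matrix.mulVec_mulVec, Matrix.mul_assoc]
  rw [h1, h, hs]
  have h2 := h (((g₁⁻¹ : GL ι F) : Matrix ι ι F) *ᵥ u)
  rw [Matrix.mulVec_mulVec, ← Units.val_mul, mul_inv_cancel, Units.val_one, Matrix.one_mulVec] at h2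
  exact h2.symm

theorem inv_isometry {g₁ : GL ι F} (h : ∀ v, Q ((g₁ : Matrix ι ι F) *ᵥ v) = Q' v) :
    ∀ v, Q' (((g₁⁻¹ : GL ι F) : Matrix ι ι F) *ᵥ v) = Q v := by
  intro v
  rw [← h, Matrix.mulVec_mulVec, ← Units.val_mul, mul_inv_cancel, Units.val_one, Matrix.one_mulVec]

/-- conjugation by a linear isometry `(V, Q') → (V, Q)`, on the isometry groups. -/
def conjIso (g₁ : GL ι F) (h : ∀ v, Q ((g₁ : Matrix ι ι F) *ᵥ v) = Q' v) :
    ↥(Cfsg.isometryGroup F Q') ≃* ↥(Cfsg.isometryGroup F Q) where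
  toFun s := ⟨g₁ * s.1 * g₁⁻¹, conj_mem_iso Q Q' h s.2⟩
  invFun s := ⟨g₁⁻¹ * s.1 * g₁, by
    have := conj_mem_iso Q' Q (inv_isometry Q Q' h) s.2
    simpa using this⟩
  left_inv s := by
    apply Subtype.ext
    simp [mul_assoc]
  right_inv s := by
    apply Subtype.ext
    simp [mul_assoc]
  map_mul' s t := by
    apply Subtype.ext
    simp [mul_assoc]

theorem conjIso_val (g₁ : GL ι F) (h : ∀ v, Q ((g₁ : Matrix ι ι F) *ᵥ v) = Q' v)
    (s : ↥(Cfsg.isometryGroup F Q')) :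
    ((conjIso Q Q' g₁ h s : ↥(Cfsg.isometryGroup F Q)) : GL ι F) = g₁ * s.1 * g₁⁻¹ := rfl

/-- the isomorphism `PΩ(Q') ≃* PΩ(Q)` induced by a linear isometry. -/
noncomputable def isoPO (g₁ : GL ι F) (h : ∀ v, Q ((g₁ : Matrix ι ι F) *ᵥ v) = Q' v) :
    Cfsg.POmega F Q' ≃* Cfsg.POmega F Q :=
  pcEquiv (conjIso Q Q' g₁ h)

theorem isoPO_mk (g₁ : GL ι F) (h : ∀ v, Q ((g₁ : Matrix ι ι F) *ᵥ v) = Q' v)
    (s : ↥(Cfsg.Omega F Q')) :
    ∃ s' : ↥(Cfsg.Omega F Q), isoPO Q Q' g₁ h (QuotientGroup.mk s) = QuotientGroup.mk s' ∧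
      ((s' : ↥(Cfsg.isometryGroup F Q)) : GL ι F) = g₁ * (s.1 : GL ι F) * g₁⁻¹ :=
  ⟨commEquiv (conjIso Q Q' g₁ h) s, rfl, rfl⟩

theorem isoPO_symm_mk (g₁ : GL ι F) (h : ∀ v, Q ((g₁ : Matrix ι ι F) *ᵥ v) = Q' v)
    (s : ↥(Cfsg.Omega F Q)) :
    ∃ s' : ↥(Cfsg.Omega F Q'), (isoPO Q Q' g₁ h).symm (QuotientGroup.mk s) = QuotientGroup.mk s' ∧
      ((s' : ↥(Cfsg.isometryGroup F Q')) : GL ι F) = g₁⁻¹ * (s.1 : GL ι F) * g₁ := by
  refine ⟨(commEquiv (conjIso Q Q' g₁ h)).symm s, ?_, ?_⟩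
  · rw [MulEquiv.symm_apply_eq]
    show _ = QuotientGroup.mk (commEquiv (conjIso Q Q' g₁ h) _)
    rw [MulEquiv.apply_symm_apply]
  · have h1 : commEquiv (conjIso Q Q' g₁ h) ((commEquiv (conjIso Q Q' g₁ h)).symm s) = s :=
      MulEquiv.apply_symm_apply _ _
    have h2 : (((commEquiv (conjIso Q Q' g₁ h) ((commEquiv (conjIso Q Q' g₁ h)).symm s) :
        ↥(Cfsg.Omega F Q)) : ↥(Cfsg.isometryGroup F Q)) : GL ι F) =
        ((s : ↥(Cfsg.isometryGroup F Q)) : GL ι F) := by rw [h1]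
    rw [commEquiv_val, conjIso_val] at h2
    rw [← h2]
    simp [mul_assoc]

/-- conjugating a similarity by a linear isometry. -/
theorem conj_mem_sim {g₁ : GL ι F} (h : ∀ v, Q ((g₁ : Matrix ι ι F) *ᵥ v) = Q' v) {t : GL ι F}
    (ht : t ∈ Cfsg.Geo.quadSimilarityGroup (F := F) Q') :
    g₁ * t * g₁⁻¹ ∈ Cfsg.Geo.quadSimilarityGroup (F := F) Q := by
  obtain ⟨c, hc⟩ := ht
  refine ⟨c, fun u => ?_⟩
  have h1 : ((g₁ * t * g₁⁻¹ : GL ι F) : Matrix ι ι F) *ᵥ u =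
      (g₁ : Matrix ι ι F) *ᵥ ((t : Matrix ι ι F) *ᵥ (((g₁⁻¹ : GL ι F) : Matrix ι ι F) *ᵥ u)) := by
    simp only [Units.val_mul, Matrix.mulVec_mulVec, Matrix.mul_assoc]
  rw [h1, h, hc, inv_isometry Q Q' h]

/-- **transport of `autPO`** along the isomorphism induced by a linear isometry. -/
theorem congr_isoPO_autPO (g₁ : GL ι F) (h : ∀ v, Q ((g₁ : Matrix ι ι F) *ᵥ v) = Q' v)
    (t : ↥(Cfsg.Geo.quadSimilarityGroup (F := F) Q')) :
    MulAut.congr (isoPO Q Q' g₁ h) (autPO Q' t) =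
      autPO Q ⟨g₁ * t.1 * g₁⁻¹, conj_mem_sim Q Q' h t.2⟩ := by
  rw [← isInduced_iff]
  intro s s₂ hs
  obtain ⟨s₁, h1, h1v⟩ := isoPO_symm_mk Q Q' g₁ h s
  obtain ⟨s₃, h3, h3v⟩ := autPO_mk_val Q' t s₁
  obtain ⟨s₄, h4, h4v⟩ := isoPO_mk Q Q' g₁ h s₃
  have e1 : MulAut.congr (isoPO Q Q' g₁ h) (autPO Q' t) (QuotientGroup.mk s) =
      isoPO Q Q' g₁ h (autPO Q' t ((isoPO Q Q' g₁ h).symm (QuotientGroup.mk s))) := rfl
  rw [e1, h1, h3, h4]
  congr 1
  apply Omega_ext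
  rw [hs, h4v, h3v, h1v]
  simp only [Units.val_mul, RingEquiv.coe_refl, Matrix.map_id', Units.val_inv_eq_inv_val,
    _root_.mul_inv_rev, inv_inv]
  simp [mul_assoc]

end conj

end Cfsg.Agent.Lib.Helper07.OG
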