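import Cfsg.Agent.Lib.Helper07.OrthTb

set_option autoImplicit false
set_option linter.unusedSimpArgs false
set_option linter.unusedVariables false
set_option linter.unusedSectionVars false
set_option linter.style.haveILetI false

/-! Transport of normal subgroups of `Aut(PΩ)` along arbitrary group isomorphisms between the
groups of two isometric forms; the case of `Esub` (similarities with `det = μ^m`). -/

namespace Cfsg.Agent.Lib.Helper07.OG

open Module Matrix Cfsg.Agent.Lib.Helper43 Cfsg.Agent.Lib.Helper07.UG Cfsg.Agent.Lib.Helper08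

section grp

variable {A B C : Type*} [Group A] [Group B] [Group C]

theorem congr_trans (e₁ : A ≃* B) (e₂ : B ≃* C) (β : MulAut A) :
    MulAut.congr (e₁.trans e₂) β = MulAut.congr e₂ (MulAut.congr e₁ β) := by
  ext x
  rfl

theorem congr_self (α β : MulAut A) : MulAut.congr α β = α * β * α⁻¹ := by
  ext x
  rfl

theorem congr_symm_congr (e : A ≃* B) (β : MulAut A) :
    MulAut.congr e.symm (MulAut.congr e β) = β := by
  ext x
  simp [MulAut.congr]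

/-- **transport principle**: if one isomorphism `e₀ : B ≃* A` carries `D'` onto the normal
subgroup `D`, then every isomorphism `ψ : A ≃* B` carries `D` onto `D'`. -/
theorem mem_congr_iff_of_normal (D : Subgroup (MulAut A)) [hD : D.Normal] (D' : Subgroup (MulAut B))
    (e₀ : B ≃* A) (h₀ : ∀ γ : MulAut B, γ ∈ D' ↔ MulAut.congr e₀ γ ∈ D) (ψ : A ≃* B)
    (β : MulAut A) : β ∈ D ↔ MulAut.congr ψ β ∈ D' := by
  rw [h₀, ← congr_trans, congr_self]
  constructor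
  · intro h
    exact hD.conj_mem _ h _
  · intro h
    have := hD.conj_mem _ h (ψ.trans e₀ : MulAut A)⁻¹
    simpa [mul_assoc] using this

end grp

section esub

variable {F : Type*} [Field F] [Fintype F] [DecidableEq F] {ι : Type} [Fintype ι] [DecidableEq ι]
variable {Q Q' : QuadraticForm F (ι → F)}

theorem delta_conj_iso {u0 u0' : ι → F} (hu0 : Q u0 = 1) (hu0' : Q' u0' = 1) (m : ℕ) {g₁ : GL ι F}
    (h : ∀ v, Q ((g₁ : Matrix ι ι F) *ᵥ v) = Q' v)
    (t : ↥(Cfsg.Geo.quadSimilarityGroup (F := F) ⇑Q')) :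
    delta Q hu0 m ⟨g₁ * t.1 * g₁⁻¹, conj_mem_sim (⇑Q) (⇑Q') h t.2⟩ = 1 ↔
      delta Q' hu0' m t = 1 := by
  rw [delta_eq_one_iff, delta_eq_one_iff]
  have hmult : multFun Q ⟨g₁ * t.1 * g₁⁻¹, conj_mem_sim (⇑Q) (⇑Q') h t.2⟩ = multFun Q' t := by
    apply multFun_unique Q hu0
    intro u
    have h1 : ((g₁ * t.1 * g₁⁻¹ : GL ι F) : Matrix ι ι F) *ᵥ u =
        (g₁ : Matrix ι ι F) *ᵥ ((t.1 : Matrix ι ι F) *ᵥ
          (((g₁⁻¹ : GL ι F) : Matrix ι ι F) *ᵥ u)) := by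
      simp only [Units.val_mul, Matrix.mulVec_mulVec, Matrix.mul_assoc]
    show Q (((g₁ * t.1 * g₁⁻¹ : GL ι F) : Matrix ι ι F) *ᵥ u) = _
    rw [h1, h, multFun_spec Q' t, inv_isometry (⇑Q) (⇑Q') h]
  rw [hmult]
  have hdet : (((⟨g₁ * t.1 * g₁⁻¹, conj_mem_sim (⇑Q) (⇑Q') h t.2⟩ :
      ↥(Cfsg.Geo.quadSimilarityGroup (F := F) ⇑Q)) : GL ι F) : Matrix ι ι F).det =
      ((t : GL ι F) : Matrix ι ι F).det := by
    show ((g₁ * t.1 * g₁⁻¹ : GL ι F) : Matrix ι ι F).det = _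
    rw [Units.val_mul, Units.val_mul, Matrix.det_mul, Matrix.det_mul]
    have h1 : ((g₁ : Matrix ι ι F)).det * ((g₁⁻¹ : GL ι F) : Matrix ι ι F).det = 1 := by
      rw [← Matrix.det_mul, ← Units.val_mul, mul_inv_cancel, Units.val_one, Matrix.det_one]
    calc (g₁ : Matrix ι ι F).det * (t.1 : Matrix ι ι F).det * ((g₁⁻¹ : GL ι F) : Matrix ι ι F).det
        = ((g₁ : Matrix ι ι F).det * ((g₁⁻¹ : GL ι F) : Matrix ι ι F).det) *
            (t.1 : Matrix ι ι F).det := by ring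
      _ = _ := by rw [h1, one_mul]
  rw [hdet]

/-- the isomorphism induced by a linear isometry carries `Esub` to `Esub`. -/
theorem Esub_congr_isoPO (C : OC Q) (p : ℕ) [Fact p.Prime] [CharP F p] {u0 u0' : ι → F}
    (hu0 : Q u0 = 1) (hu0' : Q' u0' = 1) {m : ℕ} (hcard : Fintype.card ι = 2 * m) {g₁ : GL ι F}
    (h : ∀ v, Q ((g₁ : Matrix ι ι F) *ᵥ v) = Q' v) (γ : MulAut (Cfsg.POmega F ⇑Q')) :
    γ ∈ Esub Q' hu0' m ↔ MulAut.congr (isoPO (⇑Q) (⇑Q') g₁ h) γ ∈ Esub Q hu0 m := by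
  constructor
  · rintro ⟨t, ht, rfl⟩
    rw [congr_isoPO_autPO]
    refine ⟨_, ?_, rfl⟩
    rw [SetLike.mem_coe, MonoidHom.mem_ker] at ht ⊢
    exact (delta_conj_iso hu0 hu0' m h t).2 ht
  · rintro ⟨s, hs, hsγ⟩
    have hinv : ∀ v, Q' (((g₁⁻¹ : GL ι F) : Matrix ι ι F) *ᵥ v) = Q v := inv_isometry (⇑Q) (⇑Q') h
    obtain ⟨t, ht⟩ : ∃ t : ↥(Cfsg.Geo.quadSimilarityGroup (F := F) ⇑Q'),
        t = ⟨g₁⁻¹ * s.1 * g₁, by
          have := conj_mem_sim (⇑Q') (⇑Q) hinv s.2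
          simpa using this⟩ := ⟨_, rfl⟩
    have hts : (⟨g₁ * t.1 * g₁⁻¹, conj_mem_sim (⇑Q) (⇑Q') h t.2⟩ :
        ↥(Cfsg.Geo.quadSimilarityGroup (F := F) ⇑Q)) = s := by
      apply Subtype.ext
      rw [ht]
      simp [mul_assoc]
    have h1 : MulAut.congr (isoPO (⇑Q) (⇑Q') g₁ h) (autPO (⇑Q') t) =
        MulAut.congr (isoPO (⇑Q) (⇑Q') g₁ h) γ := by
      rw [congr_isoPO_autPO, hts, hsγ]
    have h2 : autPO (⇑Q') t = γ := (MulAut.congr (isoPO (⇑Q) (⇑Q') g₁ h)).injective h1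
    rw [← h2]
    refine ⟨t, ?_, rfl⟩
    rw [SetLike.mem_coe, MonoidHom.mem_ker] at hs ⊢
    rw [← delta_conj_iso hu0 hu0' m h t, hts]
    exact hs

end esub

end Cfsg.Agent.Lib.Helper07.OG
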