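import Cfsg.Agent.Lib.Helper07.OrthTc
import Cfsg.Agent.Lib.Helper51.POAut1
import Cfsg.Agent.Lib.Helper51.PSpAut4

set_option autoImplicit false
set_option linter.unusedSimpArgs false
set_option linter.unusedVariables false
set_option linter.unusedSectionVars false
set_option linter.style.haveILetI false

/-! Characteristic-free base change of similarities along a field embedding, and the centralizer
of the standard field automorphism in the image of the similarity group. -/

namespace Cfsg.Agent.Lib.Helper07.OG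

open Module Matrix Cfsg.Agent.Lib.Helper43 Cfsg.Agent.Lib.Helper07.UG Cfsg.Agent.Lib.Helper08
open Cfsg.Agent.Lib.Helper51.POAut

section bc

variable {F₀ F : Type*} [Field F₀] [Field F] {ι : Type} [Fintype ι] [DecidableEq ι]
variable {Q₀ : QuadraticForm F₀ (ι → F₀)} {Q : QuadraticForm F (ι → F)} {j : F₀ →+* F}

theorem bc_polar (hc : Compat Q₀ Q j) (g₀ : Matrix ι ι F₀) (μ : F₀)
    (h : ∀ v, Q₀ (g₀ *ᵥ v) = μ * Q₀ v) (x y : ι → F) :
    QuadraticMap.polar Q (g₀.map j *ᵥ x) (g₀.map j *ᵥ y) = j μ * QuadraticMap.polar Q x y := by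
  have hB : (QuadraticMap.polarBilin Q).compl₁₂ (Matrix.toLin' (g₀.map j))
      (Matrix.toLin' (g₀.map j)) = (j μ) • QuadraticMap.polarBilin Q := by
    apply LinearMap.ext_basis (Pi.basisFun F ι) (Pi.basisFun F ι)
    intro i k
    rw [LinearMap.compl₁₂_apply, LinearMap.smul_apply, LinearMap.smul_apply,
      QuadraticMap.polarBilin_apply_apply, QuadraticMap.polarBilin_apply_apply,
      Pi.basisFun_apply, Pi.basisFun_apply, Matrix.toLin'_apply, Matrix.toLin'_apply,
      ← comp_single (j := j) i, ← comp_single (j := j) k, ← comp_mulVec, ← comp_mulVec,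
      hc.polar, hc.polar, polar_sim g₀ μ h, map_mul, smul_eq_mul]
  have h1 := LinearMap.congr_fun₂ hB x y
  rw [LinearMap.compl₁₂_apply, LinearMap.smul_apply, LinearMap.smul_apply,
    QuadraticMap.polarBilin_apply_apply, QuadraticMap.polarBilin_apply_apply,
    Matrix.toLin'_apply, Matrix.toLin'_apply, smul_eq_mul] at h1
  exact h1

/-- **base change of a similarity, in every characteristic**. -/
theorem bc_sim' (hc : Compat Q₀ Q j) (g₀ : Matrix ι ι F₀) (μ : F₀)
    (h : ∀ v, Q₀ (g₀ *ᵥ v) = μ * Q₀ v) (w : ι → F) :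
    Q (g₀.map j *ᵥ w) = j μ * Q w := by
  classical
  have key : ∀ S : Finset ι, Q (g₀.map j *ᵥ (∑ i ∈ S, Pi.single i (w i))) =
      j μ * Q (∑ i ∈ S, Pi.single i (w i)) := by
    intro S
    induction S using Finset.induction_on with
    | empty => simp
    | insert k S hk ih =>
      rw [Finset.sum_insert hk, Matrix.mulVec_add, QuadraticMap.map_add (⇑Q),
        QuadraticMap.map_add (⇑Q), ih, bc_polar hc g₀ μ h]
      have h1 : (Pi.single k (w k) : ι → F) = w k • (fun i => j ((Pi.single k (1 : F₀) : ι → F₀) i)) := by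
        rw [comp_single]
        ext i
        by_cases hik : i = k
        · subst hik; simp
        · simp [Pi.single_eq_of_ne hik]
      have h3 : Q (g₀.map j *ᵥ (Pi.single k (w k) : ι → F)) =
          j μ * Q (Pi.single k (w k) : ι → F) := by
        rw [h1, Matrix.mulVec_smul, QuadraticMap.map_smul, QuadraticMap.map_smul, ← comp_mulVec,
          hc, hc, h, map_mul]
        simp only [smul_eq_mul]
        ring
      rw [h3]
      ring
  have := key Finset.univ
  rw [Finset.univ_sum_single] at this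
  exact this

theorem bcGL_mem_sim' (hc : Compat Q₀ Q j) {g : GL ι F₀}
    (hg : g ∈ Cfsg.Geo.quadSimilarityGroup (F := F₀) ⇑Q₀) :
    bcGL j g ∈ Cfsg.Geo.quadSimilarityGroup (F := F) ⇑Q := by
  obtain ⟨c, hcv⟩ := hg
  exact ⟨Units.map j.toMonoidHom c, fun w => bc_sim' hc _ (c : F₀) hcv w⟩

/-- base change on the similarity groups, in every characteristic. -/
def bcS (hc : Compat Q₀ Q j) :
    ↥(Cfsg.Geo.quadSimilarityGroup (F := F₀) ⇑Q₀) →* ↥(Cfsg.Geo.quadSimilarityGroup (F := F) ⇑Q) :=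
  ((bcGL j).comp (Subgroup.subtype _)).codRestrict _ (fun g => bcGL_mem_sim' hc g.2)

theorem bcS_val (hc : Compat Q₀ Q j) (g : ↥(Cfsg.Geo.quadSimilarityGroup (F := F₀) ⇑Q₀)) :
    ((bcS hc g : GL ι F) : Matrix ι ι F) = ((g : GL ι F₀) : Matrix ι ι F₀).map j := rfl

/-- descent: a similarity with entries in the subfield comes from the subfield. -/
theorem exists_bcS_eq (hc : Compat Q₀ Q j) {u₀ : ι → F₀} (hu₀ : Q₀ u₀ = 1)
    (g : ↥(Cfsg.Geo.quadSimilarityGroup (F := F) ⇑Q)) (M₀ : Matrix ι ι F₀)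
    (hM : M₀.map j = ((g : GL ι F) : Matrix ι ι F)) :
    ∃ g₀ : ↥(Cfsg.Geo.quadSimilarityGroup (F := F₀) ⇑Q₀), bcS hc g₀ = g := by
  have hdet : M₀.det ≠ 0 := by
    intro h0
    have h1 : ((g : GL ι F) : Matrix ι ι F).det = 0 := by
      rw [← hM, ← RingHom.mapMatrix_apply, ← RingHom.map_det, h0, map_zero]
    have h3 : IsUnit ((g : GL ι F) : Matrix ι ι F).det :=
      (Matrix.isUnit_iff_isUnit_det _).mp (Units.isUnit _)
    rw [h1] at h3
    exact not_isUnit_zero h3
  obtain ⟨c, hcv⟩ := g.2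
  have hμ : (c : F) = j (Q₀ (M₀ *ᵥ u₀)) := by
    have h1 := hcv (fun k => j (u₀ k))
    rw [← hM, ← comp_mulVec, hc, hc, hu₀, map_one, mul_one] at h1
    exact h1.symm
  have hsim : ∀ v, Q₀ (M₀ *ᵥ v) = Q₀ (M₀ *ᵥ u₀) * Q₀ v := by
    intro v
    apply j.injective
    have h1 := hcv (fun k => j (v k))
    rw [← hM, ← comp_mulVec, hc, hc, hμ] at h1
    rw [map_mul]
    exact h1
  have hμ0 : Q₀ (M₀ *ᵥ u₀) ≠ 0 := by
    intro h0
    rw [h0, map_zero] at hμ
    exact Units.ne_zero c hμ
  refine ⟨⟨Matrix.GeneralLinearGroup.mkOfDetNeZero M₀ hdet, ⟨Units.mk0 _ hμ0, hsim⟩⟩, ?_⟩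
  apply Subtype.ext
  apply Units.ext
  exact hM

end bc

end Cfsg.Agent.Lib.Helper07.OG
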