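import Cfsg.Agent.Lib.Helper07.OrthTd

set_option autoImplicit false
set_option linter.unusedSimpArgs false
set_option linter.unusedVariables false
set_option linter.unusedSectionVars false
set_option linter.style.haveILetI false

/-! Generic transport of centralizers / coverings along an isomorphism of automorphism groups. -/

namespace Cfsg.Agent.Lib.Helper07.OG

section grp2

variable {A A' : Type*} [Group A] [Group A']

theorem mem_centralizer_singleton_map (Ψ : A ≃* A') (x g : A) :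
    g ∈ Subgroup.centralizer {x} ↔ Ψ g ∈ Subgroup.centralizer {Ψ x} := by
  rw [Subgroup.mem_centralizer_singleton_iff, Subgroup.mem_centralizer_singleton_iff,
    ← map_mul, ← map_mul]
  exact Ψ.injective.eq_iff.symm

/-- transport of `H ⊓ C(x)` along an isomorphism. -/
theorem centralizer_equiv (Ψ : A ≃* A') (H : Subgroup A) (H' : Subgroup A')
    (hH : ∀ β, β ∈ H ↔ Ψ β ∈ H') (x : A) :
    Nonempty (↥(H ⊓ Subgroup.centralizer {x}) ≃* ↥(H' ⊓ Subgroup.centralizer {Ψ x})) := by
  have h1 : (H ⊓ Subgroup.centralizer {x}).map Ψ.toMonoidHom =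
      H' ⊓ Subgroup.centralizer {Ψ x} := by
    ext y
    constructor
    · rintro ⟨g, ⟨hg1, hg2⟩, rfl⟩
      exact ⟨(hH g).1 hg1, (mem_centralizer_singleton_map Ψ x g).1 hg2⟩
    · rintro ⟨hy1, hy2⟩
      have hy1' : y ∈ H' := hy1
      have hy2' : y ∈ Subgroup.centralizer {Ψ x} := hy2
      have g1 : Ψ.symm y ∈ H := by rw [hH, Ψ.apply_symm_apply]; exact hy1'
      have g2 : Ψ.symm y ∈ Subgroup.centralizer {x} := by
        rw [mem_centralizer_singleton_map Ψ, Ψ.apply_symm_apply]; exact hy2'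
      exact ⟨Ψ.symm y, ⟨g1, g2⟩, Ψ.apply_symm_apply y⟩
  exact ⟨(Ψ.subgroupMap _).trans (MulEquiv.subgroupCongr h1)⟩

/-- transport of the covering `H ≤ K ⊔ (H ⊓ C(x))` along an isomorphism. -/
theorem cover_transport (Ψ : A ≃* A') (H K : Subgroup A) (H' K' : Subgroup A')
    (hH : ∀ β, β ∈ H ↔ Ψ β ∈ H') (hK : ∀ β, β ∈ K ↔ Ψ β ∈ K') (x : A)
    (h : H' ≤ K' ⊔ (H' ⊓ Subgroup.centralizer {Ψ x})) :
    H ≤ K ⊔ (H ⊓ Subgroup.centralizer {x}) := by
  have e1 : H = H'.comap Ψ.toMonoidHom := by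
    ext g; rw [Subgroup.mem_comap]; exact hH g
  have e2 : K = K'.comap Ψ.toMonoidHom := by
    ext g; rw [Subgroup.mem_comap]; exact hK g
  have e3 : H ⊓ Subgroup.centralizer {x} =
      (H' ⊓ Subgroup.centralizer {Ψ x}).comap Ψ.toMonoidHom := by
    ext g
    rw [Subgroup.mem_comap, Subgroup.mem_inf, Subgroup.mem_inf]
    exact and_congr (hH g) (mem_centralizer_singleton_map Ψ x g)
  rw [e3, e2, Subgroup.comap_sup_eq _ _ _ Ψ.surjective, e1]
  exact Subgroup.comap_mono h

/-- inner automorphisms correspond under `MulAut.congr`. -/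
theorem inn_congr_iff {X Y : Type*} [Group X] [Group Y] (ψ : X ≃* Y) (β : MulAut X) :
    β ∈ Cfsg.Inn X ↔ MulAut.congr ψ β ∈ Cfsg.Inn Y := by
  constructor
  · rintro ⟨t, rfl⟩
    refine ⟨ψ t, ?_⟩
    ext y
    simp [MulAut.congr, MulAut.conj_apply]
  · rintro ⟨t, ht⟩
    refine ⟨ψ.symm t, ?_⟩
    ext y
    have := congrArg (fun γ : MulAut Y => ψ.symm (γ (ψ y))) ht
    simp [MulAut.congr, MulAut.conj_apply] at this
    simp [MulAut.conj_apply, this]

theorem orderOf_congr {X Y : Type*} [Group X] [Group Y] (ψ : X ≃* Y) (β : MulAut X) :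
    orderOf (MulAut.congr ψ β) = orderOf β :=
  orderOf_injective (MulAut.congr ψ).toMonoidHom (MulAut.congr ψ).injective β

end grp2

end Cfsg.Agent.Lib.Helper07.OG
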