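import Cfsg.Agent.Lib.Helper07.OrthTe
import Cfsg.Agent.Lib.Helper07.OrthZh

set_option autoImplicit false
set_option linter.unusedSimpArgs false
set_option linter.unusedVariables false
set_option linter.unusedSectionVars false
set_option linter.style.haveILetI false

/-! Restriction of the centralizer isomorphism to subgroups; multipliers and `delta` under base
change; automorphisms induced by `SO`. -/

namespace Cfsg.Agent.Lib.Helper07.OG

open Module Matrix Cfsg.Agent.Lib.Helper43 Cfsg.Agent.Lib.Helper07.UG Cfsg.Agent.Lib.Helper08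
open Cfsg.Agent.Lib.Helper51.POAut

universe u v

section grp3

/-- images of a subgroup under two homomorphisms with equal kernels are isomorphic. -/
theorem map_equiv_of_ker_eq' {G A B : Type*} [Group G] [Group A] [Group B]
    (f : G →* A) (f' : G →* B) (hk : f.ker = f'.ker) (D : Subgroup G) :
    Nonempty (↥(D.map f) ≃* ↥(D.map f')) := by
  have e1 := QuotientGroup.quotientKerEquivOfSurjective (f.subgroupMap D) (f.subgroupMap_surjective D)
  have e2 := QuotientGroup.quotientKerEquivOfSurjective (f'.subgroupMap D)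
    (f'.subgroupMap_surjective D)
  have hk' : (f.subgroupMap D).ker = (f'.subgroupMap D).ker := by
    ext d
    rw [MonoidHom.mem_ker, MonoidHom.mem_ker, Subtype.ext_iff, Subtype.ext_iff]
    show f d = 1 ↔ f' d = 1
    rw [← MonoidHom.mem_ker, ← MonoidHom.mem_ker, hk]
  exact ⟨e1.symm.trans ((QuotientGroup.quotientMulEquivOfEq hk').trans e2)⟩

/-- restriction of a "centralizer = image of the subgroup" statement to a pair of corresponding
subgroups. -/
theorem restrict_equiv {G₀ G A A₀ : Type*} [Group G₀] [Group G] [Group A] [Group A₀]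
    (f : G →* A) (f₀ : G₀ →* A₀) (bc : G₀ →* G)
    (hker : (f.comp bc).ker = f₀.ker) (Cx : Subgroup A)
    (hrange : (f.comp bc).range = f.range ⊓ Cx)
    (D : Subgroup G) (D₀ : Subgroup G₀) (hD : ∀ g₀, g₀ ∈ D₀ ↔ bc g₀ ∈ D) (hkD : f.ker ≤ D) :
    D₀.map (f.comp bc) = D.map f ⊓ Cx ∧ Nonempty (↥(D.map f ⊓ Cx) ≃* ↥(D₀.map f₀)) := by
  have h1 : D₀.map (f.comp bc) = D.map f ⊓ Cx := by
    apply le_antisymm
    · rintro _ ⟨g₀, hg₀, rfl⟩
      refine ⟨⟨bc g₀, (hD g₀).1 hg₀, rfl⟩, ?_⟩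
      have : (f.comp bc) g₀ ∈ f.range ⊓ Cx := by rw [← hrange]; exact ⟨g₀, rfl⟩
      exact this.2
    · rintro y ⟨⟨g, hg, rfl⟩, hy⟩
      have : f g ∈ (f.comp bc).range := by rw [hrange]; exact ⟨⟨g, rfl⟩, hy⟩
      obtain ⟨g₀, hg₀⟩ := this
      refine ⟨g₀, ?_, hg₀⟩
      rw [SetLike.mem_coe, hD]
      have h2 : g⁻¹ * bc g₀ ∈ f.ker := by
        rw [MonoidHom.mem_ker, map_mul, map_inv]
        rw [MonoidHom.comp_apply] at hg₀
        rw [hg₀, inv_mul_cancel]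
      have h3 := D.mul_mem hg (hkD h2)
      rwa [mul_inv_cancel_left] at h3
  refine ⟨h1, ?_⟩
  obtain ⟨e⟩ := map_equiv_of_ker_eq' (f.comp bc) f₀ hker D₀
  exact ⟨(MulEquiv.subgroupCongr h1).symm.trans e⟩

end grp3

section bcdelta

variable {F₀ : Type v} {F : Type u} [Field F₀] [Fintype F₀] [DecidableEq F₀] [Field F] [Fintype F]
  [DecidableEq F] {ι : Type} [Fintype ι] [DecidableEq ι]
variable {Q₀ : QuadraticForm F₀ (ι → F₀)} {Q : QuadraticForm F (ι → F)} {j : F₀ →+* F}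

theorem multFun_bcS (hc : Compat Q₀ Q j) {u0 : ι → F} (hu0 : Q u0 = 1)
    (g₀ : ↥(Cfsg.Geo.quadSimilarityGroup (F := F₀) ⇑Q₀)) :
    multFun Q (bcS hc g₀) = Units.map j.toMonoidHom (multFun Q₀ g₀) := by
  apply multFun_unique Q hu0
  intro v
  rw [bcS_val]
  exact bc_sim' hc _ _ (multFun_spec Q₀ g₀) v

theorem delta_bcS_iff (hc : Compat Q₀ Q j) {u0 : ι → F} (hu0 : Q u0 = 1) {u0₀ : ι → F₀}
    (hu0₀ : Q₀ u0₀ = 1) (m : ℕ) (g₀ : ↥(Cfsg.Geo.quadSimilarityGroup (F := F₀) ⇑Q₀)) :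
    delta Q hu0 m (bcS hc g₀) = 1 ↔ delta Q₀ hu0₀ m g₀ = 1 := by
  rw [delta_eq_one_iff, delta_eq_one_iff, multFun_bcS hc hu0, bcS_val, ← RingHom.mapMatrix_apply,
    ← RingHom.map_det]
  have h1 : ((Units.map j.toMonoidHom (multFun Q₀ g₀) : Fˣ) : F) = j (multFun Q₀ g₀ : F₀) := rfl
  rw [h1, ← map_pow]
  exact j.injective.eq_iff

end bcdelta

section pso

variable {F : Type*} [Field F] [Fintype F] [DecidableEq F] {ι : Type} [Fintype ι] [DecidableEq ι]
variable {Q : QuadraticForm F (ι → F)}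
variable {u0 : ι → F} (hu0 : Q u0 = 1) (m : ℕ)

include hu0 in
/-- an automorphism induced by a similarity and by an isometry: the multiplier is a square. -/
theorem isSquare_mult_of_eq_autO (C : OC Q) (p : ℕ) [Fact p.Prime] [CharP F p]
    (s : ↥(Cfsg.Geo.quadSimilarityGroup (F := F) ⇑Q)) (ω : ↥(Cfsg.isometryGroup F ⇑Q))
    (hωs : autO (⇑Q) ω = autPO (⇑Q) s) : IsSquare (multFun Q s : F) := by
  rw [autO_eq_autS, autPO_eq_autS] at hωs
  obtain ⟨-, c, hc⟩ := autS_eq_autS_imp C p _ _ hωs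
  refine ⟨c, ?_⟩
  have h1 := multFun_spec Q s u0
  rw [hc, QuadraticMap.map_smul, (Cfsg.Agent.Lib.Helper19.mem_isometryGroup_iff _ _).1 ω.2, hu0,
    smul_eq_mul, mul_one, mul_one] at h1
  exact h1.symm

include hu0 in
theorem isSquare_mult_of_mem_psoAut (C : OC Q) (p : ℕ) [Fact p.Prime] [CharP F p]
    (s : ↥(Cfsg.Geo.quadSimilarityGroup (F := F) ⇑Q))
    (hs : autPO (⇑Q) s ∈ Cfsg.psoAut F ⇑Q) : IsSquare (multFun Q s : F) := by
  rw [psoAut_eq] at hs
  obtain ⟨ω, -, hωs⟩ := hs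
  exact isSquare_mult_of_eq_autO hu0 C p s ω hωs

theorem inn_le_psoAut : Cfsg.Inn (Cfsg.POmega F ⇑Q) ≤ Cfsg.psoAut F ⇑Q := by
  rw [inn_eq, psoAut_eq]
  exact Subgroup.map_mono (Omega_le_SO Q)

theorem psoAut_le_Esub : Cfsg.psoAut F ⇑Q ≤ Esub Q hu0 m := by
  rw [psoAut_eq]
  rintro _ ⟨ω, hω, rfl⟩
  refine ⟨inclGO Q ω, ?_, rfl⟩
  rw [SetLike.mem_coe, MonoidHom.mem_ker, delta_eq_one_iff, multFun_inclGO Q hu0, inclGO_val]
  have := (mem_SO_iff_det Q ω).1 hω
  rw [this]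
  simp

end pso

end Cfsg.Agent.Lib.Helper07.OG
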