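import Cfsg.Agent.Lib.Helper07.OrthZe

set_option autoImplicit false
set_option linter.unusedSimpArgs false
set_option linter.unusedVariables false
set_option linter.unusedSectionVars false
set_option linter.style.haveILetI false

/-! `Out(PΩ⁻_{2m}(2^f))` is cyclic of order `2f`. -/

namespace Cfsg.Agent.Lib.Helper07.OG

open Module Matrix Cfsg.Agent.Lib.Helper43 Cfsg.Agent.Lib.Helper07.UG Cfsg.Agent.Lib.Helper08

theorem charP_two_of_card {F : Type*} [Field F] [Fintype F] {f : ℕ} (hF : Fintype.card F = 2 ^ f) :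
    CharP F 2 := by
  obtain ⟨p, hp⟩ := CharP.exists F
  haveI := hp
  obtain ⟨n, hpp, hn⟩ := FiniteField.card F p
  have h1 : p ∣ 2 ^ f := by
    rw [← hF, hn]
    exact dvd_pow_self p n.pos.ne'
  have h2 : p = 2 := (Nat.prime_dvd_prime_iff_eq hpp Nat.prime_two).1 (hpp.dvd_of_dvd_pow h1)
  rw [← h2]
  exact hp

theorem out_minus_char_two {F : Type*} [Field F] [Fintype F] {f m : ℕ} (hf : 1 ≤ f)
    (hF : Fintype.card F = 2 ^ f) (hm : 4 ≤ m) (a b : F)
    (hab : ∀ z₁ z₂ : F, z₁ ^ 2 + a * z₁ * z₂ + b * z₂ ^ 2 = 0 → z₁ = 0 ∧ z₂ = 0) :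
    IsCyclic (Cfsg.Out (Cfsg.POmega F (Cfsg.quadFormMinus (m - 1) F a b))) ∧
      Nat.card (Cfsg.Out (Cfsg.POmega F (Cfsg.quadFormMinus (m - 1) F a b))) = 2 * f := by
  haveI : CharP F 2 := charP_two_of_card hF
  have hm' : 3 ≤ m - 1 := by omega
  have hcard : Fintype.card ((Fin (m - 1) ⊕ Fin (m - 1)) ⊕ Fin 2) = 2 * (m - 1) + 2 := by
    rw [Fintype.card_sum, Fintype.card_sum, Fintype.card_fin, Fintype.card_fin]; omega
  have C : OC (qdataMinus43 (m - 1) a b hab).qf :=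
    ⟨(qdataMinus43 (m - 1) a b hab).qf_nondeg, by rw [hcard]; omega⟩
  have htop : Cfsg.gammaPOmega F ⇑(qdataMinus43 (m - 1) a b hab).qf = ⊤ :=
    gamma_minus_eq_top hm' a b hab
  have ha : a ≠ 0 := a_ne_zero_of_aniso hab
  have hsemi := blk_semi (m - 1) a b (frobF (F := F) 2) (M0G (b := b) ha) (by
    intro z
    rw [M0G_val]
    exact M0_semi a b z)
  obtain ⟨c, hc⟩ := id hsemi
  have hg1 : ∀ v, (qdataMinus43 (m - 1) a b hab).qf
      (semiAct (blkG (m - 1) (M0G (b := b) ha)) (frobF (F := F) 2) v) =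
      frobF (F := F) 2 ((qdataMinus43 (m - 1) a b hab).qf v) := by
    intro v
    show Cfsg.quadFormMinus (m - 1) F a b
      (((blkG (m - 1) (M0G (b := b) ha) : GL ((Fin (m - 1) ⊕ Fin (m - 1)) ⊕ Fin 2) F) :
        Matrix ((Fin (m - 1) ⊕ Fin (m - 1)) ⊕ Fin 2) ((Fin (m - 1) ⊕ Fin (m - 1)) ⊕ Fin 2) F) *ᵥ
        (fun i => frobF (F := F) 2 (v i))) = frobF (F := F) 2 (Cfsg.quadFormMinus (m - 1) F a b v)
    rw [blkG_val, blkM_mulVec, quadFormMinus_eq, quadFormMinus_eq]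
    have h1 : (Sum.elim ((fun i => frobF (F := F) 2 (v i)) ∘ Sum.inl)
        (((M0G (b := b) ha : GL (Fin 2) F) : Matrix (Fin 2) (Fin 2) F) *ᵥ
          ((fun i => frobF (F := F) 2 (v i)) ∘ Sum.inr))) ∘ Sum.inr =
        (M0 a b) *ᵥ (fun i => frobF (F := F) 2 ((v ∘ Sum.inr) i)) := by
      funext k
      simp [M0G_val]
    rw [h1, M0_semi]
    simp only [Sum.elim_inl, Function.comp_apply, map_add, map_sum, map_mul]
  have hrank : ¬ Even (((twG (frobF (F := F) 2) (blkG (m - 1) (M0G (b := b) ha))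
      (orderOf (frobF (F := F) 2)) : GL ((Fin (m - 1) ⊕ Fin (m - 1)) ⊕ Fin 2) F) :
      Matrix ((Fin (m - 1) ⊕ Fin (m - 1)) ⊕ Fin 2) ((Fin (m - 1) ⊕ Fin (m - 1)) ⊕ Fin 2) F) - 1).rank := by
    rw [twG_blkG, blkG_val, twG_val_two, M0G_val]
    rw [rank_blkM_sub_one (m - 1) _ (twProd_M0_col _ _).1 (twProd_M0_col _ _).2
      (twProd_M0_ne_one hab)]
    decide
  exact out_char_two_generic C htop hF (blkG (m - 1) (M0G (b := b) ha)) hg1 hrank

end Cfsg.Agent.Lib.Helper07.OG
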