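import Cfsg.Agent.Lib.Helper07.OrthZi
import Cfsg.Agent.Lib.Helper07.OrthZf
import Cfsg.Agent.Lib.Helper08.SimStd
import Cfsg.Agent.Lib.Helper50.StdForms
import Cfsg.Agent.S2728

set_option autoImplicit false
set_option linter.unusedSimpArgs false
set_option linter.unusedVariables false
set_option linter.unusedSectionVars false
set_option linter.style.haveILetI false

/-! `Out(PΩ⁻_{2m}(q))`, `q = p^f` odd: `D₈ × C_f` if `q ≡ 3 (mod 4)` and `m` odd, `C₂ × C_{2f}`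
otherwise. -/

namespace Cfsg.Agent.Lib.Helper07.OG

open Module Matrix Cfsg.Agent.Lib.Helper43 Cfsg.Agent.Lib.Helper07.UG Cfsg.Agent.Lib.Helper08

theorem charP_of_card_pow {F : Type*} [Field F] [Fintype F] {p f : ℕ} [Fact p.Prime]
    (hF : Fintype.card F = p ^ f) : CharP F p := by
  obtain ⟨r, hr⟩ := CharP.exists F
  haveI := hr
  obtain ⟨n, hrp, hn⟩ := FiniteField.card F r
  have h1 : r ∣ p ^ f := by
    rw [← hF, hn]
    exact dvd_pow_self r n.pos.ne'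
  have h2 : r = p :=
    (Nat.prime_dvd_prime_iff_eq hrp (Fact.out : p.Prime)).1 (hrp.dvd_of_dvd_pow h1)
  rw [← h2]
  exact hr

theorem sq_mod_four_ne_three (x : ℕ) : (x * x) % 4 ≠ 3 := by
  rw [Nat.mul_mod]
  have : x % 4 < 4 := Nat.mod_lt _ (by norm_num)
  interval_cases x % 4 <;> norm_num

theorem odd_of_pow_mod_four {p f : ℕ} (h : p ^ f % 4 = 3) : Odd f := by
  rw [← Nat.not_even_iff_odd]
  rintro ⟨k, rfl⟩
  rw [pow_add] at h
  exact sq_mod_four_ne_three _ h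

theorem det_blkM {F : Type*} [Field F] (m : ℕ) (M : Matrix (Fin 2) (Fin 2) F) :
    (blkM m M).det = M.det := by
  unfold blkM
  rw [Matrix.det_fromBlocks_zero₂₁, Matrix.det_one, one_mul]

theorem out_minus_odd {F : Type*} [Field F] [Fintype F] {p f m : ℕ} [Fact p.Prime] (hf : 1 ≤ f)
    (hF : Fintype.card F = p ^ f) (hp : p ≠ 2) (hm : 4 ≤ m) (a b : F)
    (hab : ∀ z₁ z₂ : F, z₁ ^ 2 + a * z₁ * z₂ + b * z₂ ^ 2 = 0 → z₁ = 0 ∧ z₂ = 0) :
    if p ^ f % 4 = 3 ∧ Odd m then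
      Nonempty (Cfsg.Out (Cfsg.POmega F (Cfsg.quadFormMinus (m - 1) F a b)) ≃*
        DihedralGroup 4 × Multiplicative (ZMod f))
    else
      Nonempty (Cfsg.Out (Cfsg.POmega F (Cfsg.quadFormMinus (m - 1) F a b)) ≃*
        Multiplicative (ZMod 2 × ZMod (2 * f))) := by
  haveI : DecidableEq F := Classical.decEq F
  haveI : CharP F p := charP_of_card_pow hF
  have hpodd : Odd p := (Fact.out : p.Prime).odd_of_ne_two hp
  have hodd : Odd (Fintype.card F) := by rw [hF]; exact hpodd.pow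
  have h2 : (2 : F) ≠ 0 := Cfsg.Agent.Lib.Helper50.two_ne_zero_of_odd_card rfl hodd
  have hm' : 3 ≤ m - 1 := by omega
  have hcard : Fintype.card ((Fin (m - 1) ⊕ Fin (m - 1)) ⊕ Fin 2) = 2 * m := by
    rw [Fintype.card_sum, Fintype.card_sum, Fintype.card_fin, Fintype.card_fin]; omega
  have C : OC (qdataMinus43 (m - 1) a b hab).qf :=
    ⟨(qdataMinus43 (m - 1) a b hab).qf_nondeg, by rw [hcard]; omega⟩
  have htop : Cfsg.gammaPOmega F ⇑(qdataMinus43 (m - 1) a b hab).qf = ⊤ :=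
    gamma_minus_eq_top hm' a b hab
  -- the Frobenius semi-isometry
  have hg1 : ∀ v, (qdataMinus43 (m - 1) a b hab).qf
      (semiAct (blkG (m - 1) (M1G p a b h2 hab)) (frobF (F := F) p) v) =
      frobF (F := F) p ((qdataMinus43 (m - 1) a b hab).qf v) := by
    intro v
    show Cfsg.quadFormMinus (m - 1) F a b
      (((blkG (m - 1) (M1G p a b h2 hab) : GL ((Fin (m - 1) ⊕ Fin (m - 1)) ⊕ Fin 2) F) :
        Matrix ((Fin (m - 1) ⊕ Fin (m - 1)) ⊕ Fin 2) ((Fin (m - 1) ⊕ Fin (m - 1)) ⊕ Fin 2) F) *ᵥ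
        (fun i => frobF (F := F) p (v i))) = frobF (F := F) p (Cfsg.quadFormMinus (m - 1) F a b v)
    rw [blkG_val, blkM_mulVec, quadFormMinus_eq, quadFormMinus_eq]
    have h1 : (Sum.elim ((fun i => frobF (F := F) p (v i)) ∘ Sum.inl)
        (((M1G p a b h2 hab : GL (Fin 2) F) : Matrix (Fin 2) (Fin 2) F) *ᵥ
          ((fun i => frobF (F := F) p (v i)) ∘ Sum.inr))) ∘ Sum.inr =
        (M1 p a b) *ᵥ (fun i => frobF (F := F) p ((v ∘ Sum.inr) i)) := by
      funext k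
      simp [M1G_val]
    rw [h1, M1_semi p a b h2 hp]
    simp only [Sum.elim_inl, Function.comp_apply, map_add, map_sum, map_mul]
  have hgS : Cfsg.IsSemisimilarityPair (⇑(qdataMinus43 (m - 1) a b hab).qf)
      (blkG (m - 1) (M1G p a b h2 hab)) (frobF (F := F) p) := ⟨1, fun v => by
    have := hg1 v
    unfold semiAct at this
    rw [this]
    simp⟩
  have hS := Cfsg.Agent.S2728.result hodd hm' a b hab
  by_cases hc : p ^ f % 4 = 3 ∧ Odd m
  · rw [if_pos hc]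
    have hev : Even (m - 1) := by
      obtain ⟨k, hk⟩ := hc.2
      exact ⟨k, by omega⟩
    obtain ⟨φ, hφs, hφk⟩ := hS.1 ⟨hev, by rw [hF]; exact hc.1⟩
    exact out_odd_caseA C p htop hF (odd_of_pow_mod_four hc.1) hgS φ hφs hφk
  · rw [if_neg hc]
    have hnc : ¬ (Even (m - 1) ∧ Fintype.card F % 4 = 3) := by
      rintro ⟨⟨k, hk⟩, h3⟩
      apply hc
      rw [hF] at h3
      exact ⟨h3, ⟨k, by omega⟩⟩
    obtain ⟨φ, hφs, hφk⟩ := hS.2 hnc
    -- a vector of norm one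
    have hu0 : (qdataMinus43 (m - 1) a b hab).qf (Pi.single (Sum.inr 0) 1) = 1 := by
      show Cfsg.quadFormMinus (m - 1) F a b (Pi.single (Sum.inr 0) 1) = 1
      rw [quadFormMinus_eq]
      unfold qb
      simp
    -- determinant of the `f`-th power
    have hdet : ((twG (frobF (F := F) p) (blkG (m - 1) (M1G p a b h2 hab)) f :
        GL ((Fin (m - 1) ⊕ Fin (m - 1)) ⊕ Fin 2) F) :
        Matrix ((Fin (m - 1) ⊕ Fin (m - 1)) ⊕ Fin 2) ((Fin (m - 1) ⊕ Fin (m - 1)) ⊕ Fin 2) F).det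
        = -1 := by
      rw [twG_blkG, blkG_val, det_blkM]
      exact det_twG_M1G p a b h2 hp hab hF
    -- a similarity with non-square multiplier
    obtain ⟨ζ, hζ⟩ := Cfsg.Agent.Lib.Helper50.exists_nonsquare_of_two_ne_zero h2
    have hζ0 : ζ ≠ 0 := fun h => hζ (h ▸ ⟨0, by ring⟩)
    obtain ⟨c₁, c₂, hcc⟩ := exists_norm_eq a b hab ζ hζ0
    have hcc' : c₁ ^ 2 + a * c₁ * c₂ + b * c₂ ^ 2 = ((Units.mk0 ζ hζ0 : Fˣ) : F) := hcc
    have hmem : minusGL (m - 1) a b (Units.mk0 ζ hζ0) c₁ c₂ hcc' ∈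
        Cfsg.Geo.quadSimilarityGroup (F := F) ⇑(qdataMinus43 (m - 1) a b hab).qf :=
      minusGL_mem (m - 1) a b _ c₁ c₂ hcc'
    have hmult : multFun (qdataMinus43 (m - 1) a b hab).qf ⟨_, hmem⟩ = Units.mk0 ζ hζ0 :=
      multFun_unique _ hu0 ⟨_, hmem⟩ _ (fun v => quadFormMinus_minusMat (m - 1) a b ζ c₁ c₂ hcc v)
    exact out_odd_caseB C p htop h2 hcard hu0 hF (blkG (m - 1) (M1G p a b h2 hab)) hg1 hdet
      ⟨_, hmem⟩ (by rw [hmult]; exact hζ) φ hφs hφk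

end Cfsg.Agent.Lib.Helper07.OG
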