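import Mathlib

set_option autoImplicit false

/-! General transvections `1 + u φᵀ` in `SL_n(F)` and their images in `PSL_n(F)`. -/

namespace Cfsg.Agent.Lib.Helper07

open Matrix

section matrix
variable {n : ℕ} {F : Type*} [Field F]

/-- the matrix `1 + u φᵀ`. -/
def tvM (u φ : Fin n → F) : Matrix (Fin n) (Fin n) F := 1 + vecMulVec u φ

lemma tvM_mul (u φ v ψ : Fin n → F) :
    tvM u φ * tvM v ψ = 1 + vecMulVec u φ + vecMulVec v ψ + (φ ⬝ᵥ v) • vecMulVec u ψ := by
  unfold tvM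
  rw [add_mul, mul_add, mul_add, one_mul, mul_one, one_mul, vecMulVec_mul_vecMulVec,
    vecMulVec_smul]
  abel

lemma tvM_mul_same_left (u φ ψ : Fin n → F) (h : φ ⬝ᵥ u = 0) :
    tvM u φ * tvM u ψ = tvM u (φ + ψ) := by
  rw [tvM_mul, h, zero_smul, add_zero]
  unfold tvM
  rw [vecMulVec_add, add_assoc]

lemma tvM_mul_same_right (u v φ : Fin n → F) (h : φ ⬝ᵥ v = 0) :
    tvM u φ * tvM v φ = tvM (u + v) φ := by
  rw [tvM_mul, h, zero_smul, add_zero]
  unfold tvM
  rw [add_vecMulVec, add_assoc]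

lemma tvM_zero_left (φ : Fin n → F) : tvM 0 φ = 1 := by
  unfold tvM; rw [zero_vecMulVec, add_zero]

lemma tvM_zero_right (u : Fin n → F) : tvM u 0 = 1 := by
  unfold tvM; rw [vecMulVec_zero, add_zero]

lemma det_tvM (u φ : Fin n → F) : (tvM u φ).det = 1 + φ ⬝ᵥ u := by
  unfold tvM
  rw [vecMulVec_eq (ι := Unit), det_one_add_replicateCol_mul_replicateRow]

lemma tvM_conj (g g' : Matrix (Fin n) (Fin n) F) (hg : g * g' = 1) (u φ : Fin n → F) :
    g * tvM u φ * g' = tvM (g *ᵥ u) (φ ᵥ* g') := by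
  unfold tvM
  rw [mul_add, add_mul, mul_one, hg, mul_vecMulVec, vecMulVec_mul]

lemma tvM_pow (u φ : Fin n → F) (h : φ ⬝ᵥ u = 0) (k : ℕ) :
    tvM u φ ^ k = tvM u (k • φ) := by
  induction k with
  | zero => rw [pow_zero, zero_smul, tvM_zero_right]
  | succ k ih =>
    rw [pow_succ, ih, tvM_mul_same_left _ _ _ (by rw [smul_dotProduct, h, smul_zero]), succ_nsmul]

lemma tvM_pow_char (p : ℕ) [CharP F p] (u φ : Fin n → F) (h : φ ⬝ᵥ u = 0) :
    tvM u φ ^ p = 1 := by
  rw [tvM_pow u φ h]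
  have : (p • φ : Fin n → F) = 0 := by
    ext i
    simp
  rw [this, tvM_zero_right]

lemma tvM_smul_comm (c : F) (u φ : Fin n → F) : tvM (c • u) φ = tvM u (c • φ) := by
  unfold tvM
  rw [smul_vecMulVec, vecMulVec_smul]

end matrix

section SL
variable {n : ℕ} {F : Type*} [Field F]

/-- the transvection `1 + u φᵀ` as an element of `SL_n` (and `1` when `φ·u ≠ 0`). -/
noncomputable def tv (u φ : Fin n → F) : SpecialLinearGroup (Fin n) F :=
  ⟨open Classical in if φ ⬝ᵥ u = 0 then tvM u φ else 1, by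
    split_ifs with h
    · rw [det_tvM, h, add_zero]
    · exact det_one⟩

lemma sl_ext {A B : SpecialLinearGroup (Fin n) F}
    (h : (A : Matrix (Fin n) (Fin n) F) = (B : Matrix (Fin n) (Fin n) F)) : A = B :=
  Subtype.ext h

lemma tv_val {u φ : Fin n → F} (h : φ ⬝ᵥ u = 0) :
    ((tv u φ : SpecialLinearGroup (Fin n) F) : Matrix (Fin n) (Fin n) F) = tvM u φ := by
  classical
  show (if φ ⬝ᵥ u = 0 then tvM u φ else 1) = tvM u φ
  rw [if_pos h]

lemma tv_eq_one {u φ : Fin n → F} (h : φ ⬝ᵥ u ≠ 0) : tv u φ = 1 := by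
  apply sl_ext
  classical
  show (if φ ⬝ᵥ u = 0 then tvM u φ else 1) = 1
  rw [if_neg h]

lemma tv_zero_left (φ : Fin n → F) : tv 0 φ = 1 := by
  apply sl_ext
  rw [tv_val (by simp), tvM_zero_left]; rfl

lemma tv_zero_right (u : Fin n → F) : tv u 0 = 1 := by
  apply sl_ext
  rw [tv_val (by simp), tvM_zero_right]; rfl

lemma tv_mul_same_left {u φ ψ : Fin n → F} (h : φ ⬝ᵥ u = 0) (h' : ψ ⬝ᵥ u = 0) :
    tv u φ * tv u ψ = tv u (φ + ψ) := by
  apply sl_ext
  rw [Matrix.SpecialLinearGroup.coe_mul, tv_val h, tv_val h',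
    tv_val (by rw [add_dotProduct, h, h', add_zero]), tvM_mul_same_left _ _ _ h]

lemma tv_mul_same_right {u v φ : Fin n → F} (h : φ ⬝ᵥ u = 0) (h' : φ ⬝ᵥ v = 0) :
    tv u φ * tv v φ = tv (u + v) φ := by
  apply sl_ext
  rw [Matrix.SpecialLinearGroup.coe_mul, tv_val h, tv_val h',
    tv_val (by rw [dotProduct_add, h, h', add_zero]), tvM_mul_same_right _ _ _ h']

lemma tv_smul_comm (c : F) (u φ : Fin n → F) : tv (c • u) φ = tv u (c • φ) := by
  by_cases h : φ ⬝ᵥ u = 0
  · apply sl_ext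
    rw [tv_val (by rw [dotProduct_smul, h, smul_zero]),
      tv_val (by rw [smul_dotProduct, h, smul_zero]), tvM_smul_comm]
  · by_cases hc : c = 0
    · subst hc
      rw [zero_smul, zero_smul, tv_zero_left, tv_zero_right]
    · rw [tv_eq_one, tv_eq_one]
      · rw [smul_dotProduct, smul_eq_mul]
        exact mul_ne_zero hc h
      · rw [dotProduct_smul, smul_eq_mul]
        exact mul_ne_zero hc h

lemma tv_pow_char (p : ℕ) [CharP F p] (u φ : Fin n → F) : tv u φ ^ p = 1 := by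
  by_cases h : φ ⬝ᵥ u = 0
  · apply sl_ext
    rw [Matrix.SpecialLinearGroup.coe_pow, tv_val h, tvM_pow_char p u φ h]; rfl
  · rw [tv_eq_one h, one_pow]

lemma tv_conj (g : SpecialLinearGroup (Fin n) F) {u φ : Fin n → F} (h : φ ⬝ᵥ u = 0) :
    g * tv u φ * g⁻¹ = tv (g.val *ᵥ u) (φ ᵥ* (g⁻¹).val) := by
  have hgg : g.val * (g⁻¹).val = 1 := by
    rw [← Matrix.SpecialLinearGroup.coe_mul, mul_inv_cancel]; rfl
  have hgg' : (g⁻¹).val * g.val = 1 := by
    rw [← Matrix.SpecialLinearGroup.coe_mul, inv_mul_cancel]; rfl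
  have h' : (φ ᵥ* (g⁻¹).val) ⬝ᵥ (g.val *ᵥ u) = 0 := by
    rw [dotProduct_mulVec, vecMul_vecMul, hgg', vecMul_one, h]
  apply sl_ext
  rw [Matrix.SpecialLinearGroup.coe_mul, Matrix.SpecialLinearGroup.coe_mul, tv_val h, tv_val h',
    tvM_conj _ _ hgg]

end SL

section PSL
variable {n : ℕ} {F : Type*} [Field F]

/-- the projection `SL_n → PSL_n`. -/
def prjN : SpecialLinearGroup (Fin n) F →* ProjectiveSpecialLinearGroup (Fin n) F :=
  QuotientGroup.mk' (Subgroup.center (SpecialLinearGroup (Fin n) F))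

lemma prjN_surjective : Function.Surjective (prjN (n := n) (F := F)) :=
  QuotientGroup.mk'_surjective _

lemma prjN_eq_iff {A B : SpecialLinearGroup (Fin n) F} :
    prjN A = prjN B ↔ ∃ r : F, B.val = r • A.val := by
  unfold prjN
  rw [QuotientGroup.mk'_apply, QuotientGroup.mk'_apply, QuotientGroup.eq,
    Matrix.SpecialLinearGroup.mem_center_iff]
  constructor
  · rintro ⟨r, -, h⟩
    refine ⟨r, ?_⟩
    have h2 : B.val = A.val * (A⁻¹ * B).val := by
      rw [← Matrix.SpecialLinearGroup.coe_mul, mul_inv_cancel_left]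
    rw [h2, ← h]
    ext i j
    simp [Matrix.mul_apply, Matrix.diagonal_apply, mul_comm]
  · rintro ⟨r, h⟩
    have hdet : r ^ Fintype.card (Fin n) = 1 := by
      have := congrArg Matrix.det h
      rw [B.2, Matrix.det_smul, A.2, mul_one] at this
      exact this.symm
    refine ⟨r, hdet, ?_⟩
    have : (A⁻¹ * B).val = r • (1 : Matrix (Fin n) (Fin n) F) := by
      rw [Matrix.SpecialLinearGroup.coe_mul, h, Matrix.mul_smul, ← Matrix.SpecialLinearGroup.coe_mul,
        inv_mul_cancel, Matrix.SpecialLinearGroup.coe_one]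
    rw [this]
    ext i j
    simp [Matrix.scalar_apply, Matrix.diagonal_apply, Matrix.one_apply]

/-- `p`-elements of `SL_n` are determined by their images in `PSL_n`. -/
lemma eq_of_prjN_eq_of_pow (p : ℕ) [Fact p.Prime] [CharP F p] (k : ℕ)
    {A B : SpecialLinearGroup (Fin n) F}
    (hA : A ^ p ^ k = 1) (hB : B ^ p ^ k = 1) (h : prjN A = prjN B) : A = B := by
  rcases Nat.eq_zero_or_pos n with hn | hn
  · subst hn
    exact Subsingleton.elim _ _
  obtain ⟨r, hr⟩ := prjN_eq_iff.mp h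
  have h1 : (B.val) ^ p ^ k = r ^ p ^ k • (A.val) ^ p ^ k := by
    rw [hr, smul_pow]
  rw [← Matrix.SpecialLinearGroup.coe_pow, ← Matrix.SpecialLinearGroup.coe_pow, hA, hB,
    Matrix.SpecialLinearGroup.coe_one] at h1
  have h2 := congrFun (congrFun h1 ⟨0, hn⟩) ⟨0, hn⟩
  rw [Matrix.smul_apply, Matrix.one_apply_eq, smul_eq_mul, mul_one] at h2
  have h3 : r = 1 := by
    have : (r - 1) ^ p ^ k = 0 := by
      rw [sub_pow_char_pow, ← h2, one_pow, sub_self]
    exact sub_eq_zero.mp (pow_eq_zero_iff (pow_ne_zero k (Fact.out : p.Prime).ne_zero) |>.mp this)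
  apply sl_ext
  rw [hr, h3, one_smul]

lemma tv_injective_prjN (p : ℕ) [Fact p.Prime] [CharP F p] {u φ v ψ : Fin n → F}
    (h : prjN (tv u φ) = prjN (tv v ψ)) : tv u φ = tv v ψ :=
  eq_of_prjN_eq_of_pow p 1 (by rw [pow_one]; exact tv_pow_char p u φ)
    (by rw [pow_one]; exact tv_pow_char p v ψ) h

end PSL

end Cfsg.Agent.Lib.Helper07
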