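import Mathlib
import Cfsg.Agent.Lib.Helper07.PSLnA

set_option autoImplicit false

/-! Root sets `{1 + t u φᵀ}` in `PSL_n(F)`: commutation and collinearity. -/

namespace Cfsg.Agent.Lib.Helper07

open Matrix

section
variable {n : ℕ} {F : Type*} [Field F]

/-- a "flag": nonzero vector and covector with `φ·u = 0`. -/
def IsFlag (u φ : Fin n → F) : Prop := u ≠ 0 ∧ φ ≠ 0 ∧ φ ⬝ᵥ u = 0

/-- the root element `1 + t u φᵀ` in `PSL_n`. -/
noncomputable def re (u φ : Fin n → F) (t : F) : ProjectiveSpecialLinearGroup (Fin n) F :=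
  prjN (tv (t • u) φ)

/-- the root set. -/
def rs (u φ : Fin n → F) : Set (ProjectiveSpecialLinearGroup (Fin n) F) :=
  Set.range (re u φ)

lemma re_zero (u φ : Fin n → F) : re u φ 0 = 1 := by
  unfold re
  rw [zero_smul, tv_zero_left, map_one]

lemma re_add {u φ : Fin n → F} (h : φ ⬝ᵥ u = 0) (s t : F) :
    re u φ (s + t) = re u φ s * re u φ t := by
  unfold re
  rw [← map_mul, tv_mul_same_right (by rw [dotProduct_smul, h, smul_zero])
    (by rw [dotProduct_smul, h, smul_zero]), add_smul]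

lemma re_smul_left (c : F) (u φ : Fin n → F) (t : F) : re (c • u) φ t = re u φ (t * c) := by
  unfold re
  rw [smul_smul]

lemma re_smul_right (c : F) (u φ : Fin n → F) (t : F) : re u (c • φ) t = re u φ (t * c) := by
  unfold re
  rw [← tv_smul_comm, smul_smul, mul_comm]

lemma rs_smul_left {c : F} (hc : c ≠ 0) (u φ : Fin n → F) : rs (c • u) φ = rs u φ := by
  ext x
  constructor
  · rintro ⟨t, rfl⟩
    exact ⟨t * c, (re_smul_left c u φ t).symm⟩
  · rintro ⟨t, rfl⟩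
    refine ⟨t * c⁻¹, ?_⟩
    show re (c • u) φ (t * c⁻¹) = re u φ t
    rw [re_smul_left, mul_assoc, inv_mul_cancel₀ hc, mul_one]

lemma rs_smul_right {c : F} (hc : c ≠ 0) (u φ : Fin n → F) : rs u (c • φ) = rs u φ := by
  ext x
  constructor
  · rintro ⟨t, rfl⟩
    exact ⟨t * c, (re_smul_right c u φ t).symm⟩
  · rintro ⟨t, rfl⟩
    refine ⟨t * c⁻¹, ?_⟩
    show re u (c • φ) (t * c⁻¹) = re u φ t
    rw [re_smul_right, mul_assoc, inv_mul_cancel₀ hc, mul_one]

lemma one_mem_rs (u φ : Fin n → F) : (1 : ProjectiveSpecialLinearGroup (Fin n) F) ∈ rs u φ :=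
  ⟨0, re_zero u φ⟩

/-- elementwise commuting sets. -/
def CommSets {G : Type*} [Mul G] (X Y : Set G) : Prop := ∀ x ∈ X, ∀ y ∈ Y, x * y = y * x

lemma tv_commute {u φ v ψ : Fin n → F} (h1 : φ ⬝ᵥ u = 0) (h2 : ψ ⬝ᵥ v = 0)
    (h3 : φ ⬝ᵥ v = 0) (h4 : ψ ⬝ᵥ u = 0) : tv u φ * tv v ψ = tv v ψ * tv u φ := by
  apply sl_ext
  rw [Matrix.SpecialLinearGroup.coe_mul, Matrix.SpecialLinearGroup.coe_mul, tv_val h1, tv_val h2,
    tvM_mul, tvM_mul, h3, h4, zero_smul, zero_smul]
  abel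

lemma commSets_rs {u φ v ψ : Fin n → F} (h1 : φ ⬝ᵥ u = 0) (h2 : ψ ⬝ᵥ v = 0)
    (h3 : φ ⬝ᵥ v = 0) (h4 : ψ ⬝ᵥ u = 0) : CommSets (rs u φ) (rs v ψ) := by
  rintro _ ⟨s, rfl⟩ _ ⟨t, rfl⟩
  unfold re
  rw [← map_mul, ← map_mul, tv_commute] <;> simp [dotProduct_smul, *]

end

section charp
variable {n : ℕ} {F : Type*} [Field F]

lemma re_injective (p : ℕ) [Fact p.Prime] [CharP F p] {u φ : Fin n → F} (hu : u ≠ 0) (hφ : φ ≠ 0) (h : φ ⬝ᵥ u = 0) :
    Function.Injective (re u φ) := by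
  intro s t hst
  unfold re at hst
  have h1 := tv_injective_prjN p hst
  have h2 : ((tv (s • u) φ : SpecialLinearGroup (Fin n) F) : Matrix (Fin n) (Fin n) F)
      = ((tv (t • u) φ : SpecialLinearGroup (Fin n) F) : Matrix (Fin n) (Fin n) F) := by rw [h1]
  rw [tv_val (by rw [dotProduct_smul, h, smul_zero]),
    tv_val (by rw [dotProduct_smul, h, smul_zero])] at h2
  unfold tvM at h2
  have h3 : vecMulVec (s • u) φ = vecMulVec (t • u) φ := add_left_cancel h2
  obtain ⟨i, hi⟩ := Function.ne_iff.mp hu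
  obtain ⟨j, hj⟩ := Function.ne_iff.mp hφ
  have h4 := congrFun (congrFun h3 i) j
  simp only [vecMulVec_apply, Pi.smul_apply, smul_eq_mul, Pi.zero_apply] at h4 hi hj
  have := mul_right_cancel₀ hj h4
  exact mul_right_cancel₀ hi this

lemma re_ne_one (p : ℕ) [Fact p.Prime] [CharP F p] {u φ : Fin n → F} (hu : u ≠ 0) (hφ : φ ≠ 0) (h : φ ⬝ᵥ u = 0) {t : F}
    (ht : t ≠ 0) : re u φ t ≠ 1 := by
  intro h1
  rw [← re_zero u φ] at h1
  exact ht (re_injective p hu hφ h h1)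

/-- if two root elements commute in `PSL_n` then the flags are "opposite-incident". -/
lemma dot_eq_zero_of_commute (p : ℕ) [Fact p.Prime] [CharP F p] {u φ v ψ : Fin n → F} (hf : IsFlag u φ) (hg : IsFlag v ψ)
    (h : re u φ 1 * re v ψ 1 = re v ψ 1 * re u φ 1) : φ ⬝ᵥ v = 0 ∧ ψ ⬝ᵥ u = 0 := by
  obtain ⟨hu, hφ, h1⟩ := hf
  obtain ⟨hv, hψ, h2⟩ := hg
  unfold re at h
  rw [one_smul, one_smul] at h
  have h3 : prjN (tv u φ * tv v ψ * (tv u φ)⁻¹) = prjN (tv v ψ) := by
    rw [map_mul, map_mul, h, map_inv, mul_inv_cancel_right]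
  have h4 : tv u φ * tv v ψ * (tv u φ)⁻¹ = tv v ψ := by
    apply eq_of_prjN_eq_of_pow p 1 _ _ h3
    · rw [pow_one, conj_pow, tv_pow_char, mul_one, mul_inv_cancel]
    · rw [pow_one, tv_pow_char]
  have h5 : tv u φ * tv v ψ = tv v ψ * tv u φ := by
    rw [← h4, inv_mul_cancel_right, h4]
  have h6 : ((tv u φ * tv v ψ : SpecialLinearGroup (Fin n) F) : Matrix (Fin n) (Fin n) F)
      = ((tv v ψ * tv u φ : SpecialLinearGroup (Fin n) F) : Matrix (Fin n) (Fin n) F) := by rw [h5]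
  rw [Matrix.SpecialLinearGroup.coe_mul, Matrix.SpecialLinearGroup.coe_mul, tv_val h1, tv_val h2,
    tvM_mul, tvM_mul] at h6
  have h7 : (φ ⬝ᵥ v) • vecMulVec u ψ = (ψ ⬝ᵥ u) • vecMulVec v φ := by
    have : (1 : Matrix (Fin n) (Fin n) F) + vecMulVec v ψ + vecMulVec u φ
        = 1 + vecMulVec u φ + vecMulVec v ψ := by abel
    rw [this] at h6
    exact add_left_cancel h6
  -- apply to `v`
  have h8 := congrArg (fun M : Matrix (Fin n) (Fin n) F => M *ᵥ v) h7
  simp only [smul_mulVec, vecMulVec_mulVec, h2, MulOpposite.op_zero, zero_smul, smul_zero] at h8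
  have h9 : (ψ ⬝ᵥ u) * (φ ⬝ᵥ v) = 0 := by
    by_contra hne
    apply hv
    have : ((ψ ⬝ᵥ u) * (φ ⬝ᵥ v)) • v = 0 := by
      rw [mul_smul]
      rw [op_smul_eq_smul] at h8
      exact h8.symm
    exact (smul_eq_zero.mp this).resolve_left hne
  have hA : φ ⬝ᵥ v = 0 := by
    by_contra hne
    have hb : ψ ⬝ᵥ u = 0 := (mul_eq_zero.mp h9).resolve_right hne
    rw [hb, zero_smul] at h7
    have := (smul_eq_zero.mp h7).resolve_left hne
    rcases vecMulVec_eq_zero.mp this with h | h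
    · exact hu h
    · exact hψ h
  refine ⟨hA, ?_⟩
  rw [hA, zero_smul] at h7
  by_contra hne
  have := (smul_eq_zero.mp h7.symm).resolve_left hne
  rcases vecMulVec_eq_zero.mp this with h | h
  · exact hv h
  · exact hφ h

lemma par_of_minors {u v : Fin n → F} (hu : u ≠ 0) (h : ∀ i k, u i * v k - u k * v i = 0) :
    ∃ c : F, v = c • u := by
  obtain ⟨i, hi⟩ := Function.ne_iff.mp hu
  simp only [Pi.zero_apply] at hi
  refine ⟨v i / u i, ?_⟩
  ext k
  simp only [Pi.smul_apply, smul_eq_mul]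
  have := h i k
  field_simp
  linear_combination this

lemma par_or_par_of_minors {u v φ ψ : Fin n → F} (hu : u ≠ 0) (hφ : φ ≠ 0)
    (h : ∀ i k j l, (u i * v k - u k * v i) * (φ j * ψ l - φ l * ψ j) = 0) :
    (∃ c : F, v = c • u) ∨ (∃ c : F, ψ = c • φ) := by
  by_cases h1 : ∀ i k, u i * v k - u k * v i = 0
  · exact Or.inl (par_of_minors hu h1)
  · right
    push Not at h1
    obtain ⟨i, k, hik⟩ := h1
    exact par_of_minors hφ fun j l => (mul_eq_zero.mp (h i k j l)).resolve_left hik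

/-- if the product of commuting root elements is again a root element then the two flags share
their centre or their axis. -/
lemma collinear_of_mul_mem (p : ℕ) [Fact p.Prime] [CharP F p] {u φ v ψ w χ : Fin n → F}
    (hf : IsFlag u φ) (hg : IsFlag v ψ) (hw : χ ⬝ᵥ w = 0)
    (h3 : φ ⬝ᵥ v = 0) (h4 : ψ ⬝ᵥ u = 0) {s t : F} (hs : s ≠ 0) (ht : t ≠ 0)
    (h : re u φ s * re v ψ t ∈ rs w χ) : (∃ c : F, v = c • u) ∨ (∃ c : F, ψ = c • φ) := by
  obtain ⟨hu, hφ, h1⟩ := hf
  obtain ⟨hv, hψ, h2⟩ := hg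
  obtain ⟨r, hr⟩ := h
  unfold re at hr
  rw [← map_mul] at hr
  have h1' : φ ⬝ᵥ (s • u) = 0 := by rw [dotProduct_smul, h1, smul_zero]
  have h2' : ψ ⬝ᵥ (t • v) = 0 := by rw [dotProduct_smul, h2, smul_zero]
  have h3' : φ ⬝ᵥ (t • v) = 0 := by rw [dotProduct_smul, h3, smul_zero]
  have h4' : ψ ⬝ᵥ (s • u) = 0 := by rw [dotProduct_smul, h4, smul_zero]
  have hw' : χ ⬝ᵥ (r • w) = 0 := by rw [dotProduct_smul, hw, smul_zero]
  have hcomm : Commute (tv (s • u) φ) (tv (t • v) ψ) := tv_commute h1' h2' h3' h4'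
  have h5 : tv (r • w) χ = tv (s • u) φ * tv (t • v) ψ := by
    apply eq_of_prjN_eq_of_pow p 1 _ _ hr
    · rw [pow_one, tv_pow_char]
    · rw [pow_one, hcomm.mul_pow, tv_pow_char, tv_pow_char, one_mul]
  have h6 : ((tv (r • w) χ : SpecialLinearGroup (Fin n) F) : Matrix (Fin n) (Fin n) F)
      = ((tv (s • u) φ * tv (t • v) ψ : SpecialLinearGroup (Fin n) F) :
        Matrix (Fin n) (Fin n) F) := by rw [h5]
  rw [Matrix.SpecialLinearGroup.coe_mul, tv_val hw', tv_val h1', tv_val h2', tvM_mul, h3',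
    zero_smul, add_zero] at h6
  unfold tvM at h6
  rw [add_assoc] at h6
  have h7 : vecMulVec (r • w) χ = vecMulVec (s • u) φ + vecMulVec (t • v) ψ := add_left_cancel h6
  have h8 : ∀ i j, r * w i * χ j = s * u i * φ j + t * v i * ψ j := by
    intro i j
    have := congrFun (congrFun h7 i) j
    simp only [vecMulVec_apply, Matrix.add_apply, Pi.smul_apply, smul_eq_mul] at this
    linear_combination this
  apply par_or_par_of_minors hu hφ
  intro i k j l
  have hst : s * t ≠ 0 := mul_ne_zero hs ht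
  have : (s * t) * ((u i * v k - u k * v i) * (φ j * ψ l - φ l * ψ j)) = 0 := by
    have e1 := h8 i j
    have e2 := h8 k l
    have e3 := h8 i l
    have e4 := h8 k j
    have : (r * w i * χ j) * (r * w k * χ l) - (r * w i * χ l) * (r * w k * χ j) = 0 := by ring
    rw [e1, e2, e3, e4] at this
    linear_combination this
  exact (mul_eq_zero.mp this).resolve_left hst

end charp

end Cfsg.Agent.Lib.Helper07
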