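import Mathlib
import Cfsg.Agent.Lib.Helper07.PSLnB

set_option autoImplicit false

/-! Combinatorics of a family of flags indexed like the roots of `A_{n-1}`. -/

namespace Cfsg.Agent.Lib.Helper07

open Matrix

section
variable {n : ℕ} {F : Type*} [Field F]

/-- proportional vectors. -/
def Par (u v : Fin n → F) : Prop := ∃ c : F, c ≠ 0 ∧ v = c • u

lemma Par.refl (u : Fin n → F) : Par u u := ⟨1, one_ne_zero, (one_smul _ _).symm⟩

lemma Par.symm {u v : Fin n → F} (h : Par u v) : Par v u := by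
  obtain ⟨c, hc, rfl⟩ := h
  exact ⟨c⁻¹, inv_ne_zero hc, by rw [smul_smul, inv_mul_cancel₀ hc, one_smul]⟩

lemma Par.trans {u v w : Fin n → F} (h : Par u v) (h' : Par v w) : Par u w := by
  obtain ⟨c, hc, rfl⟩ := h
  obtain ⟨d, hd, rfl⟩ := h'
  exact ⟨d * c, mul_ne_zero hd hc, by rw [smul_smul]⟩

lemma par_of_exists {u v : Fin n → F} (hv : v ≠ 0) (h : ∃ c : F, v = c • u) : Par u v := by
  obtain ⟨c, rfl⟩ := h
  refine ⟨c, ?_, rfl⟩
  rintro rfl
  exact hv (zero_smul _ _)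

lemma rs_eq_of_par {u u' φ φ' : Fin n → F} (hu : Par u u') (hφ : Par φ φ') :
    rs u' φ' = rs u φ := by
  obtain ⟨c, hc, rfl⟩ := hu
  obtain ⟨d, hd, rfl⟩ := hφ
  rw [rs_smul_left hc, rs_smul_right hd]

lemma IsFlag.swap {u φ : Fin n → F} (h : IsFlag u φ) : IsFlag φ u :=
  ⟨h.2.1, h.1, by rw [dotProduct_comm]; exact h.2.2⟩

/-- a family of flags indexed by ordered pairs, with the incidence pattern of the root groups
of `SL_n`. -/
structure RootFamily (u φ : Fin n → Fin n → Fin n → F) : Prop where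
  flag : ∀ i j, i ≠ j → IsFlag (u i j) (φ i j)
  row : ∀ i j k, i ≠ j → i ≠ k → j ≠ k → Par (u i j) (u i k) ∨ Par (φ i j) (φ i k)
  col : ∀ i j k, i ≠ j → k ≠ j → i ≠ k → Par (u i j) (u k j) ∨ Par (φ i j) (φ k j)
  distinct : ∀ i j k l, i ≠ j → k ≠ l → (i ≠ k ∨ j ≠ l) →
    ¬(Par (u i j) (u k l) ∧ Par (φ i j) (φ k l))
  noncomm : ∀ i j k, i ≠ j → i ≠ k → j ≠ k → ¬(φ i k ⬝ᵥ u k j = 0 ∧ φ k j ⬝ᵥ u i k = 0)

variable {u φ : Fin n → Fin n → Fin n → F}

lemma RootFamily.swap (h : RootFamily u φ) : RootFamily φ u where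
  flag i j hij := (h.flag i j hij).swap
  row i j k h1 h2 h3 := (h.row i j k h1 h2 h3).symm
  col i j k h1 h2 h3 := (h.col i j k h1 h2 h3).symm
  distinct i j k l h1 h2 h3 := fun hh => h.distinct i j k l h1 h2 h3 ⟨hh.2, hh.1⟩
  noncomm i j k h1 h2 h3 := fun hh => h.noncomm i j k h1 h2 h3
    ⟨by rw [dotProduct_comm]; exact hh.2, by rw [dotProduct_comm]; exact hh.1⟩

/-- (†): a row pair and a column pair through the same root cannot both share centres. -/
lemma RootFamily.dagger (h : RootFamily u φ) {i j k : Fin n} (hij : i ≠ j) (hik : i ≠ k)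
    (hjk : j ≠ k) : ¬(Par (u i j) (u i k) ∧ Par (u i j) (u k j)) := by
  rintro ⟨h1, h2⟩
  obtain ⟨c, hc, hc'⟩ := h1.symm.trans h2
  apply h.noncomm i j k hij hik hjk
  constructor
  · rw [hc', dotProduct_smul, (h.flag i k hik).2.2, smul_zero]
  · have : u i k = c⁻¹ • u k j := by rw [hc', smul_smul, inv_mul_cancel₀ hc, one_smul]
    rw [this, dotProduct_smul, (h.flag k j hjk.symm).2.2, smul_zero]

/-- a row sharing centres forces the column to share axes. -/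
lemma RootFamily.col_of_row (h : RootFamily u φ) {i j k : Fin n} (hij : i ≠ j) (hik : i ≠ k)
    (hjk : j ≠ k) (hC : Par (u i j) (u i k)) : Par (φ i j) (φ k j) := by
  rcases h.col i j k hij hjk.symm hik with h1 | h1
  · exact absurd ⟨hC, h1⟩ (h.dagger hij hik hjk)
  · exact h1

/-- (s12) -/
lemma RootFamily.step (h : RootFamily u φ) {i j k : Fin n} (hij : i ≠ j) (hik : i ≠ k)
    (hjk : j ≠ k) (hC : Par (u i j) (u i k)) : Par (u k j) (u k i) := by
  have h1 : Par (φ k j) (φ i j) := (h.col_of_row hij hik hjk hC).symm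
  rcases h.row k j i hjk.symm hik.symm hij.symm with h2 | h2
  · exact h2
  · exact absurd ⟨h2, h1⟩ (h.swap.dagger hjk.symm hik.symm hij.symm)

/-- (F4) -/
lemma RootFamily.tri (h : RootFamily u φ) {i j k l : Fin n} (hij : i ≠ j) (hik : i ≠ k)
    (hil : i ≠ l) (hjk : j ≠ k) (hjl : j ≠ l) (hkl : k ≠ l) (hC : Par (u i j) (u i k)) :
    Par (u i j) (u i l) := by
  rcases h.row i j l hij hil hjl with h1 | h1
  · exact h1
  · rcases h.row i k l hik hil hkl with h2 | h2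
    · exact hC.trans h2
    · exfalso
      exact h.distinct i j i k hij hik (Or.inr hjk) ⟨hC, h1.trans h2.symm⟩

/-- (M): rows are monochromatic. -/
lemma RootFamily.row_mono (h : RootFamily u φ) {i j₀ k₀ : Fin n} (hij : i ≠ j₀) (hik : i ≠ k₀)
    (hjk : j₀ ≠ k₀) (hC : Par (u i j₀) (u i k₀)) {a b : Fin n} (hia : i ≠ a) (hib : i ≠ b)
    (hab : a ≠ b) : Par (u i a) (u i b) := by
  have stepA : ∀ k, i ≠ k → j₀ ≠ k → Par (u i j₀) (u i k) := by
    intro k hk1 hk2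
    by_cases hk : k = k₀
    · rw [hk]; exact hC
    · exact h.tri hij hik hk1 hjk hk2 (Ne.symm hk) hC
  by_cases ha : a = j₀
  · rw [ha]
    exact stepA b hib (by rw [← ha]; exact hab)
  · have h1 : Par (u i a) (u i j₀) := (stepA a hia (Ne.symm ha)).symm
    by_cases hb : b = j₀
    · rw [hb]; exact h1
    · exact h.tri hia hij hib ha hab (Ne.symm hb) h1

/-- if one row pair shares centres then all do. -/
theorem RootFamily.all_rows (h : RootFamily u φ) (h3 : ∀ i k : Fin n, ∃ j, j ≠ i ∧ j ≠ k)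
    {i₀ j₀ k₀ : Fin n} (hij : i₀ ≠ j₀) (hik : i₀ ≠ k₀) (hjk : j₀ ≠ k₀)
    (hC : Par (u i₀ j₀) (u i₀ k₀)) {i a b : Fin n} (hia : i ≠ a) (hib : i ≠ b) (hab : a ≠ b) :
    Par (u i a) (u i b) := by
  by_cases hi : i = i₀
  · subst hi
    exact h.row_mono hij hik hjk hC hia hib hab
  · obtain ⟨j, hj1, hj2⟩ := h3 i₀ i
    have h1 : Par (u i₀ j) (u i₀ i) :=
      h.row_mono hij hik hjk hC (Ne.symm hj1) (Ne.symm hi) hj2
    have h2 : Par (u i j) (u i i₀) := h.step (Ne.symm hj1) (Ne.symm hi) hj2 h1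
    exact h.row_mono (Ne.symm hj2) hi hj1 h2 hia hib hab

theorem RootFamily.all_cols (h : RootFamily u φ) (h3 : ∀ i k : Fin n, ∃ j, j ≠ i ∧ j ≠ k)
    {i₀ j₀ k₀ : Fin n} (hij : i₀ ≠ j₀) (hik : i₀ ≠ k₀) (hjk : j₀ ≠ k₀)
    (hC : Par (u i₀ j₀) (u i₀ k₀)) {j a b : Fin n} (hja : a ≠ j) (hjb : b ≠ j) (hab : a ≠ b) :
    Par (φ a j) (φ b j) :=
  h.col_of_row hja hab hjb.symm (h.all_rows h3 hij hik hjk hC hja hab hjb.symm)

end

end Cfsg.Agent.Lib.Helper07
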