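import Mathlib
import Cfsg.Agent.Lib.Helper07.PSLnB
import Cfsg.Agent.Lib.Helper07.SLCard

set_option autoImplicit false

/-! The upper unitriangular subgroup of `SL_n(F)`: it is a Sylow `p`-subgroup. -/

namespace Cfsg.Agent.Lib.Helper07

open Matrix

section
variable {n : ℕ} {F : Type*} [Field F]

lemma upper_mul_diag {A B : Matrix (Fin n) (Fin n) F} (hA : A.IsUpperTriangular)
    (hB : B.IsUpperTriangular) (i : Fin n) : (A * B) i i = A i i * B i i := by
  rw [Matrix.mul_apply]
  apply Finset.sum_eq_single i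
  · intro k _ hki
    rcases lt_or_gt_of_ne hki with h | h
    · rw [hA (show id k < id i from h), zero_mul]
    · rw [hB (show id i < id k from h), mul_zero]
  · intro h
    exact absurd (Finset.mem_univ i) h

lemma sl_inv_val (A : SpecialLinearGroup (Fin n) F) :
    ((A⁻¹ : SpecialLinearGroup (Fin n) F) : Matrix (Fin n) (Fin n) F)
      = (A : Matrix (Fin n) (Fin n) F)⁻¹ := by
  rw [Matrix.SpecialLinearGroup.coe_inv, Matrix.inv_def, A.2, Ring.inverse_one, one_smul]

variable (n F) in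
/-- the upper unitriangular subgroup of `SL_n`. -/
def UT : Subgroup (SpecialLinearGroup (Fin n) F) where
  carrier := {A | (A : Matrix (Fin n) (Fin n) F).IsUpperTriangular ∧
    ∀ i, (A : Matrix (Fin n) (Fin n) F) i i = 1}
  mul_mem' := by
    rintro A B ⟨hA, hA1⟩ ⟨hB, hB1⟩
    refine ⟨?_, fun i => ?_⟩
    · rw [Matrix.SpecialLinearGroup.coe_mul]
      exact hA.mul hB
    · rw [Matrix.SpecialLinearGroup.coe_mul, upper_mul_diag hA hB, hA1, hB1, one_mul]
  one_mem' := by
    refine ⟨?_, fun i => ?_⟩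
    · rw [Matrix.SpecialLinearGroup.coe_one]
      exact blockTriangular_one
    · rw [Matrix.SpecialLinearGroup.coe_one, Matrix.one_apply_eq]
  inv_mem' := by
    rintro A ⟨hA, hA1⟩
    have hdet : IsUnit (A : Matrix (Fin n) (Fin n) F).det := by rw [A.2]; exact isUnit_one
    have : Invertible (A : Matrix (Fin n) (Fin n) F) :=
      Matrix.invertibleOfIsUnitDet _ hdet
    have hinv : ((A⁻¹ : SpecialLinearGroup (Fin n) F) : Matrix (Fin n) (Fin n) F).IsUpperTriangular := by
      rw [sl_inv_val]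
      exact blockTriangular_inv_of_blockTriangular hA
    refine ⟨hinv, fun i => ?_⟩
    have h1 : ((A * A⁻¹ : SpecialLinearGroup (Fin n) F) : Matrix (Fin n) (Fin n) F) i i = 1 := by
      rw [mul_inv_cancel, Matrix.SpecialLinearGroup.coe_one, Matrix.one_apply_eq]
    rw [Matrix.SpecialLinearGroup.coe_mul, upper_mul_diag hA hinv, hA1, one_mul] at h1
    exact h1

lemma mem_UT {A : SpecialLinearGroup (Fin n) F} :
    A ∈ UT n F ↔ (∀ i j, j < i → (A : Matrix (Fin n) (Fin n) F) i j = 0) ∧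
      ∀ i, (A : Matrix (Fin n) (Fin n) F) i i = 1 := by
  constructor
  · rintro ⟨h1, h2⟩
    exact ⟨fun i j hij => h1 (show id j < id i from hij), h2⟩
  · rintro ⟨h1, h2⟩
    exact ⟨fun i j hij => h1 i j hij, h2⟩

/-- strictly upper index pairs. -/
abbrev UPairs (n : ℕ) := {q : Fin n × Fin n // q.1 < q.2}

/-- the unitriangular matrix with prescribed upper entries. -/
def utMat (f : UPairs n → F) : Matrix (Fin n) (Fin n) F :=
  Matrix.of fun i j => if h : i < j then f ⟨(i, j), h⟩ else if i = j then 1 else 0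

lemma utMat_upper (f : UPairs n → F) : (utMat f).IsUpperTriangular := by
  intro i j hij
  have hij' : j < i := hij
  unfold utMat
  rw [Matrix.of_apply, dif_neg (not_lt.mpr hij'.le), if_neg hij'.ne']

lemma utMat_diag (f : UPairs n → F) (i : Fin n) : utMat f i i = 1 := by
  unfold utMat
  rw [Matrix.of_apply, dif_neg (lt_irrefl i), if_pos rfl]

lemma utMat_det (f : UPairs n → F) : (utMat f).det = 1 := by
  rw [det_of_isUpperTriangular (utMat_upper f)]
  exact Finset.prod_eq_one fun i _ => utMat_diag f i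

/-- `UT ≃ (pairs → F)`. -/
def utEquiv : UT n F ≃ (UPairs n → F) where
  toFun A := fun q => (A.1 : Matrix (Fin n) (Fin n) F) q.1.1 q.1.2
  invFun f := ⟨⟨utMat f, utMat_det f⟩, utMat_upper f, utMat_diag f⟩
  left_inv := by
    rintro ⟨A, hA⟩
    obtain ⟨h1, h2⟩ := mem_UT.mp hA
    apply Subtype.ext
    apply sl_ext
    ext i j
    change utMat (fun q : UPairs n => (A : Matrix (Fin n) (Fin n) F) q.1.1 q.1.2) i j
      = (A : Matrix (Fin n) (Fin n) F) i j
    unfold utMat
    rw [Matrix.of_apply]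
    by_cases hij : i < j
    · rw [dif_pos hij]
    · rw [dif_neg hij]
      by_cases hij' : i = j
      · rw [if_pos hij', hij', h2]
      · rw [if_neg hij', h1 i j (lt_of_le_of_ne (not_lt.mp hij) (Ne.symm hij'))]
  right_inv := by
    intro f
    ext ⟨⟨i, j⟩, hij⟩
    show utMat f i j = _
    unfold utMat
    rw [Matrix.of_apply, dif_pos hij]

/-- the number of pairs `i < j` is `∑ i`. -/
lemma card_UPairs (n : ℕ) : Fintype.card (UPairs n) = ∑ i : Fin n, (i : ℕ) := by
  let e : UPairs n ≃ Σ j : Fin n, Fin j :=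
    { toFun := fun q => ⟨q.1.2, ⟨q.1.1, q.2⟩⟩
      invFun := fun s => ⟨(⟨s.2, lt_trans s.2.2 s.1.2⟩, s.1), s.2.2⟩
      left_inv := fun q => rfl
      right_inv := fun s => rfl }
  rw [Fintype.card_congr e, Fintype.card_sigma]
  simp

end

section finite
variable {n : ℕ} {F : Type*} [Field F] [Fintype F]

lemma card_UT : Nat.card (UT n F) = Fintype.card F ^ ∑ i : Fin n, (i : ℕ) := by
  classical
  rw [Nat.card_congr utEquiv, Nat.card_eq_fintype_card, Fintype.card_fun, card_UPairs]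

lemma prod_gl_factor (q n : ℕ) :
    ∏ i : Fin n, (q ^ n - q ^ (i : ℕ)) =
      q ^ (∑ i : Fin n, (i : ℕ)) * ∏ i : Fin n, (q ^ (n - (i : ℕ)) - 1) := by
  rw [← Finset.prod_pow_eq_pow_sum, ← Finset.prod_mul_distrib]
  apply Finset.prod_congr rfl
  intro i _
  have hi : (i : ℕ) ≤ n := i.2.le
  rw [Nat.mul_sub, mul_one, ← pow_add, Nat.add_sub_cancel' hi]

variable (p : ℕ) [Fact p.Prime]

lemma not_dvd_index_UT {f : ℕ} (hF : Fintype.card F = p ^ f) (hf : 1 ≤ f) (hn : 1 ≤ n) :
    ¬ p ∣ (UT n F).index := by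
  have hp := (Fact.out : p.Prime)
  set q := Fintype.card F
  have hq1 : 1 ≤ q := Fintype.card_pos
  have hpq : p ∣ q := by rw [hF]; exact dvd_pow_self p (by omega)
  have h1 := card_sl_mul (F := F) n hn
  rw [prod_gl_factor q n, ← card_UT (n := n) (F := F),
    ← (UT n F).card_mul_index] at h1
  have hUpos : 0 < Nat.card (UT n F) := Nat.card_pos
  have h2 : (q - 1) * (UT n F).index = ∏ i : Fin n, (q ^ (n - (i : ℕ)) - 1) := by
    apply Nat.eq_of_mul_eq_mul_left hUpos
    rw [← h1]; ring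
  intro hdiv
  have h3 : p ∣ ∏ i : Fin n, (q ^ (n - (i : ℕ)) - 1) := by
    rw [← h2]; exact dvd_mul_of_dvd_right hdiv _
  obtain ⟨i, -, hi⟩ := (Prime.dvd_finsetProd_iff hp.prime _).mp h3
  have hpos : 1 ≤ n - (i : ℕ) := by have := i.2; omega
  have h4 : p ∣ q ^ (n - (i : ℕ)) := dvd_pow hpq (by omega)
  have h5 : 1 ≤ q ^ (n - (i : ℕ)) := Nat.one_le_pow _ _ hq1
  have h6 : p ∣ 1 := by
    have := (Nat.dvd_sub h4 hi)
    rwa [Nat.sub_sub_self h5] at this
  exact hp.one_lt.ne' (Nat.dvd_one.mp h6)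

omit [Fact p.Prime] in
lemma isPGroup_UT {f : ℕ} (hF : Fintype.card F = p ^ f) : IsPGroup p (UT n F) := by
  apply IsPGroup.of_card (n := f * ∑ i : Fin n, (i : ℕ))
  rw [card_UT, hF, pow_mul]

/-- the unitriangular group as a Sylow `p`-subgroup of `SL_n(q)`. -/
noncomputable def sylUT {f : ℕ} (hF : Fintype.card F = p ^ f) (hf : 1 ≤ f) (hn : 1 ≤ n) :
    Sylow p (SpecialLinearGroup (Fin n) F) :=
  (isPGroup_UT p hF).toSylow (not_dvd_index_UT p hF hf hn)

end finite

end Cfsg.Agent.Lib.Helper07
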