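import Mathlib
import Cfsg.Agent.Lib.Helper07.PSLnC

set_option autoImplicit false

/-! The centre of the unitriangular Sylow subgroup of `PSL_n(q)` is a root group, hence
automorphisms permute root groups. -/

namespace Cfsg.Agent.Lib.Helper07

open Matrix

section
variable {n : ℕ} {F : Type*} [Field F]

/-- standard basis vector. -/
def eb (i : Fin n) : Fin n → F := Pi.single i 1

lemma eb_apply (i k : Fin n) : (eb i : Fin n → F) k = if k = i then 1 else 0 := by
  unfold eb
  rw [Pi.single_apply]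

lemma eb_dot_eb (i j : Fin n) : (eb i : Fin n → F) ⬝ᵥ eb j = if i = j then 1 else 0 := by
  unfold eb
  rw [single_dotProduct, one_mul, Pi.single_apply]

lemma eb_dot_eb_of_ne {i j : Fin n} (h : i ≠ j) : (eb i : Fin n → F) ⬝ᵥ eb j = 0 := by
  rw [eb_dot_eb, if_neg h]

lemma eb_ne_zero (i : Fin n) : (eb i : Fin n → F) ≠ 0 := by
  intro h
  have := congrFun h i
  rw [eb_apply, if_pos rfl] at this
  exact one_ne_zero this

lemma isFlag_eb {i j : Fin n} (h : i ≠ j) : IsFlag (eb i : Fin n → F) (eb j) :=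
  ⟨eb_ne_zero i, eb_ne_zero j, eb_dot_eb_of_ne h.symm⟩

lemma tvM_eb (i j : Fin n) (t : F) : tvM (t • eb i) (eb j) = 1 + Matrix.single i j t := by
  unfold tvM eb
  rw [smul_vecMulVec, ← single_eq_single_vecMulVec_single, smul_single, smul_eq_mul, mul_one]

/-- the elementary root element `x_{ij}(t)` of `SL_n`. -/
noncomputable def xe (i j : Fin n) (t : F) : SpecialLinearGroup (Fin n) F := tv (t • eb i) (eb j)

lemma xe_val {i j : Fin n} (h : i ≠ j) (t : F) :
    ((xe i j t : SpecialLinearGroup (Fin n) F) : Matrix (Fin n) (Fin n) F)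
      = 1 + Matrix.single i j t := by
  unfold xe
  rw [tv_val (by rw [dotProduct_smul, eb_dot_eb_of_ne h.symm, smul_zero]), tvM_eb]

lemma xe_mem_UT {i j : Fin n} (h : i < j) (t : F) : xe i j t ∈ UT n F := by
  rw [mem_UT, xe_val h.ne]
  refine ⟨fun k l hlk => ?_, fun k => ?_⟩
  · rw [Matrix.add_apply, Matrix.one_apply_ne hlk.ne', zero_add, Matrix.single_apply, if_neg]
    rintro ⟨rfl, rfl⟩
    exact absurd h (not_lt.mpr hlk.le)
  · rw [Matrix.add_apply, Matrix.one_apply_eq, Matrix.single_apply, if_neg, add_zero]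
    rintro ⟨rfl, rfl⟩
    exact lt_irrefl _ h

/-- a unitriangular matrix commuting with all `x_{ij}(1)`, `i < j`, is `x_{0,n-1}(c)`. -/
lemma UT_central_form {z : SpecialLinearGroup (Fin n) F} (hz : z ∈ UT n F) (a b : Fin n)
    (ha : ∀ k, a ≤ k) (hb : ∀ k, k ≤ b) (hab : a ≠ b)
    (hc : ∀ i j : Fin n, i < j → z * xe i j 1 = xe i j 1 * z) :
    z = xe a b ((z : Matrix (Fin n) (Fin n) F) a b) := by
  obtain ⟨hz1, hz2⟩ := mem_UT.mp hz
  have hcm : ∀ i j : Fin n, i < j → (z : Matrix (Fin n) (Fin n) F) * Matrix.single i j 1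
      = Matrix.single i j 1 * (z : Matrix (Fin n) (Fin n) F) := by
    intro i j hij
    have h1 : ((z * xe i j 1 : SpecialLinearGroup (Fin n) F) : Matrix (Fin n) (Fin n) F)
        = ((xe i j 1 * z : SpecialLinearGroup (Fin n) F) : Matrix (Fin n) (Fin n) F) := by
      rw [hc i j hij]
    rw [Matrix.SpecialLinearGroup.coe_mul, Matrix.SpecialLinearGroup.coe_mul, xe_val hij.ne,
      mul_add, add_mul, mul_one, one_mul] at h1
    exact add_left_cancel h1
  -- columns other than the last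
  have hcol : ∀ i k : Fin n, i ≠ b → k ≠ i → (z : Matrix (Fin n) (Fin n) F) k i = 0 := by
    intro i k hib hki
    have hlt : i < b := lt_of_le_of_ne (hb i) hib
    have := congrFun (congrFun (hcm i b hlt) k) b
    rw [Matrix.mul_single_apply_same, mul_one, Matrix.single_mul_apply_of_ne _ _ _ _ _ hki] at this
    exact this
  -- rows other than the first
  have hrow : ∀ j l : Fin n, j ≠ a → l ≠ j → (z : Matrix (Fin n) (Fin n) F) j l = 0 := by
    intro j l hja hlj
    have hlt : a < j := lt_of_le_of_ne (ha j) (Ne.symm hja)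
    have := congrFun (congrFun (hcm a j hlt) a) l
    rw [Matrix.mul_single_apply_of_ne _ _ _ _ _ hlj, Matrix.single_mul_apply_same, one_mul] at this
    exact this.symm
  apply sl_ext
  rw [xe_val hab]
  ext k l
  rw [Matrix.add_apply, Matrix.single_apply]
  by_cases hkl : k = l
  · subst hkl
    rw [hz2, Matrix.one_apply_eq, if_neg, add_zero]
    rintro ⟨rfl, rfl⟩
    exact hab rfl
  · rw [Matrix.one_apply_ne hkl, zero_add]
    by_cases h1 : a = k ∧ b = l
    · rw [if_pos h1, h1.1, h1.2]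
    · rw [if_neg h1]
      by_cases hl : l = b
      · have hk : k ≠ a := fun hk => h1 ⟨hk.symm, hl.symm⟩
        exact hrow k l hk (Ne.symm hkl)
      · exact hcol l k hl hkl

/-- `x_{0,n-1}(t)` commutes with every unitriangular matrix. -/
lemma xe_commute_UT {z : SpecialLinearGroup (Fin n) F} (hz : z ∈ UT n F) (a b : Fin n)
    (ha : ∀ k, a ≤ k) (hb : ∀ k, k ≤ b) (hab : a ≠ b) (t : F) :
    xe a b t * z = z * xe a b t := by
  obtain ⟨hz1, hz2⟩ := mem_UT.mp hz
  apply sl_ext
  rw [Matrix.SpecialLinearGroup.coe_mul, Matrix.SpecialLinearGroup.coe_mul, xe_val hab,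
    mul_add, add_mul, mul_one, one_mul]
  congr 1
  ext k l
  by_cases hk : k = a
  · subst hk
    rw [Matrix.single_mul_apply_same]
    by_cases hl : l = b
    · subst hl
      rw [Matrix.mul_single_apply_same, hz2, hz2, mul_one, one_mul]
    · rw [Matrix.mul_single_apply_of_ne _ _ _ _ _ hl,
        hz1 b l (lt_of_le_of_ne (hb l) hl), mul_zero]
  · rw [Matrix.single_mul_apply_of_ne _ _ _ _ _ hk]
    by_cases hl : l = b
    · subst hl
      rw [Matrix.mul_single_apply_same, hz1 k a (lt_of_le_of_ne (ha k) (Ne.symm hk)), zero_mul]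
    · rw [Matrix.mul_single_apply_of_ne _ _ _ _ _ hl]

end

section psl
variable {n : ℕ} {F : Type*} [Field F] (p : ℕ) [Fact p.Prime] [CharP F p]

local notation "G" => ProjectiveSpecialLinearGroup (Fin n) F

/-- the image of the unitriangular group in `PSL_n`. -/
def UTbar (n : ℕ) (F : Type*) [Field F] : Subgroup (ProjectiveSpecialLinearGroup (Fin n) F) :=
  (UT n F).map prjN

/-- "centre" of a subgroup, as a set. -/
def ZC {H : Type*} [Group H] (K : Subgroup H) : Set H := {x | x ∈ K ∧ ∀ y ∈ K, x * y = y * x}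

lemma ZC_map {H : Type*} [Group H] (K : Subgroup H) (e : H ≃* H) :
    ZC (K.map e.toMonoidHom) = e '' ZC K := by
  ext x
  constructor
  · rintro ⟨⟨x, hx, rfl⟩, hc⟩
    refine ⟨x, ⟨hx, fun y hy => ?_⟩, rfl⟩
    apply e.injective
    have := hc (e y) ⟨y, hy, rfl⟩
    simpa using this
  · rintro ⟨x, ⟨hx, hc⟩, rfl⟩
    refine ⟨⟨x, hx, rfl⟩, ?_⟩
    rintro _ ⟨y, hy, rfl⟩
    show e x * e y = e y * e x
    rw [← map_mul, ← map_mul, hc y hy]

include p in
lemma ZC_UTbar (a b : Fin n) (ha : ∀ k, a ≤ k) (hb : ∀ k, k ≤ b) (hab : a ≠ b) :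
    ZC (UTbar n F) = rs (eb a) (eb b) := by
  ext x
  constructor
  · rintro ⟨⟨z, hz, rfl⟩, hc⟩
    have hcomm : ∀ i j : Fin n, i < j → z * xe i j 1 = xe i j 1 * z := by
      intro i j hij
      have h1 := hc (prjN (xe i j 1)) ⟨_, xe_mem_UT hij 1, rfl⟩
      have h3 : prjN (z * xe i j 1 * z⁻¹) = prjN (xe i j (1 : F)) := by
        rw [map_mul, map_mul, map_inv]
        show prjN z * prjN (xe i j 1) * (prjN z)⁻¹ = _
        rw [h1, mul_inv_cancel_right]
      have h4 : z * xe i j 1 * z⁻¹ = xe i j 1 := by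
        apply eq_of_prjN_eq_of_pow p 1 _ _ h3
        · rw [pow_one, conj_pow]
          unfold xe
          rw [tv_pow_char, mul_one, mul_inv_cancel]
        · rw [pow_one]
          unfold xe
          rw [tv_pow_char]
      rw [← h4, inv_mul_cancel_right, h4]
    have := UT_central_form hz a b ha hb hab hcomm
    exact ⟨(z : Matrix (Fin n) (Fin n) F) a b, by
      show prjN (tv _ _) = _
      conv_rhs => rw [this]
      rfl⟩
  · rintro ⟨t, rfl⟩
    refine ⟨⟨xe a b t, xe_mem_UT (lt_of_le_of_ne (ha b) hab) t, rfl⟩, ?_⟩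
    rintro _ ⟨y, hy, rfl⟩
    show prjN (xe a b t) * prjN y = prjN y * prjN (xe a b t)
    rw [← map_mul, ← map_mul, xe_commute_UT hy a b ha hb hab]

end psl

section sylow
variable {n : ℕ} {F : Type*} [Field F] [Fintype F] (p : ℕ) [Fact p.Prime] [CharP F p]

local notation "G" => ProjectiveSpecialLinearGroup (Fin n) F

/-- the unitriangular Sylow subgroup of `PSL_n(q)`. -/
noncomputable def sylUTbar {f : ℕ} (hF : Fintype.card F = p ^ f) (hf : 1 ≤ f) (hn : 1 ≤ n) :
    Sylow p G :=
  (sylUT p hF hf hn).mapSurjective prjN_surjective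

omit [CharP F p] in
lemma sylUTbar_coe {f : ℕ} (hF : Fintype.card F = p ^ f) (hf : 1 ≤ f) (hn : 1 ≤ n) :
    ((sylUTbar p hF hf hn : Sylow p G) : Subgroup G) = UTbar n F := by
  unfold sylUTbar UTbar sylUT
  rw [Sylow.coe_mapSurjective, IsPGroup.toSylow_coe]

/-- every automorphism maps the root group `X_{0,n-1}` to a conjugate. -/
theorem aut_image_rs {f : ℕ} (hF : Fintype.card F = p ^ f) (hf : 1 ≤ f) (hn : 1 ≤ n)
    (a b : Fin n) (ha : ∀ k, a ≤ k) (hb : ∀ k, k ≤ b) (hab : a ≠ b) (α : MulAut G) :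
    ∃ h : G, α '' rs (eb a) (eb b) = (MulAut.conj h) '' rs (eb a) (eb b) := by
  set S := sylUTbar (n := n) (F := F) p hF hf hn with hS
  obtain ⟨g₁, hg₁⟩ := MulAction.exists_smul_eq G (α • S) S
  refine ⟨g₁⁻¹, ?_⟩
  set α₁ : MulAut G := MulAut.conj g₁ * α with hα₁
  have h1 : α₁ • S = S := by
    rw [hα₁, mul_smul]; exact hg₁
  have h2 : (UTbar n F).map α₁.toMonoidHom = UTbar n F := by
    have h := congrArg (fun P : Sylow p G => (P : Subgroup G)) h1
    have h' : ((α₁ • S : Sylow p G) : Subgroup G) = (S : Subgroup G) := h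
    rw [Sylow.pointwise_smul_def, hS, sylUTbar_coe] at h'
    exact h'
  have h3 := ZC_map (UTbar n F) α₁
  rw [h2, ZC_UTbar p a b ha hb hab] at h3
  have h4 : α '' rs (eb a) (eb b) = (MulAut.conj g₁⁻¹) '' (α₁ '' rs (eb a) (eb b)) := by
    rw [Set.image_image]
    apply Set.image_congr
    intro y _
    show α y = MulAut.conj g₁⁻¹ ((MulAut.conj g₁ * α) y)
    rw [MulAut.mul_apply, ← MulAut.mul_apply, ← map_mul, inv_mul_cancel, map_one,
      MulAut.one_apply]
  rw [h4, ← h3]

end sylow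

end Cfsg.Agent.Lib.Helper07
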