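import Mathlib
import Cfsg.Agent.Lib.Helper07.PSLnD
import Cfsg.Agent.Lib.Helper07.AutPSL4

set_option autoImplicit false

/-! The standard automorphisms of `PSL_n(F)`: conjugation by `GL_n`, field automorphisms,
inverse-transpose, and index permutations; their effect on root elements. -/

namespace Cfsg.Agent.Lib.Helper07

open Matrix

section
variable {n : ℕ} {F : Type*} [Field F]

local notation "SLn" => SpecialLinearGroup (Fin n) F
local notation "G" => ProjectiveSpecialLinearGroup (Fin n) F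

/-- conjugation by an element of `GL_n` on `SL_n`. -/
def conjSLn (g : GL (Fin n) F) : MulAut SLn where
  toFun A := ⟨g.val * A.val * g⁻¹.val, by
    rw [det_mul, det_mul, A.2, mul_one, ← det_mul, Units.mul_inv, det_one]⟩
  invFun A := ⟨g⁻¹.val * A.val * g.val, by
    rw [det_mul, det_mul, A.2, mul_one, ← det_mul, Units.inv_mul, det_one]⟩
  left_inv A := by
    apply Subtype.ext
    show g⁻¹.val * (g.val * A.val * g⁻¹.val) * g.val = A.val
    rw [← mul_assoc, ← mul_assoc, Units.inv_mul, one_mul, mul_assoc, Units.inv_mul, mul_one]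
  right_inv A := by
    apply Subtype.ext
    show g.val * (g⁻¹.val * A.val * g.val) * g⁻¹.val = A.val
    rw [← mul_assoc, ← mul_assoc, Units.mul_inv, one_mul, mul_assoc, Units.mul_inv, mul_one]
  map_mul' A B := by
    apply Subtype.ext
    show g.val * (A.val * B.val) * g⁻¹.val = (g.val * A.val * g⁻¹.val) * (g.val * B.val * g⁻¹.val)
    have : g⁻¹.val * g.val = 1 := Units.inv_mul g
    calc g.val * (A.val * B.val) * g⁻¹.val
        = g.val * A.val * (1 : Matrix (Fin n) (Fin n) F) * B.val * g⁻¹.val := by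
          rw [mul_one]; simp only [mul_assoc]
      _ = _ := by rw [← this]; simp only [mul_assoc]

lemma conjSLn_val (g : GL (Fin n) F) (A : SLn) :
    ((conjSLn g A : SLn) : Matrix (Fin n) (Fin n) F)
      = g.val * (A : Matrix (Fin n) (Fin n) F) * g⁻¹.val := rfl

/-- `g ↦ conjSLn g` as a homomorphism. -/
def conjSLnHom : GL (Fin n) F →* MulAut SLn where
  toFun := conjSLn
  map_one' := MulEquiv.ext fun A => sl_ext (by
    rw [MulAut.one_apply, conjSLn_val, inv_one, Units.val_one, one_mul, mul_one])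
  map_mul' g h := MulEquiv.ext fun A => sl_ext (by
    rw [MulAut.mul_apply, conjSLn_val, conjSLn_val, conjSLn_val, _root_.mul_inv_rev,
      Units.val_mul, Units.val_mul]
    simp only [mul_assoc])

/-- conjugation by `GL_n` on `PSL_n`. -/
def conjGLn : GL (Fin n) F →* MulAut G :=
  (autQuot (Subgroup.center SLn)).comp conjSLnHom

lemma conjGLn_prjN (g : GL (Fin n) F) (A : SLn) :
    conjGLn g (prjN A) = prjN (conjSLn g A) := rfl

lemma conjSLn_tv (g : GL (Fin n) F) {u φ : Fin n → F} (h : φ ⬝ᵥ u = 0) :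
    conjSLn g (tv u φ) = tv (g.val *ᵥ u) (φ ᵥ* g⁻¹.val) := by
  have hgg : g.val * g⁻¹.val = 1 := Units.mul_inv g
  have hgg' : g⁻¹.val * g.val = 1 := Units.inv_mul g
  have h' : (φ ᵥ* g⁻¹.val) ⬝ᵥ (g.val *ᵥ u) = 0 := by
    rw [dotProduct_mulVec, vecMul_vecMul, hgg', vecMul_one, h]
  apply sl_ext
  rw [conjSLn_val, tv_val h, tv_val h', tvM_conj _ _ hgg]

lemma conjGLn_re (g : GL (Fin n) F) {u φ : Fin n → F} (h : φ ⬝ᵥ u = 0) (t : F) :
    conjGLn g (re u φ t) = re (g.val *ᵥ u) (φ ᵥ* g⁻¹.val) t := by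
  unfold re
  rw [conjGLn_prjN, conjSLn_tv g (by rw [dotProduct_smul, h, smul_zero]), mulVec_smul]

lemma conjGLn_image_rs (g : GL (Fin n) F) {u φ : Fin n → F} (h : φ ⬝ᵥ u = 0) :
    (conjGLn g) '' rs u φ = rs (g.val *ᵥ u) (φ ᵥ* g⁻¹.val) := by
  ext x
  constructor
  · rintro ⟨_, ⟨t, rfl⟩, rfl⟩
    exact ⟨t, (conjGLn_re g h t).symm⟩
  · rintro ⟨t, rfl⟩
    exact ⟨re u φ t, ⟨t, rfl⟩, conjGLn_re g h t⟩

/-- inner automorphisms on root sets. -/
lemma conj_image_rs (g : SLn) {u φ : Fin n → F} (h : φ ⬝ᵥ u = 0) :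
    (MulAut.conj (prjN g)) '' rs u φ
      = rs ((g : Matrix (Fin n) (Fin n) F) *ᵥ u)
          (φ ᵥ* ((g⁻¹ : SLn) : Matrix (Fin n) (Fin n) F)) := by
  have key : ∀ t : F, MulAut.conj (prjN g) (re u φ t)
      = re ((g : Matrix (Fin n) (Fin n) F) *ᵥ u)
          (φ ᵥ* ((g⁻¹ : SLn) : Matrix (Fin n) (Fin n) F)) t := by
    intro t
    unfold re
    rw [MulAut.conj_apply, ← map_inv, ← map_mul, ← map_mul,
      tv_conj g (by rw [dotProduct_smul, h, smul_zero]), mulVec_smul]
  ext x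
  constructor
  · rintro ⟨_, ⟨t, rfl⟩, rfl⟩
    exact ⟨t, (key t).symm⟩
  · rintro ⟨t, rfl⟩
    exact ⟨re u φ t, ⟨t, rfl⟩, key t⟩

/-- a field automorphism acting on `SL_n`. -/
def fieldAutSLn : RingAut F →* MulAut SLn where
  toFun τ := slCongr τ
  map_one' := MulEquiv.ext fun A => sl_ext (by
    ext i j
    rfl)
  map_mul' τ₁ τ₂ := MulEquiv.ext fun A => sl_ext (by
    ext i j
    rfl)

lemma fieldAutSLn_val (τ : RingAut F) (A : SLn) :
    ((fieldAutSLn τ A : SLn) : Matrix (Fin n) (Fin n) F)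
      = (A : Matrix (Fin n) (Fin n) F).map τ := rfl

/-- a field automorphism acting on `PSL_n`. -/
def fieldAutN : RingAut F →* MulAut G :=
  (autQuot (Subgroup.center SLn)).comp fieldAutSLn

lemma fieldAutN_prjN (τ : RingAut F) (A : SLn) :
    fieldAutN τ (prjN A) = prjN (fieldAutSLn τ A) := rfl

lemma map_dotProduct (τ : RingAut F) (u φ : Fin n → F) :
    (fun i => τ (φ i)) ⬝ᵥ (fun i => τ (u i)) = τ (φ ⬝ᵥ u) := by
  unfold dotProduct
  rw [map_sum]
  simp only [map_mul]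

lemma fieldAutSLn_tv (τ : RingAut F) {u φ : Fin n → F} (h : φ ⬝ᵥ u = 0) :
    fieldAutSLn τ (tv u φ) = tv (fun i => τ (u i)) (fun i => τ (φ i)) := by
  have h' : (fun i => τ (φ i)) ⬝ᵥ (fun i => τ (u i)) = 0 := by
    rw [map_dotProduct, h, map_zero]
  apply sl_ext
  rw [fieldAutSLn_val, tv_val h, tv_val h']
  ext i j
  simp [tvM, Matrix.map_apply, Matrix.add_apply, vecMulVec_apply, Matrix.one_apply, apply_ite]

lemma fieldAutN_re (τ : RingAut F) {u φ : Fin n → F} (h : φ ⬝ᵥ u = 0) (t : F) :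
    fieldAutN τ (re u φ t) = re (fun i => τ (u i)) (fun i => τ (φ i)) (τ t) := by
  unfold re
  rw [fieldAutN_prjN, fieldAutSLn_tv τ (by rw [dotProduct_smul, h, smul_zero])]
  congr 2
  ext i
  simp

/-- transpose on `SL_n`. -/
def slT (A : SLn) : SLn :=
  ⟨(A : Matrix (Fin n) (Fin n) F)ᵀ, by rw [det_transpose]; exact A.2⟩

lemma slT_val (A : SLn) :
    ((slT A : SLn) : Matrix (Fin n) (Fin n) F) = (A : Matrix (Fin n) (Fin n) F)ᵀ := rfl

lemma slT_mul (A B : SLn) : slT (A * B) = slT B * slT A := by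
  apply sl_ext
  rw [Matrix.SpecialLinearGroup.coe_mul, slT_val, slT_val, slT_val,
    Matrix.SpecialLinearGroup.coe_mul, transpose_mul]

lemma slT_slT (A : SLn) : slT (slT A) = A := by
  apply sl_ext
  rw [slT_val, slT_val, transpose_transpose]

lemma slT_one : slT (1 : SLn) = 1 := by
  apply sl_ext
  rw [slT_val, Matrix.SpecialLinearGroup.coe_one, transpose_one]

lemma slT_inv (A : SLn) : slT A⁻¹ = (slT A)⁻¹ := by
  rw [eq_inv_iff_mul_eq_one, ← slT_mul, mul_inv_cancel, slT_one]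

/-- inverse-transpose on `SL_n`. -/
def invTSL : MulAut SLn where
  toFun A := slT A⁻¹
  invFun A := slT A⁻¹
  left_inv A := by
    show slT (slT A⁻¹)⁻¹ = A
    rw [← slT_inv, slT_slT, inv_inv]
  right_inv A := by
    show slT (slT A⁻¹)⁻¹ = A
    rw [← slT_inv, slT_slT, inv_inv]
  map_mul' A B := by
    show slT (A * B)⁻¹ = slT A⁻¹ * slT B⁻¹
    rw [_root_.mul_inv_rev, slT_mul]

lemma invTSL_val (A : SLn) :
    ((invTSL A : SLn) : Matrix (Fin n) (Fin n) F)
      = ((A⁻¹ : SLn) : Matrix (Fin n) (Fin n) F)ᵀ := rfl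

/-- inverse-transpose on `PSL_n`. -/
def invT : MulAut G := autQuot (Subgroup.center SLn) invTSL

lemma invT_prjN (A : SLn) : invT (prjN A) = prjN (invTSL A) := rfl

lemma tv_inv {u φ : Fin n → F} (h : φ ⬝ᵥ u = 0) : (tv u φ)⁻¹ = tv u (-φ) := by
  rw [inv_eq_iff_mul_eq_one, tv_mul_same_left h (by rw [neg_dotProduct, h, neg_zero]),
    add_neg_cancel, tv_zero_right]

lemma invTSL_tv {u φ : Fin n → F} (h : φ ⬝ᵥ u = 0) : invTSL (tv u φ) = tv (-φ) u := by
  have h' : u ⬝ᵥ (-φ) = 0 := by rw [dotProduct_neg, dotProduct_comm, h, neg_zero]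
  apply sl_ext
  rw [invTSL_val, tv_inv h, tv_val (by rw [neg_dotProduct, h, neg_zero]), tv_val h']
  unfold tvM
  rw [transpose_add, transpose_one, transpose_vecMulVec]

lemma invT_re {u φ : Fin n → F} (h : φ ⬝ᵥ u = 0) (t : F) :
    invT (re u φ t) = re φ u (-t) := by
  unfold re
  rw [invT_prjN, invTSL_tv (by rw [dotProduct_smul, h, smul_zero])]
  congr 1
  have e1 : (-φ : Fin n → F) = (-1 : F) • φ := by rw [neg_smul, one_smul]
  rw [e1, tv_smul_comm, smul_smul, ← tv_smul_comm]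
  congr 2
  ring

/-- permuting the indices, on `SL_n`. -/
def permSL (σ : Equiv.Perm (Fin n)) : MulAut SLn where
  toFun A := ⟨(A : Matrix (Fin n) (Fin n) F).submatrix σ.symm σ.symm, by
    rw [det_submatrix_equiv_self]; exact A.2⟩
  invFun A := ⟨(A : Matrix (Fin n) (Fin n) F).submatrix σ σ, by
    rw [det_submatrix_equiv_self]; exact A.2⟩
  left_inv A := by
    apply sl_ext
    show ((A : Matrix (Fin n) (Fin n) F).submatrix σ.symm σ.symm).submatrix σ σ = _
    rw [submatrix_submatrix]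
    simp
  right_inv A := by
    apply sl_ext
    show ((A : Matrix (Fin n) (Fin n) F).submatrix σ σ).submatrix σ.symm σ.symm = _
    rw [submatrix_submatrix]
    simp
  map_mul' A B := by
    apply sl_ext
    show ((A * B : SLn) : Matrix (Fin n) (Fin n) F).submatrix σ.symm σ.symm
      = (A : Matrix (Fin n) (Fin n) F).submatrix σ.symm σ.symm
        * (B : Matrix (Fin n) (Fin n) F).submatrix σ.symm σ.symm
    rw [Matrix.SpecialLinearGroup.coe_mul, submatrix_mul_equiv]

lemma permSL_val (σ : Equiv.Perm (Fin n)) (A : SLn) :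
    ((permSL σ A : SLn) : Matrix (Fin n) (Fin n) F)
      = (A : Matrix (Fin n) (Fin n) F).submatrix σ.symm σ.symm := rfl

/-- permuting the indices, on `PSL_n`. -/
def permAut (σ : Equiv.Perm (Fin n)) : MulAut G := autQuot (Subgroup.center SLn) (permSL σ)

lemma permAut_prjN (σ : Equiv.Perm (Fin n)) (A : SLn) :
    permAut σ (prjN A) = prjN (permSL σ A) := rfl

lemma permSL_xe (σ : Equiv.Perm (Fin n)) {i j : Fin n} (h : i ≠ j) (t : F) :
    permSL σ (xe i j t) = xe (σ i) (σ j) t := by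
  apply sl_ext
  rw [permSL_val, xe_val h, xe_val (fun h' => h (σ.injective h'))]
  ext k l
  rw [submatrix_apply, Matrix.add_apply, Matrix.add_apply, Matrix.single_apply,
    Matrix.single_apply, Matrix.one_apply, Matrix.one_apply]
  congr 1
  · simp only [EmbeddingLike.apply_eq_iff_eq]
  · simp only [Equiv.eq_symm_apply]

lemma permAut_re_eb (σ : Equiv.Perm (Fin n)) {i j : Fin n} (h : i ≠ j) (t : F) :
    permAut σ (re (eb i) (eb j) t) = re (eb (σ i)) (eb (σ j)) t := by
  show permAut σ (prjN (xe i j t)) = prjN (xe (σ i) (σ j) t)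
  rw [permAut_prjN, permSL_xe σ h]

lemma permAut_image_rs (σ : Equiv.Perm (Fin n)) {i j : Fin n} (h : i ≠ j) :
    (permAut σ) '' rs (eb i : Fin n → F) (eb j) = rs (eb (σ i)) (eb (σ j)) := by
  ext x
  constructor
  · rintro ⟨_, ⟨t, rfl⟩, rfl⟩
    exact ⟨t, (permAut_re_eb σ h t).symm⟩
  · rintro ⟨t, rfl⟩
    exact ⟨re (eb i) (eb j) t, ⟨t, rfl⟩, permAut_re_eb σ h t⟩

end

end Cfsg.Agent.Lib.Helper07
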