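import Mathlib
import Cfsg.Agent.Lib.Helper07.PSLnE1
import Cfsg.Agent.Lib.Helper07.PSLnF

set_option autoImplicit false
set_option linter.unusedSectionVars false

/-! Any automorphism of `PSL_n(q)` maps the standard root groups to a root family of flags. -/

namespace Cfsg.Agent.Lib.Helper07

open Matrix

/-- the standing hypotheses. -/
structure PSLCtx (n : ℕ) (F : Type*) [Field F] [Fintype F] (p : ℕ) where
  f : ℕ
  hF : Fintype.card F = p ^ f
  hf : 1 ≤ f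
  a : Fin n
  b : Fin n
  ha : ∀ k, a ≤ k
  hb : ∀ k, k ≤ b
  hab : a ≠ b
  h3 : ∀ i k : Fin n, ∃ j, j ≠ i ∧ j ≠ k

section lin
variable {n : ℕ} {F : Type*} [Field F]

lemma tvM_mulVec (u φ x : Fin n → F) : tvM u φ *ᵥ x = x + (φ ⬝ᵥ x) • u := by
  unfold tvM
  rw [add_mulVec, one_mulVec, vecMulVec_mulVec, op_smul_eq_smul]

lemma vecMul_tvM (u φ x : Fin n → F) : x ᵥ* tvM u φ = x + (x ⬝ᵥ u) • φ := by
  unfold tvM
  rw [vecMul_add, vecMul_one, vecMul_vecMulVec]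

lemma isFlag_conj (g : SpecialLinearGroup (Fin n) F) {u φ : Fin n → F} (h : IsFlag u φ) :
    IsFlag ((g : Matrix (Fin n) (Fin n) F) *ᵥ u)
      (φ ᵥ* ((g⁻¹ : SpecialLinearGroup (Fin n) F) : Matrix (Fin n) (Fin n) F)) := by
  have hgg : (g : Matrix (Fin n) (Fin n) F) *
      ((g⁻¹ : SpecialLinearGroup (Fin n) F) : Matrix (Fin n) (Fin n) F) = 1 := by
    rw [← Matrix.SpecialLinearGroup.coe_mul, mul_inv_cancel]; rfl
  have hgg' : ((g⁻¹ : SpecialLinearGroup (Fin n) F) : Matrix (Fin n) (Fin n) F) *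
      (g : Matrix (Fin n) (Fin n) F) = 1 := by
    rw [← Matrix.SpecialLinearGroup.coe_mul, inv_mul_cancel]; rfl
  refine ⟨fun h0 => h.1 ?_, fun h0 => h.2.1 ?_, ?_⟩
  · have : ((g⁻¹ : SpecialLinearGroup (Fin n) F) : Matrix (Fin n) (Fin n) F) *ᵥ
        ((g : Matrix (Fin n) (Fin n) F) *ᵥ u)
        = ((g⁻¹ : SpecialLinearGroup (Fin n) F) : Matrix (Fin n) (Fin n) F) *ᵥ 0 := by rw [h0]
    rw [mulVec_mulVec, hgg', one_mulVec, mulVec_zero] at this
    exact this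
  · have : (φ ᵥ* ((g⁻¹ : SpecialLinearGroup (Fin n) F) : Matrix (Fin n) (Fin n) F)) ᵥ*
        (g : Matrix (Fin n) (Fin n) F) = 0 ᵥ* (g : Matrix (Fin n) (Fin n) F) := by rw [h0]
    rw [vecMul_vecMul, hgg', vecMul_one, zero_vecMul] at this
    exact this
  · rw [dotProduct_mulVec, vecMul_vecMul, hgg', vecMul_one, h.2.2]

lemma isFlag_conjGL (g : GL (Fin n) F) {u φ : Fin n → F} (h : IsFlag u φ) :
    IsFlag (g.val *ᵥ u) (φ ᵥ* g⁻¹.val) := by
  have hgg : g.val * g⁻¹.val = 1 := Units.mul_inv g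
  have hgg' : g⁻¹.val * g.val = 1 := Units.inv_mul g
  refine ⟨fun h0 => h.1 ?_, fun h0 => h.2.1 ?_, ?_⟩
  · have : g⁻¹.val *ᵥ (g.val *ᵥ u) = g⁻¹.val *ᵥ 0 := by rw [h0]
    rw [mulVec_mulVec, hgg', one_mulVec, mulVec_zero] at this
    exact this
  · have : (φ ᵥ* g⁻¹.val) ᵥ* g.val = 0 ᵥ* g.val := by rw [h0]
    rw [vecMul_vecMul, hgg', vecMul_one, zero_vecMul] at this
    exact this
  · rw [dotProduct_mulVec, vecMul_vecMul, hgg', vecMul_one, h.2.2]

lemma exists_perm (a b i j : Fin n) (hab : a ≠ b) (hij : i ≠ j) :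
    ∃ σ : Equiv.Perm (Fin n), σ a = i ∧ σ b = j := by
  refine ⟨Equiv.swap (Equiv.swap a i b) j * Equiv.swap a i, ?_, ?_⟩
  · rw [Equiv.Perm.mul_apply, Equiv.swap_apply_left]
    apply Equiv.swap_apply_of_ne_of_ne
    · intro h
      have : Equiv.swap a i a = Equiv.swap a i b := by rw [Equiv.swap_apply_left]; exact h
      exact hab ((Equiv.swap a i).injective this)
    · exact hij
  · rw [Equiv.Perm.mul_apply, Equiv.swap_apply_left]

end lin

section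
variable {n : ℕ} {F : Type*} [Field F] [Fintype F] {p : ℕ} [Fact p.Prime] [CharP F p]

local notation "G" => ProjectiveSpecialLinearGroup (Fin n) F

/-- the standard root set `X_{ij}`. -/
abbrev Xs (n : ℕ) (F : Type*) [Field F] (i j : Fin n) :
    Set (ProjectiveSpecialLinearGroup (Fin n) F) := rs (eb i) (eb j)

theorem aut_image_Xs (C : PSLCtx n F p) (β : MulAut G) {i j : Fin n} (hij : i ≠ j) :
    ∃ u φ : Fin n → F, IsFlag u φ ∧ β '' Xs n F i j = rs u φ := by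
  obtain ⟨σ, rfl, rfl⟩ := exists_perm C.a C.b i j C.hab hij
  have hn : 1 ≤ n := Nat.succ_le_of_lt (Fin.pos C.a)
  obtain ⟨h, hh⟩ := aut_image_rs p C.hF C.hf hn C.a C.b C.ha C.hb C.hab (β * permAut σ)
  obtain ⟨g, rfl⟩ := prjN_surjective h
  have hflag : IsFlag (eb C.a : Fin n → F) (eb C.b) := isFlag_eb C.hab
  refine ⟨_, _, isFlag_conj g hflag, ?_⟩
  show β '' rs (eb (σ C.a)) (eb (σ C.b)) = _
  rw [← conj_image_rs g hflag.2.2, ← hh, ← permAut_image_rs σ C.hab, Set.image_image]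
  rfl

/-- the `Aut`-orbit of the root set `X_{ab}`. -/
def RootOrbit (C : PSLCtx n F p) : Set (Set G) :=
  {Z | ∃ β : MulAut G, Z = β '' Xs n F C.a C.b}

lemma rootOrbit_image (C : PSLCtx n F p) {Z : Set G} (hZ : Z ∈ RootOrbit C) (α : MulAut G) :
    α '' Z ∈ RootOrbit C := by
  obtain ⟨β, rfl⟩ := hZ
  exact ⟨α * β, by rw [Set.image_image]; rfl⟩

lemma Xs_mem_rootOrbit (C : PSLCtx n F p) {i j : Fin n} (hij : i ≠ j) :
    Xs n F i j ∈ RootOrbit C := by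
  obtain ⟨σ, rfl, rfl⟩ := exists_perm C.a C.b i j C.hab hij
  exact ⟨permAut σ, (permAut_image_rs σ C.hab).symm⟩

lemma rootOrbit_flag (C : PSLCtx n F p) {Z : Set G} (hZ : Z ∈ RootOrbit C) :
    ∃ u φ : Fin n → F, IsFlag u φ ∧ Z = rs u φ := by
  obtain ⟨β, rfl⟩ := hZ
  exact aut_image_Xs C β C.hab

/-- the relation "commuting, and some product of nontrivial elements is a root element". -/
def QRel (C : PSLCtx n F p) (X Y : Set G) : Prop :=
  CommSets X Y ∧ ∃ x ∈ X, ∃ y ∈ Y, x ≠ 1 ∧ y ≠ 1 ∧ ∃ Z ∈ RootOrbit C, x * y ∈ Z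

lemma CommSets.image {X Y : Set G} (h : CommSets X Y) (α : MulAut G) :
    CommSets (α '' X) (α '' Y) := by
  rintro _ ⟨x, hx, rfl⟩ _ ⟨y, hy, rfl⟩
  rw [← map_mul, ← map_mul, h x hx y hy]

lemma CommSets.of_image {X Y : Set G} (α : MulAut G) (h : CommSets (α '' X) (α '' Y)) :
    CommSets X Y := by
  intro x hx y hy
  apply α.injective
  rw [map_mul, map_mul]
  exact h _ ⟨x, hx, rfl⟩ _ ⟨y, hy, rfl⟩

lemma QRel.image (C : PSLCtx n F p) {X Y : Set G} (h : QRel C X Y) (α : MulAut G) :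
    QRel C (α '' X) (α '' Y) := by
  obtain ⟨hc, x, hx, y, hy, hx1, hy1, Z, hZ, hxy⟩ := h
  refine ⟨hc.image α, α x, ⟨x, hx, rfl⟩, α y, ⟨y, hy, rfl⟩, ?_, ?_, α '' Z,
    rootOrbit_image C hZ α, ⟨x * y, hxy, map_mul α x y⟩⟩
  · intro h1; exact hx1 (by simpa using h1)
  · intro h1; exact hy1 (by simpa using h1)

/-- `QRel` between root sets of flags forces a common centre or a common axis. -/
lemma par_of_QRel (C : PSLCtx n F p) {u φ v ψ : Fin n → F} (hf : IsFlag u φ) (hg : IsFlag v ψ)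
    (h : QRel C (rs u φ) (rs v ψ)) : Par u v ∨ Par φ ψ := by
  obtain ⟨hc, _, ⟨s, rfl⟩, _, ⟨t, rfl⟩, hx1, hy1, Z, hZ, hxy⟩ := h
  obtain ⟨w, χ, hw, rfl⟩ := rootOrbit_flag C hZ
  have hdots := dot_eq_zero_of_commute p hf hg (hc _ ⟨1, rfl⟩ _ ⟨1, rfl⟩)
  have hs : s ≠ 0 := by
    rintro rfl
    exact hx1 (re_zero u φ)
  have ht : t ≠ 0 := by
    rintro rfl
    exact hy1 (re_zero v ψ)
  rcases collinear_of_mul_mem p hf hg hw.2.2 hdots.1 hdots.2 hs ht hxy with h1 | h1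
  · exact Or.inl (par_of_exists hg.1 h1)
  · exact Or.inr (par_of_exists hg.2.1 h1)

end

end Cfsg.Agent.Lib.Helper07
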