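import Mathlib
import Cfsg.Agent.Lib.Helper07.PSLnE2

set_option autoImplicit false
set_option linter.unusedSectionVars false

/-! The standard root groups of `PSL_n(q)` and their images under an automorphism. -/

namespace Cfsg.Agent.Lib.Helper07

open Matrix

section
variable {n : ℕ} {F : Type*} [Field F] [Fintype F] {p : ℕ} [Fact p.Prime] [CharP F p]

local notation "G" => ProjectiveSpecialLinearGroup (Fin n) F

lemma re_eb_one_ne_one (p : ℕ) [Fact p.Prime] [CharP F p] {i j : Fin n} (hij : i ≠ j) :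
    re (eb i : Fin n → F) (eb j) 1 ≠ 1 :=
  re_ne_one p (eb_ne_zero i) (eb_ne_zero j) (eb_dot_eb_of_ne hij.symm) one_ne_zero

lemma QRel_row (C : PSLCtx n F p) {i j k : Fin n} (hij : i ≠ j) (hik : i ≠ k) (hjk : j ≠ k) :
    QRel C (Xs n F i j) (Xs n F i k) := by
  have d1 : (eb j : Fin n → F) ⬝ᵥ eb i = 0 := eb_dot_eb_of_ne hij.symm
  have d2 : (eb k : Fin n → F) ⬝ᵥ eb i = 0 := eb_dot_eb_of_ne hik.symm
  refine ⟨commSets_rs d1 d2 d1 d2, re (eb i) (eb j) 1, ⟨1, rfl⟩, re (eb i) (eb k) 1, ⟨1, rfl⟩,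
    re_eb_one_ne_one p hij, re_eb_one_ne_one p hik, rs (eb i) (eb j + eb k), ?_, ?_⟩
  · -- the set `rs e_i (e_j + e_k)` is a conjugate of `X_{ij}`
    have hg : (eb k : Fin n → F) ⬝ᵥ ((-1 : F) • eb j) = 0 := by
      rw [dotProduct_smul, eb_dot_eb_of_ne hjk.symm, smul_zero]
    have h1 := conj_image_rs (tv ((-1 : F) • eb j) (eb k)) d1
    have e1 : ((tv ((-1 : F) • eb j) (eb k) : SpecialLinearGroup (Fin n) F) :
        Matrix (Fin n) (Fin n) F) *ᵥ eb i = eb i := by
      rw [tv_val hg, tvM_mulVec, d2, zero_smul, add_zero]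
    have e2 : (eb j : Fin n → F) ᵥ* (((tv ((-1 : F) • eb j) (eb k))⁻¹ :
        SpecialLinearGroup (Fin n) F) : Matrix (Fin n) (Fin n) F) = eb j + eb k := by
      rw [tv_inv hg, tv_val (by rw [neg_dotProduct, hg, neg_zero]), vecMul_tvM, dotProduct_smul,
        eb_dot_eb, if_pos rfl]
      simp
    rw [e1, e2] at h1
    rw [← h1]
    exact rootOrbit_image C (Xs_mem_rootOrbit C hij) _
  · refine ⟨1, ?_⟩
    show prjN _ = prjN _ * prjN _
    rw [← map_mul, one_smul, tv_mul_same_left d1 d2]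

lemma QRel_col (C : PSLCtx n F p) {i j k : Fin n} (hij : i ≠ j) (hkj : k ≠ j) (hik : i ≠ k) :
    QRel C (Xs n F i j) (Xs n F k j) := by
  have d1 : (eb j : Fin n → F) ⬝ᵥ eb i = 0 := eb_dot_eb_of_ne hij.symm
  have d2 : (eb j : Fin n → F) ⬝ᵥ eb k = 0 := eb_dot_eb_of_ne hkj.symm
  refine ⟨commSets_rs d1 d2 d2 d1, re (eb i) (eb j) 1, ⟨1, rfl⟩, re (eb k) (eb j) 1, ⟨1, rfl⟩,
    re_eb_one_ne_one p hij, re_eb_one_ne_one p hkj, rs (eb i + eb k) (eb j), ?_, ?_⟩
  · have hg : (eb i : Fin n → F) ⬝ᵥ ((1 : F) • eb k) = 0 := by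
      rw [dotProduct_smul, eb_dot_eb_of_ne hik, smul_zero]
    have h1 := conj_image_rs (tv ((1 : F) • eb k) (eb i)) d1
    have e1 : ((tv ((1 : F) • eb k) (eb i) : SpecialLinearGroup (Fin n) F) :
        Matrix (Fin n) (Fin n) F) *ᵥ eb i = eb i + eb k := by
      rw [tv_val hg, tvM_mulVec, eb_dot_eb, if_pos rfl, one_smul, one_smul]
    have e2 : (eb j : Fin n → F) ᵥ* (((tv ((1 : F) • eb k) (eb i))⁻¹ :
        SpecialLinearGroup (Fin n) F) : Matrix (Fin n) (Fin n) F) = eb j := by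
      rw [tv_inv hg, tv_val (by rw [neg_dotProduct, hg, neg_zero]), vecMul_tvM, dotProduct_smul,
        d2, smul_zero, zero_smul, add_zero]
    rw [e1, e2] at h1
    rw [← h1]
    exact rootOrbit_image C (Xs_mem_rootOrbit C hij) _
  · refine ⟨1, ?_⟩
    show prjN _ = prjN _ * prjN _
    rw [← map_mul, one_smul, one_smul, one_smul, tv_mul_same_right d1 d2]

lemma not_commSets_Xs (p : ℕ) [Fact p.Prime] [CharP F p] {i j k : Fin n} (hik : i ≠ k)
    (hjk : j ≠ k) : ¬ CommSets (Xs n F i k) (Xs n F k j) := by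
  intro h
  have := (dot_eq_zero_of_commute p (isFlag_eb hik) (isFlag_eb hjk.symm)
    (h _ ⟨1, rfl⟩ _ ⟨1, rfl⟩)).1
  rw [eb_dot_eb, if_pos rfl] at this
  exact one_ne_zero this

lemma Xs_injective (p : ℕ) [Fact p.Prime] [CharP F p] {i j k l : Fin n} (hij : i ≠ j)
    (hkl : k ≠ l) (h : Xs n F i j = Xs n F k l) : i = k ∧ j = l := by
  have h1 : re (eb i : Fin n → F) (eb j) 1 ∈ Xs n F k l := by
    rw [← h]; exact ⟨1, rfl⟩
  obtain ⟨t, ht⟩ := h1
  have h2 : xe k l t = xe i j (1 : F) := tv_injective_prjN p ht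
  have h3 : ((xe k l t : SpecialLinearGroup (Fin n) F) : Matrix (Fin n) (Fin n) F)
      = ((xe i j (1 : F) : SpecialLinearGroup (Fin n) F) : Matrix (Fin n) (Fin n) F) := by
    rw [h2]
  rw [xe_val hkl, xe_val hij] at h3
  have h3' : Matrix.single k l t = Matrix.single i j (1 : F) := add_left_cancel h3
  have h4 := congrFun (congrFun h3' i) j
  have h5 : Matrix.single i j (1 : F) i j = 1 := Matrix.single_apply_same i j 1
  rw [h5, Matrix.single_apply] at h4
  by_contra hne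
  rw [if_neg (fun hh => hne ⟨hh.1.symm, hh.2.symm⟩)] at h4
  exact zero_ne_one h4

/-- the image of the standard root groups under an automorphism is a root family. -/
theorem exists_rootFamily (C : PSLCtx n F p) (α : MulAut G) :
    ∃ u φ : Fin n → Fin n → Fin n → F, RootFamily u φ ∧
      ∀ i j, i ≠ j → α '' Xs n F i j = rs (u i j) (φ i j) := by
  classical
  have hex : ∀ i j : Fin n, ∃ uφ : (Fin n → F) × (Fin n → F),
      i ≠ j → (IsFlag uφ.1 uφ.2 ∧ α '' Xs n F i j = rs uφ.1 uφ.2) := by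
    intro i j
    by_cases hij : i = j
    · exact ⟨(0, 0), fun h => absurd hij h⟩
    · obtain ⟨u, φ, h1, h2⟩ := aut_image_Xs C α hij
      exact ⟨(u, φ), fun _ => ⟨h1, h2⟩⟩
  choose w hw using hex
  refine ⟨fun i j => (w i j).1, fun i j => (w i j).2, ?_, fun i j hij => (hw i j hij).2⟩
  have hflag : ∀ i j, i ≠ j → IsFlag (w i j).1 (w i j).2 := fun i j hij => (hw i j hij).1
  have himg : ∀ i j, i ≠ j → α '' Xs n F i j = rs (w i j).1 (w i j).2 :=
    fun i j hij => (hw i j hij).2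
  refine ⟨hflag, ?_, ?_, ?_, ?_⟩
  · intro i j k hij hik hjk
    have h := (QRel_row C hij hik hjk).image C α
    rw [himg i j hij, himg i k hik] at h
    exact par_of_QRel C (hflag i j hij) (hflag i k hik) h
  · intro i j k hij hkj hik
    have h := (QRel_col C hij hkj hik).image C α
    rw [himg i j hij, himg k j hkj] at h
    exact par_of_QRel C (hflag i j hij) (hflag k j hkj) h
  · rintro i j k l hij hkl hne ⟨h1, h2⟩
    have h3 := rs_eq_of_par h1 h2
    rw [← himg i j hij, ← himg k l hkl] at h3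
    have h4 := Set.image_injective.mpr α.injective h3
    obtain ⟨rfl, rfl⟩ := Xs_injective p hkl hij h4
    rcases hne with h | h <;> exact h rfl
  · rintro i j k hij hik hjk ⟨h1, h2⟩
    have h3 : CommSets (rs (w i k).1 (w i k).2) (rs (w k j).1 (w k j).2) :=
      commSets_rs (hflag i k hik).2.2 (hflag k j hjk.symm).2.2 h1 h2
    rw [← himg i k hik, ← himg k j hjk.symm] at h3
    exact not_commSets_Xs p hik hjk (CommSets.of_image α h3)

end

end Cfsg.Agent.Lib.Helper07
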