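import Mathlib
import Cfsg.Agent.Lib.Helper07.PSLnE3

set_option autoImplicit false
set_option linter.unusedSectionVars false

/-! From a root family with common centres along rows to a matrix of `GL_n`. -/

namespace Cfsg.Agent.Lib.Helper07

open Matrix

section lin
variable {n : ℕ} {F : Type*} [Field F]

/-- a "frame" of vectors and covectors gives an invertible matrix. -/
lemma exists_gl_of_frame (U Φ : Fin n → Fin n → F) (h0 : ∀ i j, i ≠ j → Φ j ⬝ᵥ U i = 0)
    (h1 : ∀ k, Φ k ⬝ᵥ U k ≠ 0) :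
    ∃ g : GL (Fin n) F, (∀ i, g.val *ᵥ eb i = U i) ∧
      ∀ j, ∃ c : F, c ≠ 0 ∧ (eb j : Fin n → F) ᵥ* g⁻¹.val = c • Φ j := by
  set gm : Matrix (Fin n) (Fin n) F := Matrix.of fun r i => U i r with hgm
  set Φm : Matrix (Fin n) (Fin n) F := Matrix.of fun j c => Φ j c with hΦm
  have hprod : Φm * gm = Matrix.diagonal fun k => Φ k ⬝ᵥ U k := by
    ext j i
    rw [Matrix.mul_apply, Matrix.diagonal_apply]
    by_cases hji : j = i
    · subst hji
      rw [if_pos rfl]; rfl
    · rw [if_neg hji]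
      exact h0 i j (Ne.symm hji)
  have hdet : gm.det ≠ 0 := by
    intro h
    have := congrArg Matrix.det hprod
    rw [det_mul, h, mul_zero, det_diagonal] at this
    exact Finset.prod_ne_zero_iff.mpr (fun k _ => h1 k) this.symm
  refine ⟨Matrix.GeneralLinearGroup.mkOfDetNeZero gm hdet, fun i => ?_, fun j => ?_⟩
  · show gm *ᵥ Pi.single i 1 = U i
    rw [mulVec_single_one]
    ext r
    rfl
  · set g := Matrix.GeneralLinearGroup.mkOfDetNeZero gm hdet with hg
    have hgv : g.val = gm := rfl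
    have h2 : Φm = (Matrix.diagonal fun k => Φ k ⬝ᵥ U k) * g⁻¹.val := by
      rw [← hprod, ← hgv, mul_assoc, Units.mul_inv, mul_one]
    refine ⟨(Φ j ⬝ᵥ U j)⁻¹, inv_ne_zero (h1 j), ?_⟩
    show Pi.single j 1 ᵥ* g⁻¹.val = _
    rw [single_one_vecMul]
    have h3 : Φ j = (Φ j ⬝ᵥ U j) • (g⁻¹.val).row j := by
      have := congrFun h2 j
      ext c
      have h4 := congrFun this c
      rw [Matrix.diagonal_mul] at h4
      exact h4
    have hd := h1 j
    generalize Φ j ⬝ᵥ U j = d at h3 hd ⊢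
    rw [h3, smul_smul, inv_mul_cancel₀ hd, one_smul]

end lin

section
variable {n : ℕ} {F : Type*} [Field F] [Fintype F] {p : ℕ} [Fact p.Prime] [CharP F p]

local notation "G" => ProjectiveSpecialLinearGroup (Fin n) F

/-- if some row of the image family shares centres, the automorphism agrees with a `GL_n`
conjugation on all the standard root sets. -/
theorem exists_gl_of_rows (C : PSLCtx n F p) (α : MulAut G) {u φ : Fin n → Fin n → Fin n → F}
    (hfam : RootFamily u φ) (himg : ∀ i j, i ≠ j → α '' Xs n F i j = rs (u i j) (φ i j))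
    {i₀ j₀ k₀ : Fin n} (hij : i₀ ≠ j₀) (hik : i₀ ≠ k₀) (hjk : j₀ ≠ k₀)
    (hC : Par (u i₀ j₀) (u i₀ k₀)) :
    ∃ g : GL (Fin n) F, ∀ i j, i ≠ j → α '' Xs n F i j = (conjGLn g) '' Xs n F i j := by
  have hoth : ∀ i : Fin n, ∃ j, j ≠ i := fun i => by
    obtain ⟨j, hj, -⟩ := C.h3 i i
    exact ⟨j, hj⟩
  choose o ho using hoth
  set U : Fin n → Fin n → F := fun i => u i (o i) with hU
  set Φ : Fin n → Fin n → F := fun j => φ (o j) j with hΦ
  have hUpar : ∀ i j, i ≠ j → Par (U i) (u i j) := by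
    intro i j hij'
    by_cases h : o i = j
    · rw [hU]; simp only; rw [h]; exact Par.refl _
    · exact hfam.all_rows C.h3 hij hik hjk hC (ho i).symm hij' h
  have hΦpar : ∀ i j, i ≠ j → Par (Φ j) (φ i j) := by
    intro i j hij'
    by_cases h : o j = i
    · rw [hΦ]; simp only; rw [h]; exact Par.refl _
    · exact hfam.all_cols C.h3 hij hik hjk hC (ho j) hij' h
  have hdot0 : ∀ i j, i ≠ j → Φ j ⬝ᵥ U i = 0 := by
    intro i j hij'
    obtain ⟨c, hc, hc'⟩ := hUpar i j hij'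
    obtain ⟨d, hd, hd'⟩ := hΦpar i j hij'
    have := (hfam.flag i j hij').2.2
    rw [hc', hd', smul_dotProduct, dotProduct_smul, smul_smul, smul_eq_mul] at this
    exact (mul_eq_zero.mp this).resolve_left (mul_ne_zero hd hc)
  have hdot1 : ∀ k, Φ k ⬝ᵥ U k ≠ 0 := by
    intro k hk0
    obtain ⟨i, hik', -⟩ := C.h3 k k
    obtain ⟨j, hji, hjk'⟩ := C.h3 i k
    apply hfam.noncomm i j k hji.symm hik' hjk'
    obtain ⟨c, hc, hc'⟩ := hUpar k j hjk'.symm
    obtain ⟨d, hd, hd'⟩ := hΦpar i k hik'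
    obtain ⟨c₂, hc₂, hc₂'⟩ := hUpar i k hik'
    obtain ⟨d₂, hd₂, hd₂'⟩ := hΦpar k j hjk'.symm
    constructor
    · rw [hc', hd', smul_dotProduct, dotProduct_smul, hk0, smul_zero, smul_zero]
    · rw [hc₂', hd₂', smul_dotProduct, dotProduct_smul, hdot0 i j hji.symm, smul_zero, smul_zero]
  obtain ⟨g, hg1, hg2⟩ := exists_gl_of_frame U Φ hdot0 hdot1
  refine ⟨g, fun i j hij' => ?_⟩
  obtain ⟨c, hc, hc'⟩ := hg2 j
  show _ = (conjGLn g) '' rs (eb i) (eb j)
  rw [conjGLn_image_rs g (eb_dot_eb_of_ne hij'.symm), hg1, hc', rs_smul_right hc, himg i j hij']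
  exact rs_eq_of_par (hUpar i j hij') (hΦpar i j hij')

end

end Cfsg.Agent.Lib.Helper07
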