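import Mathlib
import Cfsg.Agent.Lib.Helper07.PSLnE4

set_option autoImplicit false
set_option linter.unusedSectionVars false

/-! Every automorphism of `PSL_n(q)`, up to `GL_n`-conjugation and inverse-transpose, stabilises
every standard root group. -/

namespace Cfsg.Agent.Lib.Helper07

open Matrix

section
variable {n : ℕ} {F : Type*} [Field F]

lemma RootFamily.transpose {u φ : Fin n → Fin n → Fin n → F} (h : RootFamily u φ) :
    RootFamily (fun i j => u j i) (fun i j => φ j i) where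
  flag i j hij := h.flag j i hij.symm
  row i j k h1 h2 h3 := h.col j i k h1.symm h2.symm h3
  col i j k h1 h2 h3 := h.row j i k h1.symm h2.symm h3
  distinct i j k l h1 h2 h3 := h.distinct j i l k h1.symm h2.symm h3.symm
  noncomm i j k h1 h2 h3 := fun hh => h.noncomm j i k h1.symm h3 h2 ⟨hh.2, hh.1⟩

lemma invT_image_Xs {i j : Fin n} (hij : i ≠ j) :
    (invT (n := n) (F := F)) '' Xs n F i j = Xs n F j i := by
  have d : (eb j : Fin n → F) ⬝ᵥ eb i = 0 := eb_dot_eb_of_ne hij.symm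
  ext x
  constructor
  · rintro ⟨_, ⟨t, rfl⟩, rfl⟩
    exact ⟨-t, (invT_re d t).symm⟩
  · rintro ⟨t, rfl⟩
    refine ⟨re (eb i) (eb j) (-t), ⟨-t, rfl⟩, ?_⟩
    rw [invT_re d, neg_neg]

end

section
variable {n : ℕ} {F : Type*} [Field F] [Fintype F] {p : ℕ} [Fact p.Prime] [CharP F p]

local notation "G" => ProjectiveSpecialLinearGroup (Fin n) F

lemma image_inv_mul_eq {H : Type*} [Group H] {α' δ : MulAut H} {X : Set H}
    (h : α' '' X = δ '' X) : (δ⁻¹ * α') '' X = X := by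
  ext x
  constructor
  · rintro ⟨y, hy, rfl⟩
    have h1 : α' y ∈ δ '' X := h ▸ ⟨y, hy, rfl⟩
    obtain ⟨z, hz, hzy⟩ := h1
    show δ⁻¹ (α' y) ∈ X
    rw [← hzy, MulAut.inv_apply_self]
    exact hz
  · intro hx
    have h1 : δ x ∈ α' '' X := h ▸ ⟨x, hx, rfl⟩
    obtain ⟨y, hy, hyx⟩ := h1
    refine ⟨y, hy, ?_⟩
    show δ⁻¹ (α' y) = x
    rw [hyx, MulAut.inv_apply_self]

/-- up to inverse-transpose and a `GL_n`-conjugation, an automorphism stabilises all standard
root sets. -/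
theorem exists_gl_normal (C : PSLCtx n F p) (α : MulAut G) :
    ∃ (γ : MulAut G) (g : GL (Fin n) F), (γ = 1 ∨ γ = invT) ∧
      ∀ i j, i ≠ j → ((conjGLn g)⁻¹ * (α * γ)) '' Xs n F i j = Xs n F i j := by
  obtain ⟨u, φ, hfam, himg⟩ := exists_rootFamily C α
  obtain ⟨j₀, hj₀, -⟩ := C.h3 C.a C.a
  obtain ⟨k₀, hk₀, hk₀'⟩ := C.h3 C.a j₀
  have key : ∀ (α' : MulAut G) (g : GL (Fin n) F),
      (∀ i j, i ≠ j → α' '' Xs n F i j = (conjGLn g) '' Xs n F i j) →
      ∀ i j, i ≠ j → ((conjGLn g)⁻¹ * α') '' Xs n F i j = Xs n F i j :=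
    fun α' g h i j hij => image_inv_mul_eq (h i j hij)
  rcases hfam.row C.a j₀ k₀ hj₀.symm hk₀.symm hk₀'.symm with hC | hA
  · obtain ⟨g, hg⟩ := exists_gl_of_rows C α hfam himg hj₀.symm hk₀.symm hk₀'.symm hC
    refine ⟨1, g, Or.inl rfl, ?_⟩
    rw [mul_one]
    exact key α g hg
  · -- rows share axes: pass to `α * invT`
    have hfam' := hfam.transpose
    set αT : MulAut G := α * invT with hαT
    have himg' : ∀ i j, i ≠ j → αT '' Xs n F i j = rs (u j i) (φ j i) := by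
      intro i j hij
      have : αT '' Xs n F i j = α '' ((invT : MulAut G) '' Xs n F i j) := by
        rw [Set.image_image]; rfl
      rw [this, invT_image_Xs hij, himg j i hij.symm]
    have hC' : Par (u C.a j₀) (u k₀ j₀) :=
      hfam.swap.col_of_row hj₀.symm hk₀.symm hk₀'.symm hA
    obtain ⟨g, hg⟩ := exists_gl_of_rows C αT hfam' himg'
      (i₀ := j₀) (j₀ := C.a) (k₀ := k₀) hj₀ hk₀'.symm hk₀.symm hC'
    exact ⟨invT, g, Or.inr rfl, key αT g hg⟩

end

end Cfsg.Agent.Lib.Helper07
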