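import Mathlib

set_option autoImplicit false

/-! Pure algebra: a family of additive bijections `a i j : F → F` with
`a i k (s t) = a i j s * a j k t` is `t ↦ d i / d j * τ t` for a field automorphism `τ`. -/

namespace Cfsg.Agent.Lib.Helper07

section
variable {n : ℕ} {F : Type*} [Field F]

theorem steinberg_algebra (a : Fin n → Fin n → F → F) (a₀ : Fin n)
    (h3 : ∀ i k : Fin n, ∃ j, j ≠ i ∧ j ≠ k)
    (hadd : ∀ i j, i ≠ j → ∀ s t, a i j (s + t) = a i j s + a i j t)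
    (hinj : ∀ i j, i ≠ j → Function.Injective (a i j))
    (hsurj : ∀ i j, i ≠ j → Function.Surjective (a i j))
    (hmul : ∀ i j k, i ≠ j → i ≠ k → j ≠ k → ∀ s t, a i k (s * t) = a i j s * a j k t) :
    ∃ (d : Fin n → F) (τ : F ≃+* F), (∀ i, d i ≠ 0) ∧
      ∀ i j, i ≠ j → ∀ t, a i j t = d i * (d j)⁻¹ * τ t := by
  classical
  have hzero : ∀ i j, i ≠ j → a i j 0 = 0 := by
    intro i j hij
    have := hadd i j hij 0 0
    rw [add_zero] at this
    exact left_eq_add.mp this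
  set c : Fin n → Fin n → F := fun i j => a i j 1 with hc
  have hc0 : ∀ i j, i ≠ j → c i j ≠ 0 := by
    intro i j hij h
    have : a i j 1 = a i j 0 := by rw [hzero i j hij]; exact h
    exact one_ne_zero (hinj i j hij this)
  have K1 : ∀ i j k, i ≠ j → i ≠ k → j ≠ k → c i k = c i j * c j k := by
    intro i j k h1 h2 h3'
    have := hmul i j k h1 h2 h3' 1 1
    rwa [mul_one] at this
  have K2 : ∀ i j k, i ≠ j → i ≠ k → j ≠ k → ∀ s, a i k s = a i j s * c j k := by
    intro i j k h1 h2 h3' s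
    have := hmul i j k h1 h2 h3' s 1
    rwa [mul_one] at this
  have K3 : ∀ i j k, i ≠ j → i ≠ k → j ≠ k → ∀ t, a i k t = c i j * a j k t := by
    intro i j k h1 h2 h3' t
    have := hmul i j k h1 h2 h3' 1 t
    rwa [one_mul] at this
  set b : Fin n → Fin n → F → F := fun i j t => a i j t / c i j with hb
  have rowEq : ∀ i j m, i ≠ j → i ≠ m → b i j = b i m := by
    intro i j m hij him
    by_cases hjm : j = m
    · rw [hjm]
    · funext s
      show a i j s / c i j = a i m s / c i m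
      rw [K2 i j m hij him hjm s, K1 i j m hij him hjm]
      have h1 := hc0 i j hij
      have h2 := hc0 j m hjm
      field_simp
  have colEq : ∀ i k m, i ≠ m → k ≠ m → b i m = b k m := by
    intro i k m him hkm
    by_cases hik : i = k
    · rw [hik]
    · funext t
      show a i m t / c i m = a k m t / c k m
      rw [K3 i k m hik him hkm t, K1 i k m hik him hkm]
      have h1 := hc0 i k hik
      have h2 := hc0 k m hkm
      field_simp
  have allEq : ∀ i j k l, i ≠ j → k ≠ l → b i j = b k l := by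
    intro i j k l hij hkl
    obtain ⟨m, hmi, hmk⟩ := h3 i k
    rw [rowEq i j m hij hmi.symm, colEq i k m hmi.symm hmk.symm, ← rowEq k l m hkl hmk.symm]
  obtain ⟨j₁, hj₁, -⟩ := h3 a₀ a₀
  obtain ⟨k₁, hk₁, hk₁'⟩ := h3 a₀ j₁
  set τ₀ : F → F := b a₀ j₁ with hτ₀
  have hτb : ∀ i j, i ≠ j → b i j = τ₀ := fun i j hij => allEq i j a₀ j₁ hij hj₁.symm
  have hτ_add : ∀ s t, τ₀ (s + t) = τ₀ s + τ₀ t := by
    intro s t
    show a a₀ j₁ (s + t) / c a₀ j₁ = a a₀ j₁ s / c a₀ j₁ + a a₀ j₁ t / c a₀ j₁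
    rw [hadd a₀ j₁ hj₁.symm, add_div]
  have hτ_one : τ₀ 1 = 1 := div_self (hc0 a₀ j₁ hj₁.symm)
  have hτ_mul : ∀ s t, τ₀ (s * t) = τ₀ s * τ₀ t := by
    intro s t
    have e1 : τ₀ (s * t) = b a₀ k₁ (s * t) := by rw [hτb a₀ k₁ hk₁.symm]
    have e2 : τ₀ s = b a₀ j₁ s := rfl
    have e3 : τ₀ t = b j₁ k₁ t := by rw [hτb j₁ k₁ hk₁'.symm]
    rw [e1, e2, e3]
    show a a₀ k₁ (s * t) / c a₀ k₁ = a a₀ j₁ s / c a₀ j₁ * (a j₁ k₁ t / c j₁ k₁)
    rw [hmul a₀ j₁ k₁ hj₁.symm hk₁.symm hk₁'.symm, K1 a₀ j₁ k₁ hj₁.symm hk₁.symm hk₁'.symm]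
    have h1 := hc0 a₀ j₁ hj₁.symm
    have h2 := hc0 j₁ k₁ hk₁'.symm
    field_simp
  have hτ_zero : τ₀ 0 = 0 := by
    show a a₀ j₁ 0 / c a₀ j₁ = 0
    rw [hzero a₀ j₁ hj₁.symm, zero_div]
  have hτ_bij : Function.Bijective τ₀ := by
    constructor
    · intro s t hst
      have : a a₀ j₁ s / c a₀ j₁ = a a₀ j₁ t / c a₀ j₁ := hst
      rw [div_left_inj' (hc0 a₀ j₁ hj₁.symm)] at this
      exact hinj a₀ j₁ hj₁.symm this
    · intro y
      obtain ⟨s, hs⟩ := hsurj a₀ j₁ hj₁.symm (y * c a₀ j₁)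
      refine ⟨s, ?_⟩
      show a a₀ j₁ s / c a₀ j₁ = y
      rw [hs, mul_div_assoc, div_self (hc0 a₀ j₁ hj₁.symm), mul_one]
  let τh : F →+* F :=
    { toFun := τ₀
      map_one' := hτ_one
      map_mul' := hτ_mul
      map_zero' := hτ_zero
      map_add' := hτ_add }
  let τ : F ≃+* F := RingEquiv.ofBijective τh hτ_bij
  have hcc : ∀ i j, i ≠ j → c i j * c j i = 1 := by
    intro i j hij
    obtain ⟨k, hki, hkj⟩ := h3 i j
    have e1 := K1 i j k hij hki.symm hkj.symm
    have e2 := K1 j i k hij.symm hkj.symm hki.symm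
    have h0 := hc0 i k hki.symm
    rw [e2, ← mul_assoc] at e1
    have : (c i j * c j i) * c i k = 1 * c i k := by rw [one_mul]; exact e1.symm
    exact mul_right_cancel₀ h0 this
  set d : Fin n → F := fun i => if i = a₀ then 1 else c i a₀ with hd
  have hd0 : ∀ i, d i ≠ 0 := by
    intro i
    show (if i = a₀ then (1 : F) else c i a₀) ≠ 0
    split_ifs with h
    · exact one_ne_zero
    · exact hc0 i a₀ h
  have hcd : ∀ i j, i ≠ j → c i j = d i * (d j)⁻¹ := by
    intro i j hij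
    show c i j = (if i = a₀ then (1 : F) else c i a₀) * (if j = a₀ then (1 : F) else c j a₀)⁻¹
    by_cases hi : i = a₀
    · have hj : j ≠ a₀ := fun h => hij (hi.trans h.symm)
      rw [if_pos hi, if_neg hj, one_mul, hi]
      have := hcc a₀ j (by rw [← hi]; exact hij)
      exact eq_inv_of_mul_eq_one_left this
    · rw [if_neg hi]
      by_cases hj : j = a₀
      · rw [if_pos hj, inv_one, mul_one, hj]
      · rw [if_neg hj, K1 i j a₀ hij hi hj, mul_assoc, mul_inv_cancel₀ (hc0 j a₀ hj), mul_one]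
  refine ⟨d, τ, hd0, fun i j hij t => ?_⟩
  have e1 : b i j t = τ₀ t := by rw [hτb i j hij]
  have e2 : a i j t = c i j * b i j t := by
    show a i j t = c i j * (a i j t / c i j)
    rw [mul_div_cancel₀ _ (hc0 i j hij)]
  rw [e2, e1, hcd i j hij]
  rfl

end

end Cfsg.Agent.Lib.Helper07
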