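import Mathlib
import Cfsg.Agent.Lib.Helper07.PSLnE5
import Cfsg.Agent.Lib.Helper07.PSLnG1
import Cfsg.Agent.Lib.Helper07.SLGen

set_option autoImplicit false
set_option linter.unusedSectionVars false

/-! Automorphisms of `PSL_n(q)` stabilising all standard root groups are diagonal times field;
the structure theorem for `Aut(PSL_n(q))`, `n ≥ 3`. -/

namespace Cfsg.Agent.Lib.Helper07

open Matrix

section rel
variable {n : ℕ} {F : Type*} [Field F]

local notation "SLn" => SpecialLinearGroup (Fin n) F
local notation "G" => ProjectiveSpecialLinearGroup (Fin n) F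

lemma xe_rel {i j k : Fin n} (hij : i ≠ j) (hik : i ≠ k) (hjk : j ≠ k) (s t : F) :
    xe i j s * xe j k t = xe i k (s * t) * xe j k t * xe i j s := by
  apply sl_ext
  simp only [Matrix.SpecialLinearGroup.coe_mul, xe_val hij, xe_val hik, xe_val hjk]
  simp only [mul_add, add_mul, mul_one, one_mul, single_mul_single_same,
    single_mul_single_of_ne _ _ _ _ hjk.symm, single_mul_single_of_ne _ _ _ _ hik.symm,
    add_zero]
  abel

lemma xe_add {i j : Fin n} (hij : i ≠ j) (s t : F) : xe i j (s + t) = xe i j s * xe i j t := by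
  unfold xe
  have d : (eb j : Fin n → F) ⬝ᵥ eb i = 0 := eb_dot_eb_of_ne hij.symm
  rw [tv_mul_same_right (by rw [dotProduct_smul, d, smul_zero])
    (by rw [dotProduct_smul, d, smul_zero]), add_smul]

/-- the standard root element of `PSL_n`. -/
noncomputable def xr (i j : Fin n) (t : F) : G := prjN (xe i j t)

lemma xr_eq_re (i j : Fin n) (t : F) : (xr i j t : G) = re (eb i) (eb j) t := rfl

lemma xr_mem_Xs (i j : Fin n) (t : F) : (xr i j t : G) ∈ Xs n F i j := ⟨t, rfl⟩

lemma xr_rel {i j k : Fin n} (hij : i ≠ j) (hik : i ≠ k) (hjk : j ≠ k) (s t : F) :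
    (xr i j s : G) * xr j k t = xr i k (s * t) * xr j k t * xr i j s := by
  unfold xr
  rw [← map_mul, ← map_mul, ← map_mul, xe_rel hij hik hjk]

lemma xr_add {i j : Fin n} (hij : i ≠ j) (s t : F) :
    (xr i j (s + t) : G) = xr i j s * xr i j t := by
  unfold xr
  rw [← map_mul, xe_add hij]

lemma xr_injective (p : ℕ) [Fact p.Prime] [CharP F p] {i j : Fin n} (hij : i ≠ j) :
    Function.Injective (fun t : F => (xr i j t : G)) :=
  re_injective p (eb_ne_zero i) (eb_ne_zero j) (eb_dot_eb_of_ne hij.symm)

/-- two automorphisms agreeing on the standard root elements are equal. -/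
lemma mulAut_ext_xr {β β' : MulAut G}
    (h : ∀ i j : Fin n, i ≠ j → ∀ t : F, β (xr i j t) = β' (xr i j t)) : β = β' := by
  ext x
  obtain ⟨A, rfl⟩ := prjN_surjective x
  refine transvection_induction (fun A : SLn => β (prjN A) = β' (prjN A)) ?_ ?_ ?_ A
  · rw [map_one, map_one, map_one]
  · intro i j hij c
    have : (SpecialLinearGroup.transvection hij c : SLn) = xe i j c := by
      apply sl_ext
      rw [xe_val hij]
      rfl
    rw [this]
    exact h i j hij c
  · intro A B hA hB
    rw [map_mul, map_mul, map_mul, hA, hB]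

end rel

section stable
variable {n : ℕ} {F : Type*} [Field F] [Fintype F] {p : ℕ} [Fact p.Prime] [CharP F p]

local notation "G" => ProjectiveSpecialLinearGroup (Fin n) F

/-- an automorphism stabilising every standard root set acts on the root elements through a
diagonal matrix and a field automorphism. -/
theorem diag_field_of_stable (C : PSLCtx n F p) (β : MulAut G)
    (hβ : ∀ i j, i ≠ j → β '' Xs n F i j = Xs n F i j) :
    ∃ (d : Fin n → F) (τ : F ≃+* F), (∀ i, d i ≠ 0) ∧
      ∀ i j, i ≠ j → ∀ t, β (xr i j t) = xr i j (d i * (d j)⁻¹ * τ t) := by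
  classical
  have hex : ∀ i j : Fin n, ∃ f : F → F, i ≠ j → ∀ t, β (xr i j t) = xr i j (f t) := by
    intro i j
    by_cases hij : i = j
    · exact ⟨id, fun h => absurd hij h⟩
    · have : ∀ t : F, ∃ s : F, β (xr i j t) = xr i j s := by
        intro t
        have h1 : β (xr i j t) ∈ β '' Xs n F i j := ⟨_, xr_mem_Xs i j t, rfl⟩
        rw [hβ i j hij] at h1
        obtain ⟨s, hs⟩ := h1
        exact ⟨s, hs.symm⟩
      choose f hf using this
      exact ⟨f, fun _ => hf⟩
  choose a ha using hex
  have hadd : ∀ i j, i ≠ j → ∀ s t, a i j (s + t) = a i j s + a i j t := by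
    intro i j hij s t
    apply xr_injective p hij
    show (xr i j (a i j (s + t)) : G) = xr i j (a i j s + a i j t)
    rw [← ha i j hij, xr_add hij, map_mul, ha i j hij, ha i j hij, ← xr_add hij]
  have hinj : ∀ i j, i ≠ j → Function.Injective (a i j) := by
    intro i j hij s t hst
    apply xr_injective p hij
    apply β.injective
    show β (xr i j s) = β (xr i j t)
    rw [ha i j hij, ha i j hij, hst]
  have hsurj : ∀ i j, i ≠ j → Function.Surjective (a i j) := by
    intro i j hij y
    have h1 : (xr i j y : G) ∈ β '' Xs n F i j := by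
      rw [hβ i j hij]; exact xr_mem_Xs i j y
    obtain ⟨_, ⟨t, rfl⟩, ht⟩ := h1
    refine ⟨t, ?_⟩
    apply xr_injective p hij
    show (xr i j (a i j t) : G) = xr i j y
    rw [← ha i j hij]
    exact ht
  have hmul : ∀ i j k, i ≠ j → i ≠ k → j ≠ k → ∀ s t,
      a i k (s * t) = a i j s * a j k t := by
    intro i j k hij hik hjk s t
    apply xr_injective p hik
    show (xr i k (a i k (s * t)) : G) = xr i k (a i j s * a j k t)
    have h1 := congrArg β (xr_rel (F := F) hij hik hjk s t)
    rw [map_mul, map_mul, map_mul, ha i j hij, ha j k hjk, ha i k hik,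
      xr_rel hij hik hjk (a i j s) (a j k t)] at h1
    have h2 := mul_right_cancel (mul_right_cancel h1)
    exact h2.symm
  obtain ⟨d, τ, hd, hform⟩ := steinberg_algebra a C.a C.h3 hadd hinj hsurj hmul
  refine ⟨d, τ, hd, fun i j hij t => ?_⟩
  rw [ha i j hij, hform i j hij]

end stable

end Cfsg.Agent.Lib.Helper07
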