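import Mathlib
import Cfsg.Agent.Lib.Helper07.PSLnG2

set_option autoImplicit false
set_option linter.unusedSectionVars false

/-! The structure theorem for `Aut(PSL_n(q))`, `n ≥ 3`. -/

namespace Cfsg.Agent.Lib.Helper07

open Matrix

section diag
variable {n : ℕ} {F : Type*} [Field F]

local notation "G" => ProjectiveSpecialLinearGroup (Fin n) F

/-- a diagonal element of `GL_n`. -/
def diagGLn (d : Fin n → F) (hd : ∀ i, d i ≠ 0) : GL (Fin n) F where
  val := Matrix.diagonal d
  inv := Matrix.diagonal fun i => (d i)⁻¹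
  val_inv := by
    rw [Matrix.diagonal_mul_diagonal]
    have : (fun i => d i * (d i)⁻¹) = fun _ => (1 : F) := by
      funext i; exact mul_inv_cancel₀ (hd i)
    rw [this]; exact Matrix.diagonal_one
  inv_val := by
    rw [Matrix.diagonal_mul_diagonal]
    have : (fun i => (d i)⁻¹ * d i) = fun _ => (1 : F) := by
      funext i; exact inv_mul_cancel₀ (hd i)
    rw [this]; exact Matrix.diagonal_one

lemma diagGLn_val (d : Fin n → F) (hd : ∀ i, d i ≠ 0) :
    (diagGLn d hd).val = Matrix.diagonal d := rfl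

lemma diagGLn_inv_val (d : Fin n → F) (hd : ∀ i, d i ≠ 0) :
    (diagGLn d hd)⁻¹.val = Matrix.diagonal fun i => (d i)⁻¹ := rfl

lemma diagonal_mulVec_eb (d : Fin n → F) (i : Fin n) :
    Matrix.diagonal d *ᵥ (eb i : Fin n → F) = d i • eb i := by
  ext k
  rw [mulVec_diagonal, Pi.smul_apply, eb_apply, smul_eq_mul]
  by_cases h : k = i
  · rw [if_pos h, h]
  · rw [if_neg h, mul_zero, mul_zero]

lemma eb_vecMul_diagonal (d : Fin n → F) (j : Fin n) :
    (eb j : Fin n → F) ᵥ* Matrix.diagonal d = d j • eb j := by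
  ext k
  rw [vecMul_diagonal, Pi.smul_apply, eb_apply, smul_eq_mul]
  by_cases h : k = j
  · rw [if_pos h, h, one_mul, mul_one]
  · rw [if_neg h, zero_mul, mul_zero]

lemma conjGLn_diag_xr (d : Fin n → F) (hd : ∀ i, d i ≠ 0) {i j : Fin n} (hij : i ≠ j) (t : F) :
    conjGLn (diagGLn d hd) (xr i j t : G) = xr i j (d i * (d j)⁻¹ * t) := by
  rw [xr_eq_re, conjGLn_re _ (eb_dot_eb_of_ne hij.symm), diagGLn_val, diagGLn_inv_val,
    diagonal_mulVec_eb, eb_vecMul_diagonal, re_smul_left, re_smul_right, xr_eq_re]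
  congr 1
  ring

lemma fieldAutN_xr (τ : RingAut F) {i j : Fin n} (hij : i ≠ j) (t : F) :
    fieldAutN τ (xr i j t : G) = xr i j (τ t) := by
  rw [xr_eq_re, fieldAutN_re τ (eb_dot_eb_of_ne hij.symm), xr_eq_re]
  have h : ∀ k : Fin n, (fun l => τ ((eb k : Fin n → F) l)) = eb k := by
    intro k
    funext l
    rw [eb_apply]
    split_ifs
    · exact map_one τ
    · exact map_zero τ
  rw [h, h]

lemma invT_mul_invT : (invT : MulAut G) * invT = 1 := by
  unfold invT
  rw [← map_mul]
  have : (invTSL : MulAut (SpecialLinearGroup (Fin n) F)) * invTSL = 1 := by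
    ext A : 1
    exact invTSL.left_inv A
  rw [this, map_one]

end diag

section main
variable {n : ℕ} {F : Type*} [Field F] [Fintype F] {p : ℕ} [Fact p.Prime] [CharP F p]

local notation "G" => ProjectiveSpecialLinearGroup (Fin n) F

/-- **Structure of `Aut(PSL_n(q))`, `n ≥ 3`**: every automorphism is a `GL_n`-conjugation times a
field automorphism times (the identity or inverse-transpose). -/
theorem aut_psl_structure (C : PSLCtx n F p) (α : MulAut G) :
    ∃ (g : GL (Fin n) F) (τ : RingAut F) (γ : MulAut G), (γ = 1 ∨ γ = invT) ∧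
      α = conjGLn g * fieldAutN τ * γ := by
  obtain ⟨γ, g₁, hγ, hstab⟩ := exists_gl_normal C α
  obtain ⟨d, τ, hd, hform⟩ := diag_field_of_stable C _ hstab
  have h1 : (conjGLn g₁)⁻¹ * (α * γ) = conjGLn (diagGLn d hd) * fieldAutN τ := by
    apply mulAut_ext_xr
    intro i j hij t
    rw [hform i j hij, MulAut.mul_apply, fieldAutN_xr τ hij, conjGLn_diag_xr d hd hij]
  have hγγ : γ * γ = 1 := by
    rcases hγ with rfl | rfl
    · exact one_mul 1
    · exact invT_mul_invT
  refine ⟨g₁ * diagGLn d hd, τ, γ, hγ, ?_⟩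
  have h2 : α * γ = conjGLn g₁ * (conjGLn (diagGLn d hd) * fieldAutN τ) := by
    rw [← h1, mul_inv_cancel_left]
  calc α = α * γ * γ := by rw [mul_assoc, hγγ, mul_one]
    _ = conjGLn (g₁ * diagGLn d hd) * fieldAutN τ * γ := by
        rw [h2, map_mul]; simp only [mul_assoc]

end main

end Cfsg.Agent.Lib.Helper07
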