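import Mathlib
import Cfsg.Prelude.Def_LieTypeDatum
import Cfsg.Prelude.Def_StandardType
import Cfsg.Agent.Lib.Helper07.PSLnG3

set_option autoImplicit false
set_option linter.unusedSectionVars false

/-! `Aut(PSL_n(q))` in the language of the Prelude predicates. -/

namespace Cfsg.Agent.Lib.Helper07

open Matrix

section ctx
variable {n : ℕ} {F : Type*} [Field F] [Fintype F] {p : ℕ}

/-- the standing hypotheses hold for `n ≥ 3`. -/
def mkCtx {f : ℕ} (hn : 3 ≤ n) (hF : Fintype.card F = p ^ f) (hf : 1 ≤ f) : PSLCtx n F p where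
  f := f
  hF := hF
  hf := hf
  a := ⟨0, by omega⟩
  b := ⟨n - 1, by omega⟩
  ha k := by rw [Fin.le_def]; exact Nat.zero_le _
  hb k := by rw [Fin.le_def]; have := k.2; simp only; omega
  hab := by rw [Ne, Fin.ext_iff]; simp only; omega
  h3 i k := by
    by_contra h
    push Not at h
    have h0 := h ⟨0, by omega⟩
    have h1 := h ⟨1, by omega⟩
    have h2 := h ⟨2, by omega⟩
    by_cases c0 : (⟨0, by omega⟩ : Fin n) = i
    · by_cases c1 : (⟨1, by omega⟩ : Fin n) = i
      · rw [← c0, Fin.ext_iff] at c1; simp at c1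
      · have e1 := h1 c1
        by_cases c2 : (⟨2, by omega⟩ : Fin n) = i
        · rw [← c0, Fin.ext_iff] at c2; simp at c2
        · have e2 := h2 c2
          rw [← e1, Fin.ext_iff] at e2; simp at e2
    · have e0 := h0 c0
      by_cases c1 : (⟨1, by omega⟩ : Fin n) = i
      · by_cases c2 : (⟨2, by omega⟩ : Fin n) = i
        · rw [← c1, Fin.ext_iff] at c2; simp at c2
        · have e2 := h2 c2
          rw [← e0, Fin.ext_iff] at e2; simp at e2
      · have e1 := h1 c1
        rw [← e0, Fin.ext_iff] at e1; simp at e1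

end ctx

section preds
variable {n : ℕ} {F : Type*} [Field F]

local notation "SLn" => SpecialLinearGroup (Fin n) F
local notation "G" => ProjectiveSpecialLinearGroup (Fin n) F

lemma mk_eq_prjN (s : SLn) : (QuotientGroup.mk s : G) = prjN s := rfl

lemma isInnerDiagonal_conjGLn (g : GL (Fin n) F) : Cfsg.IsInnerDiagonalAutPSL (conjGLn g) := by
  refine ⟨g, fun s s' h => ?_⟩
  rw [mk_eq_prjN, mk_eq_prjN, conjGLn_prjN]
  congr 1
  apply sl_ext
  rw [h]; rfl

lemma isStdFieldAut_fieldAutN (τ : RingAut F) :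
    Cfsg.IsStdFieldAutPSL (n := n) τ (fieldAutN τ) := by
  intro s s' h
  rw [mk_eq_prjN, mk_eq_prjN, fieldAutN_prjN]
  congr 1
  apply sl_ext
  rw [h]; rfl

lemma isInverseTranspose_invT : Cfsg.IsInverseTransposeAutPSL (invT : MulAut G) := by
  intro s s' h
  rw [mk_eq_prjN, mk_eq_prjN, invT_prjN]
  congr 1
  apply sl_ext
  rw [h]; rfl

lemma isInduced_conj_field (g : GL (Fin n) F) (τ : RingAut F) :
    Cfsg.IsInducedBySemilinearPSL g τ (conjGLn g * fieldAutN τ : MulAut G) := by
  intro s s' h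
  rw [mk_eq_prjN, mk_eq_prjN, MulAut.mul_apply, fieldAutN_prjN, conjGLn_prjN]
  congr 1
  apply sl_ext
  rw [h]; rfl

end preds

section two
variable {F : Type*} [Field F]

lemma conjGL_eq_conjGLn (g : GL (Fin 2) F) : conjGL g = conjGLn g := by
  ext x
  obtain ⟨A, rfl⟩ := prj_surjective x
  rfl

lemma fieldAut_eq_fieldAutN (τ : RingAut F) : fieldAut τ = fieldAutN (n := 2) τ := by
  ext x
  obtain ⟨A, rfl⟩ := prj_surjective x
  rfl

end two

section main
variable {F : Type*} [Field F] [Fintype F] {p f : ℕ} [Fact p.Prime]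

/-- every automorphism of `PSL_n(q)`, `n ≥ 2`, is `GL_n`-conjugation times field times
(identity or inverse-transpose). -/
theorem aut_psl_factor (hF : Fintype.card F = p ^ f) (hf : 1 ≤ f) {n : ℕ} (hn : 2 ≤ n)
    (β : MulAut (ProjectiveSpecialLinearGroup (Fin n) F)) :
    ∃ (g : GL (Fin n) F) (τ : RingAut F) (γ : MulAut (ProjectiveSpecialLinearGroup (Fin n) F)),
      (γ = 1 ∨ γ = invT) ∧ β = conjGLn g * fieldAutN τ * γ := by
  have : CharP F p := charP_of_card_eq_prime_pow hF
  rcases Nat.lt_or_ge n 3 with h | h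
  · obtain rfl : n = 2 := by omega
    obtain ⟨g, τ, rfl⟩ := aut_eq_conjGL_mul_fieldAut p β
    exact ⟨g, τ, 1, Or.inl rfl, by rw [mul_one, conjGL_eq_conjGLn, fieldAut_eq_fieldAutN]⟩
  · exact aut_psl_structure (mkCtx h hF hf) β

/-- the factorisation in the Prelude's language (statement S2690). -/
theorem aut_psl_factor_prelude (hF : Fintype.card F = p ^ f) (hf : 1 ≤ f) {n : ℕ} (hn : 2 ≤ n)
    (β : MulAut (ProjectiveSpecialLinearGroup (Fin n) F)) :
    ∃ (δ φ γ : MulAut (ProjectiveSpecialLinearGroup (Fin n) F)) (σ : F ≃+* F),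
      Cfsg.IsInnerDiagonalAutPSL δ ∧ Cfsg.IsStdFieldAutPSL σ φ ∧
        (γ = 1 ∨ Cfsg.IsInverseTransposeAutPSL γ) ∧ β = δ * φ * γ := by
  obtain ⟨g, τ, γ, hγ, rfl⟩ := aut_psl_factor hF hf hn β
  refine ⟨conjGLn g, fieldAutN τ, γ, τ, isInnerDiagonal_conjGLn g, isStdFieldAut_fieldAutN τ, ?_,
    rfl⟩
  rcases hγ with rfl | rfl
  · exact Or.inl rfl
  · exact Or.inr isInverseTranspose_invT

/-- `Aut(PSL_n(q))` is generated by the semilinear automorphisms and inverse-transpose
(statement S2689). -/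
theorem gammaPSL_sup_eq_top (hF : Fintype.card F = p ^ f) (hf : 1 ≤ f) {n : ℕ} (hn : 2 ≤ n) :
    Cfsg.gammaPSL n F ⊔ Cfsg.autSubgroupOf
      (fun β : ProjectiveSpecialLinearGroup (Fin n) F ≃* ProjectiveSpecialLinearGroup (Fin n) F =>
        Cfsg.IsInverseTransposeAutPSL β) = ⊤ := by
  rw [eq_top_iff]
  intro β _
  obtain ⟨g, τ, γ, hγ, rfl⟩ := aut_psl_factor hF hf hn β
  apply Subgroup.mul_mem
  · apply Subgroup.mem_sup_left
    exact Subgroup.subset_closure ⟨g, τ, isInduced_conj_field g τ⟩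
  · rcases hγ with rfl | rfl
    · exact Subgroup.one_mem _
    · apply Subgroup.mem_sup_right
      exact Subgroup.subset_closure isInverseTranspose_invT

end main

end Cfsg.Agent.Lib.Helper07
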