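import Mathlib
import Cfsg.Agent.Lib.Helper07.PSLnH
import Cfsg.Agent.Lib.Helper07.AutPSL6
import Cfsg.Agent.Lib.Helper07.AutA6SylowA

set_option autoImplicit false
set_option linter.unusedSectionVars false

/-! The order of `Aut(PSL_n(q))`. -/

namespace Cfsg.Agent.Lib.Helper07

open Matrix

section
variable {n : ℕ} {F : Type*} [Field F]

local notation "SLn" => SpecialLinearGroup (Fin n) F
local notation "G" => ProjectiveSpecialLinearGroup (Fin n) F

lemma xe_pow_char (p : ℕ) [CharP F p] (i j : Fin n) (t : F) : (xe i j t : SLn) ^ p = 1 := by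
  unfold xe
  exact tv_pow_char p _ _

/-- if `g`-conjugation maps `x_{ij}(t)` to `x_{kl}(s)` in `PSL_n` then `g E_{ij} t = s E_{kl} g`. -/
lemma conj_xr_eq (p : ℕ) [Fact p.Prime] [CharP F p] {g : GL (Fin n) F} {i j k l : Fin n}
    (hij : i ≠ j) (hkl : k ≠ l) {t s : F} (h : conjGLn g (xr i j t : G) = xr k l s) :
    g.val * Matrix.single i j t = Matrix.single k l s * g.val := by
  unfold xr at h
  rw [conjGLn_prjN] at h
  have h1 : conjSLn g (xe i j t) = xe k l s := by
    apply eq_of_prjN_eq_of_pow p 1 _ _ h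
    · rw [pow_one, ← map_pow, xe_pow_char, map_one]
    · rw [pow_one, xe_pow_char]
  have h2 : ((conjSLn g (xe i j t) : SLn) : Matrix (Fin n) (Fin n) F)
      = ((xe k l s : SLn) : Matrix (Fin n) (Fin n) F) := by rw [h1]
  rw [conjSLn_val, xe_val hij, xe_val hkl] at h2
  have h3 : g.val * (1 + Matrix.single i j t) = (1 + Matrix.single k l s) * g.val := by
    rw [← h2, mul_assoc, mul_assoc, Units.inv_mul, mul_one]
  rw [mul_add, add_mul, mul_one, one_mul] at h3
  exact add_left_cancel h3

lemma gl_col_ne_zero (g : GL (Fin n) F) (i : Fin n) : ∃ k, g.val k i ≠ 0 := by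
  by_contra h
  push Not at h
  have h1 : g.val *ᵥ (eb i : Fin n → F) = 0 := by
    unfold eb
    rw [mulVec_single_one]
    ext k
    exact h k
  have h2 : g⁻¹.val *ᵥ (g.val *ᵥ (eb i : Fin n → F)) = eb i := by
    rw [mulVec_mulVec, Units.inv_mul, one_mulVec]
  rw [h1, mulVec_zero] at h2
  exact eb_ne_zero i h2.symm

/-- rigidity: a `GL_n`-conjugation equal to a field automorphism forces the latter trivial. -/
lemma fieldAut_trivial_of_eq_conj (p : ℕ) [Fact p.Prime] [CharP F p] {g : GL (Fin n) F}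
    {τ : RingAut F} {a b : Fin n} (hab : a ≠ b)
    (h : ∀ t : F, conjGLn g (xr a b t : G) = xr a b (τ t)) : τ = 1 := by
  have key : ∀ t : F, g.val * Matrix.single a b t = Matrix.single a b (τ t) * g.val :=
    fun t => conj_xr_eq p hab hab (h t)
  have hcol : ∀ k, k ≠ a → g.val k a = 0 := by
    intro k hk
    have := congrFun (congrFun (key 1) k) b
    rw [Matrix.mul_single_apply_same, mul_one, Matrix.single_mul_apply_of_ne _ _ _ _ _ hk] at this
    exact this
  have haa : g.val a a ≠ 0 := by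
    obtain ⟨k, hk⟩ := gl_col_ne_zero g a
    by_cases hka : k = a
    · rw [hka] at hk; exact hk
    · exact absurd (hcol k hka) hk
  have hdiag : ∀ t : F, g.val a a * t = τ t * g.val b b := by
    intro t
    have := congrFun (congrFun (key t) a) b
    rw [Matrix.mul_single_apply_same, Matrix.single_mul_apply_same] at this
    exact this
  have hab' : g.val a a = g.val b b := by
    have := hdiag 1
    rwa [mul_one, map_one, one_mul] at this
  ext t
  have := hdiag t
  rw [← hab', mul_comm] at this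
  exact (mul_right_cancel₀ haa this).symm

/-- a `GL_n`-conjugation cannot reverse all the roots when `n ≥ 3`. -/
lemma not_conj_reverses (p : ℕ) [Fact p.Prime] [CharP F p] {g : GL (Fin n) F}
    (h3 : ∀ i k : Fin n, ∃ j, j ≠ i ∧ j ≠ k) (i : Fin n)
    (h : ∀ j : Fin n, i ≠ j → ∃ s : F, conjGLn g (xr i j 1 : G) = xr j i s) : False := by
  obtain ⟨j, hji, -⟩ := h3 i i
  obtain ⟨j', hj'i, hj'j⟩ := h3 i j
  have hcol : ∀ j₁ : Fin n, i ≠ j₁ → ∀ k, k ≠ j₁ → g.val k i = 0 := by
    intro j₁ hij₁ k hk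
    obtain ⟨s, hs⟩ := h j₁ hij₁
    have key := conj_xr_eq p hij₁ hij₁.symm hs
    have := congrFun (congrFun key k) j₁
    rw [Matrix.mul_single_apply_same, mul_one, Matrix.single_mul_apply_of_ne _ _ _ _ _ hk] at this
    exact this
  obtain ⟨k, hk⟩ := gl_col_ne_zero g i
  by_cases hkj : k = j
  · exact hk (hcol j' hj'i.symm k (by rw [hkj]; exact hj'j.symm))
  · exact hk (hcol j hji.symm k hkj)

/-- the kernel of `conjGLn` is the centre of `GL_n`. -/
lemma conjGLn_ker (p : ℕ) [Fact p.Prime] [CharP F p] (hn : 1 ≤ n) :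
    (conjGLn (n := n) (F := F)).ker = Subgroup.center (GL (Fin n) F) := by
  ext g
  rw [MonoidHom.mem_ker]
  constructor
  · intro h
    have hsc : g.val ∈ Set.range (Matrix.scalar (Fin n)) := by
      rw [mem_range_scalar_iff_commute_single]
      intro i j hij
      have h1 : conjGLn g (xr i j 1 : G) = xr i j 1 := by rw [h, MulAut.one_apply]
      exact (conj_xr_eq p hij hij h1).symm
    obtain ⟨r, hr⟩ := hsc
    rw [GeneralLinearGroup.center_eq_range_scalar]
    have hr0 : r ≠ 0 := by
      rintro rfl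
      obtain ⟨k, hk⟩ := gl_col_ne_zero g ⟨0, hn⟩
      rw [← hr] at hk
      simp at hk
    refine ⟨Units.mk0 r hr0, ?_⟩
    apply Units.ext
    rw [GeneralLinearGroup.coe_scalar]
    exact hr
  · intro h
    rw [Subgroup.mem_center_iff] at h
    ext z
    obtain ⟨A, rfl⟩ := prjN_surjective z
    rw [conjGLn_prjN, MulAut.one_apply]
    congr 1
    apply sl_ext
    rw [conjSLn_val]
    have := h (SpecialLinearGroup.toGL A)
    have h2 := congrArg Units.val this
    rw [Units.val_mul, Units.val_mul] at h2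
    have h3 : (A : Matrix (Fin n) (Fin n) F) * g.val = g.val * (A : Matrix (Fin n) (Fin n) F) := h2
    rw [← h3, mul_assoc, Units.mul_inv, mul_one]

lemma card_conjGLn_range (p : ℕ) [Fact p.Prime] [CharP F p] (hn : 1 ≤ n) :
    Nat.card (conjGLn (n := n) (F := F)).range = Nat.card (ProjGenLinGroup (Fin n) F) := by
  rw [← Subgroup.index_ker, conjGLn_ker p hn]
  rfl

end

section count
variable {n : ℕ} {F : Type*} [Field F] [Fintype F] {p : ℕ} [Fact p.Prime] [CharP F p]

local notation "G" => ProjectiveSpecialLinearGroup (Fin n) F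

/-- `|Aut(PSL_n(q))| = 2 f |PGL_n(q)|` for `n ≥ 3`. -/
theorem card_mulAut_psl_ge_three (C : PSLCtx n F p) :
    Nat.card (MulAut G) = 2 * C.f * Nat.card (ProjGenLinGroup (Fin n) F) := by
  have hn : 1 ≤ n := Nat.succ_le_of_lt (Fin.pos C.a)
  set D : Subgroup (MulAut G) := (conjGLn (n := n) (F := F)).range with hD
  let γ : Bool → MulAut G := fun ε => if ε then invT else 1
  have hγγ : ∀ ε, γ ε * γ ε = 1 := by
    intro ε
    cases ε
    · exact one_mul 1
    · exact invT_mul_invT
  let Ψ : RingAut F × Bool → MulAut G ⧸ D :=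
    fun x => QuotientGroup.mk (γ x.2 * fieldAutN x.1)
  have hΨ : Function.Bijective Ψ := by
    constructor
    · rintro ⟨τ, ε⟩ ⟨τ', ε'⟩ hh
      have h1 : (γ ε * fieldAutN τ)⁻¹ * (γ ε' * fieldAutN τ') ∈ D := QuotientGroup.eq.mp hh
      obtain ⟨g, hg⟩ := h1
      have hg' : ∀ x : G, conjGLn g x
          = ((fieldAutN τ)⁻¹ : MulAut G) (((γ ε)⁻¹ : MulAut G) (γ ε' (fieldAutN τ' x))) := by
        intro x
        rw [hg]
        rfl
      have hinv : ∀ ε, (γ ε)⁻¹ = γ ε := fun ε => inv_eq_of_mul_eq_one_left (hγγ ε)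
      by_cases hε : ε = ε'
      · subst hε
        have h2 : ∀ t : F, conjGLn g (xr C.a C.b t : G) = xr C.a C.b ((τ⁻¹ * τ') t) := by
          intro t
          rw [hg', MulAut.inv_apply_self, fieldAutN_xr τ' C.hab, ← map_inv,
            fieldAutN_xr τ⁻¹ C.hab]
          rfl
        have h3 := fieldAut_trivial_of_eq_conj p C.hab h2
        have : τ = τ' := by
          have := congrArg (fun σ => τ * σ) h3
          simpa using this.symm
        rw [this]
      · exfalso
        have hγ' : ∀ x : G, ((γ ε)⁻¹ : MulAut G) (γ ε' x) = invT x := by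
          intro x
          rw [hinv]
          cases ε <;> cases ε'
          · exact absurd rfl hε
          · rfl
          · rfl
          · exact absurd rfl hε
        apply not_conj_reverses p (g := g) C.h3 C.a
        intro j hj
        refine ⟨τ⁻¹ (-(τ' 1)), ?_⟩
        rw [hg', hγ', fieldAutN_xr τ' hj, xr_eq_re, invT_re (eb_dot_eb_of_ne hj.symm),
          ← xr_eq_re, ← map_inv, fieldAutN_xr τ⁻¹ hj.symm]
    · intro z
      obtain ⟨α, rfl⟩ := QuotientGroup.mk_surjective z
      obtain ⟨g, τ, γ₀, hγ₀, hα⟩ := aut_psl_structure C α⁻¹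
      obtain ⟨ε, rfl⟩ : ∃ ε, γ₀ = γ ε := by
        rcases hγ₀ with rfl | rfl
        · exact ⟨false, rfl⟩
        · exact ⟨true, rfl⟩
      refine ⟨(τ⁻¹, ε), ?_⟩
      show (QuotientGroup.mk (γ ε * fieldAutN τ⁻¹) : MulAut G ⧸ D) = QuotientGroup.mk α
      rw [QuotientGroup.eq]
      have hα' : α = γ ε * fieldAutN τ⁻¹ * conjGLn g⁻¹ := by
        have h1 : α = (conjGLn g * fieldAutN τ * γ ε)⁻¹ := by rw [← hα, inv_inv]
        rw [h1, _root_.mul_inv_rev, _root_.mul_inv_rev, map_inv, map_inv,
          inv_eq_of_mul_eq_one_left (hγγ ε), mul_assoc]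
      rw [hα', ← mul_assoc, inv_mul_cancel, one_mul]
      exact ⟨g⁻¹, rfl⟩
  rw [Subgroup.card_eq_card_quotient_mul_card_subgroup D,
    ← Nat.card_congr (Equiv.ofBijective Ψ hΨ), Nat.card_prod, card_ringAut p C.hF, hD,
    card_conjGLn_range p hn, Nat.card_eq_fintype_card (α := Bool), Fintype.card_bool]
  ring

end count

section final
variable {F : Type*} [Field F] [Fintype F]

/-- statement S0813. -/
theorem card_mulAut_psl (p f : ℕ) [Fact p.Prime] (hf : 1 ≤ f) (hF : Fintype.card F = p ^ f)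
    (n : ℕ) (hn : 2 ≤ n) :
    Nat.card (MulAut (ProjectiveSpecialLinearGroup (Fin n) F))
      = (if n = 2 then 1 else 2) * f * Nat.card (ProjGenLinGroup (Fin n) F) := by
  have : CharP F p := charP_of_card_eq_prime_pow hF
  rcases Nat.lt_or_ge n 3 with h | h
  · obtain rfl : n = 2 := by omega
    rw [if_pos rfl, one_mul, card_mulAut_psl_two p hF, card_pgl_eq_card_sl]
  · rw [if_neg (by omega)]
    exact card_mulAut_psl_ge_three (mkCtx h hF hf)

end final

end Cfsg.Agent.Lib.Helper07
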