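import Mathlib
import Cfsg.Agent.Lib.Helper07.PSLnI

set_option autoImplicit false
set_option linter.unusedSectionVars false

/-! The structure of `Out(PSL_n(q))`, `n ≥ 3`. -/

namespace Cfsg.Agent.Lib.Helper07

open Matrix

section
variable {n : ℕ} {F : Type*} [Field F]

local notation "SLn" => SpecialLinearGroup (Fin n) F
local notation "G" => ProjectiveSpecialLinearGroup (Fin n) F

/-- field automorphisms normalise the `GL_n`-conjugations. -/
lemma fieldAutN_mul_conjGLn (τ : RingAut F) (g : GL (Fin n) F) :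
    fieldAutN τ * conjGLn g
      = conjGLn (GeneralLinearGroup.map (τ : F →+* F) g) * fieldAutN τ := by
  ext z
  obtain ⟨A, rfl⟩ := prjN_surjective z
  rw [MulAut.mul_apply, MulAut.mul_apply, conjGLn_prjN, fieldAutN_prjN, fieldAutN_prjN,
    conjGLn_prjN]
  congr 1
  apply sl_ext
  rw [fieldAutSLn_val, conjSLn_val, conjSLn_val, fieldAutSLn_val, ← GeneralLinearGroup.map_inv]
  rw [Matrix.map_mul, Matrix.map_mul]
  rfl

/-- inverse-transpose in `GL_n`. -/
def glInvT (g : GL (Fin n) F) : GL (Fin n) F where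
  val := g⁻¹.valᵀ
  inv := g.valᵀ
  val_inv := by rw [← transpose_mul, Units.mul_inv, transpose_one]
  inv_val := by rw [← transpose_mul, Units.inv_mul, transpose_one]

lemma glInvT_val (g : GL (Fin n) F) : (glInvT g).val = g⁻¹.valᵀ := rfl
lemma glInvT_inv_val (g : GL (Fin n) F) : (glInvT g)⁻¹.val = g.valᵀ := rfl

/-- the inverse-transpose automorphism normalises the `GL_n`-conjugations. -/
lemma invT_mul_conjGLn (g : GL (Fin n) F) :
    (invT : MulAut G) * conjGLn g = conjGLn (glInvT g) * invT := by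
  ext z
  obtain ⟨A, rfl⟩ := prjN_surjective z
  rw [MulAut.mul_apply, MulAut.mul_apply, conjGLn_prjN, invT_prjN, invT_prjN, conjGLn_prjN]
  congr 1
  apply sl_ext
  rw [invTSL_val, ← map_inv, conjSLn_val, conjSLn_val, invTSL_val, glInvT_val, glInvT_inv_val,
    transpose_mul, transpose_mul, mul_assoc]

lemma invT_mul_fieldAutN (τ : RingAut F) :
    (invT : MulAut G) * fieldAutN τ = fieldAutN τ * invT := by
  apply mulAut_ext_xr
  intro i j hij t
  rw [MulAut.mul_apply, MulAut.mul_apply, fieldAutN_xr τ hij, xr_eq_re, xr_eq_re,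
    invT_re (eb_dot_eb_of_ne hij.symm), invT_re (eb_dot_eb_of_ne hij.symm), ← xr_eq_re,
    ← xr_eq_re, fieldAutN_xr τ hij.symm, map_neg]

lemma conjGLn_toGL (M : SLn) :
    conjGLn (SpecialLinearGroup.toGL M) = MulAut.conj (prjN M) := by
  ext z
  obtain ⟨A, rfl⟩ := prjN_surjective z
  rw [conjGLn_prjN, MulAut.conj_apply, ← map_inv, ← map_mul, ← map_mul]
  congr 1

lemma inn_le_conjGLn_range : Cfsg.Inn G ≤ (conjGLn (n := n) (F := F)).range := by
  rintro _ ⟨z, rfl⟩
  obtain ⟨M, rfl⟩ := prjN_surjective z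
  exact ⟨SpecialLinearGroup.toGL M, conjGLn_toGL M⟩

lemma mulAut_conj_injective_n (p : ℕ) [Fact p.Prime] [CharP F p] (hn : 1 ≤ n) :
    Function.Injective (MulAut.conj : G →* MulAut G) := by
  rw [injective_iff_map_eq_one]
  intro z hz
  obtain ⟨M, rfl⟩ := prjN_surjective z
  rw [← conjGLn_toGL] at hz
  have hmem : SpecialLinearGroup.toGL M ∈ (conjGLn (n := n) (F := F)).ker := hz
  rw [conjGLn_ker p hn, Subgroup.mem_center_iff] at hmem
  have hM : M ∈ Subgroup.center SLn := by
    rw [Subgroup.mem_center_iff]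
    intro A
    have := hmem (SpecialLinearGroup.toGL A)
    rw [← map_mul, ← map_mul] at this
    exact SpecialLinearGroup.toGL_injective this
  exact (QuotientGroup.eq_one_iff M).mpr hM

lemma card_inn_n (p : ℕ) [Fact p.Prime] [CharP F p] (hn : 1 ≤ n) :
    Nat.card (Cfsg.Inn G) = Nat.card G :=
  (Nat.card_congr (MonoidHom.ofInjective (mulAut_conj_injective_n (n := n) (F := F) p hn)).toEquiv).symm

end

section out
variable {n : ℕ} {F : Type*} [Field F] [Fintype F] {p : ℕ} [Fact p.Prime] [CharP F p]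

local notation "SLn" => SpecialLinearGroup (Fin n) F
local notation "G" => ProjectiveSpecialLinearGroup (Fin n) F

lemma conjGLn_range_normal (C : PSLCtx n F p) : (conjGLn (n := n) (F := F)).range.Normal := by
  constructor
  rintro _ ⟨h, rfl⟩ α
  obtain ⟨g, τ, γ, hγ, rfl⟩ := aut_psl_structure C α
  obtain ⟨h', hh'⟩ : ∃ h', γ * conjGLn h * γ⁻¹ = conjGLn h' := by
    rcases hγ with rfl | rfl
    · exact ⟨h, by rw [one_mul, inv_one, mul_one]⟩
    · exact ⟨glInvT h, by rw [invT_mul_conjGLn, mul_assoc, mul_inv_cancel, mul_one]⟩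
  have e2 : fieldAutN τ * conjGLn h' * (fieldAutN τ)⁻¹
      = conjGLn (GeneralLinearGroup.map (τ : F →+* F) h') := by
    rw [fieldAutN_mul_conjGLn, mul_assoc, mul_inv_cancel, mul_one]
  have e : conjGLn g * fieldAutN τ * γ * conjGLn h * (conjGLn g * fieldAutN τ * γ)⁻¹
      = conjGLn (g * GeneralLinearGroup.map (τ : F →+* F) h' * g⁻¹) := by
    rw [map_mul, map_mul, map_inv, ← e2, ← hh']
    group
  rw [e]
  exact ⟨_, rfl⟩

/-- the homomorphism `ZMod 2 → Aut(PSL_n)` sending the generator to inverse-transpose. -/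
noncomputable def graphHom : Multiplicative (ZMod 2) →* MulAut G where
  toFun x := if Multiplicative.toAdd x = 0 then 1 else invT
  map_one' := by simp
  map_mul' a b := by
    have h01 : ∀ a : ZMod 2, a = 0 ∨ a = 1 := by decide
    have h11 : (1 : ZMod 2) + 1 = 0 := by decide
    rcases h01 (Multiplicative.toAdd a) with ha | ha <;>
    rcases h01 (Multiplicative.toAdd b) with hb | hb <;>
    simp [toAdd_mul, ha, hb, h11, invT_mul_invT]

lemma graphHom_of_zero {ε : Multiplicative (ZMod 2)} (h : Multiplicative.toAdd ε = 0) :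
    (graphHom ε : MulAut G) = 1 := if_pos h

lemma graphHom_of_one {ε : Multiplicative (ZMod 2)} (h : Multiplicative.toAdd ε = 1) :
    (graphHom ε : MulAut G) = invT := by
  have : Multiplicative.toAdd ε ≠ 0 := by rw [h]; decide
  exact if_neg this

lemma graphHom_cases (ε : Multiplicative (ZMod 2)) :
    (graphHom ε : MulAut G) = 1 ∨ (graphHom ε : MulAut G) = invT := by
  have h01 : ∀ a : ZMod 2, a = 0 ∨ a = 1 := by decide
  rcases h01 (Multiplicative.toAdd ε) with h | h
  · exact Or.inl (graphHom_of_zero h)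
  · exact Or.inr (graphHom_of_one h)

/-- the structure of `Out(PSL_n(q))`, `n ≥ 3`. -/
theorem out_psl_ge_three (C : PSLCtx n F p) :
    ∃ φ : Cfsg.Out G →* Multiplicative (ZMod C.f × ZMod 2),
      Function.Surjective φ ∧ IsCyclic φ.ker ∧ Nat.card φ.ker = Nat.gcd n (p ^ C.f - 1) := by
  have hn : 1 ≤ n := Nat.succ_le_of_lt (Fin.pos C.a)
  have hDn : (conjGLn (n := n) (F := F)).range.Normal := conjGLn_range_normal C
  set D : Subgroup (MulAut G) := (conjGLn (n := n) (F := F)).range with hD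
  have hmkD : ∀ g : GL (Fin n) F, (QuotientGroup.mk' D) (conjGLn g) = 1 :=
    fun g => (QuotientGroup.eq_one_iff _).mpr ⟨g, rfl⟩
  let f₁ : RingAut F →* MulAut G ⧸ D := (QuotientGroup.mk' D).comp fieldAutN
  let f₂ : Multiplicative (ZMod 2) →* MulAut G ⧸ D := (QuotientGroup.mk' D).comp graphHom
  have hcomm : ∀ τ ε, Commute (f₁ τ) (f₂ ε) := by
    intro τ ε
    show QuotientGroup.mk' D (fieldAutN τ) * QuotientGroup.mk' D (graphHom ε)
      = QuotientGroup.mk' D (graphHom ε) * QuotientGroup.mk' D (fieldAutN τ)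
    rw [← map_mul, ← map_mul]
    congr 1
    rcases graphHom_cases (n := n) (F := F) ε with h | h
    · rw [h, one_mul, mul_one]
    · rw [h, invT_mul_fieldAutN]
  let Θ : RingAut F × Multiplicative (ZMod 2) →* MulAut G ⧸ D :=
    MonoidHom.noncommCoprod f₁ f₂ hcomm
  have hΘapp : ∀ τ ε, Θ (τ, ε) = QuotientGroup.mk' D (fieldAutN τ * graphHom ε) := by
    intro τ ε
    rw [map_mul]
    rfl
  have h01 : ∀ a : ZMod 2, a = 0 ∨ a = 1 := by decide
  have hΘ : Function.Bijective Θ := by
    constructor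
    · rw [injective_iff_map_eq_one]
      rintro ⟨τ, ε⟩ hh
      rw [hΘapp] at hh
      have h1 : fieldAutN τ * graphHom ε ∈ D := (QuotientGroup.eq_one_iff _).mp hh
      obtain ⟨g, hg⟩ := h1
      rcases h01 (Multiplicative.toAdd ε) with hε | hε
      · rw [graphHom_of_zero hε, mul_one] at hg
        have h2 : ∀ t : F, conjGLn g (xr C.a C.b t : G) = xr C.a C.b (τ t) := by
          intro t
          rw [hg, fieldAutN_xr τ C.hab]
        have h3 := fieldAut_trivial_of_eq_conj p C.hab h2
        rw [h3]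
        have : ε = 1 := hε
        rw [this]
        rfl
      · exfalso
        rw [graphHom_of_one hε] at hg
        apply not_conj_reverses p (g := g) C.h3 C.a
        intro j hj
        refine ⟨τ (-1), ?_⟩
        rw [hg, MulAut.mul_apply, xr_eq_re, invT_re (eb_dot_eb_of_ne hj.symm), ← xr_eq_re,
          fieldAutN_xr τ hj.symm]
    · intro z
      obtain ⟨α, rfl⟩ := QuotientGroup.mk'_surjective D z
      obtain ⟨g, τ, γ₀, hγ₀, rfl⟩ := aut_psl_structure C α
      rcases hγ₀ with rfl | rfl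
      · refine ⟨(τ, Multiplicative.ofAdd 0), ?_⟩
        rw [hΘapp, graphHom_of_zero (by rfl), map_mul, map_mul, map_mul, hmkD, one_mul]
      · refine ⟨(τ, Multiplicative.ofAdd 1), ?_⟩
        rw [hΘapp, graphHom_of_one (by rfl), map_mul, map_mul, map_mul, hmkD, one_mul]
  have hcard := card_ringAut p C.hF
  have hcyc := isCyclic_ringAut (F := F) p
  have hfin : Finite (RingAut F) :=
    Finite.of_injective (fun τ : RingAut F => (τ : F → F)) DFunLike.coe_injective
  have hF' := C.hF
  obtain ⟨f₀, hf₀⟩ : ∃ f₀, f₀ = C.f := ⟨_, rfl⟩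
  rw [← hf₀] at hcard hF' ⊢
  have hfpos : 0 < f₀ := by rw [← hcard]; exact Nat.card_pos
  subst hcard
  let e₁ : Multiplicative (ZMod (Nat.card (RingAut F))) ≃* RingAut F := zmodCyclicMulEquiv hcyc
  let e : MulAut G ⧸ D ≃* Multiplicative (ZMod (Nat.card (RingAut F)) × ZMod 2) :=
    (MulEquiv.ofBijective Θ hΘ).symm.trans
      ((MulEquiv.prodCongr e₁.symm (MulEquiv.refl _)).trans
        (MulEquiv.prodMultiplicative _ _).symm)
  let q : Cfsg.Out G →* MulAut G ⧸ D :=
    QuotientGroup.map (Cfsg.Inn G) D (MonoidHom.id _) inn_le_conjGLn_range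
  have hq : Function.Surjective q := by
    intro z
    obtain ⟨α, rfl⟩ := QuotientGroup.mk'_surjective D z
    exact ⟨QuotientGroup.mk α, rfl⟩
  let φ : Cfsg.Out G →* Multiplicative (ZMod (Nat.card (RingAut F)) × ZMod 2) :=
    e.toMonoidHom.comp q
  have hφ : Function.Surjective φ := e.surjective.comp hq
  have hcardT : Nat.card (Multiplicative (ZMod (Nat.card (RingAut F)) × ZMod 2))
      = Nat.card (RingAut F) * 2 := by
    rw [Nat.card_congr Multiplicative.toAdd, Nat.card_prod, Nat.card_zmod, Nat.card_zmod]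
  -- cardinalities
  have c1 : Nat.card (Cfsg.Out G) = Nat.card (RingAut F) * 2 * Nat.card φ.ker := by
    rw [Subgroup.card_eq_card_quotient_mul_card_subgroup φ.ker,
      Nat.card_congr (QuotientGroup.quotientKerEquivOfSurjective φ hφ).toEquiv, hcardT]
  have c2 : Nat.card (MulAut G) = Nat.card (Cfsg.Out G) * Nat.card (Cfsg.Inn G) :=
    Subgroup.card_eq_card_quotient_mul_card_subgroup _
  have c3 : Nat.card (MulAut G) = Nat.card (RingAut F) * 2 * Nat.card D := by
    rw [Subgroup.card_eq_card_quotient_mul_card_subgroup D, Nat.card_congr e.toEquiv, hcardT]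
  have c4 : Nat.card D = Nat.card G * Nat.gcd n (Fintype.card F - 1) := by
    rw [hD, card_conjGLn_range p hn, card_pgl_eq_card_sl, card_sl_eq_card_psl_mul n hn]
  have c5 : Nat.card φ.ker = Nat.gcd n (Fintype.card F - 1) := by
    rw [c1, card_inn_n p hn] at c2
    rw [c4] at c3
    have hGpos : 0 < Nat.card G := Nat.card_pos
    have : Nat.card (RingAut F) * 2 * (Nat.card φ.ker * Nat.card G)
        = Nat.card (RingAut F) * 2 * (Nat.gcd n (Fintype.card F - 1) * Nat.card G) := by
      calc Nat.card (RingAut F) * 2 * (Nat.card φ.ker * Nat.card G)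
          = Nat.card (RingAut F) * 2 * Nat.card φ.ker * Nat.card G := by ring
        _ = Nat.card (MulAut G) := c2.symm
        _ = _ := by rw [c3]; ring
    exact Nat.eq_of_mul_eq_mul_right hGpos
      (Nat.eq_of_mul_eq_mul_left (Nat.mul_pos hfpos two_pos) this)
  refine ⟨φ, hφ, ?_, by rw [c5, hF']⟩
  -- the diagonal automorphisms
  let ψ : GL (Fin n) F →* Cfsg.Out G := (QuotientGroup.mk' (Cfsg.Inn G)).comp conjGLn
  have hker : (GeneralLinearGroup.det : GL (Fin n) F →* Fˣ).ker ≤ ψ.ker := by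
    intro g hg
    rw [MonoidHom.mem_ker] at hg ⊢
    have hdet : g.val.det = 1 := by
      have := congrArg Units.val hg
      simpa using this
    obtain ⟨s, hgs⟩ : ∃ s : SLn, g = SpecialLinearGroup.toGL s := ⟨⟨g.val, hdet⟩, Units.ext rfl⟩
    show QuotientGroup.mk' _ (conjGLn g) = 1
    rw [hgs, conjGLn_toGL]
    exact (QuotientGroup.eq_one_iff _).mpr ⟨_, rfl⟩
  have hupd : ∀ c : Fˣ, ∀ i : Fin n, Function.update (fun _ : Fin n => (1 : F)) C.a c.val i ≠ 0 := by
    intro c i
    by_cases hi : i = C.a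
    · rw [hi, Function.update_self]; exact c.ne_zero
    · rw [Function.update_of_ne hi]; exact one_ne_zero
  let finv : Fˣ → GL (Fin n) F := fun c => diagGLn _ (hupd c)
  have hfinv : Function.RightInverse finv (GeneralLinearGroup.det : GL (Fin n) F →* Fˣ) := by
    intro c
    apply Units.ext
    show (Matrix.diagonal _).det = c.val
    rw [det_diagonal, Finset.prod_update_of_mem (Finset.mem_univ _)]
    simp
  let ψ' : Fˣ →* Cfsg.Out G := MonoidHom.liftOfRightInverse _ finv hfinv ⟨ψ, hker⟩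
  have hψ' : ∀ g, ψ' (GeneralLinearGroup.det g) = ψ g :=
    fun g => MonoidHom.liftOfRightInverse_comp_apply _ _ _ ⟨ψ, hker⟩ g
  have hψker : ∀ g, ψ g ∈ φ.ker := by
    intro g
    rw [MonoidHom.mem_ker]
    show e (QuotientGroup.mk' D (conjGLn g)) = 1
    rw [hmkD, map_one]
  have hkerψ : ∀ x ∈ φ.ker, ∃ g, ψ g = x := by
    intro x hx
    obtain ⟨α, rfl⟩ := QuotientGroup.mk'_surjective _ x
    rw [MonoidHom.mem_ker] at hx
    have h1 : e (QuotientGroup.mk' D α) = 1 := hx
    have h2 : QuotientGroup.mk' D α = 1 := (map_eq_one_iff e e.injective).mp h1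
    obtain ⟨g, hg⟩ : α ∈ D := (QuotientGroup.eq_one_iff _).mp h2
    exact ⟨g, by rw [← hg]; rfl⟩
  let δ : Fˣ →* φ.ker := ψ'.codRestrict φ.ker (fun c => by
    rw [← hfinv c, hψ']
    exact hψker _)
  have hδ : Function.Surjective δ := by
    rintro ⟨x, hx⟩
    obtain ⟨g, rfl⟩ := hkerψ x hx
    exact ⟨GeneralLinearGroup.det g, Subtype.ext (hψ' g)⟩
  exact isCyclic_of_surjective δ hδ

end out

end Cfsg.Agent.Lib.Helper07
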