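import Mathlib
import Cfsg.Agent.Lib.Helper07.PSLnJ
import Cfsg.Agent.Lib.Helper07.HermClass
import Cfsg.Prelude.Def_LieTypeDatum

set_option autoImplicit false
set_option linter.unusedSectionVars false

/-! Field and graph-field automorphisms of `PSL_n(q)` of prime order: cosets of `Inndiag`
(Lang-type arguments via Hilbert 90 and the classification of Hermitian forms). -/

namespace Cfsg.Agent.Lib.Helper07

open Matrix

section preds
variable {n : ℕ} {F : Type*} [Field F]

local notation "SLn" => SpecialLinearGroup (Fin n) F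
local notation "G" => ProjectiveSpecialLinearGroup (Fin n) F

lemma eq_conjGLn_of_isInnerDiagonal {β : MulAut G} (h : Cfsg.IsInnerDiagonalAutPSL β) :
    ∃ g : GL (Fin n) F, β = conjGLn g := by
  obtain ⟨g, hg⟩ := h
  refine ⟨g, ?_⟩
  ext x
  obtain ⟨A, rfl⟩ := prjN_surjective x
  rw [conjGLn_prjN]
  exact hg A (conjSLn g A) rfl

lemma eq_fieldAutN_of_isStdFieldAut {σ : RingAut F} {β : MulAut G}
    (h : Cfsg.IsStdFieldAutPSL σ β) : β = fieldAutN σ := by
  ext x
  obtain ⟨A, rfl⟩ := prjN_surjective x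
  rw [fieldAutN_prjN]
  exact h A (fieldAutSLn σ A) rfl

lemma eq_invT_of_isInverseTranspose {β : MulAut G}
    (h : Cfsg.IsInverseTransposeAutPSL β) : β = invT := by
  ext x
  obtain ⟨A, rfl⟩ := prjN_surjective x
  rw [invT_prjN]
  exact h A (invTSL A) rfl

lemma inndiagPSL_eq_range : Cfsg.inndiagPSL n F = (conjGLn (n := n) (F := F)).range := by
  unfold Cfsg.inndiagPSL Cfsg.autSubgroupOf
  apply le_antisymm
  · rw [Subgroup.closure_le]
    intro β hβ
    obtain ⟨g, rfl⟩ := eq_conjGLn_of_isInnerDiagonal hβ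
    exact ⟨g, rfl⟩
  · rintro _ ⟨g, rfl⟩
    exact Subgroup.subset_closure (isInnerDiagonal_conjGLn g)

end preds

section normal
variable {F : Type*} [Field F] [Fintype F] {p f : ℕ} [Fact p.Prime]

/-- `Inndiag` is normal in `Aut(PSL_n(q))`, all `n ≥ 2`. -/
lemma conjGLn_range_normal' (hF : Fintype.card F = p ^ f) (hf : 1 ≤ f) {n : ℕ} (hn : 2 ≤ n) :
    (conjGLn (n := n) (F := F)).range.Normal := by
  constructor
  rintro _ ⟨h, rfl⟩ α
  obtain ⟨g, τ, γ, hγ, rfl⟩ := aut_psl_factor hF hf hn α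
  obtain ⟨h', hh'⟩ : ∃ h', γ * conjGLn h * γ⁻¹ = conjGLn h' := by
    rcases hγ with rfl | rfl
    · exact ⟨h, by rw [one_mul, inv_one, mul_one]⟩
    · exact ⟨glInvT h, by rw [invT_mul_conjGLn, mul_assoc, mul_inv_cancel, mul_one]⟩
  have e2 : fieldAutN τ * conjGLn h' * (fieldAutN τ)⁻¹
      = conjGLn (GeneralLinearGroup.map (τ : F →+* F) h') := by
    rw [fieldAutN_mul_conjGLn, mul_assoc, mul_inv_cancel, mul_one]
  have e : conjGLn g * fieldAutN τ * γ * conjGLn h * (conjGLn g * fieldAutN τ * γ)⁻¹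
      = conjGLn (g * GeneralLinearGroup.map (τ : F →+* F) h' * g⁻¹) := by
    rw [map_mul, map_mul, map_inv, ← e2, ← hh']
    group
  rw [e]
  exact ⟨_, rfl⟩

end normal

section rigid
variable {n : ℕ} {F : Type*} [Field F] (p : ℕ) [Fact p.Prime] [CharP F p]

local notation "G" => ProjectiveSpecialLinearGroup (Fin n) F

include p in
lemma fieldAutN_mem_range {a b : Fin n} (hab : a ≠ b) {τ : RingAut F}
    (h : fieldAutN τ ∈ (conjGLn (n := n) (F := F)).range) : τ = 1 := by
  obtain ⟨g, hg⟩ := h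
  apply fieldAut_trivial_of_eq_conj p hab (g := g)
  intro t
  rw [hg, fieldAutN_xr τ hab]

include p in
lemma fieldAutN_injective {a b : Fin n} (hab : a ≠ b) :
    Function.Injective (fieldAutN : RingAut F →* MulAut G) := by
  rw [injective_iff_map_eq_one]
  intro τ hτ
  apply fieldAutN_mem_range p hab
  rw [hτ]
  exact Subgroup.one_mem _

include p in
lemma fieldAutN_mul_invT_not_mem (h3 : ∀ i k : Fin n, ∃ j, j ≠ i ∧ j ≠ k) (a : Fin n)
    (τ : RingAut F) : fieldAutN τ * invT ∉ (conjGLn (n := n) (F := F)).range := by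
  rintro ⟨g, hg⟩
  apply not_conj_reverses p (g := g) h3 a
  intro j hj
  refine ⟨τ (-1), ?_⟩
  rw [hg, MulAut.mul_apply, xr_eq_re, invT_re (eb_dot_eb_of_ne hj.symm), ← xr_eq_re,
    fieldAutN_xr τ hj.symm]

end rigid

section lang
variable {n : ℕ} {F : Type*} [Field F]

local notation "G" => ProjectiveSpecialLinearGroup (Fin n) F

/-- `σ` acting on `GL_n`. -/
abbrev glMap (σ : RingAut F) : GL (Fin n) F →* GL (Fin n) F :=
  GeneralLinearGroup.map (σ : F →+* F)

lemma glMap_val (σ : RingAut F) (h : GL (Fin n) F) : (glMap σ h).val = h.val.map σ := rfl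

/-- twisted partial products in `GL_n`. -/
def twGL (σ : RingAut F) (g : GL (Fin n) F) : ℕ → GL (Fin n) F
  | 0 => 1
  | (k + 1) => g * glMap σ (twGL σ g k)

lemma twGL_val (σ : RingAut F) (g : GL (Fin n) F) (k : ℕ) :
    (twGL σ g k).val = twProd σ g.val k := by
  induction k with
  | zero => rfl
  | succ k ih =>
    rw [twGL, Units.val_mul, glMap_val, ih]
    rfl

lemma conj_field_pow (σ : RingAut F) (g : GL (Fin n) F) (k : ℕ) :
    (conjGLn g * fieldAutN σ : MulAut G) ^ k = conjGLn (twGL σ g k) * fieldAutN (σ ^ k) := by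
  induction k with
  | zero =>
    rw [pow_zero, pow_zero, map_one, twGL, map_one, mul_one]
  | succ k ih =>
    rw [pow_succ', ih, mul_assoc (conjGLn g), ← mul_assoc (fieldAutN σ), fieldAutN_mul_conjGLn,
      mul_assoc, ← map_mul, ← pow_succ', ← mul_assoc, ← map_mul]
    rfl

theorem h90_proj [Finite F] (σ : RingAut F) {r : ℕ} (hr : orderOf σ = r) (hr0 : 0 < r)
    (g : GL (Fin n) F) {l : F} (hl : l ≠ 0) (hg : twProd σ g.val r = l • 1) :
    ∃ (c : F) (h : GL (Fin n) F), c ≠ 0 ∧ (c • g.val) * h.val.map σ = h.val := by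
  rcases Nat.eq_zero_or_pos n with rfl | hn
  · exact ⟨1, 1, one_ne_zero, Subsingleton.elim _ _⟩
  have hσ : σ ^ r = 1 := by rw [← hr]; exact pow_orderOf_eq_one σ
  have h1 : twProd σ g.val (r + 1) = σ l • g.val := by
    rw [twProd_succ, hg]
    have : (l • (1 : Matrix (Fin n) (Fin n) F)).map σ = σ l • 1 := by
      ext i j
      rw [Matrix.map_apply, Matrix.smul_apply, Matrix.smul_apply, Matrix.one_apply]
      split_ifs <;> simp
    rw [this, Matrix.mul_smul, mul_one]
  have h2 : twProd σ g.val (r + 1) = l • g.val := by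
    rw [twProd_succ', hg, hσ, Matrix.smul_mul, one_mul]
    congr 1
  have hfix : σ l = l := by
    obtain ⟨k, hk⟩ := gl_col_ne_zero g ⟨0, hn⟩
    have := congrFun (congrFun (h1.symm.trans h2) k) ⟨0, hn⟩
    rw [Matrix.smul_apply, Matrix.smul_apply, smul_eq_mul, smul_eq_mul] at this
    exact mul_right_cancel₀ hk this
  have hfix' : σ l⁻¹ = l⁻¹ := by rw [map_inv₀, hfix]
  obtain ⟨c, hc0, hc⟩ := nrmF_surjective σ hr hr0 l⁻¹ (inv_ne_zero hl) hfix'
  have hg' : twProd σ (c • g.val) r = 1 := by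
    rw [twProd_smul, hc, hg, smul_smul, inv_mul_cancel₀ hl, one_smul]
  obtain ⟨Y, hY, hYeq⟩ := h90_matrix σ hr hr0 _ hg'
  exact ⟨c, hY.unit, hc0, hYeq⟩

end lang

section fieldcase
variable {n : ℕ} {F : Type*} [Field F] [Fintype F] (p : ℕ) [Fact p.Prime] [CharP F p]

local notation "G" => ProjectiveSpecialLinearGroup (Fin n) F

include p in
lemma conjGLn_scalar (hn : 1 ≤ n) (u : Fˣ) :
    (conjGLn (GeneralLinearGroup.scalar (Fin n) u) : MulAut G) = 1 := by
  have : GeneralLinearGroup.scalar (Fin n) u ∈ (conjGLn (n := n) (F := F)).ker := by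
    rw [conjGLn_ker p hn, GeneralLinearGroup.center_eq_range_scalar]
    exact ⟨u, rfl⟩
  exact this

include p in
/-- if `g σ(h) = c h` in `GL_n` then `c_g c_{σ h} = c_h`. -/
lemma conjGLn_eq_of_smul (hn : 1 ≤ n) {g h h' : GL (Fin n) F} {c : F} (hc : c ≠ 0)
    (he : g.val * h'.val = c • h.val) : (conjGLn g * conjGLn h' : MulAut G) = conjGLn h := by
  rw [← map_mul]
  have : g * h' = GeneralLinearGroup.scalar (Fin n) (Units.mk0 c hc) * h := by
    apply Units.ext
    rw [Units.val_mul, Units.val_mul, he, GeneralLinearGroup.coe_scalar]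
    simp [Matrix.scalar_apply, Matrix.smul_eq_diagonal_mul]
  rw [this, map_mul, conjGLn_scalar p hn, one_mul]

include p in
theorem field_coset_conj (hn : 2 ≤ n) (σ : RingAut F) {r : ℕ} (hr0 : 0 < r)
    (hx : orderOf (fieldAutN σ : MulAut G) = r) (g : GL (Fin n) F)
    (hgx : orderOf (conjGLn g * fieldAutN σ : MulAut G) = r) :
    ∃ h : GL (Fin n) F,
      (conjGLn g * fieldAutN σ : MulAut G) = conjGLn h * fieldAutN σ * (conjGLn h)⁻¹ := by
  have hn1 : 1 ≤ n := by omega
  have hab : (⟨0, by omega⟩ : Fin n) ≠ ⟨1, by omega⟩ := by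
    intro h
    exact absurd (congrArg Fin.val h) (by norm_num)
  have hσr : orderOf σ = r := by
    rw [← hx]
    exact (orderOf_injective fieldAutN (fieldAutN_injective p hab) σ).symm
  have hσ : σ ^ r = 1 := by rw [← hσr]; exact pow_orderOf_eq_one σ
  have hpow : (conjGLn g * fieldAutN σ : MulAut G) ^ r = 1 := by
    rw [← hgx]; exact pow_orderOf_eq_one _
  rw [conj_field_pow, hσ, map_one, mul_one] at hpow
  have hmem : twGL σ g r ∈ (conjGLn (n := n) (F := F)).ker := hpow
  rw [conjGLn_ker p hn1, GeneralLinearGroup.center_eq_range_scalar] at hmem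
  obtain ⟨u, hu⟩ := hmem
  have hg : twProd σ g.val r = (u : F) • 1 := by
    rw [← twGL_val, ← hu, GeneralLinearGroup.coe_scalar]
    simp [Matrix.scalar_apply, Matrix.smul_one_eq_diagonal]
  obtain ⟨c, h, hc0, hh⟩ := h90_proj σ hσr hr0 g u.ne_zero hg
  have key : (conjGLn g * conjGLn (glMap σ h) : MulAut G) = conjGLn h := by
    apply conjGLn_eq_of_smul p hn1 (inv_ne_zero hc0)
    have e0 : c⁻¹ • (c • g.val * h.val.map σ) = g.val * h.val.map σ := by
      rw [Matrix.smul_mul, smul_smul, inv_mul_cancel₀ hc0, one_smul]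
    rw [glMap_val, ← e0, hh]
  refine ⟨h, ?_⟩
  have e1 : (fieldAutN σ * (conjGLn h)⁻¹ : MulAut G)
      = (conjGLn (glMap σ h))⁻¹ * fieldAutN σ := by
    rw [← map_inv, fieldAutN_mul_conjGLn, map_inv, map_inv]
  rw [mul_assoc, e1, ← mul_assoc]
  congr 1
  rw [eq_mul_inv_iff_mul_eq]
  exact key

end fieldcase

end Cfsg.Agent.Lib.Helper07
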