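import Mathlib
import Cfsg.Agent.Lib.Helper07.PSLnK

set_option autoImplicit false
set_option linter.unusedSectionVars false

/-! Graph-field automorphisms of `PSL_n(q)` of prime order: cosets of `Inndiag`. -/

namespace Cfsg.Agent.Lib.Helper07

open Matrix

lemma exists_third {n : ℕ} (hn : 3 ≤ n) (i k : Fin n) : ∃ j, j ≠ i ∧ j ≠ k := by
  by_contra h
  push Not at h
  have h0 := h ⟨0, by omega⟩
  have h1 := h ⟨1, by omega⟩
  have h2 := h ⟨2, by omega⟩
  by_cases c0 : (⟨0, by omega⟩ : Fin n) = i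
  · by_cases c1 : (⟨1, by omega⟩ : Fin n) = i
    · rw [← c0, Fin.ext_iff] at c1; simp at c1
    · have e1 := h1 c1
      by_cases c2 : (⟨2, by omega⟩ : Fin n) = i
      · rw [← c0, Fin.ext_iff] at c2; simp at c2
      · have e2 := h2 c2
        rw [← e1, Fin.ext_iff] at e2; simp at e2
  · have e0 := h0 c0
    by_cases c1 : (⟨1, by omega⟩ : Fin n) = i
    · by_cases c2 : (⟨2, by omega⟩ : Fin n) = i
      · rw [← c1, Fin.ext_iff] at c2; simp at c2
      · have e2 := h2 c2
        rw [← e0, Fin.ext_iff] at e2; simp at e2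
    · have e1 := h1 c1
      rw [← e0, Fin.ext_iff] at e1; simp at e1

section gf
variable {n : ℕ} {F : Type*} [Field F]

local notation "G" => ProjectiveSpecialLinearGroup (Fin n) F

/-- the standard graph-field automorphism. -/
noncomputable def gfAut (σ : RingAut F) : MulAut G := fieldAutN σ * invT

lemma gfAut_mul_conjGLn (σ : RingAut F) (h : GL (Fin n) F) :
    (gfAut σ : MulAut G) * conjGLn h = conjGLn (glMap σ (glInvT h)) * gfAut σ := by
  unfold gfAut
  rw [mul_assoc, invT_mul_conjGLn, ← mul_assoc, fieldAutN_mul_conjGLn, mul_assoc]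

lemma gfAut_mul_conjGLn_inv (σ : RingAut F) (h : GL (Fin n) F) :
    (gfAut σ : MulAut G) * (conjGLn h)⁻¹ = (conjGLn (glMap σ (glInvT h)))⁻¹ * gfAut σ := by
  have e := gfAut_mul_conjGLn (n := n) σ h
  rw [eq_inv_mul_iff_mul_eq, ← mul_assoc, ← e, mul_assoc, mul_inv_cancel, mul_one]

lemma gfAut_pow (σ : RingAut F) (k : ℕ) :
    (gfAut σ : MulAut G) ^ k = fieldAutN (σ ^ k) * invT ^ k := by
  unfold gfAut
  have hc : Commute (fieldAutN σ : MulAut G) invT := (invT_mul_fieldAutN σ).symm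
  rw [hc.mul_pow, map_pow]

lemma invT_pow_two : (invT : MulAut G) ^ 2 = 1 := by
  rw [pow_two]
  exact invT_mul_invT

lemma invT_pow_odd {k : ℕ} (hk : Odd k) : (invT : MulAut G) ^ k = invT := by
  obtain ⟨m, rfl⟩ := hk
  rw [pow_succ, pow_mul, invT_pow_two, one_pow, one_mul]

end gf

section gfcase
variable {n : ℕ} {F : Type*} [Field F] [Fintype F] (p : ℕ) [Fact p.Prime] [CharP F p]

local notation "G" => ProjectiveSpecialLinearGroup (Fin n) F

include p in
/-- a standard graph-field automorphism of prime order is an involution with `σ² = 1`. -/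
lemma gfAut_prime_order (hn : 3 ≤ n) (σ : RingAut F) {r : ℕ} (hr : r.Prime)
    (hx : orderOf (gfAut σ : MulAut G) = r) : r = 2 ∧ ∀ a, σ (σ a) = a := by
  have hab : (⟨0, by omega⟩ : Fin n) ≠ ⟨1, by omega⟩ := by
    intro h
    exact absurd (congrArg Fin.val h) (by norm_num)
  have h3 : ∀ i k : Fin n, ∃ j, j ≠ i ∧ j ≠ k := exists_third hn
  have hpow : (gfAut σ : MulAut G) ^ r = 1 := by rw [← hx]; exact pow_orderOf_eq_one _
  rw [gfAut_pow] at hpow
  rcases hr.eq_two_or_odd' with rfl | hodd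
  · refine ⟨rfl, fun a => ?_⟩
    rw [invT_pow_two, mul_one] at hpow
    have := fieldAutN_injective p hab (hpow.trans (map_one _).symm)
    have h2 := DFunLike.congr_fun this a
    rw [pow_two] at h2
    exact h2
  · exfalso
    rw [invT_pow_odd hodd] at hpow
    apply fieldAutN_mul_invT_not_mem p h3 ⟨0, by omega⟩ (σ ^ r)
    rw [hpow]
    exact Subgroup.one_mem _

lemma map_one_mat {m : ℕ} (σ : RingAut F) : (1 : Matrix (Fin m) (Fin m) F).map σ = 1 := by
  ext i j
  rw [Matrix.map_apply, Matrix.one_apply]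
  split_ifs <;> simp

include p in
theorem gf_coset_conj (hn : 3 ≤ n) (σ : RingAut F) (hσ1 : σ ≠ 1) (hσ : ∀ a, σ (σ a) = a)
    (g : GL (Fin n) F) (hgx : orderOf (conjGLn g * gfAut σ : MulAut G) = 2) :
    ∃ h : GL (Fin n) F,
      (conjGLn g * gfAut σ : MulAut G) = conjGLn h * gfAut σ * (conjGLn h)⁻¹ := by
  have hn1 : 1 ≤ n := by omega
  have hσ2 : σ ^ 2 = 1 := by
    ext a
    rw [pow_two]
    exact hσ a
  have hx2 : (gfAut σ : MulAut G) * gfAut σ = 1 := by
    rw [← pow_two, gfAut_pow, invT_pow_two, mul_one, hσ2, map_one]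
  have hpow : (conjGLn g * gfAut σ : MulAut G) * (conjGLn g * gfAut σ) = 1 := by
    rw [← pow_two, ← hgx]
    exact pow_orderOf_eq_one _
  rw [mul_assoc, ← mul_assoc (gfAut σ), gfAut_mul_conjGLn, mul_assoc, hx2, mul_one,
    ← map_mul] at hpow
  have hmem : g * glMap σ (glInvT g) ∈ (conjGLn (n := n) (F := F)).ker := hpow
  rw [conjGLn_ker p hn1, GeneralLinearGroup.center_eq_range_scalar] at hmem
  obtain ⟨u, hu⟩ := hmem
  set A : Matrix (Fin n) (Fin n) F := g.val with hA
  have h1 : A * ((g⁻¹.val)ᵀ).map σ = (u : F) • 1 := by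
    have := congrArg Units.val hu
    rw [Units.val_mul, glMap_val, glInvT_val, GeneralLinearGroup.coe_scalar] at this
    rw [← this]
    simp [Matrix.scalar_apply, Matrix.smul_one_eq_diagonal]
  have h2 : ((g⁻¹.val)ᵀ).map σ * (Aᵀ).map σ = 1 := by
    rw [← map_mul_ringAut, ← transpose_mul, Units.mul_inv, transpose_one]
    exact map_one_mat σ
  have h3 : A = (u : F) • (Aᵀ).map σ := by
    calc A = A * (((g⁻¹.val)ᵀ).map σ * (Aᵀ).map σ) := by rw [h2, mul_one]
      _ = (A * ((g⁻¹.val)ᵀ).map σ) * (Aᵀ).map σ := by rw [mul_assoc]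
      _ = _ := by rw [h1, Matrix.smul_mul, one_mul]
  have h3' : ∀ i j, A i j = u * σ (A j i) := by
    intro i j
    have := congrFun (congrFun h3 i) j
    rwa [Matrix.smul_apply, Matrix.map_apply, Matrix.transpose_apply, smul_eq_mul] at this
  have h4' : ∀ i j, σ (A j i) = σ u * A i j := by
    intro i j
    rw [h3' j i, map_mul, hσ]
  have huu : (u : F) * σ u = 1 := by
    obtain ⟨k, hk⟩ := gl_col_ne_zero g ⟨0, hn1⟩
    have e1 : A k ⟨0, hn1⟩ = (u * σ u) * A k ⟨0, hn1⟩ := by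
      have := h3' k ⟨0, hn1⟩
      rw [h4' k ⟨0, hn1⟩] at this
      rw [mul_assoc]
      exact this
    have e2 : (1 : F) * A k ⟨0, hn1⟩ = (u * σ u) * A k ⟨0, hn1⟩ := by rw [one_mul]; exact e1
    exact (mul_right_cancel₀ hk e2).symm
  have hord : orderOf σ = 2 := by
    have : Fact (Nat.Prime 2) := ⟨Nat.prime_two⟩
    exact orderOf_eq_prime hσ2 hσ1
  obtain ⟨y, hy0, hy⟩ := h90_scalar σ hord two_pos (u : F) (by rw [nrmF_two]; exact huu)
  have hσy : σ y = σ u * y := by
    have := congrArg σ hy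
    rw [map_mul, hσ] at this
    exact this.symm
  set H : Matrix (Fin n) (Fin n) F := y⁻¹ • A with hHdef
  have hHu : IsUnit H := by
    rw [Matrix.isUnit_iff_isUnit_det, hHdef, Matrix.det_smul]
    have hdet : IsUnit A.det := (Matrix.isUnit_iff_isUnit_det A).mp ⟨g, rfl⟩
    exact (IsUnit.pow _ (inv_ne_zero hy0).isUnit).mul hdet
  have hH : H.map σ = Hᵀ := by
    ext i j
    rw [Matrix.map_apply, Matrix.transpose_apply, hHdef, Matrix.smul_apply, Matrix.smul_apply,
      smul_eq_mul, smul_eq_mul, map_mul, map_inv₀, h4' j i, hσy]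
    have hσu : σ (u : F) ≠ 0 := (map_ne_zero_iff _ σ.injective).mpr u.ne_zero
    field_simp
  obtain ⟨P, hPu, hP⟩ := herm_classify σ hσ hσ1 H hHu hH
  set h : GL (Fin n) F := hPu.unit with hh
  have hval : h.val = P := rfl
  have key : (conjGLn g * conjGLn (glMap σ (glInvT h)) : MulAut G) = conjGLn h := by
    apply conjGLn_eq_of_smul p hn1 hy0
    rw [glMap_val, glInvT_val, hval]
    have hA' : A = y • (P * (P.map σ)ᵀ) := by
      rw [← hP, hHdef, smul_smul, mul_inv_cancel₀ hy0, one_smul]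
    have e1 : (P.map σ)ᵀ * ((h⁻¹.val)ᵀ).map σ = 1 := by
      rw [transpose_map, ← transpose_mul, ← map_mul_ringAut, ← hval, Units.inv_mul,
        map_one_mat σ, transpose_one]
    show A * ((h⁻¹.val)ᵀ).map σ = y • P
    rw [hA', Matrix.smul_mul, mul_assoc, e1, mul_one]
  refine ⟨h, ?_⟩
  rw [mul_assoc, gfAut_mul_conjGLn_inv, ← mul_assoc]
  congr 1
  rw [eq_mul_inv_iff_mul_eq]
  exact key

end gfcase

section assembly
variable {F : Type*} [Field F] [Fintype F] {p f : ℕ} [Fact p.Prime]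

lemma orderOf_conj_eq {X : Type*} [Group X] (a x : X) : orderOf (a * x * a⁻¹) = orderOf x := by
  have h : SemiconjBy a x (a * x * a⁻¹) := by
    unfold SemiconjBy
    group
  exact (SemiconjBy.orderOf_eq a h).symm

/-- statement S2697. -/
theorem psl_coset_conj (hF : Fintype.card F = p ^ f) (hf : 1 ≤ f) {n : ℕ} (hn : 2 ≤ n)
    (x δ : MulAut (ProjectiveSpecialLinearGroup (Fin n) F))
    (hx : Cfsg.IsFieldAutClassPSL x ∨ Cfsg.IsGraphFieldAutClassPSL x) {r : ℕ} (hr : r.Prime)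
    (hxr : orderOf x = r) (hδ : δ ∈ Cfsg.inndiagPSL n F) :
    orderOf (δ * x) = r ↔ Cfsg.IsConjUnder (Cfsg.inndiagPSL n F) x (δ * x) := by
  have : CharP F p := charP_of_card_eq_prime_pow hF
  rw [inndiagPSL_eq_range] at hδ ⊢
  have hDn : (conjGLn (n := n) (F := F)).range.Normal := conjGLn_range_normal' hF hf hn
  constructor
  · intro hord
    obtain ⟨α, x₀, hx₀, hcore⟩ : ∃ (α x₀ : MulAut (ProjectiveSpecialLinearGroup (Fin n) F)),
        α * x * α⁻¹ = x₀ ∧ ∀ g : GL (Fin n) F, orderOf (conjGLn g * x₀) = r →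
          ∃ h : GL (Fin n) F, conjGLn g * x₀ = conjGLn h * x₀ * (conjGLn h)⁻¹ := by
      rcases hx with ⟨α, σ, hσ, hstd⟩ | ⟨hn3, α, φ, γ, σ, hσ, hφ, hγ, heq⟩
      · have e := eq_fieldAutN_of_isStdFieldAut hstd
        refine ⟨α, fieldAutN σ, e, fun g hg => field_coset_conj p hn σ hr.pos ?_ g hg⟩
        rw [← e, orderOf_conj_eq, hxr]
      · have e1 := eq_fieldAutN_of_isStdFieldAut hφ
        have e2 := eq_invT_of_isInverseTranspose hγ
        have e : α * x * α⁻¹ = gfAut σ := by rw [heq, e1, e2]; rfl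
        have hox : orderOf (gfAut σ : MulAut (ProjectiveSpecialLinearGroup (Fin n) F)) = r := by
          rw [← e, orderOf_conj_eq, hxr]
        obtain ⟨hr2, hσσ⟩ := gfAut_prime_order p hn3 σ hr hox
        have hσ1 : σ ≠ 1 := hσ
        refine ⟨α, gfAut σ, e, fun g hg => gf_coset_conj p hn3 σ hσ1 hσσ g ?_⟩
        rw [hg, hr2]
    obtain ⟨g, hg⟩ : α * δ * α⁻¹ ∈ (conjGLn (n := n) (F := F)).range := hDn.conj_mem δ hδ α
    have hord' : orderOf (conjGLn g * x₀) = r := by
      have : conjGLn g * x₀ = α * (δ * x) * α⁻¹ := by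
        rw [hg, ← hx₀]
        group
      rw [this, orderOf_conj_eq, hord]
    obtain ⟨h, hh⟩ := hcore g hord'
    refine ⟨α⁻¹ * conjGLn h * α, ?_, ?_⟩
    · have := hDn.conj_mem (conjGLn h) ⟨h, rfl⟩ α⁻¹
      rwa [inv_inv] at this
    · calc δ * x = α⁻¹ * ((α * δ * α⁻¹) * (α * x * α⁻¹)) * α := by group
        _ = α⁻¹ * (conjGLn h * (α * x * α⁻¹) * (conjGLn h)⁻¹) * α := by
            rw [← hg, hx₀, hh]
        _ = (α⁻¹ * conjGLn h * α) * x * (α⁻¹ * conjGLn h * α)⁻¹ := by group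
  · rintro ⟨h, -, hh⟩
    rw [hh, orderOf_conj_eq, hxr]

end assembly

end Cfsg.Agent.Lib.Helper07
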