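import Mathlib
import Cfsg.Prelude.Def_LieTypeDatum

set_option autoImplicit false
set_option linter.unusedSectionVars false

/-! The number of `K`-classes in an `H`-class (`Cfsg.splitClassCount`) as a relative index,
and index computations in finite cyclic groups. -/

namespace Cfsg.Agent.Lib.Helper07

section split
variable {X : Type*} [Group X]

/-- `#K`-classes in `x^H` equals `|H : K C_H(x)|` when `K ≤ H` and `K` is normal. -/
theorem splitClassCount_eq_relIndex (H K : Subgroup X) [hKn : K.Normal] (hKH : K ≤ H) (x : X) :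
    Cfsg.splitClassCount H K x = (K ⊔ (H ⊓ Subgroup.centralizer {x})).relIndex H := by
  classical
  set C : Subgroup X := H ⊓ Subgroup.centralizer {x} with hC
  set M : Subgroup X := K ⊔ C with hM
  have hMH : M ≤ H := sup_le hKH inf_le_left
  let T := {y : X // Cfsg.IsConjUnder H x y}
  let R : T → T → Prop := fun y z => Cfsg.IsConjUnder K y.1 z.1
  have hRe : Equivalence R := by
    refine ⟨fun y => ⟨1, K.one_mem, by simp⟩, ?_, ?_⟩
    · rintro y z ⟨k, hk, hz⟩
      refine ⟨k⁻¹, K.inv_mem hk, ?_⟩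
      rw [hz]
      group
    · rintro y z w ⟨k, hk, hz⟩ ⟨k', hk', hw⟩
      refine ⟨k' * k, K.mul_mem hk' hk, ?_⟩
      rw [hw, hz]
      group
  let Ψ : H → Quot R := fun h => Quot.mk R ⟨h.1 * x * h.1⁻¹, ⟨h.1, h.2, rfl⟩⟩
  have hΨs : Function.Surjective Ψ := by
    intro q
    induction q using Quot.ind with
    | mk y =>
      obtain ⟨y, h, hh, rfl⟩ := y
      exact ⟨⟨h, hh⟩, rfl⟩
  have hmemM : ∀ m : X, m ∈ M ↔ ∃ k ∈ K, ∃ c ∈ C, k * c = m := by
    intro m
    rw [hM, ← SetLike.mem_coe, Subgroup.normal_mul, Set.mem_mul]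
    constructor
    · rintro ⟨k, hk, c, hc, rfl⟩
      exact ⟨k, hk, c, hc, rfl⟩
    · rintro ⟨k, hk, c, hc, rfl⟩
      exact ⟨k, hk, c, hc, rfl⟩
  have hΨeq : ∀ h h' : H, Ψ h = Ψ h' ↔ h.1⁻¹ * h'.1 ∈ M := by
    intro h h'
    show Quot.mk R _ = Quot.mk R _ ↔ _
    rw [Quot.eq, hRe.eqvGen_iff]
    constructor
    · rintro ⟨k, hk, hz⟩
      have hz' : h'.1 * x * h'.1⁻¹ = k * (h.1 * x * h.1⁻¹) * k⁻¹ := hz
      rw [hmemM]
      refine ⟨h.1⁻¹ * k * h.1, ?_, h.1⁻¹ * k⁻¹ * h'.1, ⟨?_, ?_⟩, by group⟩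
      · have := hKn.conj_mem k hk h.1⁻¹
        rwa [inv_inv] at this
      · exact H.mul_mem (H.mul_mem (H.inv_mem h.2) (hKH (K.inv_mem hk))) h'.2
      · show _ ∈ Subgroup.centralizer {x}
        rw [Subgroup.mem_centralizer_iff]
        intro y hy
        rw [Set.mem_singleton_iff] at hy
        subst hy
        have e1 : h.1⁻¹ * k⁻¹ * h'.1 * y = h.1⁻¹ * k⁻¹ * (h'.1 * y * h'.1⁻¹) * h'.1 := by group
        rw [e1, hz']
        group
    · intro hm
      rw [hmemM] at hm
      obtain ⟨k, hk, c, ⟨-, hcc⟩, hkc⟩ := hm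
      have hcx : c * x = x * c := by
        have hcc' : c ∈ Subgroup.centralizer {x} := hcc
        rw [Subgroup.mem_centralizer_iff] at hcc'
        exact (hcc' x rfl).symm
      refine ⟨h.1 * k * h.1⁻¹, hKn.conj_mem k hk h.1, ?_⟩
      show h'.1 * x * h'.1⁻¹ = h.1 * k * h.1⁻¹ * (h.1 * x * h.1⁻¹) * (h.1 * k * h.1⁻¹)⁻¹
      have e1 : h'.1 = h.1 * k * c := by rw [mul_assoc, hkc]; group
      have e2 : c * x * c⁻¹ = x := by rw [hcx]; group
      calc h'.1 * x * h'.1⁻¹ = h.1 * k * (c * x * c⁻¹) * k⁻¹ * h.1⁻¹ := by rw [e1]; group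
        _ = _ := by rw [e2]; group
  let f : H ⧸ M.subgroupOf H → Quot R :=
    Quotient.lift Ψ (fun a b hab => by
      rw [hΨeq]
      have : a⁻¹ * b ∈ M.subgroupOf H := QuotientGroup.leftRel_apply.mp hab
      exact this)
  have hf : Function.Bijective f := by
    constructor
    · intro a b
      induction a using Quotient.inductionOn with
      | h a =>
        induction b using Quotient.inductionOn with
        | h b =>
          intro hab
          have h1 : Ψ a = Ψ b := hab
          rw [hΨeq] at h1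
          exact Quotient.sound (QuotientGroup.leftRel_apply.mpr h1)
    · intro q
      obtain ⟨h, rfl⟩ := hΨs q
      exact ⟨Quotient.mk _ h, rfl⟩
  unfold Cfsg.splitClassCount
  show Nat.card (Quot R) = _
  rw [← Nat.card_congr (Equiv.ofBijective f hf)]
  rfl

lemma map_conj_of_normal (N : Subgroup X) [hN : N.Normal] (α : X) :
    N.map (MulAut.conj α).toMonoidHom = N := by
  ext y
  rw [Subgroup.mem_map]
  constructor
  · rintro ⟨k, hk, rfl⟩
    exact hN.conj_mem k hk α
  · intro hy
    refine ⟨α⁻¹ * y * α, ?_, ?_⟩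
    · have := hN.conj_mem y hy α⁻¹
      rwa [inv_inv] at this
    · show α * (α⁻¹ * y * α) * α⁻¹ = y
      group

lemma map_conj_centralizer (α x : X) :
    (Subgroup.centralizer {x}).map (MulAut.conj α).toMonoidHom
      = Subgroup.centralizer {α * x * α⁻¹} := by
  ext y
  rw [Subgroup.mem_map]
  constructor
  · rintro ⟨c, hc, rfl⟩
    rw [Subgroup.mem_centralizer_iff] at hc ⊢
    intro z hz
    rw [Set.mem_singleton_iff] at hz
    subst hz
    have := hc x rfl
    show α * x * α⁻¹ * (α * c * α⁻¹) = α * c * α⁻¹ * (α * x * α⁻¹)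
    calc α * x * α⁻¹ * (α * c * α⁻¹) = α * (x * c) * α⁻¹ := by group
      _ = α * (c * x) * α⁻¹ := by rw [this]
      _ = _ := by group
  · intro hy
    rw [Subgroup.mem_centralizer_iff] at hy
    have := hy (α * x * α⁻¹) rfl
    refine ⟨α⁻¹ * y * α, ?_, ?_⟩
    · rw [Subgroup.mem_centralizer_iff]
      intro z hz
      rw [Set.mem_singleton_iff] at hz
      subst hz
      calc z * (α⁻¹ * y * α) = α⁻¹ * (α * z * α⁻¹ * y) * α := by group
        _ = α⁻¹ * (y * (α * z * α⁻¹)) * α := by rw [this]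
        _ = _ := by group
    · show α * (α⁻¹ * y * α) * α⁻¹ = y
      group

/-- conjugation invariance of the class-splitting index. -/
lemma relIndex_conj_invariant (H K : Subgroup X) [H.Normal] [K.Normal] (α x : X) :
    (K ⊔ (H ⊓ Subgroup.centralizer {α * x * α⁻¹})).relIndex H
      = (K ⊔ (H ⊓ Subgroup.centralizer {x})).relIndex H := by
  have hθ : Function.Injective (MulAut.conj α).toMonoidHom := (MulAut.conj α).injective
  have h1 : (K ⊔ (H ⊓ Subgroup.centralizer {x})).map (MulAut.conj α).toMonoidHom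
      = K ⊔ (H ⊓ Subgroup.centralizer {α * x * α⁻¹}) := by
    rw [Subgroup.map_sup, Subgroup.map_inf _ _ _ hθ, map_conj_of_normal, map_conj_of_normal,
      map_conj_centralizer]
  have h2 := Subgroup.relIndex_map_map_of_injective (K ⊔ (H ⊓ Subgroup.centralizer {x})) H hθ
  rw [h1, map_conj_of_normal] at h2
  exact h2

theorem splitClassCount_conj (H K : Subgroup X) [H.Normal] [K.Normal] (hKH : K ≤ H) (α x : X) :
    Cfsg.splitClassCount H K (α * x * α⁻¹) = Cfsg.splitClassCount H K x := by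
  rw [splitClassCount_eq_relIndex H K hKH, splitClassCount_eq_relIndex H K hKH,
    relIndex_conj_invariant]

/-- conjugation identifies the centralizers in a normal subgroup. -/
noncomputable def centInfEquiv (D : Subgroup X) [D.Normal] (α x : X) :
    ↥(D ⊓ Subgroup.centralizer {x}) ≃* ↥(D ⊓ Subgroup.centralizer {α * x * α⁻¹}) :=
  (Subgroup.equivMapOfInjective _ (MulAut.conj α).toMonoidHom (MulAut.conj α).injective).trans
    (MulEquiv.subgroupCongr (by
      rw [Subgroup.map_inf _ _ _ (MulAut.conj α).injective, map_conj_of_normal,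
        map_conj_centralizer]))

end split

section cyclic
variable {Z : Type*} [CommGroup Z] [IsCyclic Z] [Finite Z]

lemma eq_range_pow_index (B : Subgroup Z) : B = (powMonoidHom B.index : Z →* Z).range := by
  symm
  apply Subgroup.eq_of_le_of_card_ge
  · rintro _ ⟨x, rfl⟩
    exact Subgroup.pow_index_mem B x
  · rw [IsCyclic.card_powMonoidHom_range]
    have h1 : B.index ∣ Nat.card Z := Subgroup.index_dvd_card B
    rw [Nat.gcd_eq_right h1]
    have h2 := Subgroup.card_mul_index B
    have h3 : 0 < B.index := Nat.pos_of_ne_zero Subgroup.index_ne_zero_of_finite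
    rw [← h2, Nat.mul_div_cancel _ h3]

omit [IsCyclic Z] [Finite Z] in
lemma range_pow_sup (a b : ℕ) :
    (powMonoidHom a : Z →* Z).range ⊔ (powMonoidHom b : Z →* Z).range
      = (powMonoidHom (Nat.gcd a b) : Z →* Z).range := by
  apply le_antisymm
  · rw [sup_le_iff]
    constructor
    · rintro _ ⟨x, rfl⟩
      obtain ⟨c, hc⟩ := Nat.gcd_dvd_left a b
      refine ⟨x ^ c, ?_⟩
      show (x ^ c) ^ (Nat.gcd a b) = x ^ a
      rw [← pow_mul, mul_comm, ← hc]
    · rintro _ ⟨x, rfl⟩
      obtain ⟨c, hc⟩ := Nat.gcd_dvd_right a b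
      refine ⟨x ^ c, ?_⟩
      show (x ^ c) ^ (Nat.gcd a b) = x ^ b
      rw [← pow_mul, mul_comm, ← hc]
  · rintro _ ⟨x, rfl⟩
    show x ^ (Nat.gcd a b) ∈ _
    have hb := Nat.gcd_eq_gcd_ab a b
    have e : x ^ (Nat.gcd a b) = (x ^ a) ^ (Nat.gcdA a b) * (x ^ b) ^ (Nat.gcdB a b) := by
      rw [← zpow_natCast x (Nat.gcd a b), hb, zpow_add, zpow_mul, zpow_mul, zpow_natCast,
        zpow_natCast]
    rw [e]
    have ha : x ^ a ∈ (powMonoidHom a : Z →* Z).range := ⟨x, rfl⟩
    have hb' : x ^ b ∈ (powMonoidHom b : Z →* Z).range := ⟨x, rfl⟩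
    exact Subgroup.mul_mem _
      (Subgroup.mem_sup_left (Subgroup.zpow_mem _ ha _))
      (Subgroup.mem_sup_right (Subgroup.zpow_mem _ hb' _))

/-- in a finite cyclic group, `|Z : Z^n B| = gcd(n, |Z : B|)`. -/
theorem index_range_pow_sup (n : ℕ) (B : Subgroup Z) :
    ((powMonoidHom n : Z →* Z).range ⊔ B).index = Nat.gcd n B.index := by
  have hB := eq_range_pow_index B
  have h1 : (powMonoidHom n : Z →* Z).range ⊔ B
      = (powMonoidHom (Nat.gcd n B.index) : Z →* Z).range := by
    conv_lhs => rw [hB]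
    exact range_pow_sup n B.index
  rw [h1, IsCyclic.index_powMonoidHom_range]
  apply Nat.gcd_eq_right
  exact (Nat.gcd_dvd_right n B.index).trans (Subgroup.index_dvd_card B)

end cyclic

end Cfsg.Agent.Lib.Helper07
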