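import Mathlib
import Cfsg.Agent.Lib.Helper07.PSLnL
import Cfsg.Agent.Lib.Helper07.SplitClass

set_option autoImplicit false
set_option linter.unusedSectionVars false

/-! Field automorphisms of `PSL_n(q)` of prime order: centralizer in `Inndiag` and the
splitting of the `Inndiag`-class into `PSL`-classes. -/

namespace Cfsg.Agent.Lib.Helper07

open Matrix

section fixedfield
variable {F : Type*} [Field F] [Fintype F]

/-- the fixed field of `σ`. -/
noncomputable def fixK (σ : RingAut F) : Subfield F := FixedPoints.subfield (Subgroup.zpowers σ) F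

lemma mem_fixK (σ : RingAut F) (a : F) : a ∈ fixK σ ↔ σ a = a := by
  constructor
  · intro h
    exact h ⟨σ, Subgroup.mem_zpowers σ⟩
  · intro h
    have hinv : σ⁻¹ a = a := by
      have h1 : σ⁻¹ (σ a) = a := σ.symm_apply_apply a
      rwa [h] at h1
    have key : ∀ k : ℤ, (σ ^ k) a = a := by
      intro k
      induction k using Int.induction_on with
      | zero => rfl
      | succ k ih =>
        rw [_root_.zpow_add, zpow_one]
        show (σ ^ (k : ℤ)) (σ a) = a
        rw [h, ih]
      | pred k ih =>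
        rw [_root_.zpow_sub, zpow_one]
        show (σ ^ (-(k : ℤ))) (σ⁻¹ a) = a
        rw [hinv, ih]
    rintro ⟨τ, hτ⟩
    obtain ⟨k, rfl⟩ := Subgroup.mem_zpowers_iff.mp hτ
    exact key k

noncomputable instance (σ : RingAut F) : Fintype (fixK σ) := Fintype.ofFinite _

/-- `|F| = |K|^r` for the fixed field `K` of `σ` of order `r`. -/
lemma card_fixK_pow (σ : RingAut F) {r : ℕ} (hr : orderOf σ = r) :
    Fintype.card F = Fintype.card (fixK σ) ^ r := by
  classical
  have : Finite (RingAut F) :=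
    Finite.of_injective (fun τ : RingAut F => (τ : F → F)) DFunLike.coe_injective
  let _ : Fintype (Subgroup.zpowers σ) := Fintype.ofFinite _
  have h1 := FixedPoints.finrank_eq_card (Subgroup.zpowers σ) F
  have h2 : Fintype.card (Subgroup.zpowers σ) = r := by
    rw [← Nat.card_eq_fintype_card, Nat.card_zpowers, hr]
  have h3 : Fintype.card F = Fintype.card (fixK σ) ^ Module.finrank (fixK σ) F :=
    Module.card_eq_pow_finrank
  rw [← h2, ← h1]
  exact h3

lemma card_fixK (p : ℕ) [Fact p.Prime] {f : ℕ} (hF : Fintype.card F = p ^ f) (σ : RingAut F)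
    {r : ℕ} (hr : orderOf σ = r) (hr0 : 0 < r) :
    r ∣ f ∧ Fintype.card (fixK σ) = p ^ (f / r) := by
  have : CharP F p := charP_of_card_eq_prime_pow hF
  have : CharP (fixK σ) p := RingHom.charP (fixK σ).subtype Subtype.val_injective p
  obtain ⟨k, -, hk⟩ := FiniteField.card (fixK σ) p
  have h1 := card_fixK_pow σ hr
  rw [hF, hk, ← pow_mul] at h1
  have h2 : f = k * r := Nat.pow_right_injective (Fact.out : p.Prime).two_le h1
  refine ⟨⟨k, by rw [h2, mul_comm]⟩, ?_⟩
  rw [hk, h2, Nat.mul_div_cancel _ hr0]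

end fixedfield

section embed
variable {F : Type*} [Field F] [Fintype F] {F₀ : Type*} [Field F₀] [Fintype F₀]

/-- a field of the right size embeds onto the fixed field of `σ`. -/
lemma exists_fixed_embedding (p : ℕ) [Fact p.Prime] {f : ℕ} (hF : Fintype.card F = p ^ f)
    (σ : RingAut F) {r : ℕ} (hr : orderOf σ = r) (hr0 : 0 < r)
    (hF₀ : Fintype.card F₀ = p ^ (f / r)) :
    ∃ ι : F₀ →+* F, (∀ a, σ (ι a) = ι a) ∧ ∀ b : F, σ b = b → ∃ a, ι a = b := by
  obtain ⟨-, hK⟩ := card_fixK p hF σ hr hr0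
  let e : F₀ ≃+* fixK σ := FiniteField.ringEquivOfCardEq (by rw [hF₀, hK])
  refine ⟨(fixK σ).subtype.comp (e : F₀ →+* fixK σ), fun a => ?_, fun b hb => ?_⟩
  · exact (mem_fixK σ _).mp (e a).2
  · refine ⟨e.symm ⟨b, (mem_fixK σ b).mpr hb⟩, ?_⟩
    show ((e (e.symm ⟨b, (mem_fixK σ b).mpr hb⟩) : fixK σ) : F) = b
    rw [RingEquiv.apply_symm_apply]

end embed

section cent
variable {n : ℕ} {F : Type*} [Field F] [Fintype F] (p : ℕ) [Fact p.Prime] [CharP F p]

local notation "G" => ProjectiveSpecialLinearGroup (Fin n) F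

include p in
/-- scalar multiples induce the same conjugation. -/
lemma conjGLn_eq_of_val_smul (hn : 1 ≤ n) {g h : GL (Fin n) F} {c : F} (hc : c ≠ 0)
    (he : h.val = c • g.val) : (conjGLn h : MulAut G) = conjGLn g := by
  have := conjGLn_eq_of_smul (n := n) (F := F) p hn (g := g) (h := h) (h' := 1) (inv_ne_zero hc)
    (by rw [he, smul_smul, inv_mul_cancel₀ hc, one_smul, Units.val_one, mul_one])
  rw [map_one, mul_one] at this
  exact this.symm

include p in
/-- `c_g` commutes with `φ_σ` iff `σ(g)` is a scalar multiple of `g`. -/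
lemma conjGLn_mem_centralizer_iff (hn : 1 ≤ n) (σ : RingAut F) (g : GL (Fin n) F) :
    (conjGLn g : MulAut G) ∈ Subgroup.centralizer {fieldAutN σ}
      ↔ ∃ l : Fˣ, g.val.map σ = (l : F) • g.val := by
  rw [Subgroup.mem_centralizer_iff]
  constructor
  · intro h
    have h1 := h (fieldAutN σ) rfl
    rw [fieldAutN_mul_conjGLn] at h1
    have h2 : (conjGLn (glMap σ g) : MulAut G) = conjGLn g := mul_right_cancel h1
    have h3 : g⁻¹ * glMap σ g ∈ (conjGLn (n := n) (F := F)).ker := by
      rw [MonoidHom.mem_ker, map_mul, h2, ← map_mul, inv_mul_cancel, map_one]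
    rw [conjGLn_ker p hn, GeneralLinearGroup.center_eq_range_scalar] at h3
    obtain ⟨u, hu⟩ := h3
    refine ⟨u, ?_⟩
    have h4 : glMap σ g = g * GeneralLinearGroup.scalar (Fin n) u := by
      rw [hu, ← mul_assoc, mul_inv_cancel, one_mul]
    have h5 := congrArg Units.val h4
    rw [glMap_val, Units.val_mul, GeneralLinearGroup.coe_scalar] at h5
    rw [h5]
    simp [Matrix.scalar_apply, Matrix.smul_eq_mul_diagonal]
  · rintro ⟨l, hl⟩ y hy
    rw [Set.mem_singleton_iff] at hy
    subst hy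
    rw [fieldAutN_mul_conjGLn]
    congr 1
    exact conjGLn_eq_of_val_smul p hn l.ne_zero (by rw [glMap_val, hl])

omit [Fintype F] in
lemma map_pow_of_map (σ : RingAut F) (A : Matrix (Fin n) (Fin n) F) {l : F}
    (hl : A.map σ = l • A) (k : ℕ) : A.map (σ ^ k) = nrmF σ k l • A := by
  induction k with
  | zero =>
    unfold nrmF
    rw [Finset.prod_range_zero, one_smul, pow_zero]
    ext i j
    rfl
  | succ k ih =>
    have h1 : A.map (σ ^ (k + 1)) = (A.map σ).map (σ ^ k) := by
      ext i j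
      simp only [Matrix.map_apply]
      rw [ringAut_pow_succ_apply']
    rw [h1, hl]
    have h2 : (l • A).map (σ ^ k) = (σ ^ k) l • A.map (σ ^ k) := by
      ext i j
      simp [Matrix.map_apply]
    rw [h2, ih, smul_smul, nrmF_succ', mul_comm]

/-- a matrix with `σ(g) = l g` has a `σ`-fixed scalar multiple. -/
lemma exists_fixed_rep (hn : 1 ≤ n) (σ : RingAut F) {r : ℕ} (hr : orderOf σ = r) (hr0 : 0 < r)
    (g : GL (Fin n) F) {l : F} (hl : g.val.map σ = l • g.val) :
    ∃ y : F, y ≠ 0 ∧ (y • g.val).map σ = y • g.val := by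
  have hσ : σ ^ r = 1 := by rw [← hr]; exact pow_orderOf_eq_one σ
  have h1 := map_pow_of_map σ g.val hl r
  rw [hσ] at h1
  have hN : nrmF σ r l = 1 := by
    obtain ⟨k, hk⟩ := gl_col_ne_zero g ⟨0, hn⟩
    have := congrFun (congrFun h1 k) ⟨0, hn⟩
    rw [Matrix.smul_apply, smul_eq_mul, Matrix.map_apply] at this
    have h2 : (1 : F) * g.val k ⟨0, hn⟩ = nrmF σ r l * g.val k ⟨0, hn⟩ := by
      rw [one_mul]
      exact this
    exact (mul_right_cancel₀ hk h2).symm
  obtain ⟨y, hy0, hy⟩ := h90_scalar σ hr hr0 l hN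
  refine ⟨y, hy0, ?_⟩
  have h3 : (y • g.val).map σ = σ y • g.val.map σ := by
    ext i j
    simp [Matrix.map_apply]
  rw [h3, hl, smul_smul, mul_comm, hy]

end cent

section iso
variable {n : ℕ} {F : Type*} [Field F] [Fintype F] (p : ℕ) [Fact p.Prime] [CharP F p]
variable {F₀ : Type*} [Field F₀]

local notation "G" => ProjectiveSpecialLinearGroup (Fin n) F

/-- conjugation by the matrices over a subfield. -/
noncomputable def subfieldConj (ι : F₀ →+* F) : GL (Fin n) F₀ →* MulAut G :=
  conjGLn.comp (GeneralLinearGroup.map ι)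

lemma glmap_injective (ι : F₀ →+* F) :
    Function.Injective (GeneralLinearGroup.map (n := Fin n) ι) := by
  intro a b hab
  apply GeneralLinearGroup.ext
  intro i j
  have := congrArg (fun g : GL (Fin n) F => g i j) hab
  simp only [GeneralLinearGroup.map_apply] at this
  exact ι.injective this

include p in
lemma subfieldConj_ker (hn : 1 ≤ n) (ι : F₀ →+* F) :
    (subfieldConj (n := n) ι).ker = Subgroup.center (GL (Fin n) F₀) := by
  ext g₀
  rw [MonoidHom.mem_ker]
  constructor
  · intro h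
    have h1 : GeneralLinearGroup.map ι g₀ ∈ (conjGLn (n := n) (F := F)).ker := h
    rw [conjGLn_ker p hn, Subgroup.mem_center_iff] at h1
    rw [Subgroup.mem_center_iff]
    intro h₀
    apply glmap_injective ι
    rw [map_mul, map_mul]
    exact h1 _
  · intro h
    have h1 := GeneralLinearGroup.map_center_le ι h
    rw [Subgroup.mem_comap, ← conjGLn_ker p hn] at h1
    exact h1

include p in
lemma subfieldConj_range (hn : 1 ≤ n) (σ : RingAut F) {r : ℕ} (hr : orderOf σ = r) (hr0 : 0 < r)
    (ι : F₀ →+* F) (hι : ∀ a, σ (ι a) = ι a) (hι' : ∀ b : F, σ b = b → ∃ a, ι a = b) :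
    (subfieldConj (n := n) ι).range
      = (conjGLn (n := n) (F := F)).range ⊓ Subgroup.centralizer {fieldAutN σ} := by
  apply le_antisymm
  · rintro _ ⟨g₀, rfl⟩
    refine ⟨⟨_, rfl⟩, ?_⟩
    show conjGLn (GeneralLinearGroup.map ι g₀) ∈ Subgroup.centralizer {fieldAutN σ}
    rw [conjGLn_mem_centralizer_iff p hn]
    refine ⟨1, ?_⟩
    rw [Units.val_one, one_smul]
    ext i j
    rw [Matrix.map_apply]
    show σ ((GeneralLinearGroup.map ι g₀) i j) = (GeneralLinearGroup.map ι g₀) i j
    rw [GeneralLinearGroup.map_apply, hι]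
  · rintro y ⟨⟨g, rfl⟩, hc⟩
    have hc' : (conjGLn g : MulAut G) ∈ Subgroup.centralizer {fieldAutN σ} := hc
    rw [conjGLn_mem_centralizer_iff p hn] at hc'
    obtain ⟨l, hl⟩ := hc'
    obtain ⟨y, hy0, hy⟩ := exists_fixed_rep hn σ hr hr0 g hl
    have hfix : ∀ i j, σ ((y • g.val) i j) = (y • g.val) i j := by
      intro i j
      have := congrFun (congrFun hy i) j
      rwa [Matrix.map_apply] at this
    choose a ha using fun i j => hι' _ (hfix i j)
    let M₀ : Matrix (Fin n) (Fin n) F₀ := Matrix.of a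
    have hM₀ : M₀.map ι = y • g.val := by
      ext i j
      rw [Matrix.map_apply]
      exact ha i j
    have hdet : M₀.det ≠ 0 := by
      intro h0
      have h1 : ι M₀.det = (M₀.map ι).det := RingHom.map_det ι M₀
      rw [h0, map_zero, hM₀, Matrix.det_smul] at h1
      have h2 : g.val.det ≠ 0 := GeneralLinearGroup.det_ne_zero g
      exact mul_ne_zero (pow_ne_zero _ hy0) h2 h1.symm
    refine ⟨GeneralLinearGroup.mkOfDetNeZero M₀ hdet, ?_⟩
    show conjGLn (GeneralLinearGroup.map ι (GeneralLinearGroup.mkOfDetNeZero M₀ hdet)) = conjGLn g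
    apply conjGLn_eq_of_val_smul p hn hy0
    exact hM₀

include p in
/-- `C_{Inndiag}(φ_σ) ≅ PGL_n(F₀)` for `F₀` the fixed field. -/
theorem centralizer_fieldAutN_equiv (hn : 1 ≤ n) (σ : RingAut F) {r : ℕ} (hr : orderOf σ = r)
    (hr0 : 0 < r) (ι : F₀ →+* F) (hι : ∀ a, σ (ι a) = ι a)
    (hι' : ∀ b : F, σ b = b → ∃ a, ι a = b) :
    Nonempty (↥((conjGLn (n := n) (F := F)).range ⊓ Subgroup.centralizer {fieldAutN σ})
      ≃* ProjGenLinGroup (Fin n) F₀) := by
  have e1 := QuotientGroup.quotientKerEquivRange (subfieldConj (n := n) (F := F) ι)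
  have e2 := QuotientGroup.quotientMulEquivOfEq (subfieldConj_ker (n := n) p hn ι)
  have e3 := MulEquiv.subgroupCongr (subfieldConj_range p hn σ hr hr0 ι hι hι')
  exact ⟨(e2.symm.trans (e1.trans e3)).symm⟩

end iso

end Cfsg.Agent.Lib.Helper07
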