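import Cfsg.Agent.Lib.Helper07.OrthTf
import Cfsg.Agent.Lib.Helper07.OrthZj
import Cfsg.Agent.Lib.Helper07.PSLnM
import Cfsg.Agent.Lib.Helper19.S2716T
import Cfsg.Agent.Lib.Helper51.S2716C
import Cfsg.Agent.Lib.Helper19.MinusInnTwo
import Cfsg.Agent.Lib.Helper97.S2716G
import Cfsg.Agent.Lib.Helper50.MinusInndiag
import Cfsg.Agent.Lib.Helper50.PlusKer
import Cfsg.Agent.Lib.Helper50.Spinor
import Cfsg.Agent.Lib.Helper09.AnisoExt
import Cfsg.Agent.Lib.Helper51.POAut2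
import Cfsg.Agent.S2729
import Cfsg.Agent.S2727

set_option autoImplicit false
set_option linter.unusedSimpArgs false
set_option linter.unusedVariables false
set_option linter.unusedSectionVars false
set_option linter.style.haveILetI false

/-! The standard situation for S2716: the field automorphism of a minus-type form whose binary
coefficients are fixed. -/

namespace Cfsg.Agent.Lib.Helper07.OG

open Module Matrix Cfsg.Agent.Lib.Helper43 Cfsg.Agent.Lib.Helper07.UG Cfsg.Agent.Lib.Helper08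
open Cfsg.Agent.Lib.Helper51.POAut Cfsg.Agent.Lib.Helper50

universe u v

/-- base change compatibility of the minus forms. -/
theorem quadFormMinus_comp {F₀ : Type v} {F : Type u} [Field F₀] [Field F] (m : ℕ) (j : F₀ →+* F)
    (a₀ b₀ : F₀) (v : (Fin m ⊕ Fin m) ⊕ Fin 2 → F₀) :
    Cfsg.quadFormMinus m F (j a₀) (j b₀) (fun i => j (v i)) =
      j (Cfsg.quadFormMinus m F₀ a₀ b₀ v) := by
  simp only [Cfsg.quadFormMinus, map_add, map_pow, map_sum, map_mul]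

section ex

variable {F : Type*} [Field F] [Fintype F] [DecidableEq F] {ι : Type} [Fintype ι] [DecidableEq ι]
variable {Q : QuadraticForm F (ι → F)}
variable {u0 : ι → F} (hu0 : Q u0 = 1) (m : ℕ)

/-- correcting a similarity by an isometry of determinant `-1` to land in `ker delta`. -/
theorem exists_ker_delta_mult (hQ : (QuadraticMap.polarBilin Q).Nondegenerate)
    (hcard : Fintype.card ι = 2 * m) (N : ↥(Cfsg.isometryGroup F ⇑Q))
    (hN : ((N : GL ι F) : Matrix ι ι F).det = -1)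
    (g0 : ↥(Cfsg.Geo.quadSimilarityGroup (F := F) ⇑Q)) :
    ∃ g : ↥(Cfsg.Geo.quadSimilarityGroup (F := F) ⇑Q), g ∈ (delta Q hu0 m).ker ∧
      multFun Q g = multFun Q g0 := by
  have hδN : delta Q hu0 m (inclGO Q N) = -1 := by
    apply Units.ext
    rw [delta_apply, multFun_inclGO Q hu0]
    simp only [inv_one, one_pow, mul_one, detGO_val, inclGO_val, hN, Units.val_neg, Units.val_one]
  have hμN : multFun Q (inclGO Q N) = 1 := multFun_inclGO Q hu0 N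
  rcases delta_cases Q hu0 m hQ hcard g0 with h | h
  · exact ⟨g0, MonoidHom.mem_ker.2 h, rfl⟩
  · refine ⟨g0 * inclGO Q N, ?_, ?_⟩
    · rw [MonoidHom.mem_ker, map_mul, h, hδN]
      simp
    · have := map_mul (mult Q hu0) g0 (inclGO Q N)
      rw [mult_apply, mult_apply, mult_apply, hμN, mul_one] at this
      exact this

end ex

/-- quotient of order two: any element outside `I` generates `D` modulo `I`. -/
theorem cover_C2' {A : Type*} [Group A] (I D : Subgroup A) (hID : I ≤ D)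
    (φ : ↥D →* Multiplicative (ZMod 2)) (hφ : Function.Surjective φ)
    (hker : φ.ker = I.subgroupOf D)
    (y : A) (hyD : y ∈ D) (hyI : y ∉ I) : D ≤ I ⊔ Subgroup.zpowers y := by
  intro d hd
  have hy1 : φ ⟨y, hyD⟩ ≠ 1 := by
    intro h
    have : (⟨y, hyD⟩ : D) ∈ φ.ker := h
    rw [hker, Subgroup.mem_subgroupOf] at this
    exact hyI this
  by_cases hd1 : φ ⟨d, hd⟩ = 1
  · have : (⟨d, hd⟩ : D) ∈ φ.ker := hd1
    rw [hker, Subgroup.mem_subgroupOf] at this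
    exact Subgroup.mem_sup_left this
  · have h2 : φ ⟨d, hd⟩ = φ ⟨y, hyD⟩ := by
      have key : ∀ u v : Multiplicative (ZMod 2), u ≠ 1 → v ≠ 1 → u = v := by decide
      exact key _ _ hd1 hy1
    have h3 : ((⟨d, hd⟩ : D) * (⟨y, hyD⟩ : D)⁻¹) ∈ φ.ker := by
      rw [MonoidHom.mem_ker, map_mul, map_inv, h2, mul_inv_cancel]
    rw [hker, Subgroup.mem_subgroupOf] at h3
    have h4 : d = (d * y⁻¹) * y := by group
    rw [h4]
    exact Subgroup.mul_mem_sup h3 (Subgroup.mem_zpowers y)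

set_option maxHeartbeats 1600000 in
/-- the standard situation, odd characteristic. -/
theorem std_minus_odd {F : Type u} [Field F] [Fintype F] {p f : ℕ} [Fact p.Prime]
    (hF : Fintype.card F = p ^ f) (hp : p ≠ 2) {m : ℕ} (hm : 3 ≤ m)
    {F₀ : Type v} [Field F₀] [Fintype F₀] (j : F₀ →+* F) (a₀ b₀ : F₀)
    (hab : ∀ z₁ z₂ : F, z₁ ^ 2 + j a₀ * z₁ * z₂ + j b₀ * z₂ ^ 2 = 0 → z₁ = 0 ∧ z₂ = 0)
    (hab₀ : ∀ z₁ z₂ : F₀, z₁ ^ 2 + a₀ * z₁ * z₂ + b₀ * z₂ ^ 2 = 0 → z₁ = 0 ∧ z₂ = 0)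
    (σ : RingAut F) {r : ℕ} (hσr : orderOf σ = r) (hro : Odd r) (hr0 : 0 < r)
    (hcompat : σ ∈ compatAut (Cfsg.quadFormMinus m F (j a₀) (j b₀)))
    (hj : ∀ c, σ (j c) = j c) (hj' : ∀ d : F, σ d = d → ∃ c, j c = d) :
    Nonempty (↥(Cfsg.inndiagPOmegaMinus m F (j a₀) (j b₀) ⊓ Subgroup.centralizer
        {fieldAutPO (Cfsg.quadFormMinus m F (j a₀) (j b₀)) ⟨σ, hcompat⟩}) ≃*
      ↥(Cfsg.inndiagPOmegaMinus m F₀ a₀ b₀)) ∧
    Cfsg.inndiagPOmegaMinus m F (j a₀) (j b₀) ≤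
      Cfsg.Inn (Cfsg.POmega F (Cfsg.quadFormMinus m F (j a₀) (j b₀))) ⊔
        (Cfsg.inndiagPOmegaMinus m F (j a₀) (j b₀) ⊓ Subgroup.centralizer
          {fieldAutPO (Cfsg.quadFormMinus m F (j a₀) (j b₀)) ⟨σ, hcompat⟩}) := by
  classical
  haveI : CharP F p := charP_of_card_pow hF
  have hodd : Odd (Fintype.card F) := by
    rw [hF]; exact ((Fact.out : p.Prime).odd_of_ne_two hp).pow
  have h2 : (2 : F) ≠ 0 := two_ne_zero_of_odd_card rfl hodd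
  have h2₀ : (2 : F₀) ≠ 0 := by
    intro h0
    apply h2
    have := congrArg j h0
    rwa [map_ofNat, map_zero] at this
  have hcard : Fintype.card ((Fin m ⊕ Fin m) ⊕ Fin 2) = 2 * (m + 1) := by
    rw [Fintype.card_sum, Fintype.card_sum, Fintype.card_fin, Fintype.card_fin]; omega
  have C : OC (qdataMinus43 m (j a₀) (j b₀) hab).qf :=
    ⟨(qdataMinus43 m (j a₀) (j b₀) hab).qf_nondeg, by rw [hcard]; omega⟩
  have C₀ : OC (qdataMinus43 m a₀ b₀ hab₀).qf :=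
    ⟨(qdataMinus43 m a₀ b₀ hab₀).qf_nondeg, by rw [hcard]; omega⟩
  have hu0 : (qdataMinus43 m (j a₀) (j b₀) hab).qf (Pi.single (Sum.inr 0) 1) = 1 := by
    show Cfsg.quadFormMinus m F (j a₀) (j b₀) (Pi.single (Sum.inr 0) 1) = 1
    rw [quadFormMinus_eq]
    unfold qb
    simp
  have hu0₀ : (qdataMinus43 m a₀ b₀ hab₀).qf (Pi.single (Sum.inr 0) 1) = 1 := by
    show Cfsg.quadFormMinus m F₀ a₀ b₀ (Pi.single (Sum.inr 0) 1) = 1
    rw [quadFormMinus_eq]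
    unfold qb
    simp
  have hc : Compat (qdataMinus43 m a₀ b₀ hab₀).qf (qdataMinus43 m (j a₀) (j b₀) hab).qf j :=
    fun v => quadFormMinus_comp m j a₀ b₀ v
  have hE : Cfsg.inndiagPOmegaMinus m F (j a₀) (j b₀) =
      Esub (qdataMinus43 m (j a₀) (j b₀) hab).qf hu0 (m + 1) :=
    inndiagMinus_eq m (j a₀) (j b₀) h2 hab _ rfl hu0
  have hE₀ : Cfsg.inndiagPOmegaMinus m F₀ a₀ b₀ =
      Esub (qdataMinus43 m a₀ b₀ hab₀).qf hu0₀ (m + 1) :=
    inndiagMinus_eq m a₀ b₀ h2₀ hab₀ _ rfl hu0₀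
  have hker := Cfsg.Agent.Lib.Helper51.S2716K.subAutC_ker _ _ hc C C₀
  have hrange := Cfsg.Agent.Lib.Helper51.S2716K.subAutC_range
    (qdataMinus43 m a₀ b₀ hab₀).qf (qdataMinus43 m (j a₀) (j b₀) hab).qf hc C hu0₀
    ⟨σ, hcompat⟩ hσr hr0 hj hj'
  obtain ⟨hmap, hiso⟩ := restrict_equiv (autPO ⇑(qdataMinus43 m (j a₀) (j b₀) hab).qf)
    (autPO ⇑(qdataMinus43 m a₀ b₀ hab₀).qf) (bcS hc) hker _ hrange
    (delta (qdataMinus43 m (j a₀) (j b₀) hab).qf hu0 (m + 1)).ker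
    (delta (qdataMinus43 m a₀ b₀ hab₀).qf hu0₀ (m + 1)).ker
    (fun g₀ => by
      rw [MonoidHom.mem_ker, MonoidHom.mem_ker]
      exact (delta_bcS_iff hc hu0 hu0₀ (m + 1) g₀).symm)
    (ker_autPO_le_ker_delta hu0 (m + 1) C p hcard)
  refine ⟨?_, ?_⟩
  · rw [hE, hE₀]
    exact hiso
  · -- a similarity over the subfield with non-square multiplier
    obtain ⟨ζ, hζ⟩ := exists_nonsquare_of_two_ne_zero h2₀
    have hζ0 : ζ ≠ 0 := fun h => hζ (h ▸ ⟨0, by ring⟩)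
    obtain ⟨c₁, c₂, hcc⟩ := Cfsg.Agent.Lib.Helper08.exists_norm_eq a₀ b₀ hab₀ ζ hζ0
    have hcc' : c₁ ^ 2 + a₀ * c₁ * c₂ + b₀ * c₂ ^ 2 = ((Units.mk0 ζ hζ0 : F₀ˣ) : F₀) := hcc
    have hmem : minusGL m a₀ b₀ (Units.mk0 ζ hζ0) c₁ c₂ hcc' ∈
        Cfsg.Geo.quadSimilarityGroup (F := F₀) ⇑(qdataMinus43 m a₀ b₀ hab₀).qf :=
      minusGL_mem m a₀ b₀ _ c₁ c₂ hcc'
    have hmult : multFun (qdataMinus43 m a₀ b₀ hab₀).qf ⟨_, hmem⟩ = Units.mk0 ζ hζ0 :=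
      multFun_unique _ hu0₀ ⟨_, hmem⟩ _ (fun v => quadFormMinus_minusMat m a₀ b₀ ζ c₁ c₂ hcc v)
    have hu0ne : (qdataMinus43 m a₀ b₀ hab₀).qf (Pi.single (Sum.inr 0) 1) ≠ 0 := by
      rw [hu0₀]; exact one_ne_zero
    obtain ⟨g, hg, hgm⟩ := exists_ker_delta_mult hu0₀ (m + 1) C₀.hQ hcard
      (Cfsg.Agent.Lib.Helper50.reflO (qdataMinus43 m a₀ b₀ hab₀).qf (Pi.single (Sum.inr 0) 1))
      (by rw [Cfsg.Agent.Lib.Helper50.reflO_val _ _ hu0ne]
          exact Cfsg.Agent.Lib.Helper19.reflectionMatrix_det _ _ hu0ne) ⟨_, hmem⟩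
    obtain ⟨y, hydef⟩ : ∃ y, y = autPO ⇑(qdataMinus43 m (j a₀) (j b₀) hab).qf (bcS hc g) :=
      ⟨_, rfl⟩
    have hyD : y ∈ Cfsg.inndiagPOmegaMinus m F (j a₀) (j b₀) := by
      rw [hE, hydef]
      refine ⟨bcS hc g, ?_, rfl⟩
      rw [SetLike.mem_coe, MonoidHom.mem_ker, delta_bcS_iff hc hu0 hu0₀]
      exact hg
    have hyC : y ∈ Subgroup.centralizer
        {fieldAutPO (Cfsg.quadFormMinus m F (j a₀) (j b₀)) ⟨σ, hcompat⟩} := by
      have h1 : y ∈ ((autPO ⇑(qdataMinus43 m (j a₀) (j b₀) hab).qf).comp (bcS hc)).range := by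
        rw [hydef]; exact ⟨g, rfl⟩
      rw [hrange] at h1
      exact h1.2
    have hyP : y ∉ Cfsg.psoAut F (Cfsg.quadFormMinus m F (j a₀) (j b₀)) := by
      intro h
      rw [hydef] at h
      have h1 := isSquare_mult_of_mem_psoAut hu0 C p (bcS hc g) h
      rw [multFun_bcS hc hu0, hgm, hmult] at h1
      exact hζ (isSquare_descent_odd σ hσr hro j hj hj' ζ h1)
    have hz : Subgroup.zpowers y ≤ Cfsg.inndiagPOmegaMinus m F (j a₀) (j b₀) ⊓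
        Subgroup.centralizer {fieldAutPO (Cfsg.quadFormMinus m F (j a₀) (j b₀)) ⟨σ, hcompat⟩} :=
      (Subgroup.zpowers_le).2 ⟨hyD, hyC⟩
    have hIP : Cfsg.Inn (Cfsg.POmega F (Cfsg.quadFormMinus m F (j a₀) (j b₀))) ≤
        Cfsg.psoAut F (Cfsg.quadFormMinus m F (j a₀) (j b₀)) :=
      inn_le_psoAut (Q := (qdataMinus43 m (j a₀) (j b₀) hab).qf)
    have hPD : Cfsg.psoAut F (Cfsg.quadFormMinus m F (j a₀) (j b₀)) ≤
        Cfsg.inndiagPOmegaMinus m F (j a₀) (j b₀) := by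
      rw [hE]; exact psoAut_le_Esub hu0 (m + 1)
    by_cases h4 : Even m ∧ Fintype.card F % 4 = 3
    · obtain ⟨φ, hφs, hφk⟩ := (Cfsg.Agent.S2729.result hodd hm (j a₀) (j b₀) hab).1 h4
      have hrel := (Cfsg.Agent.S2727.result hodd hm (j a₀) (j b₀) hab).1 h4
      exact (Cfsg.Agent.Lib.Helper97.S2716K.cover_C4 _ _ _ hIP hPD φ hφs hφk hrel y hyD hyP).trans
        (sup_le_sup_left hz _)
    · obtain ⟨φ, hφs, hφk⟩ := (Cfsg.Agent.S2729.result hodd hm (j a₀) (j b₀) hab).2 h4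
      exact (cover_C2' _ _ (hIP.trans hPD) φ hφs hφk y hyD (fun h => hyP (hIP h))).trans
        (sup_le_sup_left hz _)

theorem inn_le_range_autPO {F : Type*} [Field F] [Fintype F] {ι : Type} [Fintype ι]
    [DecidableEq ι] (Q : QuadraticForm F (ι → F)) :
    Cfsg.Inn (Cfsg.POmega F ⇑Q) ≤ (autPO ⇑Q).range := by
  rw [inn_eq]
  rintro _ ⟨ω, -, rfl⟩
  exact ⟨inclGO Q ω, rfl⟩

set_option maxHeartbeats 1600000 in
/-- the standard situation, characteristic two. -/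
theorem std_minus_even {F : Type u} [Field F] [Fintype F] {p f : ℕ} [Fact p.Prime]
    (hF : Fintype.card F = p ^ f) (hp : p = 2) {m : ℕ} (hm : 3 ≤ m)
    {F₀ : Type v} [Field F₀] [Fintype F₀] (j : F₀ →+* F) (a₀ b₀ : F₀)
    (hab : ∀ z₁ z₂ : F, z₁ ^ 2 + j a₀ * z₁ * z₂ + j b₀ * z₂ ^ 2 = 0 → z₁ = 0 ∧ z₂ = 0)
    (hab₀ : ∀ z₁ z₂ : F₀, z₁ ^ 2 + a₀ * z₁ * z₂ + b₀ * z₂ ^ 2 = 0 → z₁ = 0 ∧ z₂ = 0)
    (σ : RingAut F) {r : ℕ} (hσr : orderOf σ = r) (hr0 : 0 < r)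
    (hcompat : σ ∈ compatAut (Cfsg.quadFormMinus m F (j a₀) (j b₀)))
    (hj : ∀ c, σ (j c) = j c) (hj' : ∀ d : F, σ d = d → ∃ c, j c = d) :
    Nonempty (↥(Cfsg.inndiagPOmegaMinus m F (j a₀) (j b₀) ⊓ Subgroup.centralizer
        {fieldAutPO (Cfsg.quadFormMinus m F (j a₀) (j b₀)) ⟨σ, hcompat⟩}) ≃*
      ↥(Cfsg.inndiagPOmegaMinus m F₀ a₀ b₀)) ∧
    Cfsg.inndiagPOmegaMinus m F (j a₀) (j b₀) ≤
      Cfsg.Inn (Cfsg.POmega F (Cfsg.quadFormMinus m F (j a₀) (j b₀))) ⊔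
        (Cfsg.inndiagPOmegaMinus m F (j a₀) (j b₀) ⊓ Subgroup.centralizer
          {fieldAutPO (Cfsg.quadFormMinus m F (j a₀) (j b₀)) ⟨σ, hcompat⟩}) := by
  classical
  haveI : CharP F p := charP_of_card_pow hF
  have h2 : (2 : F) = 0 := by
    have := CharP.cast_eq_zero F p
    rw [hp] at this
    exact_mod_cast this
  have h2₀ : (2 : F₀) = 0 := by
    apply j.injective
    rw [map_ofNat, map_zero]
    exact h2
  have hcard : Fintype.card ((Fin m ⊕ Fin m) ⊕ Fin 2) = 2 * (m + 1) := by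
    rw [Fintype.card_sum, Fintype.card_sum, Fintype.card_fin, Fintype.card_fin]; omega
  have C : OC (qdataMinus43 m (j a₀) (j b₀) hab).qf :=
    ⟨(qdataMinus43 m (j a₀) (j b₀) hab).qf_nondeg, by rw [hcard]; omega⟩
  have C₀ : OC (qdataMinus43 m a₀ b₀ hab₀).qf :=
    ⟨(qdataMinus43 m a₀ b₀ hab₀).qf_nondeg, by rw [hcard]; omega⟩
  have hu0₀ : (qdataMinus43 m a₀ b₀ hab₀).qf (Pi.single (Sum.inr 0) 1) = 1 := by
    show Cfsg.quadFormMinus m F₀ a₀ b₀ (Pi.single (Sum.inr 0) 1) = 1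
    rw [quadFormMinus_eq]
    unfold qb
    simp
  have hc : Compat (qdataMinus43 m a₀ b₀ hab₀).qf (qdataMinus43 m (j a₀) (j b₀) hab).qf j :=
    fun v => quadFormMinus_comp m j a₀ b₀ v
  have hE : Cfsg.inndiagPOmegaMinus m F (j a₀) (j b₀) =
      Cfsg.Inn (Cfsg.POmega F (Cfsg.quadFormMinus m F (j a₀) (j b₀))) :=
    Cfsg.Agent.Lib.Helper19.MinusInnTwo.inndiagPOmegaMinus_eq_inn h2 hm _ _ hab
  have hE₀ : Cfsg.inndiagPOmegaMinus m F₀ a₀ b₀ =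
      Cfsg.Inn (Cfsg.POmega F₀ (Cfsg.quadFormMinus m F₀ a₀ b₀)) :=
    Cfsg.Agent.Lib.Helper19.MinusInnTwo.inndiagPOmegaMinus_eq_inn h2₀ hm _ _ hab₀
  refine ⟨?_, ?_⟩
  · have hker := Cfsg.Agent.Lib.Helper51.S2716K.subAutC_ker _ _ hc C C₀
    have hrange := Cfsg.Agent.Lib.Helper51.S2716K.subAutC_range
      (qdataMinus43 m a₀ b₀ hab₀).qf (qdataMinus43 m (j a₀) (j b₀) hab).qf hc C hu0₀
      ⟨σ, hcompat⟩ hσr hr0 hj hj'
    obtain ⟨hmap, hiso⟩ := restrict_equiv (autPO ⇑(qdataMinus43 m (j a₀) (j b₀) hab).qf)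
      (autPO ⇑(qdataMinus43 m a₀ b₀ hab₀).qf) (bcS hc) hker _ hrange
      ((Cfsg.Inn (Cfsg.POmega F ⇑(qdataMinus43 m (j a₀) (j b₀) hab).qf)).comap
        (autPO ⇑(qdataMinus43 m (j a₀) (j b₀) hab).qf))
      ((Cfsg.Inn (Cfsg.POmega F₀ ⇑(qdataMinus43 m a₀ b₀ hab₀).qf)).comap
        (autPO ⇑(qdataMinus43 m a₀ b₀ hab₀).qf))
      (fun g₀ => by
        rw [Subgroup.mem_comap, Subgroup.mem_comap]
        exact (Cfsg.Agent.Lib.Helper19.S2716K.inn_bcS_iff_char_two _ _ h2 hc C C₀ g₀).symm)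
      (fun g hg => by
        rw [Subgroup.mem_comap, MonoidHom.mem_ker.1 hg]
        exact Subgroup.one_mem _)
    rw [Subgroup.map_comap_eq_self (inn_le_range_autPO _),
      Subgroup.map_comap_eq_self (inn_le_range_autPO _)] at hiso
    rw [hE, hE₀]
    exact hiso
  · rw [hE]
    exact le_sup_left

end Cfsg.Agent.Lib.Helper07.OG
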