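import Cfsg.Agent.Lib.Helper07.OrthTg
import Cfsg.Agent.Lib.Helper07.SplitClass
import Cfsg.Agent.Lib.Helper50.FieldAutPO2

set_option autoImplicit false
set_option linter.unusedSimpArgs false
set_option linter.unusedVariables false
set_option linter.unusedSectionVars false
set_option linter.style.haveILetI false

/-! Assembly of S2716: field automorphisms of prime order of `PΩ⁻`. -/

namespace Cfsg.Agent.Lib.Helper07.OG

open Module Matrix Cfsg.Agent.Lib.Helper43 Cfsg.Agent.Lib.Helper07.UG Cfsg.Agent.Lib.Helper08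
open Cfsg.Agent.Lib.Helper51.POAut Cfsg.Agent.Lib.Helper50

universe u v

/-- `Inndiag` of the minus-type groups corresponds under every isomorphism between two
realisations. -/
theorem inndiagMinus_congr_iff {F : Type u} [Field F] [Fintype F] {p f : ℕ} [Fact p.Prime]
    (hF : Fintype.card F = p ^ f) {m : ℕ} (hm : 3 ≤ m) (a b a' b' : F)
    (hab : ∀ z₁ z₂ : F, z₁ ^ 2 + a * z₁ * z₂ + b * z₂ ^ 2 = 0 → z₁ = 0 ∧ z₂ = 0)
    (hab' : ∀ z₁ z₂ : F, z₁ ^ 2 + a' * z₁ * z₂ + b' * z₂ ^ 2 = 0 → z₁ = 0 ∧ z₂ = 0)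
    (ψ : Cfsg.POmega F (Cfsg.quadFormMinus m F a b) ≃* Cfsg.POmega F (Cfsg.quadFormMinus m F a' b'))
    (β : MulAut (Cfsg.POmega F (Cfsg.quadFormMinus m F a b))) :
    β ∈ Cfsg.inndiagPOmegaMinus m F a b ↔
      MulAut.congr ψ β ∈ Cfsg.inndiagPOmegaMinus m F a' b' := by
  classical
  haveI : CharP F p := charP_of_card_pow hF
  by_cases hp : p = 2
  · have h2 : (2 : F) = 0 := by
      have := CharP.cast_eq_zero F p
      rw [hp] at this
      exact_mod_cast this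
    rw [Cfsg.Agent.Lib.Helper19.MinusInnTwo.inndiagPOmegaMinus_eq_inn h2 hm _ _ hab,
      Cfsg.Agent.Lib.Helper19.MinusInnTwo.inndiagPOmegaMinus_eq_inn h2 hm _ _ hab']
    exact inn_congr_iff ψ β
  · have hodd : Odd (Fintype.card F) := by
      rw [hF]; exact ((Fact.out : p.Prime).odd_of_ne_two hp).pow
    have h2 : (2 : F) ≠ 0 := two_ne_zero_of_odd_card rfl hodd
    have hcard : Fintype.card ((Fin m ⊕ Fin m) ⊕ Fin 2) = 2 * (m + 1) := by
      rw [Fintype.card_sum, Fintype.card_sum, Fintype.card_fin, Fintype.card_fin]; omega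
    have C : OC (qdataMinus43 m a b hab).qf :=
      ⟨(qdataMinus43 m a b hab).qf_nondeg, by rw [hcard]; omega⟩
    have htop : Cfsg.gammaPOmega F ⇑(qdataMinus43 m a b hab).qf = ⊤ :=
      gamma_minus_eq_top hm a b hab
    have hu0 : (qdataMinus43 m a b hab).qf (Pi.single (Sum.inr 0) 1) = 1 := by
      show Cfsg.quadFormMinus m F a b (Pi.single (Sum.inr 0) 1) = 1
      rw [quadFormMinus_eq]
      unfold qb
      simp
    have hu0' : (qdataMinus43 m a' b' hab').qf (Pi.single (Sum.inr 0) 1) = 1 := by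
      show Cfsg.quadFormMinus m F a' b' (Pi.single (Sum.inr 0) 1) = 1
      rw [quadFormMinus_eq]
      unfold qb
      simp
    have hE : Cfsg.inndiagPOmegaMinus m F a b = Esub (qdataMinus43 m a b hab).qf hu0 (m + 1) :=
      inndiagMinus_eq m a b h2 hab _ rfl hu0
    have hE' : Cfsg.inndiagPOmegaMinus m F a' b' =
        Esub (qdataMinus43 m a' b' hab').qf hu0' (m + 1) :=
      inndiagMinus_eq m a' b' h2 hab' _ rfl hu0'
    obtain ⟨s, t, ht, h1, h3⟩ := exists_st' hF a b a' b' hab hab'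
    have hiso : ∀ v, (qdataMinus43 m a b hab).qf
        (((blkG m (stG s t ht) : GL ((Fin m ⊕ Fin m) ⊕ Fin 2) F) :
          Matrix ((Fin m ⊕ Fin m) ⊕ Fin 2) ((Fin m ⊕ Fin m) ⊕ Fin 2) F) *ᵥ v) =
        (qdataMinus43 m a' b' hab').qf v := fun v => quadFormMinus_stG (m := m) ht h1 h3 v
    haveI hN : (Esub (qdataMinus43 m a b hab).qf hu0 (m + 1)).Normal := Esub_normal hu0 (m + 1) htop
    rw [hE, hE']
    exact mem_congr_iff_of_normal (Esub (qdataMinus43 m a b hab).qf hu0 (m + 1))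
      (Esub (qdataMinus43 m a' b' hab').qf hu0' (m + 1))
      (isoPO (⇑(qdataMinus43 m a b hab).qf) (⇑(qdataMinus43 m a' b' hab').qf) _ hiso)
      (fun γ => Esub_congr_isoPO C p hu0 hu0' hcard hiso γ) ψ β

theorem inn_le_inndiagMinus {F : Type u} [Field F] [Fintype F] {p f : ℕ} [Fact p.Prime]
    (hF : Fintype.card F = p ^ f) {m : ℕ} (hm : 3 ≤ m) (a b : F)
    (hab : ∀ z₁ z₂ : F, z₁ ^ 2 + a * z₁ * z₂ + b * z₂ ^ 2 = 0 → z₁ = 0 ∧ z₂ = 0) :
    Cfsg.Inn (Cfsg.POmega F (Cfsg.quadFormMinus m F a b)) ≤ Cfsg.inndiagPOmegaMinus m F a b := by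
  classical
  haveI : CharP F p := charP_of_card_pow hF
  by_cases hp : p = 2
  · have h2 : (2 : F) = 0 := by
      have := CharP.cast_eq_zero F p
      rw [hp] at this
      exact_mod_cast this
    rw [Cfsg.Agent.Lib.Helper19.MinusInnTwo.inndiagPOmegaMinus_eq_inn h2 hm _ _ hab]
  · have hodd : Odd (Fintype.card F) := by
      rw [hF]; exact ((Fact.out : p.Prime).odd_of_ne_two hp).pow
    have h2 : (2 : F) ≠ 0 := two_ne_zero_of_odd_card rfl hodd
    have hu0 : (qdataMinus43 m a b hab).qf (Pi.single (Sum.inr 0) 1) = 1 := by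
      show Cfsg.quadFormMinus m F a b (Pi.single (Sum.inr 0) 1) = 1
      rw [quadFormMinus_eq]
      unfold qb
      simp
    have hE : Cfsg.inndiagPOmegaMinus m F a b = Esub (qdataMinus43 m a b hab).qf hu0 (m + 1) :=
      inndiagMinus_eq m a b h2 hab _ rfl hu0
    rw [hE]
    exact inn_le_Esub hu0 (m + 1)

set_option maxHeartbeats 1600000 in
/-- **S2716**. -/
theorem s2716_main {F : Type u} [Field F] [Fintype F] {p f : ℕ} [Fact p.Prime]
    (hF : Fintype.card F = p ^ f) (hf : 1 ≤ f) {m : ℕ} (hm : 3 ≤ m) (a b : F)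
    (hab : ∀ z₁ z₂ : F, z₁ ^ 2 + a * z₁ * z₂ + b * z₂ ^ 2 = 0 → z₁ = 0 ∧ z₂ = 0)
    (x : MulAut (Cfsg.POmega F (Cfsg.quadFormMinus m F a b)))
    (hx : Cfsg.IsFieldAutClassPOmegaMinus m x) {r : ℕ} (hr : r.Prime) (hxr : orderOf x = r)
    (F₀ : Type v) [Field F₀] [Fintype F₀] (hF₀ : Fintype.card F₀ = p ^ (f / r)) :
    Odd r ∧ r ∣ f ∧
    (∃ a₀ b₀ : F₀, (∀ z₁ z₂ : F₀, z₁ ^ 2 + a₀ * z₁ * z₂ + b₀ * z₂ ^ 2 = 0 → z₁ = 0 ∧ z₂ = 0) ∧
      Nonempty (↥(Cfsg.inndiagPOmegaMinus m F a b ⊓ Subgroup.centralizer {x}) ≃*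
        ↥(Cfsg.inndiagPOmegaMinus m F₀ a₀ b₀))) ∧
    Cfsg.splitClassCount (Cfsg.inndiagPOmegaMinus m F a b)
      (Cfsg.Inn (Cfsg.POmega F (Cfsg.quadFormMinus m F a b))) x = 1 := by
  classical
  haveI : CharP F p := charP_of_card_pow hF
  obtain ⟨a', b', ψ, σ, hab', hσ1, ha', hb', hfa⟩ := hx
  have hcard : Fintype.card ((Fin m ⊕ Fin m) ⊕ Fin 2) = 2 * (m + 1) := by
    rw [Fintype.card_sum, Fintype.card_sum, Fintype.card_fin, Fintype.card_fin]; omega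
  have C' : OC (qdataMinus43 m a' b' hab').qf :=
    ⟨(qdataMinus43 m a' b' hab').qf_nondeg, by rw [hcard]; omega⟩
  have hcompat : (σ : RingAut F) ∈ compatAut (Cfsg.quadFormMinus m F a' b') := by
    intro v
    have := quadFormMinus_comp m (σ : F ≃+* F).toRingHom a' b' v
    simp only [RingEquiv.toRingHom_eq_coe, RingHom.coe_coe] at this
    rw [ha', hb'] at this
    exact this
  have hx'eq : (ψ.symm.trans x).trans ψ = MulAut.congr ψ x := by
    ext y; rfl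
  have hφ : MulAut.congr ψ x = fieldAutPO (Cfsg.quadFormMinus m F a' b') ⟨σ, hcompat⟩ := by
    rw [← hx'eq]
    exact (isFieldAut_iff (Cfsg.quadFormMinus m F a' b') σ hcompat _).mp hfa
  have hσr : orderOf (σ : RingAut F) = r := by
    rw [← hxr, ← orderOf_congr ψ x, hφ]
    have h1 : orderOf (fieldAutPO (Cfsg.quadFormMinus m F a' b') ⟨σ, hcompat⟩) =
        orderOf (⟨σ, hcompat⟩ : ↥(compatAut (Cfsg.quadFormMinus m F a' b'))) :=
      orderOf_fieldAutPO_OC (qdataMinus43 m a' b' hab').qf C' ⟨σ, hcompat⟩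
    rw [h1]
    exact (Subgroup.orderOf_mk σ hcompat).symm
  have hro : Odd r := by
    rw [← hσr]
    exact Cfsg.Agent.Lib.Helper09.AnisoExt.odd_order_of_anis σ a' b' hab' ha' hb'
  obtain ⟨hrf, -⟩ := card_fixK p hF σ hσr hr.pos
  obtain ⟨j, hj, hj'⟩ := exists_fixed_embedding (F₀ := F₀) p hF σ hσr hr.pos hF₀
  obtain ⟨a₀, ha₀⟩ := hj' a' ha'
  obtain ⟨b₀, hb₀⟩ := hj' b' hb'
  subst ha₀ hb₀
  have hab₀ := Cfsg.Agent.Lib.Helper09.AnisoExt.anis_descent j a₀ b₀ hab'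
  have hcore : Nonempty (↥(Cfsg.inndiagPOmegaMinus m F (j a₀) (j b₀) ⊓ Subgroup.centralizer
        {fieldAutPO (Cfsg.quadFormMinus m F (j a₀) (j b₀)) ⟨σ, hcompat⟩}) ≃*
      ↥(Cfsg.inndiagPOmegaMinus m F₀ a₀ b₀)) ∧
    Cfsg.inndiagPOmegaMinus m F (j a₀) (j b₀) ≤
      Cfsg.Inn (Cfsg.POmega F (Cfsg.quadFormMinus m F (j a₀) (j b₀))) ⊔
        (Cfsg.inndiagPOmegaMinus m F (j a₀) (j b₀) ⊓ Subgroup.centralizer
          {fieldAutPO (Cfsg.quadFormMinus m F (j a₀) (j b₀)) ⟨σ, hcompat⟩}) := by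
    by_cases hp : p = 2
    · exact std_minus_even hF hp hm j a₀ b₀ hab' hab₀ σ hσr hr.pos hcompat hj hj'
    · exact std_minus_odd hF hp hm j a₀ b₀ hab' hab₀ σ hσr hro hr.pos hcompat hj hj'
  obtain ⟨⟨e2⟩, hcov⟩ := hcore
  have hH := inndiagMinus_congr_iff hF hm a b (j a₀) (j b₀) hab hab' ψ
  have hK : ∀ β : MulAut (Cfsg.POmega F (Cfsg.quadFormMinus m F a b)),
      β ∈ Cfsg.Inn (Cfsg.POmega F (Cfsg.quadFormMinus m F a b)) ↔
      MulAut.congr ψ β ∈ Cfsg.Inn (Cfsg.POmega F (Cfsg.quadFormMinus m F (j a₀) (j b₀))) :=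
    fun β => inn_congr_iff ψ β
  refine ⟨hro, hrf, ⟨a₀, b₀, hab₀, ?_⟩, ?_⟩
  · obtain ⟨e1⟩ := centralizer_equiv (MulAut.congr ψ) _ _ hH x
    rw [hφ] at e1
    exact ⟨e1.trans e2⟩
  · rw [← hφ] at hcov
    have hcov' := cover_transport (MulAut.congr ψ) _ _ _ _ hH hK x hcov
    rw [splitClassCount_eq_relIndex _ _ (inn_le_inndiagMinus hF hm a b hab), Subgroup.relIndex_eq_one]
    exact hcov'

end Cfsg.Agent.Lib.Helper07.OG
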