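import Cfsg.Agent.Lib.Helper07.OrthT

set_option autoImplicit false
set_option linter.unusedSimpArgs false
set_option linter.unusedVariables false
set_option linter.unusedSectionVars false

/-! Orthogonal groups: the hypothesis `GoodD` in dimension at least 10 (counting argument:
the unipotent radical of the stabiliser of a maximal totally singular subspace of dimension
`d ≥ 5` has order at least `q^(3d-6) > q^(2d-2)`). -/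

namespace Cfsg.Agent.Lib.Helper07.OG

open Module Matrix Cfsg.Agent.Lib.Helper43 Cfsg.Agent.Lib.Helper07.UG

variable {F : Type*} [Field F] [Fintype F] {ι : Type} [Fintype ι] [DecidableEq ι]
variable {Q : QuadraticForm F (ι → F)}

local notation "Bf" => QuadraticMap.polarBilin Q

theorem finrank_inf_ker (W : Submodule F (ι → F)) (φ : (ι → F) →ₗ[F] F) :
    finrank F W ≤ finrank F ↥(W ⊓ LinearMap.ker φ) + 1 := by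
  obtain ⟨ψ, hψ⟩ : ∃ ψ : ↥W →ₗ[F] F, ψ = φ.comp W.subtype := ⟨_, rfl⟩
  have h1 := LinearMap.finrank_range_add_finrank_ker ψ
  have h2 : finrank F (LinearMap.range ψ) ≤ 1 := by
    have := Submodule.finrank_le (LinearMap.range ψ)
    rwa [finrank_self] at this
  have h3 : finrank F (LinearMap.ker ψ) = finrank F ↥(W ⊓ LinearMap.ker φ) := by
    have e1 := Submodule.finrank_map_subtype_eq W (LinearMap.ker ψ)
    have e2 : (LinearMap.ker ψ).map W.subtype = W ⊓ LinearMap.ker φ := by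
      rw [hψ, LinearMap.ker_comp, Submodule.map_comap_subtype]
    rw [← e1, e2]
  omega

theorem sg_apply_ts (C : OC Q) {t v : ι → F} (ht : Q t = 0) (hv : Q v = 0) (htv : Bf t v = 0)
    (y : ι → F) : lo Q (sg C t v) y = y + (Bf y v • t - Bf y t • v) := by
  rw [sg_apply C ht htv, hv]
  simp only [zero_mul, sub_zero, neg_smul]
  abel

theorem sg_fix_ts (C : OC Q) {T : Submodule F (ι → F)} (hT : ∀ t ∈ T, Q t = 0) {t v z : ι → F}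
    (ht : t ∈ T) (hv : v ∈ T) (hz : z ∈ T) : lo Q (sg C t v) z = z := by
  rw [sg_apply_ts C (hT t ht) (hT v hv) (polar_eq_zero_of_ts Q T hT t v ht hv),
    polar_eq_zero_of_ts Q T hT z v hz hv, polar_eq_zero_of_ts Q T hT z t hz ht]
  simp

theorem prod3_apply (C : OC Q) {T : Submodule F (ι → F)} (hT : ∀ t ∈ T, Q t = 0)
    {t₁ t₂ t₃ v₁ v₂ v₃ : ι → F} (ht₁ : t₁ ∈ T) (ht₂ : t₂ ∈ T) (ht₃ : t₃ ∈ T)
    (hv₁ : v₁ ∈ T) (hv₂ : v₂ ∈ T) (hv₃ : v₃ ∈ T) (y : ι → F) :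
    lo Q (sg C t₁ v₁ * sg C t₂ v₂ * sg C t₃ v₃) y =
      y + (Bf y v₁ • t₁ - Bf y t₁ • v₁) + (Bf y v₂ • t₂ - Bf y t₂ • v₂) +
        (Bf y v₃ • t₃ - Bf y t₃ • v₃) := by
  have hD : ∀ {t v : ι → F}, t ∈ T → v ∈ T → Bf y v • t - Bf y t • v ∈ T := by
    intro t v ht hv
    exact T.sub_mem (T.smul_mem _ ht) (T.smul_mem _ hv)
  rw [lo_mul_apply, lo_mul_apply,
    sg_apply_ts C (hT t₃ ht₃) (hT v₃ hv₃) (polar_eq_zero_of_ts Q T hT t₃ v₃ ht₃ hv₃),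
    map_add, sg_fix_ts C hT ht₂ hv₂ (hD ht₃ hv₃),
    sg_apply_ts C (hT t₂ ht₂) (hT v₂ hv₂) (polar_eq_zero_of_ts Q T hT t₂ v₂ ht₂ hv₂),
    map_add, map_add, sg_fix_ts C hT ht₁ hv₁ (hD ht₃ hv₃), sg_fix_ts C hT ht₁ hv₁ (hD ht₂ hv₂),
    sg_apply_ts C (hT t₁ ht₁) (hT v₁ hv₁) (polar_eq_zero_of_ts Q T hT t₁ v₁ ht₁ hv₁)]

/-- the key injectivity statement. -/
theorem prod3_inj (C : OC Q) {T : Submodule F (ι → F)} (hT : ∀ t ∈ T, Q t = 0)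
    {t₁ t₂ t₃ s₁ s₂ s₃ : ι → F} (ht₁ : t₁ ∈ T) (ht₂ : t₂ ∈ T) (ht₃ : t₃ ∈ T)
    (h11 : Bf s₁ t₁ = 1) (h12 : Bf s₁ t₂ = 0) (h13 : Bf s₁ t₃ = 0)
    (h21 : Bf s₂ t₁ = 0) (h22 : Bf s₂ t₂ = 1) (h23 : Bf s₂ t₃ = 0)
    (h31 : Bf s₃ t₁ = 0) (h32 : Bf s₃ t₂ = 0) (h33 : Bf s₃ t₃ = 1)
    {v₁ v₂ v₃ w₁ w₂ w₃ : ι → F} (hv₁ : v₁ ∈ T) (hv₂ : v₂ ∈ T) (hv₃ : v₃ ∈ T)
    (hw₁ : w₁ ∈ T) (hw₂ : w₂ ∈ T) (hw₃ : w₃ ∈ T)
    (a1 : Bf s₁ v₁ = 0) (a2 : Bf s₁ v₂ = 0) (a3 : Bf s₁ v₃ = 0)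
    (a4 : Bf s₂ v₂ = 0) (a5 : Bf s₂ v₃ = 0) (a6 : Bf s₃ v₃ = 0)
    (b1 : Bf s₁ w₁ = 0) (b2 : Bf s₁ w₂ = 0) (b3 : Bf s₁ w₃ = 0)
    (b4 : Bf s₂ w₂ = 0) (b5 : Bf s₂ w₃ = 0) (b6 : Bf s₃ w₃ = 0)
    (h : sg C t₁ v₁ * sg C t₂ v₂ * sg C t₃ v₃ = sg C t₁ w₁ * sg C t₂ w₂ * sg C t₃ w₃) :
    v₁ = w₁ ∧ v₂ = w₂ ∧ v₃ = w₃ := by
  have e1 : v₁ = w₁ := by
    have h1 : lo Q (sg C t₁ v₁ * sg C t₂ v₂ * sg C t₃ v₃) s₁ =
        lo Q (sg C t₁ w₁ * sg C t₂ w₂ * sg C t₃ w₃) s₁ := by rw [h]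
    rw [prod3_apply C hT ht₁ ht₂ ht₃ hv₁ hv₂ hv₃, prod3_apply C hT ht₁ ht₂ ht₃ hw₁ hw₂ hw₃,
      a1, a2, a3, b1, b2, b3, h11, h12, h13] at h1
    simp only [zero_smul, one_smul, sub_zero, zero_sub, add_zero] at h1
    have h2 := add_left_cancel h1
    exact neg_injective h2
  subst e1
  have e2 : v₂ = w₂ := by
    have h1 : lo Q (sg C t₁ v₁ * sg C t₂ v₂ * sg C t₃ v₃) s₂ =
        lo Q (sg C t₁ v₁ * sg C t₂ w₂ * sg C t₃ w₃) s₂ := by rw [h]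
    rw [prod3_apply C hT ht₁ ht₂ ht₃ hv₁ hv₂ hv₃, prod3_apply C hT ht₁ ht₂ ht₃ hv₁ hw₂ hw₃,
      a4, a5, b4, b5, h21, h22, h23] at h1
    simp only [zero_smul, one_smul, sub_zero, zero_sub, add_zero] at h1
    have h2 := add_left_cancel h1
    exact neg_injective h2
  subst e2
  refine ⟨rfl, rfl, ?_⟩
  have h1 : lo Q (sg C t₁ v₁ * sg C t₂ v₂ * sg C t₃ v₃) s₃ =
      lo Q (sg C t₁ v₁ * sg C t₂ v₂ * sg C t₃ w₃) s₃ := by rw [h]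
  rw [prod3_apply C hT ht₁ ht₂ ht₃ hv₁ hv₂ hv₃, prod3_apply C hT ht₁ ht₂ ht₃ hv₁ hv₂ hw₃,
    a6, b6, h31, h32, h33] at h1
  simp only [zero_smul, one_smul, sub_zero, zero_sub, add_zero] at h1
  have h2 := add_left_cancel h1
  exact neg_injective h2

end Cfsg.Agent.Lib.Helper07.OG
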