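import Cfsg.Agent.Lib.Helper07.OrthZb

set_option autoImplicit false
set_option linter.unusedSimpArgs false
set_option linter.unusedVariables false
set_option linter.unusedSectionVars false

/-! Orthogonal groups, minus type, characteristic two: the Frobenius semi-isometry and its
`f`-th power (an isometry `r` with `rank (r - 1) = 1`). -/

namespace Cfsg.Agent.Lib.Helper07.OG

open Module Matrix Cfsg.Agent.Lib.Helper43 Cfsg.Agent.Lib.Helper07.UG

theorem matrix_eq_zero_of_rank_eq_zero {F : Type*} [Field F] {n : Type} [Fintype n] [DecidableEq n]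
    (A : Matrix n n F) (h : A.rank = 0) : A = 0 := by
  have h1 : LinearMap.range A.mulVecLin = ⊥ := Submodule.finrank_eq_zero.1 h
  have h2 : A.mulVecLin = 0 := LinearMap.range_eq_bot.1 h1
  ext i j
  have h3 := congrFun (LinearMap.congr_fun h2 (Pi.single j 1)) i
  simpa using h3

theorem finite_ringAut {F : Type*} [Field F] [Finite F] : Finite (RingAut F) :=
  Finite.of_injective (fun σ : RingAut F => (σ : F → F)) DFunLike.coe_injective

section chartwo

variable {F : Type*} [Field F] [Fintype F] [CharP F 2] (m : ℕ) (a b : F)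

theorem two_eq_zero_F : (2 : F) = 0 := CharTwo.two_eq_zero

/-- the matrix of the Frobenius map of `F[θ]`, `θ² = aθ + b`, in the basis `1, θ`. -/
def M0 : Matrix (Fin 2) (Fin 2) F := !![1, b; 0, a]

theorem M0_mulVec (w : Fin 2 → F) : M0 a b *ᵥ w = ![w 0 + b * w 1, a * w 1] := by
  funext i
  fin_cases i <;> simp [M0, Matrix.mulVec, dotProduct, Fin.sum_univ_two]

theorem M0_semi (z : Fin 2 → F) :
    qb a b (M0 a b *ᵥ (fun i => frobF (F := F) 2 (z i))) = frobF (F := F) 2 (qb a b z) := by
  rw [M0_mulVec]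
  unfold qb
  simp only [frobF_apply, Matrix.cons_val_zero, Matrix.cons_val_one]
  have h2 := two_eq_zero_F (F := F)
  linear_combination (a ^ 2 * b * z 1 ^ 4 - a * z 0 ^ 3 * z 1
    - a * b * z 0 * z 1 ^ 3) * h2

variable {a b}

theorem a_ne_zero_of_aniso
    (hab : ∀ z₁ z₂ : F, z₁ ^ 2 + a * z₁ * z₂ + b * z₂ ^ 2 = 0 → z₁ = 0 ∧ z₂ = 0) : a ≠ 0 := by
  rintro rfl
  obtain ⟨s, hs⟩ : ∃ s : F, s ^ 2 = b := by
    have hsurj : Function.Surjective (frobF (F := F) 2) := (frobF (F := F) 2).surjective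
    obtain ⟨s, hs⟩ := hsurj b
    exact ⟨s, hs⟩
  have h2 := two_eq_zero_F (F := F)
  have := hab s 1 (by rw [hs]; linear_combination b * h2)
  exact one_ne_zero this.2

/-- fixed vectors of the Frobenius map of the binary part have vanishing second coordinate. -/
theorem fix_M0 (hab : ∀ z₁ z₂ : F, z₁ ^ 2 + a * z₁ * z₂ + b * z₂ ^ 2 = 0 → z₁ = 0 ∧ z₂ = 0)
    (y : Fin 2 → F) (hy : M0 a b *ᵥ (fun i => frobF (F := F) 2 (y i)) = y) : y 1 = 0 := by
  rw [M0_mulVec] at hy
  have e0 := congrFun hy 0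
  have e1 := congrFun hy 1
  simp only [frobF_apply, Matrix.cons_val_zero, Matrix.cons_val_one] at e0 e1
  by_contra hy1
  have h3 : a * y 1 = 1 := by
    have : y 1 * (a * y 1 - 1) = 0 := by linear_combination e1
    rcases mul_eq_zero.1 this with h | h
    · exact absurd h hy1
    · linear_combination h
  have h2 := two_eq_zero_F (F := F)
  have h4 : y 0 ^ 2 + a * y 0 * y 1 + b * y 1 ^ 2 = 0 := by
    linear_combination e0 + y 0 * h3 + y 0 * h2
  exact hy1 (hab _ _ h4).2

/-- the invertible matrix `M0`. -/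
noncomputable def M0G (ha : a ≠ 0) : GL (Fin 2) F :=
  Matrix.GeneralLinearGroup.mkOfDetNeZero (M0 a b) (by
    simp [M0, Matrix.det_fin_two, ha])

theorem M0G_val (ha : a ≠ 0) : ((M0G (b := b) ha : GL (Fin 2) F) : Matrix (Fin 2) (Fin 2) F) = M0 a b :=
  rfl

/-- the twisted products of `M0` are upper unitriangular in the first column. -/
theorem twProd_M0_col (σ : RingAut F) (k : ℕ) :
    Cfsg.Agent.Lib.Helper07.twProd σ (M0 a b) k 0 0 = 1 ∧
      Cfsg.Agent.Lib.Helper07.twProd σ (M0 a b) k 1 0 = 0 := by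
  induction k with
  | zero => simp
  | succ k ih =>
    rw [Cfsg.Agent.Lib.Helper07.twProd_succ]
    constructor
    · rw [Matrix.mul_apply, Fin.sum_univ_two]
      simp only [Matrix.map_apply, ih.1, ih.2, map_one, map_zero]
      simp [M0]
    · rw [Matrix.mul_apply, Fin.sum_univ_two]
      simp only [Matrix.map_apply, ih.1, ih.2, map_one, map_zero]
      simp [M0]

/-- the twisted product over the full cycle is not the identity. -/
theorem twProd_M0_ne_one
    (hab : ∀ z₁ z₂ : F, z₁ ^ 2 + a * z₁ * z₂ + b * z₂ ^ 2 = 0 → z₁ = 0 ∧ z₂ = 0) :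
    Cfsg.Agent.Lib.Helper07.twProd (frobF (F := F) 2) (M0 a b) (orderOf (frobF (F := F) 2)) ≠ 1 := by
  intro h
  haveI : Finite (RingAut F) := finite_ringAut
  obtain ⟨Y, hY, hYfix⟩ := Cfsg.Agent.Lib.Helper07.h90_matrix (frobF (F := F) 2) rfl
    (orderOf_pos _) (M0 a b) h
  have hrow : ∀ j, Y 1 j = 0 := by
    intro j
    apply fix_M0 hab (fun i => Y i j)
    funext i
    have := congrFun (congrFun hYfix i) j
    rw [Matrix.mul_apply] at this
    rw [← this]
    simp [Matrix.mulVec, dotProduct, Matrix.map_apply]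
  have hdet : Y.det = 0 := Matrix.det_eq_zero_of_row_eq_zero 1 hrow
  have := (Matrix.isUnit_iff_isUnit_det Y).1 hY
  rw [hdet] at this
  exact not_isUnit_zero this

/-- rank of the block matrix minus one. -/
theorem rank_blkM_sub_one (N : Matrix (Fin 2) (Fin 2) F) (h00 : N 0 0 = 1) (h10 : N 1 0 = 0)
    (hN : N ≠ 1) : (blkM m N - 1).rank = 1 := by
  have h1 : blkM m N - 1 =
      Matrix.vecMulVec (Sum.elim 0 (fun i => (N - 1) i 1)) (Sum.elim 0 ![0, 1]) := by
    unfold blkM
    ext i j
    rcases i with i | i <;> rcases j with j | j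
    · simp [Matrix.vecMulVec_apply, Matrix.one_apply]
    · simp [Matrix.vecMulVec_apply, Matrix.one_apply]
    · simp [Matrix.vecMulVec_apply, Matrix.one_apply]
    · fin_cases i <;> fin_cases j <;> simp [Matrix.vecMulVec_apply, h00, h10, Matrix.one_apply]
  have h2 : (blkM m N - 1).rank ≤ 1 := by
    rw [h1]
    exact Matrix.rank_vecMulVec_le _ _
  have h3 : (blkM m N - 1).rank ≠ 0 := by
    intro h0
    have h4 := matrix_eq_zero_of_rank_eq_zero _ h0
    apply hN
    have h5 : blkM m N = 1 := sub_eq_zero.1 h4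
    unfold blkM at h5
    ext i j
    have := congrFun (congrFun h5 (Sum.inr i)) (Sum.inr j)
    simpa [Matrix.one_apply] using this
  omega

end chartwo

end Cfsg.Agent.Lib.Helper07.OG
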