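import Cfsg.Agent.Lib.Helper07.OrthU

set_option autoImplicit false
set_option linter.unusedSimpArgs false
set_option linter.unusedVariables false
set_option linter.unusedSectionVars false

/-! Orthogonal groups: `GoodD` in dimension at least 10, and `Aut(PΩ⁺_{2m}) = PΓO⁺` for
`m ≥ 5`. -/

namespace Cfsg.Agent.Lib.Helper07.OG

open Module Matrix Cfsg.Agent.Lib.Helper43 Cfsg.Agent.Lib.Helper07.UG

variable {F : Type*} [Field F] [Fintype F] {ι : Type} [Fintype ι] [DecidableEq ι]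
variable {Q : QuadraticForm F (ι → F)}

local notation "Bf" => QuadraticMap.polarBilin Q

theorem exists_ne_zero_of_finrank_pos {W : Submodule F (ι → F)} (h : 0 < finrank F W) :
    ∃ t ∈ W, t ≠ 0 := by
  obtain ⟨⟨t, ht⟩, ht0⟩ := (Module.finrank_pos_iff_exists_ne_zero (R := F) (M := ↥W)).1 h
  refine ⟨t, ht, ?_⟩
  intro h0
  apply ht0
  exact Subtype.ext h0

/-- a hyperbolic partner. -/
theorem exists_partner (C : OC Q) {u : ι → F} (hu0 : u ≠ 0) (hu : Q u = 0) :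
    ∃ f : ι → F, Q f = 0 ∧ Bf u f = 1 := by
  obtain ⟨z, hz⟩ := exists_pair_one C hu0
  refine ⟨z - Q z • u, ?_, ?_⟩
  · rw [Q_sub, Q_smul, hu, map_smul, hz]
    simp
  · rw [map_sub, map_smul, polar_self0 hu, polar_symm, hz]
    simp

theorem sg_norm' (C : OC Q) {e f : ι → F} (he : Q e = 0) (hfe : Bf f e = 1) {v : ι → F}
    (hv : Bf e v = 0) :
    v - Bf f v • e ∈ Wsp Q e f ∧ sg C e (v - Bf f v • e) = sg C e v := by
  refine ⟨⟨?_, ?_⟩, ?_⟩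
  · show Bf e (v - Bf f v • e) = 0
    rw [map_sub, map_smul, hv, polar_self0 he]
    simp
  · show Bf f (v - Bf f v • e) = 0
    rw [map_sub, map_smul, hfe]
    simp
  · rw [sub_eq_add_neg, ← neg_smul]
    exact sg_add_smul C _ he hv

theorem finrank_Wsp_le {e f : ι → F} (he : Q e = 0) (hf : Q f = 0) (hef : Bf e f = 1) :
    finrank F ↥(Wsp Q e f) + 2 ≤ Fintype.card ι := by
  have hfe : Bf f e = 1 := by rw [polar_symm]; exact hef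
  obtain ⟨L, hL⟩ : ∃ L : (ι → F) →ₗ[F] F × F, L = (Bf e).prod (Bf f) := ⟨_, rfl⟩
  have h1 := LinearMap.finrank_range_add_finrank_ker L
  rw [Module.finrank_fintype_fun_eq_card] at h1
  have h2 : LinearMap.ker L = Wsp Q e f := by
    rw [hL, LinearMap.ker_prod]
    rfl
  have h3 : LinearMap.range L = ⊤ := by
    rw [LinearMap.range_eq_top]
    rintro ⟨a, b⟩
    refine ⟨a • f + b • e, ?_⟩
    rw [hL]
    show (Bf e (a • f + b • e), Bf f (a • f + b • e)) = (a, b)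
    rw [map_add, map_smul, map_smul, map_add, map_smul, map_smul, hef, hfe, polar_self0 he,
      polar_self0 hf]
    simp
  rw [h3, h2, finrank_top, Module.finrank_prod, finrank_self] at h1
  omega

theorem card_Qb_le (C : OC Q) {u : ι → F} (hu0 : u ≠ 0) (hu : Q u = 0) :
    Nat.card (Qb C u) ≤ Nat.card F ^ (Fintype.card ι - 2) := by
  obtain ⟨f, hf, huf⟩ := exists_partner C hu0 hu
  have hfu : Bf f u = 1 := by rw [polar_symm]; exact huf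
  have h1 : Nat.card (Qb C u) ≤ Nat.card ↥(Wsp Q u f) := by
    apply Nat.card_le_card_of_surjective
      (fun w : ↥(Wsp Q u f) => (⟨prj (sg C u w.1), prj_sg_mem_Qb C hu w.2.1⟩ : ↥(Qb C u)))
    rintro ⟨x, hx⟩
    obtain ⟨v, hv, rfl⟩ := (mem_Qb_iff C hu x).1 hx
    obtain ⟨h3, h4⟩ := sg_norm' C hu hfu hv
    refine ⟨⟨_, h3⟩, ?_⟩
    apply Subtype.ext
    show prj (sg C u (v - Bf f v • u)) = prj (sg C u v)
    rw [h4]
  have h2 : Nat.card ↥(Wsp Q u f) = Nat.card F ^ finrank F ↥(Wsp Q u f) :=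
    Module.natCard_eq_pow_finrank (K := F) (V := ↥(Wsp Q u f))
  have h3 := finrank_Wsp_le (Q := Q) hu hf huf
  rw [h2] at h1
  refine le_trans h1 ?_
  apply Nat.pow_le_pow_right Nat.card_pos
  omega

/-- **`GoodD` holds in dimension at least 10.** -/
theorem goodD_of_ten (C : OC Q) (p : ℕ) [Fact p.Prime] [CharP F p]
    (hn : 10 ≤ Fintype.card ι) : GoodD C p := by
  intro u₀ hu₀0 hu₀ T hT hTT R hR hab hcard
  have hd := finrank_of_perp_le C hT hTT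
  have hKR : (Ks T hT).map prj ≤ R := by
    apply hR.2.2.2
    · exact Subgroup.map_mono (Ks_le_subStab T hT)
    · exact (isPGroup_Ks C p T hT).map _
    · rintro _ ⟨g, hg, rfl⟩ _ ⟨k, hk, rfl⟩
      refine ⟨g * k * g⁻¹, Ks_normal T hT g hg k hk, ?_⟩
      simp
  -- the vectors
  obtain ⟨t₁, ht₁, ht₁0⟩ := exists_ne_zero_of_finrank_pos (W := T) (by omega)
  obtain ⟨s₁, h11⟩ := exists_pair_one C ht₁0
  obtain ⟨T₁, hT₁⟩ : ∃ T₁, T₁ = T ⊓ LinearMap.ker (Bf s₁) := ⟨_, rfl⟩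
  have hd₁ : finrank F T ≤ finrank F ↥T₁ + 1 := by rw [hT₁]; exact finrank_inf_ker T (Bf s₁)
  obtain ⟨t₂, ht₂', ht₂0⟩ := exists_ne_zero_of_finrank_pos (W := T₁) (by omega)
  have ht₂ : t₂ ∈ T := by rw [hT₁] at ht₂'; exact ht₂'.1
  have h12 : Bf s₁ t₂ = 0 := by rw [hT₁] at ht₂'; exact ht₂'.2
  have hind2 : ¬ ∃ c : F, t₂ = c • t₁ := by
    rintro ⟨c, hc⟩
    have h1 := h12
    rw [hc, map_smul, h11, smul_eq_mul, mul_one] at h1
    rw [h1, zero_smul] at hc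
    exact ht₂0 hc
  obtain ⟨s₂, h22, h21⟩ := exists_pair_one_zero C hind2
  obtain ⟨T₂, hT₂⟩ : ∃ T₂, T₂ = T₁ ⊓ LinearMap.ker (Bf s₂) := ⟨_, rfl⟩
  have hd₂ : finrank F ↥T₁ ≤ finrank F ↥T₂ + 1 := by rw [hT₂]; exact finrank_inf_ker T₁ (Bf s₂)
  obtain ⟨t₃, ht₃', ht₃0⟩ := exists_ne_zero_of_finrank_pos (W := T₂) (by omega)
  have ht₃'' : t₃ ∈ T₁ := by rw [hT₂] at ht₃'; exact ht₃'.1
  have h23 : Bf s₂ t₃ = 0 := by rw [hT₂] at ht₃'; exact ht₃'.2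
  have ht₃ : t₃ ∈ T := by rw [hT₁] at ht₃''; exact ht₃''.1
  have h13 : Bf s₁ t₃ = 0 := by rw [hT₁] at ht₃''; exact ht₃''.2
  have hind3 : t₃ ∉ Submodule.span F {t₁, t₂} := by
    intro h
    obtain ⟨a, b, hab'⟩ := Submodule.mem_span_pair.1 h
    have e1 := h13
    rw [← hab', map_add, map_smul, map_smul, h11, h12] at e1
    simp only [smul_eq_mul, mul_one, mul_zero, add_zero] at e1
    have e2 := h23
    rw [← hab', map_add, map_smul, map_smul, h21, h22] at e2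
    simp only [smul_eq_mul, mul_one, mul_zero, zero_add] at e2
    rw [e1, e2, zero_smul, zero_smul, add_zero] at hab'
    exact ht₃0 hab'.symm
  obtain ⟨s₃, h33, h3X⟩ := exists_polar_repr Q C.hQ (Submodule.span F {t₁, t₂}) t₃ hind3
  have h31 : Bf s₃ t₁ = 0 := h3X t₁ (Submodule.subset_span (by simp))
  have h32 : Bf s₃ t₂ = 0 := h3X t₂ (Submodule.subset_span (by simp))
  obtain ⟨T₃, hT₃⟩ : ∃ T₃, T₃ = T₂ ⊓ LinearMap.ker (Bf s₃) := ⟨_, rfl⟩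
  have hd₃ : finrank F ↥T₂ ≤ finrank F ↥T₃ + 1 := by rw [hT₃]; exact finrank_inf_ker T₂ (Bf s₃)
  -- membership facts
  have m1 : ∀ v ∈ T₁, v ∈ T ∧ Bf s₁ v = 0 := by
    intro v hv
    rw [hT₁] at hv
    exact ⟨hv.1, hv.2⟩
  have m2 : ∀ v ∈ T₂, v ∈ T ∧ Bf s₁ v = 0 ∧ Bf s₂ v = 0 := by
    intro v hv
    rw [hT₂] at hv
    exact ⟨(m1 v hv.1).1, (m1 v hv.1).2, hv.2⟩
  have m3 : ∀ v ∈ T₃, v ∈ T ∧ Bf s₁ v = 0 ∧ Bf s₂ v = 0 ∧ Bf s₃ v = 0 := by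
    intro v hv
    rw [hT₃] at hv
    exact ⟨(m2 v hv.1).1, (m2 v hv.1).2.1, (m2 v hv.1).2.2, hv.2⟩
  have hTperp : T ≤ perpS Q T := le_perpS_of_ts hT
  have hmemK : ∀ v₁ ∈ T, ∀ v₂ ∈ T, ∀ v₃ ∈ T,
      sg C t₁ v₁ * sg C t₂ v₂ * sg C t₃ v₃ ∈ Ks T hT := by
    intro v₁ hv₁ v₂ hv₂ v₃ hv₃
    exact (Ks T hT).mul_mem ((Ks T hT).mul_mem (sg_mem_Ks C T hT ht₁ (hTperp hv₁))
      (sg_mem_Ks C T hT ht₂ (hTperp hv₂))) (sg_mem_Ks C T hT ht₃ (hTperp hv₃))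
  -- the injection
  have hfin : Finite R := inferInstance
  have hinj : Nat.card (↥T₁ × ↥T₂ × ↥T₃) ≤ Nat.card R := by
    apply Nat.card_le_card_of_injective
      (fun v : ↥T₁ × ↥T₂ × ↥T₃ =>
        (⟨prj (sg C t₁ v.1.1 * sg C t₂ v.2.1.1 * sg C t₃ v.2.2.1),
          hKR ⟨_, hmemK _ (m1 _ v.1.2).1 _ (m2 _ v.2.1.2).1 _ (m3 _ v.2.2.2).1, rfl⟩⟩ : ↥R))
    rintro ⟨⟨v₁, hv₁⟩, ⟨v₂, hv₂⟩, ⟨v₃, hv₃⟩⟩ ⟨⟨w₁, hw₁⟩, ⟨w₂, hw₂⟩, ⟨w₃, hw₃⟩⟩ hvw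
    have h1 : prj (sg C t₁ v₁ * sg C t₂ v₂ * sg C t₃ v₃) =
        prj (sg C t₁ w₁ * sg C t₂ w₂ * sg C t₃ w₃) := congrArg Subtype.val hvw
    rw [prj_eq_iff] at h1
    have ha := hmemK _ (m1 _ hv₁).1 _ (m2 _ hv₂).1 _ (m3 _ hv₃).1
    have hb := hmemK _ (m1 _ hw₁).1 _ (m2 _ hw₂).1 _ (m3 _ hw₃).1
    have h2 := (Ks T hT).mul_mem ((Ks T hT).inv_mem ha) hb
    obtain ⟨k, hk⟩ := (isPGroup_Ks C p T hT) ⟨_, h2⟩
    have hk' := congrArg Subtype.val hk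
    rw [Subgroup.coe_pow] at hk'
    have h3 := center_pow_eq_one C p h1 hk'
    rw [inv_mul_eq_one] at h3
    obtain ⟨e1, e2, e3⟩ := prod3_inj C hT ht₁ ht₂ ht₃ h11 h12 h13 h21 h22 h23 h31 h32 h33
      (m1 _ hv₁).1 (m2 _ hv₂).1 (m3 _ hv₃).1 (m1 _ hw₁).1 (m2 _ hw₂).1 (m3 _ hw₃).1
      (m1 _ hv₁).2 (m2 _ hv₂).2.1 (m3 _ hv₃).2.1 (m2 _ hv₂).2.2 (m3 _ hv₃).2.2.1 (m3 _ hv₃).2.2.2
      (m1 _ hw₁).2 (m2 _ hw₂).2.1 (m3 _ hw₃).2.1 (m2 _ hw₂).2.2 (m3 _ hw₃).2.2.1 (m3 _ hw₃).2.2.2 h3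
    subst e1 e2 e3
    rfl
  -- counting
  have hc1 : Nat.card (↥T₁ × ↥T₂ × ↥T₃) =
      Nat.card F ^ (finrank F ↥T₁ + finrank F ↥T₂ + finrank F ↥T₃) := by
    rw [Nat.card_prod, Nat.card_prod, Module.natCard_eq_pow_finrank (K := F) (V := ↥T₁),
      Module.natCard_eq_pow_finrank (K := F) (V := ↥T₂),
      Module.natCard_eq_pow_finrank (K := F) (V := ↥T₃), pow_add, pow_add, mul_assoc]
  have hc2 := card_Qb_le C hu₀0 hu₀
  rw [hc1, hcard] at hinj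
  have hc3 := le_trans hinj hc2
  have hq : 1 < Nat.card F := Finite.one_lt_card
  rw [Nat.pow_le_pow_iff_right hq] at hc3
  omega

end Cfsg.Agent.Lib.Helper07.OG

namespace Cfsg.Agent.Lib.Helper07.OG

open Module Matrix Cfsg.Agent.Lib.Helper43 Cfsg.Agent.Lib.Helper07.UG

theorem gamma_plus_eq_top {F : Type*} [Field F] [Fintype F] {m : ℕ} (hm : 5 ≤ m) :
    Cfsg.gammaPOmega F (Cfsg.quadFormPlus m F) = ⊤ := by
  obtain ⟨p, hp⟩ := CharP.exists F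
  have := hp
  have : Fact p.Prime := ⟨CharP.char_is_prime F p⟩
  have hcard : Fintype.card (Fin m ⊕ Fin m) = 2 * m := by
    rw [Fintype.card_sum, Fintype.card_fin]; omega
  have C : OC (qfPlus m F) := ⟨qfPlus_nondegenerate m F, by rw [hcard]; omega⟩
  have h := gammaPOmega_eq_top C p (goodD_of_ten C p (by rw [hcard]; omega))
  exact h

end Cfsg.Agent.Lib.Helper07.OG
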