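import Cfsg.Agent.Lib.Helper07.OrthRc
import Cfsg.Agent.Lib.Helper07.OrthZc
import Cfsg.Agent.Lib.Helper07.AutPSL6
import Cfsg.Agent.Lib.Helper07.PSLnM
import Cfsg.Agent.Lib.Helper50.PlusMain
import Cfsg.Agent.Lib.Helper41.S2717U1
import Cfsg.Agent.Lib.Helper14.S2717U2
import Cfsg.Agent.S2736

set_option autoImplicit false
set_option linter.unusedSimpArgs false
set_option linter.unusedVariables false
set_option linter.unusedSectionVars false
set_option linter.style.haveILetI false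

/-! Graph-field involutions of `PΩ⁺`: normal form, order of the field automorphism, and
conjugacy under `Inndiag`. -/

namespace Cfsg.Agent.Lib.Helper07.OG

open Module Matrix Cfsg.Agent.Lib.Helper43 Cfsg.Agent.Lib.Helper07.UG Cfsg.Agent.Lib.Helper08
open Cfsg.Agent.Lib.Helper50 Cfsg.Agent.Lib.Helper26.LangGO

universe u

section A

variable {F : Type u} [Field F] [Fintype F] {m : ℕ}

/-- normal form of a graph-field automorphism (extracted from Helper50.plus_coset_main). -/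
theorem gf_normal_form (hm : 5 ≤ m) (x : MulAut (Cfsg.POmega F (Cfsg.quadFormPlus m F)))
    (hx : Cfsg.IsGraphFieldAutClassPOmegaPlus m x) :
    ∃ (α : MulAut (Cfsg.POmega F (Cfsg.quadFormPlus m F)))
      (σ : ↥(compatAut (Cfsg.quadFormPlus m F))) (t : SimPlus m F), σ ≠ 1 ∧
        sigmaGO (Cfsg.quadFormPlus m F) σ t = t ∧ t ∉ clsPlus m ∧ t * t = 1 ∧
        α * x * α⁻¹ = autPO (Cfsg.quadFormPlus m F) t *
          fieldAutPO (Cfsg.quadFormPlus m F) σ := by
  have hm1 : 1 ≤ m := by omega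
  obtain ⟨α, γ, φ, σ, v, r₀, hσ, hv, hfix, hr₀, hγ, hφ, hα⟩ := hx
  have hv' : QPlus m F v ≠ 0 := hv
  refine ⟨α, ⟨σ, compat_plus m σ⟩, reflGO (QPlus m F) v hv', ?_, ?_, ?_, ?_, ?_⟩
  · intro h
    exact hσ (congrArg Subtype.val h)
  · exact sigmaGO_reflGO (QPlus m F) ⟨σ, compat_plus m σ⟩ v hv' hfix
  · exact reflection_not_mem_clsPlus m hm1 _ v hv rfl
  · exact reflGO_mul_self (QPlus m F) v hv'
  · rw [hα]
    have e : r₀ = ((reflGO (QPlus m F) v hv' : SimPlus m F) : GL (Fin m ⊕ Fin m) F) :=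
      Units.ext hr₀
    subst e
    have h1 := (isInduced_iff (Cfsg.quadFormPlus m F) _
      (reflGO (QPlus m F) v hv' : SimPlus m F).2 γ).mp hγ
    have h2 := (isFieldAut_iff _ σ (compat_plus m σ) φ).mp hφ
    rw [h1, h2]
    rfl

/-- the square of the standard form. -/
theorem gf_sq (hm : 5 ≤ m) (σ : ↥(compatAut (Cfsg.quadFormPlus m F))) (t : SimPlus m F)
    (htσ : sigmaGO (Cfsg.quadFormPlus m F) σ t = t) (htt : t * t = 1) :
    (autPO (Cfsg.quadFormPlus m F) t * fieldAutPO (Cfsg.quadFormPlus m F) σ) ^ 2 =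
      fieldAutPO (Cfsg.quadFormPlus m F) (σ ^ 2) := by
  rw [pow_two, pow_two, map_mul]
  calc autPO (Cfsg.quadFormPlus m F) t * fieldAutPO (Cfsg.quadFormPlus m F) σ *
        (autPO (Cfsg.quadFormPlus m F) t * fieldAutPO (Cfsg.quadFormPlus m F) σ)
      = autPO (Cfsg.quadFormPlus m F) t * (fieldAutPO (Cfsg.quadFormPlus m F) σ *
          autPO (Cfsg.quadFormPlus m F) t) * fieldAutPO (Cfsg.quadFormPlus m F) σ := by group
    _ = autPO (Cfsg.quadFormPlus m F) t * (autPO (Cfsg.quadFormPlus m F) t *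
          fieldAutPO (Cfsg.quadFormPlus m F) σ) * fieldAutPO (Cfsg.quadFormPlus m F) σ := by
        rw [fieldAutPO_mul_autPO, htσ]
    _ = autPO (Cfsg.quadFormPlus m F) (t * t) * (fieldAutPO (Cfsg.quadFormPlus m F) σ *
          fieldAutPO (Cfsg.quadFormPlus m F) σ) := by rw [map_mul]; group
    _ = _ := by rw [htt, map_one, one_mul]

/-- the field automorphism of a graph-field involution has order two. -/
theorem gf_sigma_order (hm : 5 ≤ m) (σ : ↥(compatAut (Cfsg.quadFormPlus m F))) (hσ1 : σ ≠ 1)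
    (t : SimPlus m F) (htσ : sigmaGO (Cfsg.quadFormPlus m F) σ t = t) (htt : t * t = 1)
    (h2 : orderOf (autPO (Cfsg.quadFormPlus m F) t *
      fieldAutPO (Cfsg.quadFormPlus m F) σ) = 2) : orderOf σ = 2 := by
  have C : OC (QPlus m F) := ⟨QPlus_nondegenerate, by rw [card_plus_index]; omega⟩
  have hpow : (autPO (Cfsg.quadFormPlus m F) t * fieldAutPO (Cfsg.quadFormPlus m F) σ) ^ 2 = 1 := by
    rw [← h2]; exact pow_orderOf_eq_one _
  rw [gf_sq hm σ t htσ htt] at hpow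
  have hσ2 : σ ^ 2 = 1 := fieldAutPO_injective_OC (QPlus m F) C (hpow.trans (map_one _).symm)
  have hdvd := orderOf_dvd_of_pow_eq_one hσ2
  rcases (Nat.dvd_prime Nat.prime_two).mp hdvd with h | h
  · exact absurd (orderOf_eq_one_iff.mp h) hσ1
  · exact h

/-- commutators of automorphisms of `PΩ⁺` are inner-diagonal. -/
theorem comm_mem_inndiagPlus (hm : 5 ≤ m) (a b : MulAut (Cfsg.POmega F (Cfsg.quadFormPlus m F))) :
    a * b * a⁻¹ * b⁻¹ ∈ Cfsg.inndiagPOmegaPlus m F := by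
  obtain ⟨p, hp⟩ := CharP.exists F
  haveI := hp
  haveI : Fact p.Prime := ⟨CharP.char_is_prime F p⟩
  have hm1 : 1 ≤ m := by omega
  have C : OC (QPlus m F) := ⟨QPlus_nondegenerate, by rw [card_plus_index]; omega⟩
  have hAut : Cfsg.gammaPOmega F ⇑(QPlus m F) = ⊤ := gamma_plus_eq_top (F := F) hm
  haveI hN : (Cfsg.inndiagPOmegaPlus m F).Normal := inndiagPOmegaPlus_normal m hAut
  haveI : IsCyclic (RingAut F) := isCyclic_ringAut p
  letI : CommGroup (RingAut F) := IsCyclic.commGroup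
  refine @Cfsg.Agent.Lib.Helper14.S2717K.comm_mod_of_cyclic _ _ _ _ _ (kappa C p hAut)
    (Cfsg.inndiagPOmegaPlus m F) hN ?_ ?_ a b
  · rw [kappa_ker, inndiagPOmegaPlus_eq]
    rintro _ ⟨g, -, rfl⟩
    exact ⟨g, rfl⟩
  · intro a ha b hb hna hnb
    rw [kappa_ker] at ha hb
    obtain ⟨g, rfl⟩ := ha
    obtain ⟨h, rfl⟩ := hb
    have hg : g ∉ clsPlus m := fun hg => hna (by rw [inndiagPOmegaPlus_eq]; exact ⟨g, hg, rfl⟩)
    have hh : h ∉ clsPlus m := fun hh => hnb (by rw [inndiagPOmegaPlus_eq]; exact ⟨h, hh, rfl⟩)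
    rw [inndiagPOmegaPlus_eq, ← map_mul]
    exact ⟨g * h, mul_mem_clsPlus_of_not m g h hg hh, rfl⟩

end A

end Cfsg.Agent.Lib.Helper07.OG
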