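import Cfsg.Agent.Lib.Helper07.OrthUa

set_option autoImplicit false
set_option linter.unusedSimpArgs false
set_option linter.unusedVariables false
set_option linter.unusedSectionVars false
set_option linter.style.haveILetI false

/-! Graph-field involutions of `PΩ⁺`: parity of `f`, conjugacy under `Inndiag`, and the
standard representative. -/

namespace Cfsg.Agent.Lib.Helper07.OG

open Module Matrix Cfsg.Agent.Lib.Helper43 Cfsg.Agent.Lib.Helper07.UG Cfsg.Agent.Lib.Helper08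
open Cfsg.Agent.Lib.Helper50 Cfsg.Agent.Lib.Helper26.LangGO

universe u

section B

variable {F : Type u} [Field F] [Fintype F] {m : ℕ}

/-- the data of a graph-field involution. -/
theorem gf_data (hm : 5 ≤ m) (x : MulAut (Cfsg.POmega F (Cfsg.quadFormPlus m F)))
    (hx : Cfsg.IsGraphFieldAutClassPOmegaPlus m x) (hx2 : orderOf x = 2) :
    ∃ (α : MulAut (Cfsg.POmega F (Cfsg.quadFormPlus m F)))
      (σ : ↥(compatAut (Cfsg.quadFormPlus m F))) (t : SimPlus m F), orderOf σ = 2 ∧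
        sigmaGO (Cfsg.quadFormPlus m F) σ t = t ∧ t ∉ clsPlus m ∧ t * t = 1 ∧
        α * x * α⁻¹ = autPO (Cfsg.quadFormPlus m F) t *
          fieldAutPO (Cfsg.quadFormPlus m F) σ := by
  obtain ⟨α, σ, t, hσ1, htσ, htc, htt, hα⟩ := gf_normal_form hm x hx
  refine ⟨α, σ, t, ?_, htσ, htc, htt, hα⟩
  apply gf_sigma_order hm σ hσ1 t htσ htt
  rw [← hα]
  have : α * x * α⁻¹ = MulAut.conj α x := by simp [MulAut.conj_apply]
  rw [this, MulEquiv.orderOf_eq]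
  exact hx2

/-- `f` is even. -/
theorem gf_even {p f : ℕ} [Fact p.Prime] (hF : Fintype.card F = p ^ f)
    (σ : ↥(compatAut (Cfsg.quadFormPlus m F))) (hσ : orderOf σ = 2) : Even f := by
  have h1 : orderOf (σ : RingAut F) = 2 := by
    rw [← hσ]; exact Subgroup.orderOf_coe σ
  obtain ⟨h2, -⟩ := card_fixK p hF (σ : RingAut F) h1 (by norm_num)
  exact (even_iff_two_dvd).2 h2

/-- the involution of the field is unique. -/
theorem gf_sigma_unique (σ σ₂ : ↥(compatAut (Cfsg.quadFormPlus m F))) (hσ : orderOf σ = 2)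
    (hσ₂ : orderOf σ₂ = 2) : σ = σ₂ := by
  obtain ⟨p, hp⟩ := CharP.exists F
  haveI := hp
  haveI : Fact p.Prime := ⟨CharP.char_is_prime F p⟩
  haveI : IsCyclic (RingAut F) := isCyclic_ringAut p
  haveI : Finite (RingAut F) :=
    Finite.of_injective (fun σ : RingAut F => ((σ : F ≃+* F) : F → F)) DFunLike.coe_injective
  exact Cfsg.Agent.Lib.Helper41.S2717K.unique_involution_cyclic σ σ₂ hσ hσ₂

/-- two graph-field involutions differ by an inner-diagonal automorphism. -/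
theorem gf_quot_mem (hm : 5 ≤ m) (x y : MulAut (Cfsg.POmega F (Cfsg.quadFormPlus m F)))
    (hx : Cfsg.IsGraphFieldAutClassPOmegaPlus m x) (hx2 : orderOf x = 2)
    (hy : Cfsg.IsGraphFieldAutClassPOmegaPlus m y) (hy2 : orderOf y = 2) :
    y * x⁻¹ ∈ Cfsg.inndiagPOmegaPlus m F := by
  obtain ⟨α, σ, t, hσ, htσ, htc, htt, hα⟩ := gf_data hm x hx hx2
  obtain ⟨β, σ₂, t₂, hσ₂, htσ₂, htc₂, htt₂, hβ⟩ := gf_data hm y hy hy2
  have hσσ : σ₂ = σ := gf_sigma_unique σ₂ σ hσ₂ hσ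
  subst hσσ
  have hAut : Cfsg.gammaPOmega F (Cfsg.quadFormPlus m F) = ⊤ := gamma_plus_eq_top (F := F) hm
  haveI hN : (Cfsg.inndiagPOmegaPlus m F).Normal := inndiagPOmegaPlus_normal m hAut
  have hcomm : ∀ a b : MulAut (Cfsg.POmega F (Cfsg.quadFormPlus m F)),
      (QuotientGroup.mk a : MulAut (Cfsg.POmega F (Cfsg.quadFormPlus m F)) ⧸
        Cfsg.inndiagPOmegaPlus m F) * QuotientGroup.mk b =
        QuotientGroup.mk b * QuotientGroup.mk a := by
    intro a b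
    rw [← QuotientGroup.mk_mul, ← QuotientGroup.mk_mul, QuotientGroup.eq]
    have h := comm_mem_inndiagPlus hm b⁻¹ a⁻¹
    have e : (a * b)⁻¹ * (b * a) = b⁻¹ * a⁻¹ * b⁻¹⁻¹ * a⁻¹⁻¹ := by group
    rw [e]
    exact h
  have hx' : x = α⁻¹ * (autPO (Cfsg.quadFormPlus m F) t *
      fieldAutPO (Cfsg.quadFormPlus m F) σ₂) * α := by rw [← hα]; group
  have hy' : y = β⁻¹ * (autPO (Cfsg.quadFormPlus m F) t₂ *
      fieldAutPO (Cfsg.quadFormPlus m F) σ₂) * β := by rw [← hβ]; group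
  have hYX : (autPO (Cfsg.quadFormPlus m F) t₂ * fieldAutPO (Cfsg.quadFormPlus m F) σ₂) *
      (autPO (Cfsg.quadFormPlus m F) t * fieldAutPO (Cfsg.quadFormPlus m F) σ₂)⁻¹ ∈
      Cfsg.inndiagPOmegaPlus m F := by
    have e : (autPO (Cfsg.quadFormPlus m F) t₂ * fieldAutPO (Cfsg.quadFormPlus m F) σ₂) *
        (autPO (Cfsg.quadFormPlus m F) t * fieldAutPO (Cfsg.quadFormPlus m F) σ₂)⁻¹ =
        autPO (Cfsg.quadFormPlus m F) (t₂ * t) := by
      have ht' : t⁻¹ = t := inv_eq_of_mul_eq_one_left htt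
      rw [map_mul]
      conv_rhs => rw [← ht', map_inv]
      group
    rw [e, inndiagPOmegaPlus_eq]
    exact ⟨t₂ * t, mul_mem_clsPlus_of_not m t₂ t htc₂ htc, rfl⟩
  rw [← QuotientGroup.eq_one_iff] at hYX ⊢
  rw [hx', hy']
  simp only [QuotientGroup.mk_mul, QuotientGroup.mk_inv] at hYX ⊢
  obtain ⟨A, hA⟩ : ∃ A, A = (QuotientGroup.mk α : MulAut (Cfsg.POmega F (Cfsg.quadFormPlus m F)) ⧸
        Cfsg.inndiagPOmegaPlus m F) := ⟨_, rfl⟩
  obtain ⟨B, hB⟩ : ∃ B, B = (QuotientGroup.mk β : MulAut (Cfsg.POmega F (Cfsg.quadFormPlus m F)) ⧸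
        Cfsg.inndiagPOmegaPlus m F) := ⟨_, rfl⟩
  obtain ⟨T, hT⟩ : ∃ T, T = (QuotientGroup.mk (autPO (Cfsg.quadFormPlus m F) t) :
      MulAut (Cfsg.POmega F (Cfsg.quadFormPlus m F)) ⧸ Cfsg.inndiagPOmegaPlus m F) := ⟨_, rfl⟩
  obtain ⟨T₂, hT₂⟩ : ∃ T₂, T₂ = (QuotientGroup.mk (autPO (Cfsg.quadFormPlus m F) t₂) :
      MulAut (Cfsg.POmega F (Cfsg.quadFormPlus m F)) ⧸ Cfsg.inndiagPOmegaPlus m F) := ⟨_, rfl⟩
  obtain ⟨S, hS⟩ : ∃ S, S = (QuotientGroup.mk (fieldAutPO (Cfsg.quadFormPlus m F) σ₂) :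
      MulAut (Cfsg.POmega F (Cfsg.quadFormPlus m F)) ⧸ Cfsg.inndiagPOmegaPlus m F) := ⟨_, rfl⟩
  rw [← hT, ← hT₂, ← hS] at hYX
  rw [← hA, ← hB, ← hT, ← hT₂, ← hS]
  have hc : ∀ a b : MulAut (Cfsg.POmega F (Cfsg.quadFormPlus m F)) ⧸
      Cfsg.inndiagPOmegaPlus m F, a * b = b * a := by
    intro a b
    induction a using QuotientGroup.induction_on with
    | H a =>
      induction b using QuotientGroup.induction_on with
      | H b => exact hcomm a b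
  calc B⁻¹ * (T₂ * S) * B * (A⁻¹ * (T * S) * A)⁻¹
      = (B⁻¹ * ((T₂ * S) * B)) * (A⁻¹ * ((T * S) * A))⁻¹ := by group
    _ = (B⁻¹ * (B * (T₂ * S))) * (A⁻¹ * (A * (T * S)))⁻¹ := by
        rw [hc (T₂ * S) B, hc (T * S) A]
    _ = T₂ * S * (T * S)⁻¹ := by group
    _ = 1 := hYX

/-- **any two graph-field involutions are conjugate under `Inndiag`**. -/
theorem gf_conj (hm : 5 ≤ m) (x y : MulAut (Cfsg.POmega F (Cfsg.quadFormPlus m F)))
    (hx : Cfsg.IsGraphFieldAutClassPOmegaPlus m x) (hx2 : orderOf x = 2)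
    (hy : Cfsg.IsGraphFieldAutClassPOmegaPlus m y) (hy2 : orderOf y = 2) :
    Cfsg.IsConjUnder (Cfsg.inndiagPOmegaPlus m F) x y := by
  have hδ := gf_quot_mem hm x y hx hx2 hy hy2
  have h := (Cfsg.Agent.S2736.result hm x (y * x⁻¹) (Or.inr hx) Nat.prime_two hx2 hδ).mp
  have e : y * x⁻¹ * x = y := by group
  rw [e] at h
  exact h hy2

end B

end Cfsg.Agent.Lib.Helper07.OG
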