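import Cfsg.Agent.Lib.Helper07.OrthUb
import Cfsg.Agent.Lib.Helper07.OrthTg
import Cfsg.Agent.Lib.Helper50.MinusOdd

set_option autoImplicit false
set_option linter.unusedSimpArgs false
set_option linter.unusedVariables false
set_option linter.unusedSectionVars false
set_option linter.style.haveILetI false

/-! The standard graph-field involution of `PΩ⁺`, its transport to the split minus coordinates,
and the centralizer of a field automorphism of the split minus form. -/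

namespace Cfsg.Agent.Lib.Helper07.OG

open Module Matrix Cfsg.Agent.Lib.Helper43 Cfsg.Agent.Lib.Helper07.UG Cfsg.Agent.Lib.Helper08
open Cfsg.Agent.Lib.Helper51.POAut Cfsg.Agent.Lib.Helper50 Cfsg.Agent.Lib.Helper26.LangGO

universe u v

section C

variable {F : Type u} [Field F] [Fintype F] (k : ℕ)

theorem QPlus_v0_ne : (QPlus (k + 1) F) (v0 k) ≠ 0 := by
  show Cfsg.quadFormPlus (k + 1) F (v0 k) ≠ 0
  rw [quadFormPlus_v0]
  exact neg_ne_zero.2 one_ne_zero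

/-- the standard graph-field automorphism. -/
noncomputable def gfStd (σ : ↥(compatAut (Cfsg.quadFormPlus (k + 1) F))) :
    MulAut (Cfsg.POmega F (Cfsg.quadFormPlus (k + 1) F)) :=
  autPO (Cfsg.quadFormPlus (k + 1) F) (reflGO (QPlus (k + 1) F) (v0 k) (QPlus_v0_ne k)) *
    fieldAutPO (Cfsg.quadFormPlus (k + 1) F) σ

theorem gfStd_isGF (σ : ↥(compatAut (Cfsg.quadFormPlus (k + 1) F))) (hσ : σ ≠ 1) :
    Cfsg.IsGraphFieldAutClassPOmegaPlus (k + 1) (gfStd k σ) := by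
  refine ⟨1, autPO (Cfsg.quadFormPlus (k + 1) F) (reflGO (QPlus (k + 1) F) (v0 k) (QPlus_v0_ne k)),
    fieldAutPO (Cfsg.quadFormPlus (k + 1) F) σ, σ.1, v0 k,
    ((reflGO (QPlus (k + 1) F) (v0 k) (QPlus_v0_ne k) : SimPlus (k + 1) F) :
      GL (Fin (k + 1) ⊕ Fin (k + 1)) F), ?_, QPlus_v0_ne k, v0_fixed k σ.1, rfl, ?_, ?_, ?_⟩
  · intro h
    apply hσ
    apply Subtype.ext
    exact h
  · exact (isInduced_iff (Cfsg.quadFormPlus (k + 1) F) _
      (reflGO (QPlus (k + 1) F) (v0 k) (QPlus_v0_ne k) : SimPlus (k + 1) F).2 _).mpr rfl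
  · exact (isFieldAut_iff _ σ.1 σ.2 _).mpr rfl
  · rw [one_mul, inv_one, mul_one]
    rfl

theorem gfStd_order (hk : 4 ≤ k) (σ : ↥(compatAut (Cfsg.quadFormPlus (k + 1) F)))
    (hσ : orderOf σ = 2) : orderOf (gfStd k σ) = 2 := by
  have C : OC (QPlus (k + 1) F) := ⟨QPlus_nondegenerate, by rw [card_plus_index]; omega⟩
  have hσ1 : σ ≠ 1 := by
    intro h
    rw [h, orderOf_one] at hσ
    omega
  obtain ⟨t, ht⟩ : ∃ t : SimPlus (k + 1) F, t = reflGO (QPlus (k + 1) F) (v0 k) (QPlus_v0_ne k) :=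
    ⟨_, rfl⟩
  have hg : gfStd k σ = autPO (Cfsg.quadFormPlus (k + 1) F) t *
      fieldAutPO (Cfsg.quadFormPlus (k + 1) F) σ := by rw [ht]; rfl
  have hfix : sigmaGO (Cfsg.quadFormPlus (k + 1) F) σ t = t := by
    rw [ht]
    exact sigmaGO_reflGO (QPlus (k + 1) F) σ (v0 k) (QPlus_v0_ne k) (v0_fixed k σ.1)
  have htt : t * t = 1 := by
    rw [ht]
    exact reflGO_mul_self (QPlus (k + 1) F) (v0 k) (QPlus_v0_ne k)
  have hsq := gf_sq (m := k + 1) (by omega) σ t hfix htt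
  rw [hg]
  apply orderOf_eq_prime
  · rw [hsq]
    have : σ ^ 2 = 1 := by rw [← hσ]; exact pow_orderOf_eq_one σ
    rw [this, map_one]
  · intro h
    have h' : fieldAutPO (Cfsg.quadFormPlus (k + 1) F) σ =
        autPO (Cfsg.quadFormPlus (k + 1) F) t⁻¹ := by
      rw [map_inv]
      exact eq_inv_of_mul_eq_one_right h
    exact hσ1 (fieldAutPO_eq_autPO_imp_OC (QPlus (k + 1) F) C σ _ h')

/-- **the standard graph-field automorphism becomes a field automorphism** in the split minus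
coordinates. -/
theorem gfStd_congr (σ : ↥(compatAut (Cfsg.quadFormPlus (k + 1) F))) {ρ ρ' a b : F} (h : ρ ≠ ρ')
    (h1 : σ.1 ρ = ρ') (h2 : σ.1 ρ' = ρ) (ha : -(ρ + ρ') = a) (hb : ρ * ρ' = b)
    (hcompat : σ.1 ∈ compatAut (Cfsg.quadFormMinus k F a b))
    (hP : ∀ v, (QMinus k F a b) (Pm k ρ ρ' *ᵥ v) = (QPlus (k + 1) F) v) :
    MulAut.congr (isoPOR ⇑(QMinus k F a b) ⇑(QPlus (k + 1) F) (rpair_Pm_Pp k h) hP) (gfStd k σ) =
      fieldAutPO (Cfsg.quadFormMinus k F a b) ⟨σ.1, hcompat⟩ := by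
  obtain ⟨t, ht⟩ : ∃ t : SimPlus (k + 1) F, t = reflGO (QPlus (k + 1) F) (v0 k) (QPlus_v0_ne k) :=
    ⟨_, rfl⟩
  have hsemi : Cfsg.IsSemisimilarityPair (⇑(QPlus (k + 1) F))
      (t : GL (Fin (k + 1) ⊕ Fin (k + 1)) F) σ.1 := by
    refine ⟨1, fun v => ?_⟩
    rw [Units.val_one, one_mul]
    have e1 := Cfsg.Agent.Lib.Helper19.reflectionMatrix_isometry (QPlus (k + 1) F) (v0 k)
      (QPlus_v0_ne k) (fun i => σ.1 (v i))
    have e2 : (QPlus (k + 1) F) (fun i => σ.1 (v i)) = σ.1 ((QPlus (k + 1) F) v) := σ.2 v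
    rw [← e2, ← e1, ht]
    rfl
  have hX : gfStd k σ = autS (t : GL (Fin (k + 1) ⊕ Fin (k + 1)) F) σ.1 hsemi := by
    apply eq_autS_of_isInduced hsemi
    have := (isInducedSemi_iff (Cfsg.quadFormPlus (k + 1) F)
      (t : GL (Fin (k + 1) ⊕ Fin (k + 1)) F) t.2 σ.1 σ.2 (gfStd k σ)).mpr (by rw [ht]; rfl)
    exact this
  rw [hX]
  have hmat : Pm k ρ ρ' * ((t : GL (Fin (k + 1) ⊕ Fin (k + 1)) F) :
      Matrix (Fin (k + 1) ⊕ Fin (k + 1)) (Fin (k + 1) ⊕ Fin (k + 1)) F) *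
      (Pp k ρ ρ').map σ.1 = 1 := by
    rw [ht]
    exact Pm_refl_Pp_map k σ.1 h h1 h2
  have h3 := congr_isoPOR_autS (rpair_Pm_Pp k h) hP
    (t : GL (Fin (k + 1) ⊕ Fin (k + 1)) F) σ.1 hsemi hmat
  exact (isFieldAut_iff _ σ.1 hcompat _).mp h3

end C

end Cfsg.Agent.Lib.Helper07.OG
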