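import Cfsg.Agent.Lib.Helper07.OrthUc

set_option autoImplicit false
set_option linter.unusedSimpArgs false
set_option linter.unusedVariables false
set_option linter.unusedSectionVars false
set_option linter.style.haveILetI false

/-! The centralizer of a field automorphism of the (possibly split) minus form whose binary
coefficients come from the fixed field. -/

namespace Cfsg.Agent.Lib.Helper07.OG

open Module Matrix Cfsg.Agent.Lib.Helper43 Cfsg.Agent.Lib.Helper07.UG Cfsg.Agent.Lib.Helper08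
open Cfsg.Agent.Lib.Helper51.POAut Cfsg.Agent.Lib.Helper50 Cfsg.Agent.Lib.Helper26.LangGO

universe u v

theorem card_minus_index (k : ℕ) : Fintype.card ((Fin k ⊕ Fin k) ⊕ Fin 2) = 2 * (k + 1) := by
  rw [Fintype.card_sum, Fintype.card_sum, Fintype.card_fin, Fintype.card_fin]; omega

set_option maxHeartbeats 1600000 in
/-- the standard situation on the minus side, odd characteristic. -/
theorem std_gf_odd {F : Type u} [Field F] [Fintype F] [DecidableEq F] {p f : ℕ} [Fact p.Prime]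
    (hF : Fintype.card F = p ^ f) (hp : p ≠ 2) {k : ℕ} (hk : 3 ≤ k)
    {F₀ : Type v} [Field F₀] [Fintype F₀] [DecidableEq F₀] (j : F₀ →+* F) (a₀ b₀ : F₀)
    (hdisc : (j a₀) ^ 2 - 4 * (j b₀) ≠ 0)
    (hab₀ : ∀ z₁ z₂ : F₀, z₁ ^ 2 + a₀ * z₁ * z₂ + b₀ * z₂ ^ 2 = 0 → z₁ = 0 ∧ z₂ = 0)
    (σ : RingAut F) {r : ℕ} (hσr : orderOf σ = r) (hr0 : 0 < r)
    (hcompat : σ ∈ compatAut (Cfsg.quadFormMinus k F (j a₀) (j b₀)))
    (hj : ∀ c, σ (j c) = j c) (hj' : ∀ d : F, σ d = d → ∃ c, j c = d)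
    (hc : Compat (QMinus k F₀ a₀ b₀) (QMinus k F (j a₀) (j b₀)) j) :
    (delta (QMinus k F₀ a₀ b₀) (QMinus_vM k a₀ b₀) (k + 1)).ker.map
        ((autPO ⇑(QMinus k F (j a₀) (j b₀))).comp (bcS hc)) =
      Esub (QMinus k F (j a₀) (j b₀)) (QMinus_vM k (j a₀) (j b₀)) (k + 1) ⊓
        Subgroup.centralizer {fieldAutPO (Cfsg.quadFormMinus k F (j a₀) (j b₀)) ⟨σ, hcompat⟩} ∧
    Nonempty (↥(Esub (QMinus k F (j a₀) (j b₀)) (QMinus_vM k (j a₀) (j b₀)) (k + 1) ⊓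
        Subgroup.centralizer {fieldAutPO (Cfsg.quadFormMinus k F (j a₀) (j b₀)) ⟨σ, hcompat⟩}) ≃*
      ↥(Cfsg.inndiagPOmegaMinus k F₀ a₀ b₀)) := by
  haveI : CharP F p := charP_of_card_pow hF
  have hodd : Odd (Fintype.card F) := by
    rw [hF]; exact ((Fact.out : p.Prime).odd_of_ne_two hp).pow
  have h2 : (2 : F) ≠ 0 := two_ne_zero_of_odd_card rfl hodd
  have h2₀ : (2 : F₀) ≠ 0 := by
    intro h0
    apply h2
    have := congrArg j h0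
    rwa [map_ofNat, map_zero] at this
  have hcard := card_minus_index k
  have C : OC (QMinus k F (j a₀) (j b₀)) :=
    ⟨QMinus_nondeg_of_disc k (j a₀) (j b₀) hdisc, by rw [hcard]; omega⟩
  have C₀ : OC (QMinus k F₀ a₀ b₀) :=
    ⟨QMinus_nondeg_of_anis k a₀ b₀ hab₀, by rw [hcard]; omega⟩
  have hE₀ : Cfsg.inndiagPOmegaMinus k F₀ a₀ b₀ =
      Esub (QMinus k F₀ a₀ b₀) (QMinus_vM k a₀ b₀) (k + 1) := inndiag_odd_eq k a₀ b₀ h2₀ hab₀
  have hker := Cfsg.Agent.Lib.Helper51.S2716K.subAutC_ker _ _ hc C C₀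
  have hrange := Cfsg.Agent.Lib.Helper51.S2716K.subAutC_range
    (QMinus k F₀ a₀ b₀) (QMinus k F (j a₀) (j b₀)) hc C (QMinus_vM k a₀ b₀)
    ⟨σ, hcompat⟩ hσr hr0 hj hj'
  obtain ⟨hmap, hiso⟩ := restrict_equiv (autPO ⇑(QMinus k F (j a₀) (j b₀)))
    (autPO ⇑(QMinus k F₀ a₀ b₀)) (bcS hc) hker _ hrange
    (delta (QMinus k F (j a₀) (j b₀)) (QMinus_vM k (j a₀) (j b₀)) (k + 1)).ker
    (delta (QMinus k F₀ a₀ b₀) (QMinus_vM k a₀ b₀) (k + 1)).ker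
    (fun g₀ => by
      rw [MonoidHom.mem_ker, MonoidHom.mem_ker]
      exact (delta_bcS_iff hc (QMinus_vM k (j a₀) (j b₀)) (QMinus_vM k a₀ b₀) (k + 1) g₀).symm)
    (ker_autPO_le_ker_delta (QMinus_vM k (j a₀) (j b₀)) (k + 1) C p hcard)
  refine ⟨hmap, ?_⟩
  rw [hE₀]
  exact hiso

set_option maxHeartbeats 1600000 in
/-- the standard situation on the minus side, characteristic two. -/
theorem std_gf_even {F : Type u} [Field F] [Fintype F] {p f : ℕ} [Fact p.Prime]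
    (hF : Fintype.card F = p ^ f) (hp : p = 2) {k : ℕ} (hk : 3 ≤ k)
    {F₀ : Type v} [Field F₀] [Fintype F₀] (j : F₀ →+* F) (a₀ b₀ : F₀)
    (hdisc : (j a₀) ^ 2 - 4 * (j b₀) ≠ 0)
    (hab₀ : ∀ z₁ z₂ : F₀, z₁ ^ 2 + a₀ * z₁ * z₂ + b₀ * z₂ ^ 2 = 0 → z₁ = 0 ∧ z₂ = 0)
    (σ : RingAut F) {r : ℕ} (hσr : orderOf σ = r) (hr0 : 0 < r)
    (hcompat : σ ∈ compatAut (Cfsg.quadFormMinus k F (j a₀) (j b₀)))
    (hj : ∀ c, σ (j c) = j c) (hj' : ∀ d : F, σ d = d → ∃ c, j c = d)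
    (hc : Compat (QMinus k F₀ a₀ b₀) (QMinus k F (j a₀) (j b₀)) j) :
    Nonempty (↥(Cfsg.Inn (Cfsg.POmega F (Cfsg.quadFormMinus k F (j a₀) (j b₀))) ⊓
        Subgroup.centralizer {fieldAutPO (Cfsg.quadFormMinus k F (j a₀) (j b₀)) ⟨σ, hcompat⟩}) ≃*
      ↥(Cfsg.inndiagPOmegaMinus k F₀ a₀ b₀)) := by
  classical
  haveI : CharP F p := charP_of_card_pow hF
  have h2 : (2 : F) = 0 := by
    have := CharP.cast_eq_zero F p
    rw [hp] at this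
    exact_mod_cast this
  have h2₀ : (2 : F₀) = 0 := by
    apply j.injective
    rw [map_ofNat, map_zero]
    exact h2
  have hcard := card_minus_index k
  have C : OC (QMinus k F (j a₀) (j b₀)) :=
    ⟨QMinus_nondeg_of_disc k (j a₀) (j b₀) hdisc, by rw [hcard]; omega⟩
  have C₀ : OC (QMinus k F₀ a₀ b₀) :=
    ⟨QMinus_nondeg_of_anis k a₀ b₀ hab₀, by rw [hcard]; omega⟩
  have hE₀ : Cfsg.inndiagPOmegaMinus k F₀ a₀ b₀ =
      Cfsg.Inn (Cfsg.POmega F₀ (Cfsg.quadFormMinus k F₀ a₀ b₀)) :=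
    Cfsg.Agent.Lib.Helper19.MinusInnTwo.inndiagPOmegaMinus_eq_inn h2₀ hk _ _ hab₀
  have hker := Cfsg.Agent.Lib.Helper51.S2716K.subAutC_ker _ _ hc C C₀
  have hrange := Cfsg.Agent.Lib.Helper51.S2716K.subAutC_range
    (QMinus k F₀ a₀ b₀) (QMinus k F (j a₀) (j b₀)) hc C (QMinus_vM k a₀ b₀)
    ⟨σ, hcompat⟩ hσr hr0 hj hj'
  obtain ⟨hmap, hiso⟩ := restrict_equiv (autPO ⇑(QMinus k F (j a₀) (j b₀)))
    (autPO ⇑(QMinus k F₀ a₀ b₀)) (bcS hc) hker _ hrange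
    ((Cfsg.Inn (Cfsg.POmega F ⇑(QMinus k F (j a₀) (j b₀)))).comap
      (autPO ⇑(QMinus k F (j a₀) (j b₀))))
    ((Cfsg.Inn (Cfsg.POmega F₀ ⇑(QMinus k F₀ a₀ b₀))).comap
      (autPO ⇑(QMinus k F₀ a₀ b₀)))
    (fun g₀ => by
      rw [Subgroup.mem_comap, Subgroup.mem_comap]
      exact (Cfsg.Agent.Lib.Helper19.S2716K.inn_bcS_iff_char_two _ _ h2 hc C C₀ g₀).symm)
    (fun g hg => by
      rw [Subgroup.mem_comap, MonoidHom.mem_ker.1 hg]
      exact Subgroup.one_mem _)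
  rw [Subgroup.map_comap_eq_self (inn_le_range_autPO _),
    Subgroup.map_comap_eq_self (inn_le_range_autPO _)] at hiso
  rw [hE₀]
  exact hiso

end Cfsg.Agent.Lib.Helper07.OG
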