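import Cfsg.Agent.Lib.Helper07.OrthTg

set_option autoImplicit false
set_option linter.unusedSimpArgs false
set_option linter.unusedVariables false
set_option linter.unusedSectionVars false

/-! A similarity with square multiplier and the right determinant induces an element of `PSO`. -/

namespace Cfsg.Agent.Lib.Helper07.OG

open Module Matrix Cfsg.Agent.Lib.Helper43 Cfsg.Agent.Lib.Helper07.UG Cfsg.Agent.Lib.Helper08
open Cfsg.Agent.Lib.Helper51.POAut Cfsg.Agent.Lib.Helper50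

universe u

section generic

variable {F : Type u} [Field F] [Fintype F] {ι : Type} [Fintype ι] [DecidableEq ι]
variable (Q : QuadraticForm F (ι → F))

theorem autPO_mem_psoAut_of_sq (t : ↥(Cfsg.Geo.quadSimilarityGroup (F := F) ⇑Q)) (ν : F)
    (hν : ν ≠ 0)
    (hμ : ∀ v, Q (((t : GL ι F) : Matrix ι ι F) *ᵥ v) = ν ^ 2 * Q v)
    (hdet : ((t : GL ι F) : Matrix ι ι F).det = ν ^ Fintype.card ι) :
    autPO ⇑Q t ∈ Cfsg.psoAut F ⇑Q := by
  obtain ⟨sGL, hsGL⟩ : ∃ sGL : GL ι F, sGL =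
      Cfsg.Agent.Lib.Helper19.PgoCard.scalGL (Units.mk0 ν hν)⁻¹ * (t : GL ι F) := ⟨_, rfl⟩
  have hval : (sGL : Matrix ι ι F) = ν⁻¹ • ((t : GL ι F) : Matrix ι ι F) := by
    rw [hsGL, Units.val_mul, Cfsg.Agent.Lib.Helper19.PgoCard.scalGL_val, Matrix.smul_mul,
      Matrix.one_mul]
    simp
  have hmem : sGL ∈ Cfsg.isometryGroup F ⇑Q := by
    rw [Cfsg.Agent.Lib.Helper19.mem_isometryGroup_iff]
    intro u
    rw [hval, Matrix.smul_mulVec, QuadraticMap.map_smul, hμ, smul_eq_mul]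
    field_simp
  have hSO : (⟨sGL, hmem⟩ : ↥(Cfsg.isometryGroup F ⇑Q)) ∈ Cfsg.specialIsometryGroup F ⇑Q := by
    rw [mem_SO_iff_det]
    show (sGL : Matrix ι ι F).det = 1
    rw [hval, Matrix.det_smul, hdet, ← mul_pow, inv_mul_cancel₀ hν, one_pow]
  have heq : autPO ⇑Q t = autPO ⇑Q (inclGO Q ⟨sGL, hmem⟩) := by
    apply Cfsg.Agent.Lib.Helper19.S2716K.autPO_eq_of_smul Q _ _ ν hν
    show ((t : GL ι F) : Matrix ι ι F) = ν • (sGL : Matrix ι ι F)
    rw [hval, smul_smul, mul_inv_cancel₀ hν, one_smul]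
  rw [psoAut_eq, heq]
  exact ⟨⟨sGL, hmem⟩, hSO, rfl⟩

end generic

end Cfsg.Agent.Lib.Helper07.OG
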