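import Cfsg.Agent.Lib.Helper07.OrthUd
import Cfsg.Agent.Lib.Helper07.OrthUv3
import Cfsg.Agent.Lib.Helper50.S2717V7

set_option autoImplicit false
set_option linter.unusedSimpArgs false
set_option linter.unusedVariables false
set_option linter.unusedSectionVars false
set_option linter.style.haveILetI false

/-! Generic pieces for the class count of the standard graph-field involution. -/

namespace Cfsg.Agent.Lib.Helper07.OG

open Module Matrix Cfsg.Agent.Lib.Helper43 Cfsg.Agent.Lib.Helper07.UG Cfsg.Agent.Lib.Helper08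
open Cfsg.Agent.Lib.Helper51.POAut Cfsg.Agent.Lib.Helper50 Cfsg.Agent.Lib.Helper26.LangGO

universe u v

/-- abstract bookkeeping: a subgroup `C = κ₀(D₀)`, with a "square" predicate on `D₀`. -/
theorem count_abstract {A G₀ : Type*} [Group A] [Group G₀] (κ₀ : G₀ →* A) (D₀ : Subgroup G₀)
    (sq : G₀ → Prop) (I P C : Subgroup A) (hC : C = D₀.map κ₀)
    (hP : ∀ g ∈ D₀, κ₀ g ∈ P) (hI : ∀ g ∈ D₀, sq g → κ₀ g ∈ I)
    (gs : G₀) (hgs : gs ∈ D₀) (hsq : ∀ g ∈ D₀, ¬ sq g → sq (gs⁻¹ * g)) :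
    C ≤ P ∧ (C ≤ I ↔ κ₀ gs ∈ I) := by
  subst hC
  refine ⟨?_, ?_, ?_⟩
  · rintro _ ⟨g, hg, rfl⟩
    exact hP g hg
  · intro h
    exact h ⟨gs, hgs, rfl⟩
  · rintro h _ ⟨g, hg, rfl⟩
    by_cases hs : sq g
    · exact hI g hg hs
    · have h1 : gs⁻¹ * g ∈ D₀ := D₀.mul_mem (D₀.inv_mem hgs) hg
      have h2 := hI _ h1 (hsq g hg hs)
      have e : κ₀ g = κ₀ gs * κ₀ (gs⁻¹ * g) := by rw [← map_mul]; congr 1; group
      rw [e]
      exact I.mul_mem h h2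

section rectsymm

variable {F : Type*} [Field F] [Fintype F] {ι κ : Type} [Fintype ι] [DecidableEq ι]
  [Fintype κ] [DecidableEq κ]
variable (Q : (κ → F) → F) (Q' : (ι → F) → F)

/-- the inverse transport of `autPO`. -/
theorem congr_isoPOR_symm_autPO {P : Matrix κ ι F} {P' : Matrix ι κ F} (R : RPair P P')
    (h : ∀ v, Q (P *ᵥ v) = Q' v) (s : ↥(Cfsg.Geo.quadSimilarityGroup (F := F) Q)) :
    (MulAut.congr (isoPOR Q Q' R h)).symm (autPO Q s) =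
      autPO Q' ⟨rconj R.symm s.1, rconj_mem_sim Q' Q R.symm (R.inv_isometry Q Q' h) s.2⟩ := by
  rw [MulEquiv.symm_apply_eq, congr_isoPOR_autPO]
  congr 1
  apply Subtype.ext
  exact (rconj_rconj_symm R s.1).symm

end rectsymm

section kap

variable {F₀ : Type v} {F : Type u} [Field F₀] [Fintype F₀] [DecidableEq F₀] [Field F] [Fintype F]
  [DecidableEq F] {ι κ : Type} [Fintype ι] [DecidableEq ι] [Fintype κ] [DecidableEq κ]
variable {Q₀ : QuadraticForm F₀ (κ → F₀)} {Q : QuadraticForm F (κ → F)}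
  {Q' : QuadraticForm F (ι → F)} {j : F₀ →+* F}

/-- the transported base change of a similarity with `det = μ^m` lands in `PSO`. -/
theorem kappa_mem_pso (hc : Compat Q₀ Q j) {P : Matrix κ ι F} {P' : Matrix ι κ F} (R : RPair P P')
    (h : ∀ v, Q (P *ᵥ v) = Q' v) (hsq : ∀ c : F₀, IsSquare (j c)) {u0₀ : κ → F₀}
    (hu0₀ : Q₀ u0₀ = 1) (m : ℕ) (hcard : Fintype.card ι = 2 * m)
    (g₀ : ↥(Cfsg.Geo.quadSimilarityGroup (F := F₀) ⇑Q₀)) (hg₀ : delta Q₀ hu0₀ m g₀ = 1) :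
    (MulAut.congr (isoPOR (⇑Q) (⇑Q') R h)).symm (autPO (⇑Q) (bcS hc g₀)) ∈
      Cfsg.psoAut F ⇑Q' := by
  rw [congr_isoPOR_symm_autPO]
  obtain ⟨ν, hν⟩ := hsq (multFun Q₀ g₀ : F₀)
  have hμ0 : (multFun Q₀ g₀ : F₀) ≠ 0 := (multFun Q₀ g₀).ne_zero
  have hν0 : ν ≠ 0 := by
    rintro rfl
    rw [mul_zero] at hν
    exact hμ0 ((map_eq_zero j).1 hν)
  apply autPO_mem_psoAut_of_sq Q' _ ν hν0
  · intro v
    show Q' (((rconj R.symm (bcS hc g₀).1 : GL ι F) : Matrix ι ι F) *ᵥ v) = _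
    rw [rconj_mulVec, R.inv_isometry (⇑Q) (⇑Q') h, bcS_val,
      bc_sim' hc _ _ (multFun_spec Q₀ g₀), h, hν]
    ring
  · show ((rconj R.symm (bcS hc g₀).1 : GL ι F) : Matrix ι ι F).det = _
    rw [det_rconj, bcS_val, ← RingHom.mapMatrix_apply, ← RingHom.map_det,
      (delta_eq_one_iff hu0₀ m g₀).1 hg₀, map_pow, hν, hcard, pow_mul, pow_two]

/-- the transported base change of a similarity with `det = μ^m` and square multiplier is inner. -/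
theorem kappa_mem_inn (h2 : (2 : F) ≠ 0) (hQ₀ : (QuadraticMap.polarBilin Q₀).Nondegenerate)
    (hc : Compat Q₀ Q j) {P : Matrix κ ι F} {P' : Matrix ι κ F} (R : RPair P P')
    (h : ∀ v, Q (P *ᵥ v) = Q' v) (hsq : ∀ c : F₀, IsSquare (j c)) {u0₀ : κ → F₀}
    (hu0₀ : Q₀ u0₀ = 1) (m : ℕ) (hm : 3 ≤ m) (hcard : Fintype.card κ = 2 * m)
    (g₀ : ↥(Cfsg.Geo.quadSimilarityGroup (F := F₀) ⇑Q₀)) (hg₀ : delta Q₀ hu0₀ m g₀ = 1)
    (hμ : IsSquare (multFun Q₀ g₀ : F₀)) :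
    (MulAut.congr (isoPOR (⇑Q) (⇑Q') R h)).symm (autPO (⇑Q) (bcS hc g₀)) ∈
      Cfsg.Inn (Cfsg.POmega F ⇑Q') := by
  have h1 := Cfsg.Agent.Lib.Helper50.S2717K.inn_of_sq_mult Q₀ Q h2 hQ₀ hc hsq hu0₀ m hm hcard
    g₀ hg₀ hμ
  rw [inn_congr_iff (isoPOR (⇑Q) (⇑Q') R h)]
  rw [MulEquiv.apply_symm_apply]
  exact h1

end kap

end Cfsg.Agent.Lib.Helper07.OG
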