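import Cfsg.Agent.Lib.Helper07.OrthUa
import Cfsg.Agent.Lib.Helper50.DiagPlus
import Cfsg.Agent.Lib.Helper50.S2717V6
import Cfsg.Agent.Lib.Helper19.S2716T
import Cfsg.Agent.S0790

set_option autoImplicit false
set_option linter.unusedSimpArgs false
set_option linter.unusedVariables false
set_option linter.unusedSectionVars false

/-! Inner-ness of the automorphism induced by `ξ • diag(A, A⁻ᵀ)` on `PΩ⁺`. -/

namespace Cfsg.Agent.Lib.Helper07.OG

open Module Matrix Cfsg.Agent.Lib.Helper43 Cfsg.Agent.Lib.Helper07.UG Cfsg.Agent.Lib.Helper08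
open Cfsg.Agent.Lib.Helper50

universe u

theorem autPO_diag_mem_inn_iff {F : Type u} [Field F] [Fintype F] (hodd : Odd (Fintype.card F))
    (h4 : Fintype.card F % 4 = 1) {m : ℕ} (hm : 3 ≤ m) (t : SimPlus m F) (ξ : F) (hξ : ξ ≠ 0)
    (A : GL (Fin m) F)
    (ht : ((t : GL (Fin m ⊕ Fin m) F) : Matrix (Fin m ⊕ Fin m) (Fin m ⊕ Fin m) F) =
      ξ • Matrix.fromBlocks (A : Matrix (Fin m) (Fin m) F) 0 0
        ((A⁻¹ : GL (Fin m) F) : Matrix (Fin m) (Fin m) F)ᵀ) :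
    autPO (Cfsg.quadFormPlus m F) t ∈ Cfsg.Inn (Cfsg.POmega F (Cfsg.quadFormPlus m F)) ↔
      IsSquare (A : Matrix (Fin m) (Fin m) F).det := by
  classical
  have h2 : (2 : F) ≠ 0 := two_ne_zero_of_odd_card rfl hodd
  have hQeq : (qdataPlus (F := F) m).qf = QPlus m F := DFunLike.coe_injective rfl
  have HT := hypTriple_plus (F := F) m hm
  rw [hQeq] at HT
  have hneg : ∃ g : ↥(Cfsg.isometryGroup F ⇑(QPlus m F)), g ∈ Cfsg.Omega F ⇑(QPlus m F) ∧
      ((g : GL (Fin m ⊕ Fin m) F) : Matrix (Fin m ⊕ Fin m) (Fin m ⊕ Fin m) F) = -1 := by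
    apply (Cfsg.Agent.S0790.result (F := F) rfl hodd m (by omega)).2
    rw [Nat.pow_mod, h4, one_pow]
    -- 1 % 4 = 1
    all_goals norm_num
  have heq : autPO (Cfsg.quadFormPlus m F) t =
      autPO ⇑(QPlus m F) (inclGO (QPlus m F) (diagPlusO A)) := by
    apply Cfsg.Agent.Lib.Helper19.S2716K.autPO_eq_of_smul (QPlus m F) _ _ ξ hξ
    rw [ht, inclGO_val, diagPlusO_val]
  rw [heq, ← diagPlusO_mem_Omega_iff h2 A]
  exact Cfsg.Agent.Lib.Helper50.S2717K.autO_mem_inn_iff_of_neg (QPlus m F) h2 QPlus_nondegenerate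
    _ _ HT hneg (diagPlusO A)

end Cfsg.Agent.Lib.Helper07.OG
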