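import Cfsg.Agent.Lib.Helper07.OrthUe
import Cfsg.Agent.Lib.Helper07.OrthUv8
import Cfsg.Agent.Lib.Helper05.S2717V4b
import Cfsg.Agent.Lib.Helper51.S2717V4
import Cfsg.Agent.Lib.Helper61.S2717U8a
import Cfsg.Agent.Lib.Helper49.SpRegUnipClasses

set_option autoImplicit false
set_option linter.unusedSimpArgs false
set_option linter.unusedVariables false
set_option linter.unusedSectionVars false
set_option linter.style.haveILetI false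

/-! The special similarity with non-square multiplier and the criterion for its image to be
inner. -/

namespace Cfsg.Agent.Lib.Helper07.OG

open Module Matrix Cfsg.Agent.Lib.Helper43 Cfsg.Agent.Lib.Helper07.UG Cfsg.Agent.Lib.Helper08
open Cfsg.Agent.Lib.Helper51.POAut Cfsg.Agent.Lib.Helper50 Cfsg.Agent.Lib.Helper26.LangGO

universe u v

theorem specMat_map {F₀ : Type v} {F : Type u} [Field F₀] [Fintype F₀] [Field F] [Fintype F]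
    (k : ℕ) (j : F₀ →+* F) (a b ζ c₁ c₂ : F₀) :
    (Cfsg.Agent.Lib.Helper05.S2717K.specMat k a b ζ c₁ c₂).map j =
      Cfsg.Agent.Lib.Helper05.S2717K.specMat k (j a) (j b) (j ζ) (j c₁) (j c₂) := by
  unfold Cfsg.Agent.Lib.Helper05.S2717K.specMat
  rw [Matrix.fromBlocks_map, Matrix.fromBlocks_map]
  congr 1
  · congr 1
    · ext x y
      by_cases hxy : x = y <;> simp [Matrix.map_apply, Matrix.smul_apply, Matrix.one_apply, hxy]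
    · ext x y; simp
    · ext x y; simp
    · ext x y
      by_cases hxy : x = y <;> simp [Matrix.map_apply, Matrix.one_apply, hxy]
  · ext x y; simp
  · ext x y; simp
  · ext x y
    fin_cases x <;> fin_cases y <;> simp

/-- the plus-type vector of norm one. -/
def u1 {F : Type u} [Field F] (k : ℕ) : Fin (k + 1) ⊕ Fin (k + 1) → F :=
  Pi.single (Sum.inl (Fin.last k)) 1 + Pi.single (Sum.inr (Fin.last k)) 1

theorem quadFormPlus_u1 {F : Type u} [Field F] [Fintype F] (k : ℕ) :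
    (QPlus (k + 1) F) (u1 k) = 1 := by
  show Cfsg.quadFormPlus (k + 1) F (u1 k) = 1
  unfold Cfsg.quadFormPlus u1
  rw [Fin.sum_univ_castSucc]
  simp

set_option maxHeartbeats 1600000 in
/-- the special similarity over the fixed field with non-square multiplier. -/
theorem spec_elem {F₀ : Type v} {F : Type u} [Field F₀] [Fintype F₀] [DecidableEq F₀] [Field F]
    [Fintype F] [DecidableEq F] (k : ℕ) (hk : 2 ≤ k) (j : F₀ →+* F)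
    (hcardF : Fintype.card F = Fintype.card F₀ ^ 2) (hodd₀ : Odd (Fintype.card F₀))
    (σ : RingAut F) (hσ : orderOf σ = 2) (hj : ∀ c, σ (j c) = j c)
    (hj' : ∀ d : F, σ d = d → ∃ c, j c = d) (a₀ b₀ : F₀)
    (hab₀ : ∀ z₁ z₂ : F₀, z₁ ^ 2 + a₀ * z₁ * z₂ + b₀ * z₂ ^ 2 = 0 → z₁ = 0 ∧ z₂ = 0)
    (ρ : F) (hρ : ρ ≠ σ ρ) (ha : -(ρ + σ ρ) = j a₀) (hb : ρ * σ ρ = j b₀)
    (hc : Compat (QMinus k F₀ a₀ b₀) (QMinus k F (j a₀) (j b₀)) j)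
    (hP : ∀ v, (QMinus k F (j a₀) (j b₀)) (Pm k ρ (σ ρ) *ᵥ v) = (QPlus (k + 1) F) v) :
    ∃ gs : ↥(Cfsg.Geo.quadSimilarityGroup (F := F₀) ⇑(QMinus k F₀ a₀ b₀)),
      delta (QMinus k F₀ a₀ b₀) (QMinus_vM k a₀ b₀) (k + 1) gs = 1 ∧
      ¬ IsSquare (multFun (QMinus k F₀ a₀ b₀) gs : F₀) ∧
      ((MulAut.congr (isoPOR ⇑(QMinus k F (j a₀) (j b₀)) ⇑(QPlus (k + 1) F)
          (rpair_Pm_Pp k hρ) hP)).symm (autPO ⇑(QMinus k F (j a₀) (j b₀)) (bcS hc gs)) ∈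
        Cfsg.Inn (Cfsg.POmega F ⇑(QPlus (k + 1) F)) ↔
          (Even k ∧ Fintype.card F₀ % 4 = 1)) := by
  have h2₀ : (2 : F₀) ≠ 0 := two_ne_zero_of_odd_card rfl hodd₀
  have hodd : Odd (Fintype.card F) := by rw [hcardF]; exact hodd₀.pow
  have h4 : Fintype.card F % 4 = 1 := by
    rw [hcardF]
    obtain ⟨r, hr⟩ := hodd₀
    rw [hr]
    have : (2 * r + 1) ^ 2 = 4 * (r * r + r) + 1 := by ring
    rw [this]
    omega
  obtain ⟨ζ, hζ⟩ := exists_nonsquare_of_two_ne_zero h2₀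
  have hζ0 : ζ ≠ 0 := fun h => hζ (h ▸ ⟨0, by ring⟩)
  obtain ⟨c₁, c₂, hcc⟩ := Cfsg.Agent.Lib.Helper08.exists_norm_eq a₀ b₀ hab₀ ζ hζ0
  obtain ⟨ξ, hξ⟩ := Cfsg.Agent.Lib.Helper51.POAut.isSquare_of_ext_two j hcardF ζ
  have hξ2 : ξ ^ 2 = j ζ := by rw [hξ, pow_two]
  have hξ0 : ξ ≠ 0 := by
    rintro rfl
    rw [mul_zero] at hξ
    exact hζ0 ((map_eq_zero j).1 hξ)
  obtain ⟨hsim, hdet, -⟩ := Cfsg.Agent.Lib.Helper05.S2717K.specMat_props k a₀ b₀ ζ c₁ c₂ hcc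
  have hdet0 : (Cfsg.Agent.Lib.Helper05.S2717K.specMat k a₀ b₀ ζ c₁ c₂).det ≠ 0 := by
    rw [hdet]; exact pow_ne_zero _ hζ0
  obtain ⟨gGL, hgGL⟩ : ∃ g : GL ((Fin k ⊕ Fin k) ⊕ Fin 2) F₀,
      (g : Matrix ((Fin k ⊕ Fin k) ⊕ Fin 2) ((Fin k ⊕ Fin k) ⊕ Fin 2) F₀) =
        Cfsg.Agent.Lib.Helper05.S2717K.specMat k a₀ b₀ ζ c₁ c₂ :=
    ⟨Matrix.GeneralLinearGroup.mkOfDetNeZero _ hdet0, rfl⟩
  have hmem : gGL ∈ Cfsg.Geo.quadSimilarityGroup (F := F₀) ⇑(QMinus k F₀ a₀ b₀) := by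
    refine ⟨Units.mk0 ζ hζ0, fun v => ?_⟩
    rw [hgGL]
    exact hsim v
  have hmult : multFun (QMinus k F₀ a₀ b₀) ⟨gGL, hmem⟩ = Units.mk0 ζ hζ0 :=
    multFun_unique _ (QMinus_vM k a₀ b₀) ⟨gGL, hmem⟩ _ (fun v => by
      show (QMinus k F₀ a₀ b₀) ((gGL : Matrix ((Fin k ⊕ Fin k) ⊕ Fin 2) ((Fin k ⊕ Fin k) ⊕ Fin 2) F₀) *ᵥ v) = _
      rw [hgGL]
      exact hsim v)
  refine ⟨⟨gGL, hmem⟩, ?_, ?_, ?_⟩
  · rw [delta_eq_one_iff, hmult]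
    show (gGL : Matrix ((Fin k ⊕ Fin k) ⊕ Fin 2) ((Fin k ⊕ Fin k) ⊕ Fin 2) F₀).det = _
    rw [hgGL, hdet]
    rfl
  · rw [hmult]
    exact hζ
  · rw [congr_isoPOR_symm_autPO]
    have hη : (j c₁ - j c₂ * ρ) * (j c₁ - j c₂ * σ ρ) = ξ ^ 2 := by
      have h1 := congrArg j hcc
      simp only [map_add, map_mul, map_pow] at h1
      rw [← ha, ← hb] at h1
      rw [hξ2]
      linear_combination h1
    obtain ⟨A, hAdet, hA⟩ := Cfsg.Agent.Lib.Helper51.S2717K.spec_conj k ρ (σ ρ) ξ (j c₁) (j c₂)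
      hρ hξ0 hη
    have ht : (((⟨rconj (rpair_Pm_Pp k hρ).symm (bcS hc ⟨gGL, hmem⟩).1,
          rconj_mem_sim _ _ (rpair_Pm_Pp k hρ).symm
            ((rpair_Pm_Pp k hρ).inv_isometry _ _ hP) (bcS hc ⟨gGL, hmem⟩).2⟩ :
        ↥(Cfsg.Geo.quadSimilarityGroup (F := F) ⇑(QPlus (k + 1) F))) :
          GL (Fin (k + 1) ⊕ Fin (k + 1)) F) :
          Matrix (Fin (k + 1) ⊕ Fin (k + 1)) (Fin (k + 1) ⊕ Fin (k + 1)) F) =
        ξ • Matrix.fromBlocks (A : Matrix (Fin (k + 1)) (Fin (k + 1)) F) 0 0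
          ((A⁻¹ : GL (Fin (k + 1)) F) : Matrix (Fin (k + 1)) (Fin (k + 1)) F)ᵀ := by
      rw [← hA]
      show Pp k ρ (σ ρ) * ((bcS hc ⟨gGL, hmem⟩ : GL ((Fin k ⊕ Fin k) ⊕ Fin 2) F) : Matrix ((Fin k ⊕ Fin k) ⊕ Fin 2) ((Fin k ⊕ Fin k) ⊕ Fin 2) F) *
        Pm k ρ (σ ρ) = _
      rw [bcS_val]
      show Pp k ρ (σ ρ) * ((gGL : Matrix ((Fin k ⊕ Fin k) ⊕ Fin 2) ((Fin k ⊕ Fin k) ⊕ Fin 2) F₀).map j) * Pm k ρ (σ ρ) = _
      rw [hgGL, specMat_map, ← ha, ← hb, ← hξ2]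
    have h8 := autPO_diag_mem_inn_iff hodd h4
      (m := k + 1) (by omega) _ ξ hξ0 A ht
    have h9 := Cfsg.Agent.Lib.Helper61.S2717K.isSquare_torus_iff j hcardF hodd₀ σ hσ hj hj' ζ hζ
      ξ (j c₁ - j c₂ * ρ) hξ2 (by
        rw [map_sub, map_mul, hj, hj, hη, hξ2]) k
    rw [← h9, ← hAdet]
    exact h8

end Cfsg.Agent.Lib.Helper07.OG
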