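import Cfsg.Agent.Lib.Helper07.OrthUf
import Cfsg.Agent.Lib.Helper42.S2717V5
import Cfsg.Agent.Lib.Helper65.S2717V2
import Cfsg.Agent.Lib.Helper48.S2717U6
import Cfsg.Agent.Lib.Helper70.S2717U3
import Cfsg.Agent.Lib.Helper50.PlusInndiag

set_option autoImplicit false
set_option linter.unusedSimpArgs false
set_option linter.unusedVariables false
set_option linter.unusedSectionVars false
set_option linter.style.haveILetI false

/-! The centralizer and the class count of the standard graph-field involution. -/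

namespace Cfsg.Agent.Lib.Helper07.OG

open Module Matrix Cfsg.Agent.Lib.Helper43 Cfsg.Agent.Lib.Helper07.UG Cfsg.Agent.Lib.Helper08
open Cfsg.Agent.Lib.Helper51.POAut Cfsg.Agent.Lib.Helper50 Cfsg.Agent.Lib.Helper26.LangGO

universe u v

/-- inner automorphisms are inner-diagonal (plus type). -/
theorem inn_le_inndiagPlus {F : Type u} [Field F] [Fintype F] {p f : ℕ} [Fact p.Prime]
    (hF : Fintype.card F = p ^ f) {k : ℕ} (hk : 3 ≤ k) :
    Cfsg.Inn (Cfsg.POmega F (Cfsg.quadFormPlus (k + 1) F)) ≤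
      Cfsg.inndiagPOmegaPlus (k + 1) F := by
  classical
  haveI : CharP F p := charP_of_card_pow hF
  by_cases hp : p = 2
  · have h2 : (2 : F) = 0 := by
      have := CharP.cast_eq_zero F p
      rw [hp] at this
      exact_mod_cast this
    rw [Cfsg.Agent.Lib.Helper48.S2717K.inndiagPOmegaPlus_eq_inn h2 (by omega)]
  · have hodd : Odd (Fintype.card F) := by
      rw [hF]; exact ((Fact.out : p.Prime).odd_of_ne_two hp).pow
    have h2 : (2 : F) ≠ 0 := two_ne_zero_of_odd_card rfl hodd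
    have hE : Cfsg.inndiagPOmegaPlus (k + 1) F =
        Esub (QPlus (k + 1) F) (quadFormPlus_u1 k) (k + 1) :=
      inndiagPlus_eq (k + 1) h2 (QPlus (k + 1) F) rfl QPlus_nondegenerate (quadFormPlus_u1 k)
    rw [hE]
    exact inn_le_Esub (quadFormPlus_u1 k) (k + 1)

set_option maxHeartbeats 3200000 in
/-- **the standard graph-field involution**: centralizer and class count. -/
theorem gfStd_main {F : Type u} [Field F] [Fintype F] {p f : ℕ} [Fact p.Prime]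
    (hF : Fintype.card F = p ^ f) {k : ℕ} (hk : 4 ≤ k)
    (σ : ↥(compatAut (Cfsg.quadFormPlus (k + 1) F))) (hσ' : orderOf σ = 2)
    (F₀ : Type v) [Field F₀] [Fintype F₀] (hF₀ : Fintype.card F₀ = p ^ (f / 2)) :
    (∃ a₀ b₀ : F₀, (∀ z₁ z₂ : F₀, z₁ ^ 2 + a₀ * z₁ * z₂ + b₀ * z₂ ^ 2 = 0 → z₁ = 0 ∧ z₂ = 0) ∧
      Nonempty (↥(Cfsg.inndiagPOmegaPlus (k + 1) F ⊓ Subgroup.centralizer {gfStd k σ}) ≃*
        ↥(Cfsg.inndiagPOmegaMinus k F₀ a₀ b₀))) ∧
    (p = 2 → Cfsg.splitClassCount (Cfsg.inndiagPOmegaPlus (k + 1) F)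
      (Cfsg.Inn (Cfsg.POmega F (Cfsg.quadFormPlus (k + 1) F))) (gfStd k σ) = 1) ∧
    ((p ≠ 2 ∧ Odd (k + 1) ∧ p ^ (f / 2) % 4 = 1) →
      Cfsg.splitClassCount (Cfsg.inndiagPOmegaPlus (k + 1) F)
        (Cfsg.Inn (Cfsg.POmega F (Cfsg.quadFormPlus (k + 1) F))) (gfStd k σ) = 4) ∧
    ((p ≠ 2 ∧ ¬ (Odd (k + 1) ∧ p ^ (f / 2) % 4 = 1)) →
      Cfsg.splitClassCount (Cfsg.inndiagPOmegaPlus (k + 1) F)
        (Cfsg.Inn (Cfsg.POmega F (Cfsg.quadFormPlus (k + 1) F))) (gfStd k σ) = 2) := by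
  classical
  haveI : CharP F p := charP_of_card_pow hF
  have hσ : orderOf (σ.1 : RingAut F) = 2 := by
    rw [← hσ']; exact Subgroup.orderOf_coe σ
  obtain ⟨hfe, -⟩ := card_fixK p hF (σ.1 : RingAut F) hσ (by norm_num)
  obtain ⟨j, hj, hj'⟩ := exists_fixed_embedding (F₀ := F₀) p hF (σ.1 : RingAut F) hσ
    (by norm_num) hF₀
  obtain ⟨a₀, b₀, ρ, hab₀, hρ, hρ2, ha, hb⟩ :=
    Cfsg.Agent.Lib.Helper42.S2717K.exists_gf_setup j (σ.1 : RingAut F) hσ hj hj'
  have hcardF : Fintype.card F = Fintype.card F₀ ^ 2 := by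
    rw [hF, hF₀, ← pow_mul]
    congr 1
    obtain ⟨c, hc⟩ := hfe
    omega
  have hdisc : (j a₀) ^ 2 - 4 * (j b₀) ≠ 0 := by
    rw [← ha, ← hb]
    have e : (-(ρ + σ.1 ρ)) ^ 2 - 4 * (ρ * σ.1 ρ) = (ρ - σ.1 ρ) ^ 2 := by ring
    rw [e]
    exact pow_ne_zero _ (sub_ne_zero.2 hρ)
  have hcompat : (σ.1 : RingAut F) ∈ compatAut (Cfsg.quadFormMinus k F (j a₀) (j b₀)) := by
    intro v
    have := quadFormMinus_comp k ((σ.1 : RingAut F) : F ≃+* F).toRingHom (j a₀) (j b₀) v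
    simp only [RingEquiv.toRingHom_eq_coe, RingHom.coe_coe] at this
    rw [hj, hj] at this
    exact this
  have hc : Compat (QMinus k F₀ a₀ b₀) (QMinus k F (j a₀) (j b₀)) j :=
    fun v => quadFormMinus_comp k j a₀ b₀ v
  have hP : ∀ v, (QMinus k F (j a₀) (j b₀)) (Pm k ρ (σ.1 ρ) *ᵥ v) = (QPlus (k + 1) F) v := by
    intro v
    have := quadFormMinus_Pm k hρ v
    rw [ha, hb] at this
    exact this
  obtain ⟨Ψ, hΨ⟩ : ∃ Ψ : MulAut (Cfsg.POmega F ⇑(QPlus (k + 1) F)) ≃*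
      MulAut (Cfsg.POmega F ⇑(QMinus k F (j a₀) (j b₀))),
      Ψ = MulAut.congr (isoPOR ⇑(QMinus k F (j a₀) (j b₀)) ⇑(QPlus (k + 1) F)
        (rpair_Pm_Pp k hρ) hP) := ⟨_, rfl⟩
  have hΨx : Ψ (gfStd k σ) =
      fieldAutPO (Cfsg.quadFormMinus k F (j a₀) (j b₀)) ⟨σ.1, hcompat⟩ := by
    rw [hΨ]
    exact gfStd_congr k σ hρ rfl hρ2 ha hb hcompat hP
  have hInn : ∀ β : MulAut (Cfsg.POmega F ⇑(QPlus (k + 1) F)),
      β ∈ Cfsg.Inn (Cfsg.POmega F ⇑(QPlus (k + 1) F)) ↔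
        Ψ β ∈ Cfsg.Inn (Cfsg.POmega F ⇑(QMinus k F (j a₀) (j b₀))) := by
    intro β
    rw [hΨ]
    exact inn_congr_iff _ β
  by_cases hp : p = 2
  · -- characteristic two
    have h2 : (2 : F) = 0 := by
      have := CharP.cast_eq_zero F p
      rw [hp] at this
      exact_mod_cast this
    have hE : Cfsg.inndiagPOmegaPlus (k + 1) F =
        Cfsg.Inn (Cfsg.POmega F (Cfsg.quadFormPlus (k + 1) F)) :=
      Cfsg.Agent.Lib.Helper48.S2717K.inndiagPOmegaPlus_eq_inn h2 (by omega)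
    refine ⟨⟨a₀, b₀, hab₀, ?_⟩, ?_, ?_, ?_⟩
    · obtain ⟨e1⟩ := centralizer_equiv Ψ _ _ hInn (gfStd k σ)
      rw [hΨx] at e1
      obtain ⟨e2⟩ := std_gf_even hF hp (by omega : 3 ≤ k) j a₀ b₀ hdisc hab₀ (σ.1 : RingAut F) hσ
        (by norm_num) hcompat hj hj' hc
      rw [hE]
      exact ⟨e1.trans e2⟩
    · intro _
      rw [hE, splitClassCount_eq_relIndex _ _ le_rfl, Subgroup.relIndex_eq_one]
      exact le_sup_left
    · intro h; exact absurd hp h.1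
    · intro h; exact absurd hp h.1
  · -- odd characteristic
    have hpodd : Odd p := (Fact.out : p.Prime).odd_of_ne_two hp
    have hodd : Odd (Fintype.card F) := by rw [hF]; exact hpodd.pow
    have hodd₀ : Odd (Fintype.card F₀) := by rw [hF₀]; exact hpodd.pow
    have h2 : (2 : F) ≠ 0 := two_ne_zero_of_odd_card rfl hodd
    have h4 : Fintype.card F % 4 = 1 := by
      rw [hcardF]
      obtain ⟨r, hr⟩ := hodd₀
      rw [hr]
      have : (2 * r + 1) ^ 2 = 4 * (r * r + r) + 1 := by ring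
      rw [this]
      omega
    have hsqF : ∀ c : F₀, IsSquare (j c) := fun c => isSquare_of_ext_two j hcardF c
    have hE : Cfsg.inndiagPOmegaPlus (k + 1) F =
        Esub (QPlus (k + 1) F) (quadFormPlus_u1 k) (k + 1) :=
      inndiagPlus_eq (k + 1) h2 (QPlus (k + 1) F) rfl QPlus_nondegenerate (quadFormPlus_u1 k)
    have hH : ∀ β : MulAut (Cfsg.POmega F ⇑(QPlus (k + 1) F)),
        β ∈ Cfsg.inndiagPOmegaPlus (k + 1) F ↔
          Ψ β ∈ Esub (QMinus k F (j a₀) (j b₀)) (QMinus_vM k (j a₀) (j b₀)) (k + 1) := by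
      intro β
      rw [hE, hΨ]
      exact Esub_congr_isoPOR (QMinus_vM k (j a₀) (j b₀)) (quadFormPlus_u1 k)
        (rpair_Pm_Pp k hρ) hP β
    obtain ⟨hmap, ⟨e2⟩⟩ := std_gf_odd hF hp (by omega : 3 ≤ k) j a₀ b₀ hdisc hab₀
      (σ.1 : RingAut F) hσ (by norm_num) hcompat hj hj' hc
    have hcount : (Even k ∧ Fintype.card F₀ % 4 = 1 →
          Cfsg.splitClassCount (Cfsg.inndiagPOmegaPlus (k + 1) F)
            (Cfsg.Inn (Cfsg.POmega F (Cfsg.quadFormPlus (k + 1) F))) (gfStd k σ) = 4) ∧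
        (¬ (Even k ∧ Fintype.card F₀ % 4 = 1) →
          Cfsg.splitClassCount (Cfsg.inndiagPOmegaPlus (k + 1) F)
            (Cfsg.Inn (Cfsg.POmega F (Cfsg.quadFormPlus (k + 1) F))) (gfStd k σ) = 2) := by
      obtain ⟨hIP, hPE, hr1, hr2⟩ := Cfsg.Agent.Lib.Helper65.S2717K.plus_relIndex hodd h4
        (m := k + 1) (by omega)
      obtain ⟨κ₀, hκ₀⟩ : ∃ κ₀ : ↥(Cfsg.Geo.quadSimilarityGroup (F := F₀) ⇑(QMinus k F₀ a₀ b₀)) →*
          MulAut (Cfsg.POmega F ⇑(QPlus (k + 1) F)),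
          κ₀ = Ψ.symm.toMonoidHom.comp
            ((autPO ⇑(QMinus k F (j a₀) (j b₀))).comp (bcS hc)) := ⟨_, rfl⟩
      have hCeq : Cfsg.inndiagPOmegaPlus (k + 1) F ⊓ Subgroup.centralizer {gfStd k σ} =
          (delta (QMinus k F₀ a₀ b₀) (QMinus_vM k a₀ b₀) (k + 1)).ker.map κ₀ := by
        rw [hκ₀, ← Subgroup.map_map, hmap]
        ext c
        constructor
        · rintro ⟨hc1, hc2⟩
          refine ⟨Ψ c, ⟨(hH c).1 hc1, ?_⟩, Ψ.symm_apply_apply c⟩
          rw [← hΨx]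
          exact (mem_centralizer_singleton_map Ψ (gfStd k σ) c).1 hc2
        · rintro ⟨y, ⟨hy1, hy2⟩, rfl⟩
          refine ⟨(hH _).2 ?_, (mem_centralizer_singleton_map Ψ (gfStd k σ) _).2 ?_⟩
          · show Ψ (Ψ.symm y) ∈ _
            rw [Ψ.apply_symm_apply]
            exact hy1
          · show Ψ (Ψ.symm y) ∈ _
            rw [Ψ.apply_symm_apply, hΨx]
            exact hy2
      obtain ⟨gs, hgs1, hgs2, hgs3⟩ := spec_elem k (by omega) j hcardF hodd₀ (σ.1 : RingAut F) hσ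
        hj hj' a₀ b₀ hab₀ ρ hρ ha hb hc hP
      have hcard := card_minus_index k
      obtain ⟨hCP, hCI⟩ := count_abstract κ₀
        (delta (QMinus k F₀ a₀ b₀) (QMinus_vM k a₀ b₀) (k + 1)).ker
        (fun g => IsSquare (multFun (QMinus k F₀ a₀ b₀) g : F₀))
        (Cfsg.Inn (Cfsg.POmega F (Cfsg.quadFormPlus (k + 1) F)))
        (Cfsg.psoAut F (Cfsg.quadFormPlus (k + 1) F))
        _ hCeq
        (fun g hg => by
          rw [hκ₀, hΨ]
          exact kappa_mem_pso hc (rpair_Pm_Pp k hρ) hP hsqF (QMinus_vM k a₀ b₀) (k + 1)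
            (by rw [card_plus_index]) g (MonoidHom.mem_ker.1 hg))
        (fun g hg hsq => by
          rw [hκ₀, hΨ]
          exact kappa_mem_inn h2 (QMinus_nondeg_of_anis k a₀ b₀ hab₀) hc (rpair_Pm_Pp k hρ) hP hsqF
            (QMinus_vM k a₀ b₀) (k + 1) (by omega) hcard g (MonoidHom.mem_ker.1 hg) hsq)
        gs (MonoidHom.mem_ker.2 hgs1)
        (fun g hg hsq => by
          show IsSquare (mult (QMinus k F₀ a₀ b₀) (QMinus_vM k a₀ b₀) (gs⁻¹ * g) : F₀)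
          rw [map_mul, map_inv, Units.val_mul, Units.val_inv_eq_inv_val, mult_apply, mult_apply]
          exact Cfsg.Agent.Lib.Helper49.isSquare_mul_of_not
            (fun h => hgs2 (isSquare_inv.1 h)) hsq)
      have hcases := Cfsg.Agent.Lib.Helper70.S2717K.relIndex_sup_cases
        (Cfsg.Inn (Cfsg.POmega F (Cfsg.quadFormPlus (k + 1) F)))
        (Cfsg.psoAut F (Cfsg.quadFormPlus (k + 1) F)) (Cfsg.inndiagPOmegaPlus (k + 1) F)
        (Cfsg.inndiagPOmegaPlus (k + 1) F ⊓ Subgroup.centralizer {gfStd k σ})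
        hIP hPE hCP hr1 hr2
      have hgs3' : κ₀ gs ∈ Cfsg.Inn (Cfsg.POmega F (Cfsg.quadFormPlus (k + 1) F)) ↔
          (Even k ∧ Fintype.card F₀ % 4 = 1) := by
        rw [hκ₀, hΨ]
        exact hgs3
      rw [splitClassCount_eq_relIndex _ _ (hIP.trans hPE)]
      constructor
      · intro h
        exact hcases.1 (hCI.2 (hgs3'.2 h))
      · intro h
        exact hcases.2 (fun hle => h (hgs3'.1 (hCI.1 hle)))
    refine ⟨⟨a₀, b₀, hab₀, ?_⟩, ?_, ?_, ?_⟩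
    · obtain ⟨e1⟩ := centralizer_equiv Ψ _ _ hH (gfStd k σ)
      rw [hΨx] at e1
      exact ⟨e1.trans e2⟩
    · intro h; exact absurd h hp
    · rintro ⟨-, hm, h4'⟩
      apply hcount.1
      refine ⟨?_, by rw [hF₀]; exact h4'⟩
      rcases hm with ⟨r, hr⟩
      exact ⟨r, by omega⟩
    · rintro ⟨-, hn⟩
      apply hcount.2
      rintro ⟨hev, h4'⟩
      apply hn
      refine ⟨?_, by rw [← hF₀]; exact h4'⟩
      rcases hev with ⟨r, hr⟩
      exact ⟨r, by omega⟩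

end Cfsg.Agent.Lib.Helper07.OG
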