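import Cfsg.Agent.Lib.Helper07.OrthV

set_option autoImplicit false
set_option linter.unusedSimpArgs false
set_option linter.unusedVariables false
set_option linter.unusedSectionVars false

/-! Orthogonal groups: the automorphisms `autS g σ h` of `PΩ` induced by semisimilarities:
composition law, uniqueness of the induced automorphism, action on the radicals `Qb u`. -/

namespace Cfsg.Agent.Lib.Helper07.OG

open Module Matrix Cfsg.Agent.Lib.Helper43 Cfsg.Agent.Lib.Helper07.UG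

variable {F : Type*} [Field F] [Fintype F] {ι : Type} [Fintype ι] [DecidableEq ι]
variable {Q : QuadraticForm F (ι → F)}

local notation "Bf" => QuadraticMap.polarBilin Q

theorem semiAct_zero (g : GL ι F) (σ : F ≃+* F) : semiAct g σ 0 = 0 := by
  unfold semiAct
  have : (fun i => σ ((0 : ι → F) i)) = 0 := by
    funext i
    simp
  rw [this, Matrix.mulVec_zero]

theorem semiAct_sub (g : GL ι F) (σ : F ≃+* F) (v w : ι → F) :
    semiAct g σ (v - w) = semiAct g σ v - semiAct g σ w := by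
  have h := semiAct_add g σ (v - w) w
  rw [sub_add_cancel] at h
  rw [h, add_sub_cancel_right]

theorem semiAct_injective (g : GL ι F) (σ : F ≃+* F) : Function.Injective (semiAct g σ) :=
  Finite.injective_iff_surjective.2 (semiAct_surjective g σ)

theorem semiAct_ne_zero (g : GL ι F) (σ : F ≃+* F) {v : ι → F} (hv : v ≠ 0) :
    semiAct g σ v ≠ 0 := by
  intro h
  apply hv
  apply semiAct_injective g σ
  rw [h, semiAct_zero]

theorem semiAct_refl (g : GL ι F) (v : ι → F) :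
    semiAct g (RingEquiv.refl F) v = (g : Matrix ι ι F) *ᵥ v := rfl

/-- composition of semilinear maps. -/
theorem semiAct_comp (g g' : GL ι F) (σ σ' : F ≃+* F) (v : ι → F) :
    semiAct g σ (semiAct g' σ' v) =
      semiAct (g * Matrix.GeneralLinearGroup.map (σ : F →+* F) g') (σ'.trans σ) v := by
  unfold semiAct
  rw [Units.val_mul, ← Matrix.mulVec_mulVec]
  congr 1
  funext i
  have h1 := (σ : F →+* F).map_mulVec (g' : Matrix ι ι F) (fun j => σ' (v j)) i
  exact h1

theorem semi_mul {g g' : GL ι F} {σ σ' : F ≃+* F} (h : Cfsg.IsSemisimilarityPair (⇑Q) g σ)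
    (h' : Cfsg.IsSemisimilarityPair (⇑Q) g' σ') :
    Cfsg.IsSemisimilarityPair (⇑Q) (g * Matrix.GeneralLinearGroup.map (σ : F →+* F) g')
      (σ'.trans σ) := by
  obtain ⟨c, hc⟩ := h
  obtain ⟨c', hc'⟩ := h'
  refine ⟨c * Units.map (σ : F →* F) c', ?_⟩
  intro v
  have h1 := semiAct_comp g g' σ σ' v
  unfold semiAct at h1
  rw [← h1, hc, hc', map_mul]
  simp only [Units.val_mul, Units.coe_map, MonoidHom.coe_coe, RingEquiv.coe_trans,
    Function.comp_apply, mul_assoc]

/-- uniqueness of the automorphism induced by a semisimilarity. -/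
theorem eq_autS_of_isInduced {g : GL ι F} {σ : F ≃+* F} (h : Cfsg.IsSemisimilarityPair (⇑Q) g σ)
    {β : MulAut (Cfsg.POmega F ⇑Q)} (hβ : Cfsg.IsInducedBySemilinearPOmega (⇑Q) g σ β) :
    β = autS g σ h := by
  ext x
  obtain ⟨s, rfl⟩ := prj_surjective x
  have h1 := hβ s (autSΩ g σ h s) (by rw [autSΩ_val, semiConj_val])
  have h2 := isInduced_autS g σ h s (autSΩ g σ h s) (by rw [autSΩ_val, semiConj_val])
  exact h1.trans h2.symm

theorem semi_of_Omega (s : ↥(Cfsg.Omega F ⇑Q)) :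
    Cfsg.IsSemisimilarityPair (⇑Q) ((s : ↥(Cfsg.isometryGroup F ⇑Q)) : GL ι F)
      (RingEquiv.refl F) := by
  refine ⟨1, ?_⟩
  intro v
  have h1 := (Cfsg.Agent.Lib.Helper19.mem_isometryGroup_iff (Q := ⇑Q)
    (g := ((s : ↥(Cfsg.isometryGroup F ⇑Q)) : GL ι F))).1 s.1.2 v
  simpa using h1

theorem isInduced_conj (s : ↥(Cfsg.Omega F ⇑Q)) :
    Cfsg.IsInducedBySemilinearPOmega (⇑Q) ((s : ↥(Cfsg.isometryGroup F ⇑Q)) : GL ι F)
      (RingEquiv.refl F) (MulAut.conj (prj s)) := by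
  intro t t' htt'
  show prj s * prj t * (prj s)⁻¹ = prj t'
  rw [← map_mul, ← map_inv, ← map_mul]
  congr 1
  apply Cfsg.Agent.Lib.Helper08.Omega_ext
  rw [htt']
  have : ((((t : ↥(Cfsg.isometryGroup F ⇑Q)) : GL ι F) : Matrix ι ι F)).map (RingEquiv.refl F) =
      (((t : ↥(Cfsg.isometryGroup F ⇑Q)) : GL ι F) : Matrix ι ι F) := by
    ext i j
    simp
  rw [this]
  rfl

theorem conj_eq_autS (s : ↥(Cfsg.Omega F ⇑Q)) :
    MulAut.conj (prj s) = autS ((s : ↥(Cfsg.isometryGroup F ⇑Q)) : GL ι F) (RingEquiv.refl F)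
      (semi_of_Omega s) :=
  eq_autS_of_isInduced _ (isInduced_conj s)

/-- the composition law. -/
theorem autS_mul {g g' : GL ι F} {σ σ' : F ≃+* F} (h : Cfsg.IsSemisimilarityPair (⇑Q) g σ)
    (h' : Cfsg.IsSemisimilarityPair (⇑Q) g' σ') :
    autS g σ h * autS g' σ' h' =
      autS (g * Matrix.GeneralLinearGroup.map (σ : F →+* F) g') (σ'.trans σ) (semi_mul h h') := by
  apply eq_autS_of_isInduced
  intro s s' hss'
  show autS g σ h (autS g' σ' h' (prj s)) = prj s'
  rw [autS_prj, autS_prj]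
  congr 1
  apply Cfsg.Agent.Lib.Helper08.Omega_ext
  rw [hss', autSΩ_val, semiConj_val, autSΩ_val, semiConj_val]
  have e1 : ((((g * Matrix.GeneralLinearGroup.map (σ : F →+* F) g')⁻¹ : GL ι F)) : Matrix ι ι F) =
      (((g'⁻¹ : GL ι F) : Matrix ι ι F)).map σ * ((g⁻¹ : GL ι F) : Matrix ι ι F) := by
    rw [_root_.mul_inv_rev, Units.val_mul, ← map_inv]
    rfl
  rw [e1, Units.val_mul]
  have e2 : ((Matrix.GeneralLinearGroup.map (σ : F →+* F) g' : GL ι F) : Matrix ι ι F) =
      ((g' : GL ι F) : Matrix ι ι F).map σ := rfl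
  rw [e2]
  have e3 : ((g' : Matrix ι ι F) * ((((s : ↥(Cfsg.isometryGroup F ⇑Q)) : GL ι F) : Matrix ι ι F)).map σ' *
      ((g'⁻¹ : GL ι F) : Matrix ι ι F)).map σ =
      ((g' : GL ι F) : Matrix ι ι F).map σ *
        ((((s : ↥(Cfsg.isometryGroup F ⇑Q)) : GL ι F) : Matrix ι ι F)).map (σ'.trans σ) *
          (((g'⁻¹ : GL ι F) : Matrix ι ι F)).map σ := by
    rw [Matrix.map_mul, Matrix.map_mul]
    congr 2
  rw [e3]
  simp only [Matrix.mul_assoc]

end Cfsg.Agent.Lib.Helper07.OG
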