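import Cfsg.Agent.Lib.Helper07.OrthW

set_option autoImplicit false
set_option linter.unusedSimpArgs false
set_option linter.unusedVariables false
set_option linter.unusedSectionVars false

/-! Orthogonal groups: kernel of `(g, σ) ↦ autS g σ`, inverse, and the field-automorphism
character `kappa : Aut(PΩ) → Aut(F)`. -/

namespace Cfsg.Agent.Lib.Helper07.OG

open Module Matrix Cfsg.Agent.Lib.Helper43 Cfsg.Agent.Lib.Helper07.UG

variable {F : Type*} [Field F] [Fintype F] {ι : Type} [Fintype ι] [DecidableEq ι]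
variable {Q : QuadraticForm F (ι → F)}

local notation "Bf" => QuadraticMap.polarBilin Q

theorem autS_congr {g g' : GL ι F} {σ σ' : F ≃+* F} (hg : g = g') (hσ : σ = σ')
    (h : Cfsg.IsSemisimilarityPair (⇑Q) g σ) (h' : Cfsg.IsSemisimilarityPair (⇑Q) g' σ') :
    autS g σ h = autS g' σ' h' := by
  subst hg
  subst hσ
  rfl

theorem semi_one : Cfsg.IsSemisimilarityPair (⇑Q) (1 : GL ι F) (RingEquiv.refl F) := by
  refine ⟨1, ?_⟩
  intro v
  simp

theorem autS_one (h : Cfsg.IsSemisimilarityPair (⇑Q) (1 : GL ι F) (RingEquiv.refl F)) :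
    autS (1 : GL ι F) (RingEquiv.refl F) h = 1 := by
  symm
  apply eq_autS_of_isInduced
  intro s s' hss'
  show prj s = prj s'
  congr 1
  apply Cfsg.Agent.Lib.Helper08.Omega_ext
  rw [hss']
  have : ((((s : ↥(Cfsg.isometryGroup F ⇑Q)) : GL ι F) : Matrix ι ι F)).map (RingEquiv.refl F) =
      (((s : ↥(Cfsg.isometryGroup F ⇑Q)) : GL ι F) : Matrix ι ι F) := by
    ext i j
    simp
  rw [this]
  simp

/-- the action of `autS` on the radicals. -/
theorem map_autS_Qb (C : OC Q) {g : GL ι F} {σ : F ≃+* F}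
    (h : Cfsg.IsSemisimilarityPair (⇑Q) g σ) {u : ι → F} (hu0 : u ≠ 0) (hu : Q u = 0) :
    (Qb C u).map (autS g σ h).toMonoidHom = Qb C (semiAct g σ u) := by
  obtain ⟨c, hc⟩ := id h
  have hc0 : (c : F) ≠ 0 := c.ne_zero
  have hsemi : ∀ v, Q (semiAct g σ v) = (c : F) * σ (Q v) := hc
  have hu' : Q (semiAct g σ u) = 0 := by rw [hsemi, hu, map_zero, mul_zero]
  have hu'0 : semiAct g σ u ≠ 0 := semiAct_ne_zero g σ hu0
  apply Subgroup.eq_of_le_of_card_ge
  · rintro _ ⟨y, hy, rfl⟩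
    obtain ⟨v, hv, rfl⟩ := (mem_Qb_iff C hu y).1 hy
    show autS g σ h (prj (sg C u v)) ∈ Qb C (semiAct g σ u)
    rw [autS_prj, autSΩ_sg C g σ h hc0 hsemi hu hv]
    apply prj_sg_mem_Qb C hu'
    rw [map_smul, polar_semiAct hsemi, hv, map_zero, mul_zero, smul_zero]
  · have h9 := Subgroup.card_map_of_injective (K := Qb C u) (f := (autS g σ h).toMonoidHom)
      (autS g σ h).injective
    rw [h9]
    exact le_of_eq (card_Qb_eq C hu'0 hu' hu0 hu)

/-- **kernel**: a semisimilarity inducing the identity is a scalar (and linear). -/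
theorem autS_eq_one_imp (C : OC Q) (p : ℕ) [Fact p.Prime] [CharP F p] {g : GL ι F} {σ : F ≃+* F}
    (h : Cfsg.IsSemisimilarityPair (⇑Q) g σ) (h1 : autS g σ h = 1) :
    σ = RingEquiv.refl F ∧ ∃ c : F, ∀ v, (g : Matrix ι ι F) *ᵥ v = c • v := by
  have hfix : ∀ u : ι → F, u ≠ 0 → Q u = 0 → ∃ t : F, semiAct g σ u = t • u := by
    intro u hu0 hu
    have h2 := map_autS_Qb C h hu0 hu
    rw [h1] at h2
    have h3 : (Qb C u).map (1 : MulAut (Cfsg.POmega F ⇑Q)).toMonoidHom = Qb C u := by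
      ext x
      constructor
      · rintro ⟨y, hy, rfl⟩
        exact hy
      · intro hx
        exact ⟨x, hx, rfl⟩
    rw [h3] at h2
    obtain ⟨c, hc⟩ := id h
    have hu' : Q (semiAct g σ u) = 0 := by
      have := hc u
      show Q (semiAct g σ u) = 0
      unfold semiAct
      rw [this, hu, map_zero, mul_zero]
    exact Qb_eq_imp C p hu0 hu hu' h2
  -- a totally singular line
  obtain ⟨e, f, he, hf, hef⟩ := exists_hyp C
  have he0 : e ≠ 0 := by
    rintro rfl
    simp at hef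
  obtain ⟨s, y, hes, -, -, -, hs, hsy, hse⟩ := exists_singular_perp C e e
  have hs0 : s ≠ 0 := by
    rintro rfl
    simp at hsy
  have hes' : ¬ ∃ t : F, e = t • s := by
    rintro ⟨t, ht⟩
    have ht0 : t ≠ 0 := by
      rintro rfl
      rw [zero_smul] at ht
      exact he0 ht
    apply hse
    refine ⟨t⁻¹, ?_⟩
    rw [ht, smul_smul, inv_mul_cancel₀ ht0, one_smul]
  obtain ⟨a₁, ha₁s, ha₁e⟩ := exists_pair_one_zero C hse
  obtain ⟨a₂, ha₂e, ha₂s⟩ := exists_pair_one_zero C hes'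
  obtain ⟨le, hle⟩ := hfix e he0 he
  obtain ⟨ls, hls⟩ := hfix s hs0 hs
  have hσ : ∀ t : F, σ t * ls = le * t := by
    intro t
    have hQ : Q (e + t • s) = 0 := by
      rw [Q_add, Q_smul, he, hs, map_smul, hes]
      simp
    have h0 : e + t • s ≠ 0 := by
      intro h0
      have := congrArg (Bf a₂) h0
      rw [map_add, map_smul, ha₂e, ha₂s] at this
      simp at this
    obtain ⟨mt, hmt⟩ := hfix (e + t • s) h0 hQ
    rw [semiAct_add, semiAct_smul, hle, hls] at hmt
    have e1 := congrArg (Bf a₂) hmt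
    have e2 := congrArg (Bf a₁) hmt
    simp only [map_add, map_smul, ha₂e, ha₂s, ha₁e, ha₁s, smul_eq_mul, mul_one, mul_zero,
      add_zero, zero_add] at e1 e2
    rw [e2, ← e1]
  have hlels : ls = le := by
    have := hσ 1
    rw [map_one, one_mul, mul_one] at this
    exact this
  have hle0 : le ≠ 0 := by
    rintro rfl
    rw [zero_smul] at hle
    exact semiAct_ne_zero g σ he0 hle
  have hσ1 : σ = RingEquiv.refl F := by
    apply RingEquiv.ext
    intro t
    have := hσ t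
    rw [hlels, mul_comm] at this
    exact mul_left_cancel₀ hle0 this
  refine ⟨hσ1, ?_⟩
  subst hσ1
  obtain ⟨c, hc⟩ := scalar_of_fix_lines Q C.hQ C.hn (Matrix.toLin' (g : Matrix ι ι F))
    (fun x hx0 hx => by
      obtain ⟨t, ht⟩ := hfix x hx0 hx
      exact ⟨t, by rw [Matrix.toLin'_apply]; exact ht⟩)
  refine ⟨c, fun v => ?_⟩
  have := hc v
  rwa [Matrix.toLin'_apply] at this

theorem map_map_symm (σ : F ≃+* F) (g : GL ι F) :
    Matrix.GeneralLinearGroup.map (σ : F →+* F)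
      (Matrix.GeneralLinearGroup.map (σ.symm : F →+* F) g) = g := by
  apply Units.ext
  ext i j
  simp [Matrix.GeneralLinearGroup.map_apply]

theorem map_symm_map (σ : F ≃+* F) (g : GL ι F) :
    Matrix.GeneralLinearGroup.map (σ.symm : F →+* F)
      (Matrix.GeneralLinearGroup.map (σ : F →+* F) g) = g := by
  apply Units.ext
  ext i j
  simp [Matrix.GeneralLinearGroup.map_apply]

theorem semi_inv {g : GL ι F} {σ : F ≃+* F} (h : Cfsg.IsSemisimilarityPair (⇑Q) g σ) :
    Cfsg.IsSemisimilarityPair (⇑Q) (Matrix.GeneralLinearGroup.map (σ.symm : F →+* F) g⁻¹)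
      σ.symm := by
  obtain ⟨c, hc⟩ := h
  refine ⟨Units.map (σ.symm : F →* F) c⁻¹, ?_⟩
  intro v
  have hsemi : ∀ w, Q (semiAct g σ w) = (c : F) * σ (Q w) := hc
  have h1 := semiAct_comp g (Matrix.GeneralLinearGroup.map (σ.symm : F →+* F) g⁻¹) σ σ.symm v
  rw [map_map_symm, mul_inv_cancel] at h1
  have h2 : semiAct (1 : GL ι F) (σ.symm.trans σ) v = v := by
    unfold semiAct
    rw [Units.val_one, Matrix.one_mulVec]
    funext i
    simp
  rw [h2] at h1
  have h3 := hsemi (semiAct (Matrix.GeneralLinearGroup.map (σ.symm : F →+* F) g⁻¹) σ.symm v)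
  rw [h1] at h3
  show Q (semiAct (Matrix.GeneralLinearGroup.map (σ.symm : F →+* F) g⁻¹) σ.symm v) = _
  have h4 : σ (Q (semiAct (Matrix.GeneralLinearGroup.map (σ.symm : F →+* F) g⁻¹) σ.symm v)) =
      (c : F)⁻¹ * Q v := by
    rw [h3, ← mul_assoc, inv_mul_cancel₀ c.ne_zero, one_mul]
  have h5 := congrArg σ.symm h4
  rw [RingEquiv.symm_apply_apply, map_mul] at h5
  rw [h5]
  simp

theorem autS_inv {g : GL ι F} {σ : F ≃+* F} (h : Cfsg.IsSemisimilarityPair (⇑Q) g σ) :
    (autS g σ h)⁻¹ =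
      autS (Matrix.GeneralLinearGroup.map (σ.symm : F →+* F) g⁻¹) σ.symm (semi_inv h) := by
  symm
  apply eq_inv_of_mul_eq_one_right
  rw [autS_mul]
  have e1 : g * Matrix.GeneralLinearGroup.map (σ : F →+* F)
      (Matrix.GeneralLinearGroup.map (σ.symm : F →+* F) g⁻¹) = 1 := by
    rw [map_map_symm, mul_inv_cancel]
  have e2 : σ.symm.trans σ = RingEquiv.refl F := by
    apply RingEquiv.ext
    intro t
    simp
  rw [autS_congr e1 e2 _ semi_one, autS_one]

/-- **uniqueness of the field automorphism.** -/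
theorem autS_eq_autS_imp (C : OC Q) (p : ℕ) [Fact p.Prime] [CharP F p] {g g' : GL ι F}
    {σ σ' : F ≃+* F} (h : Cfsg.IsSemisimilarityPair (⇑Q) g σ)
    (h' : Cfsg.IsSemisimilarityPair (⇑Q) g' σ') (heq : autS g σ h = autS g' σ' h') :
    σ = σ' ∧ ∃ c : F, ∀ v, (g' : Matrix ι ι F) *ᵥ v = c • ((g : Matrix ι ι F) *ᵥ v) := by
  have h1 : (autS g σ h)⁻¹ * autS g' σ' h' = 1 := by rw [heq, inv_mul_cancel]
  rw [autS_inv, autS_mul] at h1
  obtain ⟨h2, c, hc⟩ := autS_eq_one_imp C p _ h1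
  have hσ : σ = σ' := by
    apply RingEquiv.ext
    intro t
    have := congrArg (fun τ : F ≃+* F => τ t) h2
    simp only [RingEquiv.coe_trans, Function.comp_apply, RingEquiv.refl_apply] at this
    have h3 := congrArg σ this
    rw [RingEquiv.apply_symm_apply] at h3
    exact h3.symm
  refine ⟨hσ, σ c, ?_⟩
  intro v
  -- `map σ⁻¹ (g⁻¹ g') = c`
  have h4 : ∀ w, ((Matrix.GeneralLinearGroup.map (σ.symm : F →+* F) (g⁻¹ * g') : GL ι F) :
      Matrix ι ι F) *ᵥ w = c • w := by
    intro w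
    have := hc w
    rw [map_mul]
    exact this
  have h5 : ∀ w, ((g⁻¹ * g' : GL ι F) : Matrix ι ι F) *ᵥ w = σ c • w := by
    intro w
    have h6 := h4 (fun i => σ.symm (w i))
    have h7 := semiAct_comp (1 : GL ι F) (Matrix.GeneralLinearGroup.map (σ.symm : F →+* F) (g⁻¹ * g'))
      σ (RingEquiv.refl F) (fun i => σ.symm (w i))
    rw [map_map_symm, one_mul] at h7
    have h8 : semiAct (Matrix.GeneralLinearGroup.map (σ.symm : F →+* F) (g⁻¹ * g'))
        (RingEquiv.refl F) (fun i => σ.symm (w i)) = c • (fun i => σ.symm (w i)) := h6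
    rw [h8, semiAct_smul] at h7
    have h9 : semiAct (1 : GL ι F) σ (fun i => σ.symm (w i)) = w := by
      unfold semiAct
      rw [Units.val_one, Matrix.one_mulVec]
      funext i
      simp
    rw [h9] at h7
    have h10 : semiAct (g⁻¹ * g') ((RingEquiv.refl F).trans σ) (fun i => σ.symm (w i)) =
        ((g⁻¹ * g' : GL ι F) : Matrix ι ι F) *ᵥ w := by
      unfold semiAct
      congr 1
      funext i
      simp
    rw [h10] at h7
    exact h7.symm
  have h6 := h5 v
  rw [Units.val_mul, ← Matrix.mulVec_mulVec] at h6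
  have h7 : (g : Matrix ι ι F) *ᵥ (((g⁻¹ : GL ι F) : Matrix ι ι F) *ᵥ ((g' : Matrix ι ι F) *ᵥ v)) =
      (g : Matrix ι ι F) *ᵥ (σ c • v) := by rw [h6]
  rw [Matrix.mulVec_mulVec, ← Units.val_mul, mul_inv_cancel, Units.val_one, Matrix.one_mulVec,
    Matrix.mulVec_smul] at h7
  exact h7

end Cfsg.Agent.Lib.Helper07.OG
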