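import Cfsg.Agent.Lib.Helper07.OrthX

set_option autoImplicit false
set_option linter.unusedSimpArgs false
set_option linter.unusedVariables false
set_option linter.unusedSectionVars false

/-! Orthogonal groups: every element of `gammaPOmega` is an `autS g σ h`; the character
`kappa : Aut(PΩ) → Aut(F)` with kernel the image of the similarity group. -/

namespace Cfsg.Agent.Lib.Helper07.OG

open Module Matrix Cfsg.Agent.Lib.Helper43 Cfsg.Agent.Lib.Helper07.UG

variable {F : Type*} [Field F] [Fintype F] {ι : Type} [Fintype ι] [DecidableEq ι]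
variable {Q : QuadraticForm F (ι → F)}

local notation "Bf" => QuadraticMap.polarBilin Q

theorem exists_autS_of_mem_gamma {β : MulAut (Cfsg.POmega F ⇑Q)}
    (hβ : β ∈ Cfsg.gammaPOmega F ⇑Q) :
    ∃ (g : GL ι F) (σ : F ≃+* F) (h : Cfsg.IsSemisimilarityPair (⇑Q) g σ), β = autS g σ h := by
  unfold Cfsg.gammaPOmega Cfsg.autSubgroupOf at hβ
  induction hβ using Subgroup.closure_induction with
  | mem x hx =>
    obtain ⟨g, σ, hs, hi⟩ := hx
    exact ⟨g, σ, hs, eq_autS_of_isInduced hs hi⟩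
  | one => exact ⟨1, RingEquiv.refl F, semi_one, (autS_one _).symm⟩
  | mul x y _ _ hx hy =>
    obtain ⟨g, σ, h, rfl⟩ := hx
    obtain ⟨g', σ', h', rfl⟩ := hy
    exact ⟨_, _, _, autS_mul h h'⟩
  | inv x _ hx =>
    obtain ⟨g, σ, h, rfl⟩ := hx
    exact ⟨_, _, _, autS_inv h⟩

theorem exists_autS (htop : Cfsg.gammaPOmega F ⇑Q = ⊤) (β : MulAut (Cfsg.POmega F ⇑Q)) :
    ∃ (g : GL ι F) (σ : F ≃+* F) (h : Cfsg.IsSemisimilarityPair (⇑Q) g σ), β = autS g σ h :=
  exists_autS_of_mem_gamma (by rw [htop]; trivial)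

/-- the field automorphism attached to an automorphism of `PΩ`. -/
noncomputable def kap (htop : Cfsg.gammaPOmega F ⇑Q = ⊤) (β : MulAut (Cfsg.POmega F ⇑Q)) :
    RingAut F := Classical.choose (Classical.choose_spec (exists_autS htop β))

theorem kap_spec (htop : Cfsg.gammaPOmega F ⇑Q = ⊤) (β : MulAut (Cfsg.POmega F ⇑Q)) :
    ∃ (g : GL ι F) (h : Cfsg.IsSemisimilarityPair (⇑Q) g (kap htop β)), β = autS g (kap htop β) h :=
  ⟨Classical.choose (exists_autS htop β),
    Classical.choose_spec (Classical.choose_spec (exists_autS htop β))⟩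

theorem kap_autS (C : OC Q) (p : ℕ) [Fact p.Prime] [CharP F p]
    (htop : Cfsg.gammaPOmega F ⇑Q = ⊤) {g : GL ι F} {σ : F ≃+* F}
    (h : Cfsg.IsSemisimilarityPair (⇑Q) g σ) : kap htop (autS g σ h) = σ := by
  obtain ⟨g', h', heq⟩ := kap_spec htop (autS g σ h)
  exact ((autS_eq_autS_imp C p h h' heq).1).symm

/-- the character `Aut(PΩ) → Aut(F)`. -/
noncomputable def kappa (C : OC Q) (p : ℕ) [Fact p.Prime] [CharP F p]
    (htop : Cfsg.gammaPOmega F ⇑Q = ⊤) : MulAut (Cfsg.POmega F ⇑Q) →* RingAut F where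
  toFun := kap htop
  map_one' := by
    have h1 : (1 : MulAut (Cfsg.POmega F ⇑Q)) = autS (1 : GL ι F) (RingEquiv.refl F) semi_one :=
      (autS_one _).symm
    rw [h1, kap_autS C p htop]
    rfl
  map_mul' := by
    intro β β'
    obtain ⟨g, h, hβ⟩ := kap_spec htop β
    obtain ⟨g', h', hβ'⟩ := kap_spec htop β'
    have h1 : β * β' = autS _ _ (semi_mul h h') := by
      conv_lhs => rw [hβ, hβ']
      exact autS_mul h h'
    rw [h1, kap_autS C p htop]
    rfl

theorem kappa_autS (C : OC Q) (p : ℕ) [Fact p.Prime] [CharP F p]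
    (htop : Cfsg.gammaPOmega F ⇑Q = ⊤) {g : GL ι F} {σ : F ≃+* F}
    (h : Cfsg.IsSemisimilarityPair (⇑Q) g σ) : kappa C p htop (autS g σ h) = σ :=
  kap_autS C p htop h

theorem semi_refl_iff (g : GL ι F) :
    Cfsg.IsSemisimilarityPair (⇑Q) g (RingEquiv.refl F) ↔
      g ∈ Cfsg.Geo.quadSimilarityGroup (F := F) ⇑Q := by
  constructor
  · rintro ⟨c, hc⟩
    exact ⟨c, hc⟩
  · rintro ⟨c, hc⟩
    exact ⟨c, hc⟩

theorem autS_refl_eq_autPO {g : GL ι F} (h : Cfsg.IsSemisimilarityPair (⇑Q) g (RingEquiv.refl F)) :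
    autS g (RingEquiv.refl F) h =
      Cfsg.Agent.Lib.Helper08.autPO (⇑Q) ⟨g, (semi_refl_iff g).1 h⟩ :=
  (Cfsg.Agent.Lib.Helper08.isInduced_iff (⇑Q) g ((semi_refl_iff g).1 h) _).1 (isInduced_autS g _ h)

/-- the kernel of `kappa` is the image of the similarity group. -/
theorem kappa_ker (C : OC Q) (p : ℕ) [Fact p.Prime] [CharP F p]
    (htop : Cfsg.gammaPOmega F ⇑Q = ⊤) :
    (kappa C p htop).ker = (Cfsg.Agent.Lib.Helper08.autPO (⇑Q)).range := by
  ext β
  rw [MonoidHom.mem_ker]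
  constructor
  · intro hβ
    obtain ⟨g, h, heq⟩ := kap_spec htop β
    have h1 : kap htop β = RingEquiv.refl F := hβ
    have h2 : Cfsg.IsSemisimilarityPair (⇑Q) g (RingEquiv.refl F) := by rw [← h1]; exact h
    have h3 : β = autS g (RingEquiv.refl F) h2 := by
      rw [heq]
      exact autS_congr rfl h1 _ _
    rw [h3, autS_refl_eq_autPO]
    exact ⟨_, rfl⟩
  · rintro ⟨⟨g, hg⟩, rfl⟩
    have h2 : Cfsg.IsSemisimilarityPair (⇑Q) g (RingEquiv.refl F) := (semi_refl_iff g).2 hg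
    have h3 : Cfsg.Agent.Lib.Helper08.autPO (⇑Q) ⟨g, hg⟩ = autS g (RingEquiv.refl F) h2 :=
      (autS_refl_eq_autPO h2).symm
    rw [h3, kappa_autS C p htop]
    rfl

end Cfsg.Agent.Lib.Helper07.OG
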