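import Cfsg.Agent.Lib.Helper07.OrthY
import Cfsg.Agent.Lib.Helper07.H90A

set_option autoImplicit false
set_option linter.unusedSimpArgs false
set_option linter.unusedVariables false
set_option linter.unusedSectionVars false

/-! Orthogonal groups: powers of `autS g σ h` (twisted products), inner automorphisms inside
the image of the isometry group. -/

namespace Cfsg.Agent.Lib.Helper07.OG

open Module Matrix Cfsg.Agent.Lib.Helper43 Cfsg.Agent.Lib.Helper07.UG

variable {F : Type*} [Field F] [Fintype F] {ι : Type} [Fintype ι] [DecidableEq ι]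
variable {Q : QuadraticForm F (ι → F)}

local notation "Bf" => QuadraticMap.polarBilin Q

/-- twisted partial products `g σ(g) ⋯ σ^{k-1}(g)` in `GL`. -/
def twG (σ : RingAut F) (g : GL ι F) : ℕ → GL ι F
  | 0 => 1
  | (k + 1) => g * Matrix.GeneralLinearGroup.map (σ : F →+* F) (twG σ g k)

theorem twG_zero (σ : RingAut F) (g : GL ι F) : twG σ g 0 = 1 := rfl

theorem twG_succ (σ : RingAut F) (g : GL ι F) (k : ℕ) :
    twG σ g (k + 1) = g * Matrix.GeneralLinearGroup.map (σ : F →+* F) (twG σ g k) := rfl

/-- powers of the automorphism induced by a semisimilarity. -/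
theorem autS_pow {g : GL ι F} {σ : RingAut F} (h : Cfsg.IsSemisimilarityPair (⇑Q) g σ) (k : ℕ) :
    ∃ h' : Cfsg.IsSemisimilarityPair (⇑Q) (twG σ g k) (σ ^ k : RingAut F),
      (autS g σ h) ^ k = autS (twG σ g k) (σ ^ k : RingAut F) h' := by
  induction k with
  | zero =>
    refine ⟨semi_one, ?_⟩
    rw [pow_zero]
    exact (autS_one _).symm
  | succ k ih =>
    obtain ⟨h', ih⟩ := ih
    have h1 := autS_mul h h'
    have e2 : ((σ ^ k : RingAut F) : F ≃+* F).trans σ = (σ ^ (k + 1) : RingAut F) := by
      rw [pow_succ']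
      rfl
    have h2 : Cfsg.IsSemisimilarityPair (⇑Q) (twG σ g (k + 1)) (σ ^ (k + 1) : RingAut F) := by
      rw [← e2]
      exact semi_mul h h'
    refine ⟨h2, ?_⟩
    rw [pow_succ', ih, h1]
    exact autS_congr rfl e2 _ _

/-- a scalar multiple of the identity that is an isometry, in characteristic two, is `1`. -/
theorem scalar_isometry_char_two [CharP F 2] (C : OC Q) {c : F}
    (hc : ∀ v : ι → F, Q (c • v) = Q v) : c = 1 := by
  obtain ⟨e, f, he, hf, hef⟩ := exists_hyp C
  have h1 := hc (e + f)
  rw [Q_smul, Q_add, he, hf, hef] at h1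
  simp only [zero_add, mul_one] at h1
  have h2 : (c + 1) * (c + 1) = 0 := by
    have h3 : (2 : F) = 0 := CharTwo.two_eq_zero
    linear_combination h1 + (c + 1) * h3
  have h3 := mul_self_eq_zero.1 h2
  have h4 : c = -1 := eq_neg_of_add_eq_zero_left h3
  rw [h4]
  exact CharTwo.neg_eq 1

end Cfsg.Agent.Lib.Helper07.OG
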