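import Cfsg.Agent.Lib.Helper07.OrthZa

set_option autoImplicit false
set_option linter.unusedSimpArgs false
set_option linter.unusedVariables false
set_option linter.unusedSectionVars false

/-! Orthogonal groups, minus type: block semisimilarities `1 ⊕ M` (with `M` a semi-isometry of the
binary anisotropic part); the Frobenius automorphism of a finite field. -/

namespace Cfsg.Agent.Lib.Helper07.OG

open Module Matrix Cfsg.Agent.Lib.Helper43 Cfsg.Agent.Lib.Helper07.UG

section frob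

variable {F : Type*} [Field F] [Fintype F] (p : ℕ) [Fact p.Prime] [CharP F p]

/-- the Frobenius automorphism. -/
noncomputable def frobF : RingAut F :=
  RingEquiv.ofBijective (frobenius F p)
    (Finite.injective_iff_bijective.1 (frobenius_inj F p))

theorem frobF_apply (x : F) : frobF (F := F) p x = x ^ p := rfl

theorem frobF_pow_apply (k : ℕ) (x : F) : (frobF (F := F) p ^ k : RingAut F) x = x ^ p ^ k := by
  induction k generalizing x with
  | zero => simp
  | succ k ih =>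
    rw [pow_succ', RingAut.mul_apply, ih, frobF_apply, ← pow_mul, pow_succ]

/-- every automorphism of a finite field is a power of the Frobenius map. -/
theorem ringAut_eq_frobF_pow (σ : RingAut F) : ∃ j : ℕ, σ = frobF (F := F) p ^ j := by
  let _ := ZMod.algebra F p
  let σ' : F ≃ₐ[ZMod p] F := AlgEquiv.ofRingEquiv (f := σ) (fun r => by
    have : ((σ : F →+* F).comp (algebraMap (ZMod p) F)) = algebraMap (ZMod p) F :=
      Subsingleton.elim _ _
    exact DFunLike.congr_fun this r)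
  obtain ⟨n, hn⟩ := (FiniteField.bijective_frobeniusAlgEquivOfAlgebraic_pow (ZMod p) F).2 σ'
  refine ⟨n.1, ?_⟩
  apply RingEquiv.ext
  intro x
  have h1 : σ x = σ' x := rfl
  rw [h1, ← hn, frobF_pow_apply]
  simp only
  rw [AlgEquiv.coe_pow, FiniteField.coe_frobeniusAlgEquivOfAlgebraic_iterate, ZMod.card]

theorem frobF_zpowers : Subgroup.zpowers (frobF (F := F) p) = ⊤ := by
  rw [eq_top_iff]
  intro σ _
  obtain ⟨j, rfl⟩ := ringAut_eq_frobF_pow p σ
  exact Subgroup.pow_mem _ (Subgroup.mem_zpowers _) j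

end frob

section minus

variable {F : Type*} [Field F] [Fintype F] (m : ℕ)

/-- the binary part. -/
def qb (a b : F) (z : Fin 2 → F) : F := z 0 ^ 2 + a * z 0 * z 1 + b * z 1 ^ 2

/-- the block matrix `1 ⊕ M`. -/
def blkM (M : Matrix (Fin 2) (Fin 2) F) :
    Matrix ((Fin m ⊕ Fin m) ⊕ Fin 2) ((Fin m ⊕ Fin m) ⊕ Fin 2) F :=
  Matrix.fromBlocks 1 0 0 M

theorem blkM_one : blkM m (1 : Matrix (Fin 2) (Fin 2) F) = 1 := Matrix.fromBlocks_one

theorem blkM_mul (A B : Matrix (Fin 2) (Fin 2) F) : blkM m (A * B) = blkM m A * blkM m B := by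
  unfold blkM
  rw [Matrix.fromBlocks_multiply]
  simp

theorem blkM_map (σ : F ≃+* F) (A : Matrix (Fin 2) (Fin 2) F) :
    (blkM m A).map σ = blkM m (A.map σ) := by
  unfold blkM
  rw [Matrix.fromBlocks_map]
  congr 1
  · ext i j
    simp [Matrix.one_apply, apply_ite]
  · ext i j
    simp
  · ext i j
    simp

theorem blkM_mulVec (M : Matrix (Fin 2) (Fin 2) F) (v : (Fin m ⊕ Fin m) ⊕ Fin 2 → F) :
    blkM m M *ᵥ v = Sum.elim (v ∘ Sum.inl) (M *ᵥ (v ∘ Sum.inr)) := by
  unfold blkM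
  rw [Matrix.fromBlocks_mulVec]
  simp

/-- the block embedding as a monoid homomorphism. -/
def blkHom : Matrix (Fin 2) (Fin 2) F →* Matrix ((Fin m ⊕ Fin m) ⊕ Fin 2) ((Fin m ⊕ Fin m) ⊕ Fin 2) F where
  toFun := blkM m
  map_one' := blkM_one m
  map_mul' := blkM_mul m

/-- the block embedding of `GL₂`. -/
def blkG : GL (Fin 2) F →* GL ((Fin m ⊕ Fin m) ⊕ Fin 2) F := Units.map (blkHom m)

theorem blkG_val (M : GL (Fin 2) F) :
    ((blkG m M : GL ((Fin m ⊕ Fin m) ⊕ Fin 2) F) :
      Matrix ((Fin m ⊕ Fin m) ⊕ Fin 2) ((Fin m ⊕ Fin m) ⊕ Fin 2) F) =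
      blkM m (M : Matrix (Fin 2) (Fin 2) F) := rfl

theorem blkG_map (σ : F ≃+* F) (M : GL (Fin 2) F) :
    Matrix.GeneralLinearGroup.map (σ : F →+* F) (blkG m M) =
      blkG m (Matrix.GeneralLinearGroup.map (σ : F →+* F) M) := by
  apply Units.ext
  show ((blkG m M : GL ((Fin m ⊕ Fin m) ⊕ Fin 2) F) :
    Matrix ((Fin m ⊕ Fin m) ⊕ Fin 2) ((Fin m ⊕ Fin m) ⊕ Fin 2) F).map σ = _
  rw [blkG_val, blkM_map]
  rfl

theorem quadFormMinus_eq (a b : F) (v : (Fin m ⊕ Fin m) ⊕ Fin 2 → F) :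
    Cfsg.quadFormMinus m F a b v =
      (∑ i : Fin m, v (.inl (.inl i)) * v (.inl (.inr i))) + qb a b (v ∘ Sum.inr) := rfl

/-- a semi-isometry of the binary part gives a semisimilarity of the whole form. -/
theorem blk_semi (a b : F) (σ : F ≃+* F) (M : GL (Fin 2) F)
    (hM : ∀ z : Fin 2 → F,
      qb a b ((M : Matrix (Fin 2) (Fin 2) F) *ᵥ (fun i => σ (z i))) = σ (qb a b z)) :
    Cfsg.IsSemisimilarityPair (Cfsg.quadFormMinus m F a b) (blkG m M) σ := by
  refine ⟨1, ?_⟩
  intro v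
  rw [blkG_val, blkM_mulVec, quadFormMinus_eq, quadFormMinus_eq]
  have h1 : (Sum.elim ((fun i => σ (v i)) ∘ Sum.inl)
      ((M : Matrix (Fin 2) (Fin 2) F) *ᵥ ((fun i => σ (v i)) ∘ Sum.inr))) ∘ Sum.inr =
      (M : Matrix (Fin 2) (Fin 2) F) *ᵥ (fun i => σ ((v ∘ Sum.inr) i)) := by
    funext k
    simp
  rw [h1, hM]
  simp only [Sum.elim_inl, Function.comp_apply, Units.val_one, one_mul, map_add, map_sum, map_mul]

/-- twisted products of block matrices. -/
theorem twG_blkG (σ : RingAut F) (M : GL (Fin 2) F) (k : ℕ) :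
    twG σ (blkG m M) k = blkG m (twG σ M k) := by
  induction k with
  | zero => rw [twG_zero, twG_zero, map_one]
  | succ k ih => rw [twG_succ, twG_succ, ih, blkG_map, map_mul]

theorem twG_val_two (σ : RingAut F) (M : GL (Fin 2) F) (k : ℕ) :
    ((twG σ M k : GL (Fin 2) F) : Matrix (Fin 2) (Fin 2) F) =
      Cfsg.Agent.Lib.Helper07.twProd σ (M : Matrix (Fin 2) (Fin 2) F) k := by
  induction k with
  | zero => rfl
  | succ k ih =>
    rw [twG_succ, Cfsg.Agent.Lib.Helper07.twProd_succ, ← ih]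
    rfl

end minus

end Cfsg.Agent.Lib.Helper07.OG
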