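import Cfsg.Agent.Lib.Helper07.OrthZc
import Cfsg.Agent.Lib.Helper07.AutPSL6
import Cfsg.Agent.Lib.Helper43.Dickson

set_option autoImplicit false
set_option linter.unusedSimpArgs false
set_option linter.unusedVariables false
set_option linter.unusedSectionVars false

/-! Orthogonal groups in characteristic two: the isometry group acts faithfully on `PΩ`; the image
of the similarity group equals the image of the isometry group; counting. -/

namespace Cfsg.Agent.Lib.Helper07.OG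

open Module Matrix Cfsg.Agent.Lib.Helper43 Cfsg.Agent.Lib.Helper07.UG Cfsg.Agent.Lib.Helper08

variable {F : Type*} [Field F] [Fintype F] {ι : Type} [Fintype ι] [DecidableEq ι]
variable {Q : QuadraticForm F (ι → F)}

local notation "Bf" => QuadraticMap.polarBilin Q

theorem semi_of_isometry (g : ↥(Cfsg.isometryGroup F ⇑Q)) :
    Cfsg.IsSemisimilarityPair (⇑Q) (g : GL ι F) (RingEquiv.refl F) := by
  refine ⟨1, ?_⟩
  intro v
  have h1 := (Cfsg.Agent.Lib.Helper19.mem_isometryGroup_iff (⇑Q) (g : GL ι F)).1 g.2 v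
  simpa using h1

theorem autO_eq_autS (g : ↥(Cfsg.isometryGroup F ⇑Q)) :
    autO (⇑Q) g = autS (g : GL ι F) (RingEquiv.refl F) (semi_of_isometry g) := by
  rw [autS_refl_eq_autPO]
  rfl

/-- in characteristic two the isometry group acts faithfully on `PΩ`. -/
theorem autO_injective_char_two [CharP F 2] (C : OC Q) : Function.Injective (autO (⇑Q)) := by
  rw [injective_iff_map_eq_one]
  intro g hg
  rw [autO_eq_autS] at hg
  obtain ⟨-, c, hc⟩ := autS_eq_one_imp C 2 _ hg
  have hc1 : c = 1 := by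
    apply scalar_isometry_char_two C
    intro v
    rw [← hc]
    exact (Cfsg.Agent.Lib.Helper19.mem_isometryGroup_iff (⇑Q) (g : GL ι F)).1 g.2 v
  apply Subtype.ext
  apply Units.ext
  ext i j
  have := congrFun (hc (Pi.single j 1)) i
  rw [hc1, one_smul] at this
  simpa [Matrix.one_apply, Pi.single_apply, eq_comm] using this

/-- the scalar matrices in `GL`. -/
def zG (l : Fˣ) : GL ι F := Units.map (Matrix.scalar ι).toMonoidHom l

theorem zG_mulVec (l : Fˣ) (v : ι → F) : ((zG l : GL ι F) : Matrix ι ι F) *ᵥ v = (l : F) • v := by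
  show (Matrix.scalar ι (l : F)) *ᵥ v = (l : F) • v
  funext i
  simp [Matrix.mulVec, dotProduct, Matrix.scalar_apply, Matrix.diagonal_apply]

theorem zG_mem_similarity (l : Fˣ) : (zG l : GL ι F) ∈ Cfsg.Geo.quadSimilarityGroup (F := F) ⇑Q := by
  refine ⟨l * l, ?_⟩
  intro v
  rw [zG_mulVec, Q_smul]
  simp

theorem autPO_zG (l : Fˣ) : autPO (⇑Q) ⟨zG l, zG_mem_similarity l⟩ = 1 := by
  have h1 : Cfsg.IsSemisimilarityPair (⇑Q) (zG l : GL ι F) (RingEquiv.refl F) :=
    (semi_refl_iff _).2 (zG_mem_similarity l)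
  rw [← autS_refl_eq_autPO h1]
  symm
  apply eq_autS_of_isInduced
  intro s s' hss'
  show prj s = prj s'
  congr 1
  apply Cfsg.Agent.Lib.Helper08.Omega_ext
  rw [hss']
  have e1 : ((((s : ↥(Cfsg.isometryGroup F ⇑Q)) : GL ι F) : Matrix ι ι F)).map (RingEquiv.refl F) =
      (((s : ↥(Cfsg.isometryGroup F ⇑Q)) : GL ι F) : Matrix ι ι F) := by
    ext i j
    simp
  rw [e1]
  have e2 : ((zG l : GL ι F) : Matrix ι ι F) = Matrix.scalar ι (l : F) := rfl
  have e3 : (((zG l)⁻¹ : GL ι F) : Matrix ι ι F) = Matrix.scalar ι ((l⁻¹ : Fˣ) : F) := rfl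
  rw [e2, e3]
  ext i j
  rw [Matrix.scalar_apply, Matrix.scalar_apply, Matrix.mul_diagonal, Matrix.diagonal_mul]
  have hl : (l : F) ≠ 0 := l.ne_zero
  simp only [Units.val_inv_eq_inv_val]
  field_simp

/-- in characteristic two, the similarity group and the isometry group have the same image. -/
theorem autPO_range_eq_autO_range [CharP F 2] :
    (autPO (⇑Q)).range = (autO (⇑Q)).range := by
  apply le_antisymm
  · rintro _ ⟨⟨g, hg⟩, rfl⟩
    obtain ⟨c, hc⟩ := id hg
    obtain ⟨l, hl⟩ : ∃ l : F, l ^ 2 = (c : F) := (frobF (F := F) 2).surjective (c : F)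
    have hl0 : l ≠ 0 := by
      rintro rfl
      have := c.ne_zero
      rw [← hl] at this
      simp at this
    set lu : Fˣ := Units.mk0 l hl0 with hlu
    have hg0 : (zG lu)⁻¹ * g ∈ Cfsg.isometryGroup F ⇑Q := by
      rw [Cfsg.Agent.Lib.Helper19.mem_isometryGroup_iff]
      intro v
      have e3 : (((zG lu)⁻¹ : GL ι F) : Matrix ι ι F) = ((zG lu⁻¹ : GL ι F) : Matrix ι ι F) := rfl
      rw [Units.val_mul, ← Matrix.mulVec_mulVec, e3, zG_mulVec, Q_smul, hc, ← hl]
      simp only [Units.val_inv_eq_inv_val, hlu, Units.val_mk0]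
      field_simp
    refine ⟨⟨(zG lu)⁻¹ * g, hg0⟩, ?_⟩
    rw [autO_apply]
    have e4 : (⟨(zG lu)⁻¹ * g, isometryGroup_le_similarity (⇑Q) hg0⟩ :
        ↥(Cfsg.Geo.quadSimilarityGroup (F := F) ⇑Q)) =
        (⟨zG lu, zG_mem_similarity lu⟩ : ↥(Cfsg.Geo.quadSimilarityGroup (F := F) ⇑Q))⁻¹ * ⟨g, hg⟩ := rfl
    rw [e4, map_mul, map_inv, autPO_zG, inv_one, one_mul]
  · rintro _ ⟨g, rfl⟩
    exact ⟨_, rfl⟩

end Cfsg.Agent.Lib.Helper07.OG
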