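import Cfsg.Agent.Lib.Helper07.OrthZd

set_option autoImplicit false
set_option linter.unusedSimpArgs false
set_option linter.unusedVariables false
set_option linter.unusedSectionVars false
set_option linter.style.haveILetI false

/-! Orthogonal groups in characteristic two: `Out(PΩ)` is cyclic of order `2f` as soon as the
Frobenius map lifts to a semi-isometry whose `f`-th power lies outside `Ω`. -/

namespace Cfsg.Agent.Lib.Helper07.OG

open Module Matrix Cfsg.Agent.Lib.Helper43 Cfsg.Agent.Lib.Helper07.UG Cfsg.Agent.Lib.Helper08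

variable {F : Type*} [Field F] [Fintype F] {ι : Type} [Fintype ι] [DecidableEq ι]
variable {Q : QuadraticForm F (ι → F)}

local notation "Bf" => QuadraticMap.polarBilin Q

/-- twisted products of a semi-isometry are semi-isometries. -/
theorem twG_semi {g : GL ι F} {σ : RingAut F} (hg1 : ∀ v, Q (semiAct g σ v) = σ (Q v)) (k : ℕ) :
    ∀ v, Q (semiAct (twG σ g k) (σ ^ k : RingAut F) v) = (σ ^ k : RingAut F) (Q v) := by
  induction k with
  | zero =>
    intro v
    have : semiAct (twG σ g 0) (σ ^ 0 : RingAut F) v = v := by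
      unfold semiAct
      rw [twG_zero, Units.val_one, Matrix.one_mulVec]
      funext i
      simp
    rw [this]
    simp
  | succ k ih =>
    intro v
    have e2 : ((σ ^ k : RingAut F) : F ≃+* F).trans σ = (σ ^ (k + 1) : RingAut F) := by
      rw [pow_succ']
      rfl
    have h1 := semiAct_comp g (twG σ g k) σ (σ ^ k : RingAut F) v
    rw [e2] at h1
    rw [twG_succ, ← h1, hg1, ih, pow_succ']
    rfl

theorem out_char_two_generic (C : OC Q) [CharP F 2] (htop : Cfsg.gammaPOmega F ⇑Q = ⊤) {f : ℕ}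
    (hF : Fintype.card F = 2 ^ f) (g : GL ι F)
    (hg1 : ∀ v, Q (semiAct g (frobF (F := F) 2) v) = frobF (F := F) 2 (Q v))
    (hrank : ¬ Even (((twG (frobF (F := F) 2) g (orderOf (frobF (F := F) 2)) : GL ι F) :
      Matrix ι ι F) - 1).rank) :
    IsCyclic (Cfsg.Out (Cfsg.POmega F ⇑Q)) ∧ Nat.card (Cfsg.Out (Cfsg.POmega F ⇑Q)) = 2 * f := by
  haveI : Finite (RingAut F) := finite_ringAut
  haveI : Nonempty ι := by
    have : 0 < Fintype.card ι := by have := C.hn; omega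
    exact Fintype.card_pos_iff.1 this
  have h24 : Fintype.card F ≠ 2 ∨ Fintype.card ι ≠ 4 := Or.inr (by have := C.hn; omega)
  have hgen := reflGenerated_char_two Q C.hQ h24
  obtain ⟨φ, hφ⟩ : ∃ φ : RingAut F, φ = frobF (F := F) 2 := ⟨_, rfl⟩
  rw [← hφ] at hg1 hrank
  obtain ⟨r, hr⟩ : ∃ r, r = orderOf φ := ⟨_, rfl⟩
  rw [← hr] at hrank
  have hφtop : Subgroup.zpowers φ = ⊤ := by rw [hφ]; exact frobF_zpowers 2
  have hrf : r = f := by
    have h1 : Nat.card (Subgroup.zpowers φ) = orderOf φ := Nat.card_zpowers φ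
    rw [hφtop, Subgroup.card_top, card_ringAut 2 hF] at h1
    rw [hr, ← h1]
  have hf0 : 0 < f := by
    rw [← hrf, hr]
    exact orderOf_pos φ
  obtain ⟨κ, hκ⟩ : ∃ κ, κ = kappa C 2 htop := ⟨_, rfl⟩
  have hgS : Cfsg.IsSemisimilarityPair (⇑Q) g φ := ⟨1, fun v => by
    have := hg1 v
    unfold semiAct at this
    rw [this]
    simp⟩
  obtain ⟨ψ, hψ⟩ : ∃ ψ, ψ = autS g φ hgS := ⟨_, rfl⟩
  have hκψ : κ ψ = φ := by rw [hκ, hψ]; exact kappa_autS C 2 htop hgS
  -- `κ` is onto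
  have hκtop : κ.range = ⊤ := by
    rw [eq_top_iff, ← hφtop, Subgroup.zpowers_le]
    exact ⟨ψ, hκψ⟩
  -- kernel
  have hker : κ.ker = (autO (⇑Q)).range := by
    rw [hκ, kappa_ker, autPO_range_eq_autO_range]
  have hinj := autO_injective_char_two C
  have hcardker : Nat.card κ.ker = Nat.card ↥(Cfsg.isometryGroup F ⇑Q) := by
    rw [hker]
    exact (Nat.card_congr (MonoidHom.ofInjective hinj).toEquiv).symm
  have hcardInn : Nat.card (Cfsg.Inn (Cfsg.POmega F ⇑Q)) = Nat.card ↥(Cfsg.Omega F ⇑Q) := by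
    rw [inn_eq]
    exact Subgroup.card_map_of_injective hinj
  have hidx : (Cfsg.Omega F ⇑Q).index = 2 := index_Omega_char_two Q C.hQ h24
  have hO : Nat.card ↥(Cfsg.isometryGroup F ⇑Q) = Nat.card ↥(Cfsg.Omega F ⇑Q) * 2 := by
    rw [← hidx]
    exact (Subgroup.card_mul_index _).symm
  have hAut : Nat.card (MulAut (Cfsg.POmega F ⇑Q)) = f * Nat.card κ.ker := by
    have h1 := Subgroup.card_eq_card_quotient_mul_card_subgroup κ.ker
    have h2 : Nat.card (MulAut (Cfsg.POmega F ⇑Q) ⧸ κ.ker) = Nat.card κ.range :=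
      Nat.card_congr (QuotientGroup.quotientKerEquivRange κ).toEquiv
    rw [h2, hκtop, Subgroup.card_top, card_ringAut 2 hF] at h1
    exact h1
  have hOut : Nat.card (MulAut (Cfsg.POmega F ⇑Q)) =
      Nat.card (Cfsg.Out (Cfsg.POmega F ⇑Q)) * Nat.card (Cfsg.Inn (Cfsg.POmega F ⇑Q)) :=
    Subgroup.card_eq_card_quotient_mul_card_subgroup _
  have hΩpos : 0 < Nat.card ↥(Cfsg.Omega F ⇑Q) := Nat.card_pos
  have hcard : Nat.card (Cfsg.Out (Cfsg.POmega F ⇑Q)) = 2 * f := by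
    rw [hAut, hcardker, hO, hcardInn] at hOut
    have : Nat.card ↥(Cfsg.Omega F ⇑Q) * (2 * f) =
        Nat.card ↥(Cfsg.Omega F ⇑Q) * Nat.card (Cfsg.Out (Cfsg.POmega F ⇑Q)) := by
      rw [mul_comm _ (Nat.card (Cfsg.Out (Cfsg.POmega F ⇑Q))), ← hOut]
      ring
    exact (Nat.eq_of_mul_eq_mul_left hΩpos this).symm
  refine ⟨?_, hcard⟩
  -- cyclicity
  have hInnker : Cfsg.Inn (Cfsg.POmega F ⇑Q) ≤ κ.ker := by
    rw [hker, inn_eq]
    rintro _ ⟨s, -, rfl⟩
    exact ⟨s, rfl⟩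
  obtain ⟨κb, hκb⟩ : ∃ κb, κb = QuotientGroup.lift (Cfsg.Inn (Cfsg.POmega F ⇑Q)) κ hInnker :=
    ⟨_, rfl⟩
  obtain ⟨x, hx⟩ : ∃ x : Cfsg.Out (Cfsg.POmega F ⇑Q), x = QuotientGroup.mk ψ := ⟨_, rfl⟩
  have hκbx : κb x = φ := by
    rw [hκb, hx]
    exact (QuotientGroup.lift_mk (Cfsg.Inn (Cfsg.POmega F ⇑Q)) hInnker ψ).trans hκψ
  have hdvd1 : f ∣ orderOf x := by
    have := orderOf_map_dvd κb x
    rw [hκbx, ← hr, hrf] at this
    exact this
  have hdvd2 : orderOf x ∣ 2 * f := by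
    rw [← hcard]
    exact orderOf_dvd_natCard x
  have hne : x ^ f ≠ 1 := by
    intro h1
    have h2 : ψ ^ f ∈ Cfsg.Inn (Cfsg.POmega F ⇑Q) := by
      rw [hx, ← QuotientGroup.mk_pow] at h1
      exact (QuotientGroup.eq_one_iff _).1 h1
    obtain ⟨h', hpow⟩ := autS_pow hgS f
    rw [← hψ] at hpow
    have hφf : (φ ^ f : RingAut F) = 1 := by rw [← hrf, hr]; exact pow_orderOf_eq_one φ
    have hNiso : (twG φ g f : GL ι F) ∈ Cfsg.isometryGroup F ⇑Q := by
      rw [Cfsg.Agent.Lib.Helper19.mem_isometryGroup_iff]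
      intro v
      have := twG_semi hg1 f v
      rw [hφf] at this
      exact this
    have h3 : ψ ^ f = autO (⇑Q) ⟨twG φ g f, hNiso⟩ := by
      rw [hpow, autO_eq_autS]
      exact autS_congr rfl hφf _ _
    rw [h3, inn_eq] at h2
    obtain ⟨s, hs, hs2⟩ := h2
    have h4 : s = ⟨twG φ g f, hNiso⟩ := hinj hs2
    rw [h4] at hs
    have hs' : (⟨twG φ g f, hNiso⟩ : ↥(Cfsg.isometryGroup F ⇑Q)) ∈ Cfsg.Omega F ⇑Q := hs
    rw [mem_Omega_iff_even_rank Q C.hQ hgen] at hs'
    apply hrank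
    rw [hrf]
    exact hs'
  have hord : orderOf x = 2 * f := by
    obtain ⟨k, hk⟩ := hdvd1
    rw [hk] at hdvd2
    have hk2 : k ∣ 2 := by
      rw [mul_comm 2 f] at hdvd2
      exact (Nat.mul_dvd_mul_iff_left hf0).1 hdvd2
    have hk12 : k = 1 ∨ k = 2 := by
      have := Nat.le_of_dvd (by norm_num) hk2
      interval_cases k
      · simp at hk2
      · left; rfl
      · right; rfl
    rcases hk12 with rfl | rfl
    · exfalso
      apply hne
      rw [mul_one] at hk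
      rw [← hk]
      exact pow_orderOf_eq_one x
    · rw [hk, mul_comm]
  exact isCyclic_of_orderOf_eq_card x (by rw [hord, hcard])

end Cfsg.Agent.Lib.Helper07.OG
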