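import Cfsg.Agent.Lib.Helper07.OrthZe

set_option autoImplicit false
set_option linter.unusedSimpArgs false
set_option linter.unusedVariables false
set_option linter.unusedSectionVars false
set_option linter.style.haveILetI false

/-! Orthogonal groups, minus type, odd characteristic: the Frobenius semi-isometry of the binary
anisotropic part and the determinant of its twisted powers. -/

namespace Cfsg.Agent.Lib.Helper07.OG

open Module Matrix Cfsg.Agent.Lib.Helper43 Cfsg.Agent.Lib.Helper07.UG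

section dets

variable {F : Type*} [Field F] {ι : Type} [Fintype ι] [DecidableEq ι]

theorem det_GLmap (σ : F ≃+* F) (g : GL ι F) :
    ((Matrix.GeneralLinearGroup.map (σ : F →+* F) g : GL ι F) : Matrix ι ι F).det =
      σ ((g : Matrix ι ι F).det) := by
  show ((g : Matrix ι ι F).map (σ : F →+* F)).det = _
  have := RingHom.map_det (σ : F →+* F) (g : Matrix ι ι F)
  rw [RingHom.mapMatrix_apply] at this
  rw [← this]
  rfl

end dets

section frobdet

variable {F : Type*} [Field F] [Fintype F] (p : ℕ) [Fact p.Prime] [CharP F p]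
variable {ι : Type} [Fintype ι] [DecidableEq ι]

/-- the determinant of the twisted Frobenius powers: `det^(1 + p + ⋯ + p^(k-1))`. -/
theorem det_twG_frob (g : GL ι F) (k : ℕ) :
    ∃ e : ℕ, ((twG (frobF (F := F) p) g k : GL ι F) : Matrix ι ι F).det =
      ((g : Matrix ι ι F).det) ^ e ∧ (p - 1) * e + 1 = p ^ k := by
  obtain ⟨p', hp'⟩ : ∃ p', p = p' + 1 := ⟨p - 1, by
    have := (Fact.out : p.Prime).one_lt
    omega⟩
  induction k with
  | zero => exact ⟨0, by rw [twG_zero]; simp, by simp⟩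
  | succ k ih =>
    obtain ⟨e, he1, he2⟩ := ih
    refine ⟨1 + e * p, ?_, ?_⟩
    · rw [twG_succ, Units.val_mul, Matrix.det_mul, det_GLmap, he1]
      show _ * frobF (F := F) p _ = _
      rw [frobF_apply, pow_add, pow_one, pow_mul]
    · have h1 : p - 1 = p' := by omega
      rw [h1] at he2 ⊢
      rw [pow_succ, ← he2, hp']
      ring

end frobdet

section odd

variable {F : Type*} [Field F] [Fintype F] (p : ℕ) [Fact p.Prime] [CharP F p] (a b : F)

theorem disc_not_isSquare (h2 : (2 : F) ≠ 0)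
    (hab : ∀ z₁ z₂ : F, z₁ ^ 2 + a * z₁ * z₂ + b * z₂ ^ 2 = 0 → z₁ = 0 ∧ z₂ = 0) :
    ¬ IsSquare (a ^ 2 - 4 * b) := by
  rintro ⟨s, hs⟩
  have h := hab ((s - a) / 2) 1 (by
    field_simp
    linear_combination (-1 : F) * hs)
  exact one_ne_zero h.2

/-- `D^((p-1)/2)`, `D` the discriminant. -/
def frS : F := (a ^ 2 - 4 * b) ^ ((p - 1) / 2)

/-- the off-diagonal entry. -/
noncomputable def frU : F := (a ^ p - a * frS p a b) / 2

/-- the matrix of the Frobenius map on the binary part (odd characteristic). -/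
noncomputable def M1 : Matrix (Fin 2) (Fin 2) F := !![1, frU p a b; 0, frS p a b]

theorem M1_mulVec (w : Fin 2 → F) :
    M1 p a b *ᵥ w = ![w 0 + frU p a b * w 1, frS p a b * w 1] := by
  funext i
  fin_cases i <;> simp [M1, Matrix.mulVec, dotProduct, Fin.sum_univ_two]

theorem frS_sq (hp : p ≠ 2) : frS p a b ^ 2 * (a ^ 2 - 4 * b) = (a ^ 2 - 4 * b) ^ p := by
  have hodd : Odd p := (Fact.out : p.Prime).odd_of_ne_two hp
  obtain ⟨k, hk⟩ := hodd
  unfold frS
  have h1 : (p - 1) / 2 = k := by omega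
  rw [h1, ← pow_mul, ← pow_succ, hk, mul_comm k 2]

theorem four_pow_p : (4 : F) ^ p = 4 := by
  have h := map_natCast (frobenius F p) 4
  rw [frobenius_def] at h
  exact_mod_cast h

theorem M1_semi (h2 : (2 : F) ≠ 0) (hp : p ≠ 2) (z : Fin 2 → F) :
    qb a b (M1 p a b *ᵥ (fun i => frobF (F := F) p (z i))) = frobF (F := F) p (qb a b z) := by
  rw [M1_mulVec]
  unfold qb
  simp only [frobF_apply, Matrix.cons_val_zero, Matrix.cons_val_one]
  have hs := frS_sq p a b hp
  have hD : (a ^ 2 - 4 * b) ^ p = (a ^ p) ^ 2 - 4 * b ^ p := by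
    rw [sub_pow_char, mul_pow, four_pow_p, ← pow_mul, ← pow_mul, mul_comm 2 p]
  rw [hD] at hs
  have hR : (z 0 ^ 2 + a * z 0 * z 1 + b * z 1 ^ 2) ^ p =
      (z 0 ^ p) ^ 2 + a ^ p * z 0 ^ p * z 1 ^ p + b ^ p * (z 1 ^ p) ^ 2 := by
    rw [add_pow_char, add_pow_char, mul_pow, mul_pow, mul_pow, ← pow_mul, ← pow_mul, ← pow_mul,
      ← pow_mul, mul_comm 2 p]
  rw [hR]
  obtain ⟨s, hsdef⟩ : ∃ s, s = frS p a b := ⟨_, rfl⟩
  have hu : frU p a b = (a ^ p - a * s) / 2 := by rw [hsdef]; rfl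
  rw [← hsdef] at hs ⊢
  rw [hu]
  field_simp
  linear_combination (-(z 1 ^ p) ^ 2) * hs

theorem M1_det : (M1 p a b).det = frS p a b := by
  simp [M1, Matrix.det_fin_two]

theorem frS_ne_zero (h2 : (2 : F) ≠ 0)
    (hab : ∀ z₁ z₂ : F, z₁ ^ 2 + a * z₁ * z₂ + b * z₂ ^ 2 = 0 → z₁ = 0 ∧ z₂ = 0) :
    frS p a b ≠ 0 := by
  unfold frS
  apply pow_ne_zero
  intro h0
  exact disc_not_isSquare a b h2 hab (h0 ▸ IsSquare.zero)

/-- the Frobenius semi-isometry of the binary part as an element of `GL₂`. -/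
noncomputable def M1G (h2 : (2 : F) ≠ 0)
    (hab : ∀ z₁ z₂ : F, z₁ ^ 2 + a * z₁ * z₂ + b * z₂ ^ 2 = 0 → z₁ = 0 ∧ z₂ = 0) : GL (Fin 2) F :=
  Matrix.GeneralLinearGroup.mkOfDetNeZero (M1 p a b) (by
    rw [M1_det]; exact frS_ne_zero p a b h2 hab)

theorem M1G_val (h2 : (2 : F) ≠ 0)
    (hab : ∀ z₁ z₂ : F, z₁ ^ 2 + a * z₁ * z₂ + b * z₂ ^ 2 = 0 → z₁ = 0 ∧ z₂ = 0) :
    ((M1G p a b h2 hab : GL (Fin 2) F) : Matrix (Fin 2) (Fin 2) F) = M1 p a b := rfl

/-- the norm of `frS` is `-1`: the `f`-th twisted power of the Frobenius semi-isometry has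
determinant `-1`. -/
theorem det_twG_M1G (h2 : (2 : F) ≠ 0) (hp : p ≠ 2)
    (hab : ∀ z₁ z₂ : F, z₁ ^ 2 + a * z₁ * z₂ + b * z₂ ^ 2 = 0 → z₁ = 0 ∧ z₂ = 0) {f : ℕ}
    (hF : Fintype.card F = p ^ f) :
    ((twG (frobF (F := F) p) (M1G p a b h2 hab) f : GL (Fin 2) F) :
      Matrix (Fin 2) (Fin 2) F).det = -1 := by
  obtain ⟨e, he1, he2⟩ := det_twG_frob p (M1G p a b h2 hab) f
  rw [he1, M1G_val, M1_det]
  have hodd : Odd p := (Fact.out : p.Prime).odd_of_ne_two hp
  obtain ⟨k, hk⟩ := hodd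
  have h1 : (p - 1) / 2 = k := by omega
  unfold frS
  rw [h1, ← pow_mul]
  have h3 : k * e = Fintype.card F / 2 := by
    rw [hF, ← he2]
    have : p - 1 = 2 * k := by omega
    rw [this]
    have : 2 * k * e + 1 = 2 * (k * e) + 1 := by ring
    rw [this]
    omega
  rw [h3]
  have hchar : ringChar F ≠ 2 := by rw [ringChar.eq F p]; exact hp
  have hD := disc_not_isSquare a b h2 hab
  have hD0 : a ^ 2 - 4 * b ≠ 0 := fun h0 => hD (h0 ▸ IsSquare.zero)
  rcases FiniteField.pow_dichotomy hchar hD0 with h | h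
  · exact absurd ((FiniteField.isSquare_iff hchar hD0).2 h) hD
  · exact h

end odd

end Cfsg.Agent.Lib.Helper07.OG
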