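import Cfsg.Agent.Lib.Helper07.OrthZh
import Cfsg.Agent.Lib.Helper05.OutMinusA
import Cfsg.Agent.Lib.Helper49.OutMinusB

set_option autoImplicit false
set_option linter.unusedSimpArgs false
set_option linter.unusedVariables false
set_option linter.unusedSectionVars false
set_option linter.style.haveILetI false

/-! `Out(PΩ)` in even dimension and odd characteristic, generic form: given the structure of the
image of the conformal group modulo the inner automorphisms (dihedral of order eight or a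
four-group) and a Frobenius semi-isometry whose `f`-th power has determinant `-1`. -/

namespace Cfsg.Agent.Lib.Helper07.OG

open Module Matrix Cfsg.Agent.Lib.Helper43 Cfsg.Agent.Lib.Helper07.UG Cfsg.Agent.Lib.Helper08

theorem quot_ker_facts {G C : Type*} [Group G] [Group C] (κ : G →* C)
    (hκ : Function.Surjective κ) (P : Subgroup G) [P.Normal] (hP : κ.ker = P) :
    (IsCyclic C → IsCyclic (G ⧸ P)) ∧ P.index = Nat.card C ∧
      ∀ x : G, orderOf (QuotientGroup.mk x : G ⧸ P) = orderOf (κ x) := by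
  subst hP
  refine ⟨fun hC => ?_, ?_, fun x => ?_⟩
  · exact isCyclic_of_surjective (QuotientGroup.quotientKerEquivOfSurjective κ hκ).symm.toMonoidHom
      (QuotientGroup.quotientKerEquivOfSurjective κ hκ).symm.surjective
  · rw [Subgroup.index_ker, MonoidHom.range_eq_top.2 hκ, Subgroup.card_top]
  · have := orderOf_injective (QuotientGroup.kerLift κ) (QuotientGroup.kerLift_injective κ)
      (QuotientGroup.mk x : G ⧸ κ.ker)
    rw [QuotientGroup.kerLift_mk] at this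
    exact this.symm

variable {F : Type*} [Field F] [Fintype F] [DecidableEq F] {ι : Type} [Fintype ι] [DecidableEq ι]
variable {Q : QuadraticForm F (ι → F)}

theorem inn_le_pgoAut' : Cfsg.Inn (Cfsg.POmega F ⇑Q) ≤ Cfsg.pgoAut F ⇑Q := by
  rw [inn_eq, pgoAut_eq]
  rintro _ ⟨s, -, rfl⟩
  exact ⟨inclGO Q s, rfl⟩

/-- the common part: `κ` is onto `Aut(F)` with kernel `pgoAut`. -/
theorem kappa_setup (C : OC Q) (p : ℕ) [Fact p.Prime] [CharP F p]
    (htop : Cfsg.gammaPOmega F ⇑Q = ⊤) {f : ℕ} (hF : Fintype.card F = p ^ f) {g : GL ι F}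
    (hgS : Cfsg.IsSemisimilarityPair (⇑Q) g (frobF (F := F) p)) :
    Function.Surjective (kappa C p htop) ∧ (kappa C p htop).ker = Cfsg.pgoAut F ⇑Q ∧
      orderOf (frobF (F := F) p) = f := by
  haveI : Finite (RingAut F) := finite_ringAut
  have hφtop : Subgroup.zpowers (frobF (F := F) p) = ⊤ := frobF_zpowers p
  refine ⟨?_, ?_, ?_⟩
  · rw [← MonoidHom.range_eq_top, eq_top_iff, ← hφtop, Subgroup.zpowers_le]
    exact ⟨autS g (frobF (F := F) p) hgS, kappa_autS C p htop hgS⟩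
  · rw [kappa_ker, pgoAut_eq]
  · have h1 : Nat.card (Subgroup.zpowers (frobF (F := F) p)) = orderOf (frobF (F := F) p) :=
      Nat.card_zpowers _
    rw [hφtop, Subgroup.card_top, card_ringAut p hF] at h1
    exact h1.symm

/-- case A: `pgoAut / Inn` dihedral of order eight, `f` odd. -/
theorem out_odd_caseA (C : OC Q) (p : ℕ) [Fact p.Prime] [CharP F p]
    (htop : Cfsg.gammaPOmega F ⇑Q = ⊤) {f : ℕ} (hF : Fintype.card F = p ^ f) (hodd : Odd f)
    {g : GL ι F} (hgS : Cfsg.IsSemisimilarityPair (⇑Q) g (frobF (F := F) p))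
    (φ : ↥(Cfsg.pgoAut F ⇑Q) →* DihedralGroup 4) (hφs : Function.Surjective φ)
    (hφk : φ.ker = (Cfsg.Inn (Cfsg.POmega F ⇑Q)).subgroupOf (Cfsg.pgoAut F ⇑Q)) :
    Nonempty (Cfsg.Out (Cfsg.POmega F ⇑Q) ≃* DihedralGroup 4 × Multiplicative (ZMod f)) := by
  haveI : Finite (RingAut F) := finite_ringAut
  obtain ⟨hκs, hκk, hord⟩ := kappa_setup C p htop hF hgS
  haveI : (Cfsg.pgoAut F ⇑Q).Normal := by rw [← hκk]; infer_instance
  obtain ⟨hcyc, hidx, -⟩ := quot_ker_facts (kappa C p htop) hκs (Cfsg.pgoAut F ⇑Q) hκk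
  haveI := hcyc (isCyclic_ringAut p)
  rw [card_ringAut p hF] at hidx
  exact Cfsg.Agent.Lib.Helper05.OutMinus.quot_dihedral_prod_of_cyclic_odd
    (Cfsg.Inn (Cfsg.POmega F ⇑Q)) (Cfsg.pgoAut F ⇑Q) inn_le_pgoAut' φ hφs hφk hidx hodd

/-- case B: `pgoAut / Inn` a four-group. -/
theorem out_odd_caseB (C : OC Q) (p : ℕ) [Fact p.Prime] [CharP F p]
    (htop : Cfsg.gammaPOmega F ⇑Q = ⊤) (h2 : (2 : F) ≠ 0) {m f : ℕ}
    (hcard : Fintype.card ι = 2 * m) {u0 : ι → F} (hu0 : Q u0 = 1)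
    (hF : Fintype.card F = p ^ f) (g : GL ι F)
    (hg1 : ∀ v, Q (semiAct g (frobF (F := F) p) v) = frobF (F := F) p (Q v))
    (hdet : ((twG (frobF (F := F) p) g f : GL ι F) : Matrix ι ι F).det = -1)
    (g0 : ↥(Cfsg.Geo.quadSimilarityGroup (F := F) ⇑Q)) (hg0 : ¬ IsSquare (multFun Q g0 : F))
    (φ : ↥(Cfsg.pgoAut F ⇑Q) →* Multiplicative (ZMod 2 × ZMod 2)) (hφs : Function.Surjective φ)
    (hφk : φ.ker = (Cfsg.Inn (Cfsg.POmega F ⇑Q)).subgroupOf (Cfsg.pgoAut F ⇑Q)) :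
    Nonempty (Cfsg.Out (Cfsg.POmega F ⇑Q) ≃* Multiplicative (ZMod 2 × ZMod (2 * f))) := by
  haveI : Finite (RingAut F) := finite_ringAut
  have hgS : Cfsg.IsSemisimilarityPair (⇑Q) g (frobF (F := F) p) := ⟨1, fun v => by
    have := hg1 v
    unfold semiAct at this
    rw [this]
    simp⟩
  obtain ⟨hκs, hκk, hord⟩ := kappa_setup C p htop hF hgS
  haveI : (Cfsg.pgoAut F ⇑Q).Normal := by rw [← hκk]; infer_instance
  obtain ⟨-, hidx, hordq⟩ := quot_ker_facts (kappa C p htop) hκs (Cfsg.pgoAut F ⇑Q) hκk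
  rw [card_ringAut p hF] at hidx
  have hf0 : 0 < f := by rw [← hord]; exact orderOf_pos _
  obtain ⟨ψ, hψ⟩ : ∃ ψ, ψ = autS g (frobF (F := F) p) hgS := ⟨_, rfl⟩
  have hκψ : kappa C p htop ψ = frobF (F := F) p := by rw [hψ]; exact kappa_autS C p htop hgS
  have hψord : orderOf (QuotientGroup.mk ψ : MulAut (Cfsg.POmega F ⇑Q) ⧸ Cfsg.pgoAut F ⇑Q) = f := by
    rw [hordq, hκψ, hord]
  -- the `f`-th power
  have hφf : (frobF (F := F) p ^ f : RingAut F) = 1 := by rw [← hord]; exact pow_orderOf_eq_one _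
  have hNiso : (twG (frobF (F := F) p) g f : GL ι F) ∈ Cfsg.isometryGroup F ⇑Q := by
    rw [Cfsg.Agent.Lib.Helper19.mem_isometryGroup_iff]
    intro v
    have := twG_semi hg1 f v
    rw [hφf] at this
    exact this
  have h3 : ψ ^ f = autO (⇑Q) ⟨twG (frobF (F := F) p) g f, hNiso⟩ := by
    obtain ⟨h', hpow⟩ := autS_pow hgS f
    rw [hψ, hpow, autO_eq_autS]
    exact autS_congr rfl hφf _ _
  haveI : (Esub Q hu0 m).Normal := Esub_normal hu0 m htop
  have hψE : ψ ^ f ∉ Esub Q hu0 m := by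
    rw [h3]
    exact autO_not_mem_Esub hu0 m C p h2 hcard _ hdet
  obtain ⟨e1, he1, he1I⟩ := exists_mem_Esub_not_inn hu0 m C p hcard
    ⟨twG (frobF (F := F) p) g f, hNiso⟩ hdet g0 hg0
  have hEP : Esub Q hu0 m ≤ Cfsg.pgoAut F ⇑Q := by
    rw [pgoAut_eq]; exact Esub_le_range hu0 m
  exact Cfsg.Agent.Lib.Helper49.OutMinus.quot_two_prod_cyclic
    (Cfsg.Inn (Cfsg.POmega F ⇑Q)) (Esub Q hu0 m) (Cfsg.pgoAut F ⇑Q) (inn_le_Esub hu0 m) hEP
    φ hφs hφk hf0 hidx ψ hψord hψE e1 he1 he1I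

end Cfsg.Agent.Lib.Helper07.OG
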