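import Mathlib
import Cfsg.Agent.S0261
import Cfsg.Agent.S0268

/-!
# 2-subgroups of `PSL₂(F)`, `|F|` odd: two elements commute or one of them squares to `1`

(The Sylow 2-subgroups of `SL₂(F)` are generalized quaternion, S0261; the only involution of
`SL₂(F)` is `-1`, S0268.)  In particular `PSL₂(F)` has no subgroup isomorphic to `Q₈`.
-/

set_option autoImplicit false

namespace Cfsg.Agent.Lib.Helper07.PSL2TwoSub

open Matrix

variable {F : Type*} [Field F] [Fintype F]

/-- in a generalized quaternion group two elements commute or one of them squares to an element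
of order at most two -/
theorem quaternion_dichotomy (n : ℕ) (u v : QuaternionGroup n) :
    u * v = v * u ∨ ((u * u) * (u * u) = 1) ∨ ((v * v) * (v * v) = 1) := by
  rcases u with i | i
  · rcases v with j | j
    · left
      rw [QuaternionGroup.a_mul_a, QuaternionGroup.a_mul_a, add_comm]
    · right; right
      rw [QuaternionGroup.xa_mul_xa, QuaternionGroup.a_mul_a, QuaternionGroup.one_def]
      congr 1
      have h : ((n : ZMod (2 * n)) + (n : ZMod (2 * n))) = 0 := by
        rw [← two_mul]
        exact_mod_cast ZMod.natCast_self (2 * n)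
      linear_combination h
  · right; left
    rw [QuaternionGroup.xa_mul_xa, QuaternionGroup.a_mul_a, QuaternionGroup.one_def]
    congr 1
    have h : ((n : ZMod (2 * n)) + (n : ZMod (2 * n))) = 0 := by
      rw [← two_mul]
      exact_mod_cast ZMod.natCast_self (2 * n)
    linear_combination h

/-- an element of `SL₂(F)` (`|F|` odd) whose square is `1` is central -/
theorem mem_center_of_mul_self (hF : Odd (Fintype.card F))
    (g : Matrix.SpecialLinearGroup (Fin 2) F) (h2 : g * g = 1) :
    g ∈ Subgroup.center (Matrix.SpecialLinearGroup (Fin 2) F) := by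
  by_cases h1 : g = 1
  · rw [h1]; exact Subgroup.one_mem _
  · have hg := Cfsg.Agent.S0268.result hF g h1 h2
    rw [Subgroup.mem_center_iff]
    intro h
    apply Subtype.ext
    rw [Matrix.SpecialLinearGroup.coe_mul, Matrix.SpecialLinearGroup.coe_mul, hg, Matrix.mul_neg,
      Matrix.neg_mul, Matrix.mul_one, Matrix.one_mul]

theorem center_isPGroup (hF : Odd (Fintype.card F)) :
    IsPGroup 2 (Subgroup.center (Matrix.SpecialLinearGroup (Fin 2) F)) := by
  intro z
  refine ⟨1, ?_⟩
  obtain ⟨z, hz⟩ := z
  apply Subtype.ext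
  rw [Matrix.SpecialLinearGroup.mem_center_iff] at hz
  obtain ⟨r, hr, hrz⟩ := hz
  change z ^ 2 ^ 1 = 1
  apply Subtype.ext
  rw [pow_one, Matrix.SpecialLinearGroup.coe_pow, ← hrz, Matrix.SpecialLinearGroup.coe_one]
  rw [Fintype.card_fin] at hr
  rw [← map_pow, hr, map_one]

/-- **Main lemma.** In a 2-subgroup of `PSL₂(F)`, `|F|` odd, two elements commute or one of them
squares to `1`. -/
theorem commute_or_sq (hF : Odd (Fintype.card F))
    (P : Subgroup (Matrix.ProjectiveSpecialLinearGroup (Fin 2) F)) (hP : IsPGroup 2 P)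
    (x y : Matrix.ProjectiveSpecialLinearGroup (Fin 2) F) (hx : x ∈ P) (hy : y ∈ P) :
    Commute x y ∨ x * x = 1 ∨ y * y = 1 := by
  set π : Matrix.SpecialLinearGroup (Fin 2) F →* Matrix.ProjectiveSpecialLinearGroup (Fin 2) F :=
    QuotientGroup.mk' (Subgroup.center (Matrix.SpecialLinearGroup (Fin 2) F)) with hπ
  have hker : π.ker = Subgroup.center (Matrix.SpecialLinearGroup (Fin 2) F) :=
    QuotientGroup.ker_mk' _
  have hPt : IsPGroup 2 (P.comap π) :=
    hP.comap_of_ker_isPGroup π (by rw [hker]; exact center_isPGroup hF)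
  obtain ⟨Q, hQ⟩ := hPt.exists_le_sylow
  obtain ⟨k, _, ⟨e⟩⟩ := Cfsg.Agent.S0261.result hF Q
  obtain ⟨xt, rfl⟩ := QuotientGroup.mk'_surjective _ x
  obtain ⟨yt, rfl⟩ := QuotientGroup.mk'_surjective _ y
  have hxQ : xt ∈ (Q : Subgroup (Matrix.SpecialLinearGroup (Fin 2) F)) := hQ hx
  have hyQ : yt ∈ (Q : Subgroup (Matrix.SpecialLinearGroup (Fin 2) F)) := hQ hy
  have key : ∀ z : Matrix.SpecialLinearGroup (Fin 2) F, (z * z) * (z * z) = 1 →
      π z * π z = 1 := by
    intro z hz
    rw [← map_mul]
    have := mem_center_of_mul_self hF (z * z) hz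
    rw [← hker] at this
    exact this
  rcases quaternion_dichotomy (2 ^ k) (e ⟨xt, hxQ⟩) (e ⟨yt, hyQ⟩) with h | h | h
  · left
    rw [← map_mul, ← map_mul] at h
    have h' := congrArg Subtype.val (e.injective h)
    change xt * yt = yt * xt at h'
    change π xt * π yt = π yt * π xt
    rw [← map_mul, ← map_mul, h']
  · right; left
    rw [← map_mul, ← map_mul, ← map_one e] at h
    have h' := congrArg Subtype.val (e.injective h)
    exact key xt h'
  · right; right
    rw [← map_mul, ← map_mul, ← map_one e] at h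
    have h' := congrArg Subtype.val (e.injective h)
    exact key yt h'

/-- the same for any group isomorphic to `PSL₂(F)` -/
theorem commute_or_sq_of_equiv (hF : Odd (Fintype.card F)) {G : Type*} [Group G]
    (e : G ≃* Matrix.ProjectiveSpecialLinearGroup (Fin 2) F) (P : Subgroup G) (hP : IsPGroup 2 P)
    (x y : G) (hx : x ∈ P) (hy : y ∈ P) : Commute x y ∨ x * x = 1 ∨ y * y = 1 := by
  have hP' : IsPGroup 2 (P.map e.toMonoidHom) := hP.map e.toMonoidHom
  rcases commute_or_sq hF (P.map e.toMonoidHom) hP' (e x) (e y) ⟨x, hx, rfl⟩ ⟨y, hy, rfl⟩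
    with h | h | h
  · left
    have h1 : e (x * y) = e (y * x) := by rw [map_mul, map_mul]; exact h
    exact e.injective h1
  · right; left
    apply e.injective
    rw [map_mul, map_one]; exact h
  · right; right
    apply e.injective
    rw [map_mul, map_one]; exact h

/-- a group isomorphic to `PSL₂(F)`, `|F|` odd, has no subgroup isomorphic to `Q₈`: there is no
injective homomorphism from `QuaternionGroup 2` -/
theorem not_injective_quaternion (hF : Odd (Fintype.card F)) {G : Type*} [Group G]
    (e : G ≃* Matrix.ProjectiveSpecialLinearGroup (Fin 2) F) (f : QuaternionGroup 2 →* G) :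
    ¬ Function.Injective f := by
  intro hf
  have hQ : IsPGroup 2 (QuaternionGroup 2) := by
    apply IsPGroup.of_card (n := 3)
    rw [Nat.card_eq_fintype_card, QuaternionGroup.card]; norm_num
  have hP : IsPGroup 2 f.range := by
    rintro ⟨_, ⟨z, rfl⟩⟩
    obtain ⟨k, hk⟩ := hQ z
    refine ⟨k, ?_⟩
    apply Subtype.ext
    change f z ^ 2 ^ k = 1
    rw [← map_pow, hk, map_one]
  have hne1 : QuaternionGroup.a (1 : ZMod (2 * 2)) * QuaternionGroup.xa 0 ≠
      QuaternionGroup.xa 0 * QuaternionGroup.a 1 := by decide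
  have hne2 : QuaternionGroup.a (1 : ZMod (2 * 2)) * QuaternionGroup.a 1 ≠ 1 := by decide
  have hne3 : (QuaternionGroup.xa 0 : QuaternionGroup 2) * QuaternionGroup.xa 0 ≠ 1 := by decide
  rcases commute_or_sq_of_equiv hF e f.range hP (f (QuaternionGroup.a 1)) (f (QuaternionGroup.xa 0))
    ⟨_, rfl⟩ ⟨_, rfl⟩ with h | h | h
  · apply hne1
    apply hf
    rw [map_mul, map_mul]; exact h
  · apply hne2
    apply hf
    rw [map_mul, map_one]; exact h
  · apply hne3
    apply hf
    rw [map_mul, map_one]; exact h

end Cfsg.Agent.Lib.Helper07.PSL2TwoSub
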