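import Mathlib
import Cfsg.Agent.Lib.Helper07.PSLnM

set_option autoImplicit false
set_option linter.unusedSectionVars false

/-! Field automorphisms of `PSL_n(q)`: splitting of the `Inndiag`-class into `PSL`-classes. -/

namespace Cfsg.Agent.Lib.Helper07

open Matrix

section fixU
variable {F : Type*} [Field F] [Fintype F]

/-- the units fixed by `σ`. -/
def fixU (σ : RingAut F) : Subgroup Fˣ where
  carrier := {u | σ (u : F) = u}
  one_mem' := by simp
  mul_mem' := by
    intro a b ha hb
    simp only [Set.mem_ofPred_eq] at ha hb ⊢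
    rw [Units.val_mul, map_mul, ha, hb]
  inv_mem' := by
    intro a ha
    simp only [Set.mem_ofPred_eq] at ha ⊢
    rw [Units.val_inv_eq_inv_val, map_inv₀, ha]

lemma mem_fixU (σ : RingAut F) (u : Fˣ) : u ∈ fixU σ ↔ σ (u : F) = u := Iff.rfl

lemma card_fixU (σ : RingAut F) : Nat.card (fixU σ) = Fintype.card (fixK σ) - 1 := by
  let φ : (fixK σ)ˣ →* Fˣ := Units.map ((fixK σ).subtype : fixK σ →* F)
  have hφ : Function.Injective φ := by
    intro a b hab
    apply Units.ext
    apply Subtype.ext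
    exact congrArg Units.val hab
  have hrange : φ.range = fixU σ := by
    ext u
    constructor
    · rintro ⟨v, rfl⟩
      exact (mem_fixK σ _).mp (v : fixK σ).2
    · intro hu
      have hmem : (u : F) ∈ fixK σ := (mem_fixK σ _).mpr hu
      have hne : (⟨(u : F), hmem⟩ : fixK σ) ≠ 0 := by
        intro h0
        exact u.ne_zero (congrArg Subtype.val h0)
      exact ⟨Units.mk0 _ hne, Units.ext rfl⟩
  rw [← hrange, ← Nat.card_congr (MonoidHom.ofInjective hφ).toEquiv, Nat.card_units,
    Nat.card_eq_fintype_card]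

lemma index_fixU (p : ℕ) [Fact p.Prime] {f : ℕ} (hF : Fintype.card F = p ^ f) (σ : RingAut F)
    {r : ℕ} (hr : orderOf σ = r) (hr0 : 0 < r) :
    (fixU σ).index = (p ^ f - 1) / (p ^ (f / r) - 1) := by
  obtain ⟨-, hK⟩ := card_fixK p hF σ hr hr0
  have h1 := Subgroup.card_mul_index (fixU σ)
  rw [card_fixU, hK, Nat.card_units, Nat.card_eq_fintype_card, hF] at h1
  have hpos : 0 < p ^ (f / r) - 1 := by
    have : 1 < p ^ (f / r) := by
      rw [← hK]
      exact Fintype.one_lt_card
    omega
  rw [← h1, Nat.mul_div_cancel_left _ hpos]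

end fixU

section count
variable {n : ℕ} {F : Type*} [Field F] [Fintype F] (p : ℕ) [Fact p.Prime] [CharP F p]

local notation "G" => ProjectiveSpecialLinearGroup (Fin n) F

omit [Fintype F] in
lemma update_one_ne_zero (i₀ : Fin n) (c : Fˣ) (i : Fin n) :
    Function.update (fun _ : Fin n => (1 : F)) i₀ c.val i ≠ 0 := by
  by_cases hi : i = i₀
  · rw [hi, Function.update_self]; exact c.ne_zero
  · rw [Function.update_of_ne hi]; exact one_ne_zero

/-- `diag(c,1,…,1)`. -/
noncomputable def diagOne (i₀ : Fin n) (c : Fˣ) : GL (Fin n) F :=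
  diagGLn _ (update_one_ne_zero i₀ c)

omit [Fintype F] in
lemma det_diagOne (i₀ : Fin n) (c : Fˣ) : GeneralLinearGroup.det (diagOne i₀ c) = c := by
  apply Units.ext
  show (Matrix.diagonal _).det = c.val
  rw [det_diagonal, Finset.prod_update_of_mem (Finset.mem_univ _)]
  simp

omit [Fintype F] in
lemma diagOne_map_fixed (σ : RingAut F) (i₀ : Fin n) (c : Fˣ) (hc : σ (c : F) = c) :
    (diagOne i₀ c).val.map σ = (diagOne i₀ c).val := by
  show (Matrix.diagonal _).map σ = Matrix.diagonal _
  ext i j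
  rw [Matrix.map_apply, Matrix.diagonal_apply]
  split_ifs with h
  · by_cases hi : i = i₀
    · rw [hi, Function.update_self, hc]
    · rw [Function.update_of_ne hi, map_one]
  · rw [map_zero]

omit [Fintype F] in
lemma det_map_ringAut (σ : RingAut F) (A : Matrix (Fin n) (Fin n) F) :
    (A.map σ).det = σ A.det :=
  (RingHom.map_det (σ : F →+* F) A).symm

include p in
theorem relIndex_fieldAutN (hn : 2 ≤ n) (σ : RingAut F) {r : ℕ} (hr : orderOf σ = r)
    (hr0 : 0 < r) :
    (Cfsg.Inn G ⊔ ((conjGLn (n := n) (F := F)).range ⊓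
        Subgroup.centralizer {fieldAutN σ})).relIndex (conjGLn (n := n) (F := F)).range
      = Nat.gcd n (fixU σ).index := by
  have hn1 : 1 ≤ n := by omega
  set C : Subgroup (MulAut G) :=
    (conjGLn (n := n) (F := F)).range ⊓ Subgroup.centralizer {fieldAutN σ} with hC
  set M : Subgroup (MulAut G) := Cfsg.Inn G ⊔ C with hM
  rw [← Subgroup.index_comap]
  set Mt : Subgroup (GL (Fin n) F) := M.comap (conjGLn (n := n) (F := F)) with hMt
  have hne : Nonempty (Fin n) := ⟨⟨0, hn1⟩⟩
  have hdet : Function.Surjective (GeneralLinearGroup.det : GL (Fin n) F →* Fˣ) :=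
    GeneralLinearGroup.det_surjective
  have hker : (GeneralLinearGroup.det : GL (Fin n) F →* Fˣ).ker ≤ Mt := by
    intro g hg
    rw [MonoidHom.mem_ker] at hg
    have hdet1 : g.val.det = 1 := by
      have := congrArg Units.val hg
      simpa using this
    obtain ⟨s, hgs⟩ : ∃ s : SpecialLinearGroup (Fin n) F, g = SpecialLinearGroup.toGL s :=
      ⟨⟨g.val, hdet1⟩, Units.ext rfl⟩
    show conjGLn g ∈ M
    rw [hgs, conjGLn_toGL]
    exact Subgroup.mem_sup_left ⟨_, rfl⟩
  rw [← Subgroup.index_map_eq Mt hdet hker]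
  have himg : Mt.map (GeneralLinearGroup.det : GL (Fin n) F →* Fˣ)
      = (powMonoidHom n : Fˣ →* Fˣ).range ⊔ fixU σ := by
    apply le_antisymm
    · rintro _ ⟨g, hg, rfl⟩
      have hg' : conjGLn g ∈ M := hg
      rw [hM, ← SetLike.mem_coe, Subgroup.normal_mul, Set.mem_mul] at hg'
      obtain ⟨a, ⟨z, rfl⟩, b, ⟨⟨h, rfl⟩, hbc⟩, hab⟩ := hg'
      obtain ⟨s, rfl⟩ := prjN_surjective z
      have hbc' : (conjGLn h : MulAut G) ∈ Subgroup.centralizer {fieldAutN σ} := hbc
      rw [conjGLn_mem_centralizer_iff p hn1] at hbc'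
      obtain ⟨l, hl⟩ := hbc'
      obtain ⟨y, hy0, hy⟩ := exists_fixed_rep hn1 σ hr hr0 h hl
      -- the central discrepancy
      have hz : (SpecialLinearGroup.toGL s * h)⁻¹ * g ∈ (conjGLn (n := n) (F := F)).ker := by
        rw [MonoidHom.mem_ker, map_mul, map_inv, map_mul, conjGLn_toGL]
        show (MulAut.conj (prjN s) * conjGLn h)⁻¹ * conjGLn g = 1
        rw [← hab, inv_mul_cancel]
      rw [conjGLn_ker p hn1, GeneralLinearGroup.center_eq_range_scalar] at hz
      obtain ⟨u, hu⟩ := hz
      have hg2 : g = SpecialLinearGroup.toGL s * h * GeneralLinearGroup.scalar (Fin n) u := by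
        rw [hu, ← mul_assoc, mul_inv_cancel, one_mul]
      have hdets : GeneralLinearGroup.det (SpecialLinearGroup.toGL s) = 1 := by
        apply Units.ext
        show (s : Matrix (Fin n) (Fin n) F).det = 1
        exact s.2
      -- det h = w^{-n} v with v fixed
      let w : Fˣ := Units.mk0 y hy0
      let v : Fˣ := w ^ n * GeneralLinearGroup.det h
      have hv : v ∈ fixU σ := by
        rw [mem_fixU]
        have e1 : (v : F) = (y • h.val).det := by
          rw [Matrix.det_smul, Fintype.card_fin]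
          rfl
        rw [e1, ← det_map_ringAut, hy]
      have hdetg : GeneralLinearGroup.det g = (w⁻¹ * u) ^ n * v := by
        rw [hg2, map_mul, map_mul, hdets, one_mul, GeneralLinearGroup.det_scalar,
          Fintype.card_fin, mul_pow]
        show GeneralLinearGroup.det h * u ^ n = w⁻¹ ^ n * u ^ n * (w ^ n * GeneralLinearGroup.det h)
        rw [inv_pow]
        have : w ^ n * (w ^ n)⁻¹ = 1 := mul_inv_cancel _
        calc GeneralLinearGroup.det h * u ^ n
            = (w ^ n * (w ^ n)⁻¹) * (GeneralLinearGroup.det h * u ^ n) := by rw [this, one_mul]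
          _ = _ := by
            simp only [mul_comm, mul_left_comm, mul_assoc]
      rw [hdetg]
      exact Subgroup.mul_mem _ (Subgroup.mem_sup_left ⟨w⁻¹ * u, rfl⟩) (Subgroup.mem_sup_right hv)
    · rw [sup_le_iff]
      constructor
      · rintro _ ⟨u, rfl⟩
        refine ⟨GeneralLinearGroup.scalar (Fin n) u, ?_, ?_⟩
        · show conjGLn (GeneralLinearGroup.scalar (Fin n) u) ∈ M
          rw [conjGLn_scalar p hn1]
          exact Subgroup.one_mem _
        · rw [GeneralLinearGroup.det_scalar, Fintype.card_fin]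
          rfl
      · intro u hu
        refine ⟨diagOne ⟨0, hn1⟩ u, ?_, det_diagOne _ u⟩
        show conjGLn (diagOne ⟨0, hn1⟩ u) ∈ M
        apply Subgroup.mem_sup_right
        refine ⟨⟨_, rfl⟩, ?_⟩
        show (conjGLn (diagOne ⟨0, hn1⟩ u) : MulAut G) ∈ Subgroup.centralizer {fieldAutN σ}
        rw [conjGLn_mem_centralizer_iff p hn1]
        refine ⟨1, ?_⟩
        rw [Units.val_one, one_smul]
        exact diagOne_map_fixed σ _ u ((mem_fixU σ u).mp hu)
  rw [himg, index_range_pow_sup]

end count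

section assembly
variable {F : Type*} [Field F] [Fintype F] {p f : ℕ} [Fact p.Prime]

/-- statement S2698. -/
theorem psl_field_aut_main (hF : Fintype.card F = p ^ f) (hf : 1 ≤ f) {n : ℕ} (hn : 2 ≤ n)
    (x : MulAut (ProjectiveSpecialLinearGroup (Fin n) F)) (hx : Cfsg.IsFieldAutClassPSL x)
    {r : ℕ} (hr : r.Prime) (hxr : orderOf x = r) (F₀ : Type*) [Field F₀] [Fintype F₀]
    (hF₀ : Fintype.card F₀ = p ^ (f / r)) :
    r ∣ f ∧
    Nonempty (↥(Cfsg.inndiagPSL n F ⊓ Subgroup.centralizer {x}) ≃* ProjGenLinGroup (Fin n) F₀) ∧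
    Cfsg.splitClassCount (Cfsg.inndiagPSL n F)
        (Cfsg.Inn (ProjectiveSpecialLinearGroup (Fin n) F)) x
      = Nat.gcd n ((p ^ f - 1) / (p ^ (f / r) - 1)) := by
  have : CharP F p := charP_of_card_eq_prime_pow hF
  have hn1 : 1 ≤ n := by omega
  obtain ⟨α, σ, hσ, hstd⟩ := hx
  have e := eq_fieldAutN_of_isStdFieldAut hstd
  have hab : (⟨0, by omega⟩ : Fin n) ≠ ⟨1, by omega⟩ := by
    intro h
    exact absurd (congrArg Fin.val h) (by norm_num)
  have hxo : orderOf (fieldAutN σ : MulAut (ProjectiveSpecialLinearGroup (Fin n) F)) = r := by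
    rw [← e, orderOf_conj_eq, hxr]
  have hσr : orderOf σ = r := by
    rw [← hxo]
    exact (orderOf_injective fieldAutN (fieldAutN_injective p hab) σ).symm
  obtain ⟨hrf, -⟩ := card_fixK p hF σ hσr hr.pos
  obtain ⟨ι, hι, hι'⟩ := exists_fixed_embedding (F₀ := F₀) p hF σ hσr hr.pos hF₀
  rw [inndiagPSL_eq_range]
  have hDn : (conjGLn (n := n) (F := F)).range.Normal := conjGLn_range_normal' hF hf hn
  refine ⟨hrf, ?_, ?_⟩
  · obtain ⟨e2⟩ := centralizer_fieldAutN_equiv (F₀ := F₀) p hn1 σ hσr hr.pos ι hι hι'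
    have e1 := centInfEquiv (conjGLn (n := n) (F := F)).range α x
    rw [e] at e1
    exact ⟨e1.trans e2⟩
  · rw [← splitClassCount_conj _ _ inn_le_conjGLn_range α x, e,
      splitClassCount_eq_relIndex _ _ inn_le_conjGLn_range, relIndex_fieldAutN p hn σ hσr hr.pos,
      index_fixU p hF σ hσr hr.pos]

end assembly

end Cfsg.Agent.Lib.Helper07
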