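import Mathlib
import Cfsg.Agent.Lib.Helper07.PSLnN

set_option autoImplicit false
set_option linter.unusedSectionVars false

/-! Involutory graph-field automorphisms of `PSL_n(q)`. -/

namespace Cfsg.Agent.Lib.Helper07

open Matrix

section invol

/-- a finite cyclic group has at most one element of order two. -/
lemma eq_of_orderOf_two {A : Type*} [Group A] [IsCyclic A] [Finite A] {a b : A}
    (ha : orderOf a = 2) (hb : orderOf b = 2) : a = b := by
  classical
  have := Fintype.ofFinite A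
  have h2 : 2 ∣ Fintype.card A := by
    rw [← ha]
    exact orderOf_dvd_card
  have h := IsCyclic.card_orderOf_eq_totient h2
  rw [Nat.totient_two] at h
  have hle := Finset.card_le_one.mp (le_of_eq h)
  exact hle a (by simp [ha]) b (by simp [hb])

variable {F : Type*} [Field F] [Fintype F]

/-- an involutory field automorphism of `F`, `|F| = p^f`, is the `p^(f/2)`-power map. -/
lemma involution_eq_pow (p : ℕ) [Fact p.Prime] {f : ℕ} (hF : Fintype.card F = p ^ f)
    (σ : RingAut F) (hσ : orderOf σ = 2) :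
    2 ∣ f ∧ ∀ a : F, σ a = a ^ (p ^ (f / 2)) := by
  have : CharP F p := charP_of_card_eq_prime_pow hF
  obtain ⟨h2f, hK⟩ := card_fixK p hF σ hσ two_pos
  refine ⟨h2f, ?_⟩
  obtain ⟨k, hk⟩ := h2f
  have hk' : f / 2 = k := by rw [hk]; exact Nat.mul_div_cancel_left k two_pos
  rw [hk']
  have hp1 : 1 < p := (Fact.out : p.Prime).one_lt
  have hk0 : 0 < k := by
    rcases Nat.eq_zero_or_pos k with rfl | h
    · rw [hk', pow_zero] at hK
      have := Fintype.one_lt_card (α := fixK σ)
      omega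
    · exact h
  let τ : RingAut F := iterateFrobeniusEquiv F p k
  have hτ : ∀ a, τ a = a ^ p ^ k := iterateFrobeniusEquiv_def F p k
  have hτ2 : τ ^ 2 = 1 := by
    ext a
    rw [pow_two]
    show τ (τ a) = a
    rw [hτ, hτ, ← pow_mul, ← pow_add, ← two_mul, ← hk, ← hF, FiniteField.pow_card]
  have hτ1 : τ ≠ 1 := by
    intro h1
    obtain ⟨g, hg⟩ := IsCyclic.exists_generator (α := Fˣ)
    have hord : orderOf g = Nat.card Fˣ := orderOf_eq_card_of_forall_mem_zpowers hg
    have h3 : (g : F) ^ p ^ k = g := by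
      rw [← hτ, h1]
      rfl
    have hlt : 1 < p ^ k := Nat.one_lt_pow hk0.ne' hp1
    have h4 : g ^ (p ^ k - 1) = 1 := by
      apply Units.ext
      rw [Units.val_pow_eq_pow_val, Units.val_one]
      have h5 : (g : F) ^ (p ^ k - 1) * g = 1 * g := by
        rw [← pow_succ, Nat.sub_add_cancel hlt.le, h3, one_mul]
      exact mul_right_cancel₀ g.ne_zero h5
    have h6 := orderOf_dvd_of_pow_eq_one h4
    rw [hord, Nat.card_units, Nat.card_eq_fintype_card, hF, hk] at h6
    have h7 : p ^ k - 1 < p ^ (2 * k) - 1 := by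
      have : p ^ k < p ^ (2 * k) := Nat.pow_lt_pow_right hp1 (by omega)
      omega
    have h8 := Nat.le_of_dvd (by omega) h6
    omega
  have hτo : orderOf τ = 2 := by
    have : Fact (Nat.Prime 2) := ⟨Nat.prime_two⟩
    exact orderOf_eq_prime hτ2 hτ1
  have hcyc := isCyclic_ringAut (F := F) p
  have hfin : Finite (RingAut F) :=
    Finite.of_injective (fun τ : RingAut F => (τ : F → F)) DFunLike.coe_injective
  have := eq_of_orderOf_two hσ hτo
  intro a
  rw [this, hτ]

end invol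

section gu
variable {n : ℕ} {F : Type*} [Field F]

lemma hermForm_eq_hfm (σ : RingAut F) {q : ℕ} (hσq : ∀ a, σ a = a ^ q) (u v : Fin n → F) :
    Cfsg.hermForm n F q u v = hfm σ 1 u v := by
  unfold Cfsg.hermForm hfm
  rw [one_mulVec]
  unfold dotProduct
  apply Finset.sum_congr rfl
  intro i _
  show u i * v i ^ q = u i * σ (v i)
  rw [hσq]

lemma hfm_mulVec (σ : RingAut F) (H g : Matrix (Fin n) (Fin n) F) (u v : Fin n → F) :
    hfm σ H (g *ᵥ u) (g *ᵥ v) = hfm σ (gᵀ * H * g.map σ) u v := by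
  unfold hfm
  have h1 : (fun j => σ ((g *ᵥ v) j)) = g.map σ *ᵥ (fun j => σ (v j)) := by
    funext j
    exact RingHom.map_mulVec (σ : F →+* F) g v j
  rw [h1, ← mulVec_mulVec, ← mulVec_mulVec, dotProduct_mulVec u gᵀ, vecMul_transpose]

lemma hfm_ext (σ : RingAut F) (H H' : Matrix (Fin n) (Fin n) F)
    (h : ∀ u v, hfm σ H u v = hfm σ H' u v) : H = H' := by
  ext i j
  have := h (Pi.single i 1) (fun l => σ.symm ((Pi.single j (1 : F) : Fin n → F) l))
  unfold hfm at this
  simp only [RingEquiv.apply_symm_apply] at this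
  rw [single_dotProduct, single_dotProduct, one_mul, one_mul, mulVec_single_one,
    mulVec_single_one] at this
  exact this

lemma mem_GU_iff (σ : RingAut F) {q : ℕ} (hσq : ∀ a, σ a = a ^ q) (g : GL (Fin n) F) :
    g ∈ Cfsg.GU n F q ↔ g.valᵀ * g.val.map σ = 1 := by
  have h0 : g ∈ Cfsg.GU n F q ↔ ∀ u v : Fin n → F,
      Cfsg.hermForm n F q (g.val *ᵥ u) (g.val *ᵥ v) = Cfsg.hermForm n F q u v := Iff.rfl
  rw [h0]
  constructor
  · intro h
    have h1 : g.valᵀ * 1 * g.val.map σ = 1 := by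
      apply hfm_ext σ
      intro u v
      rw [← hfm_mulVec, ← hermForm_eq_hfm σ hσq, ← hermForm_eq_hfm σ hσq, h]
    rwa [mul_one] at h1
  · intro h u v
    rw [hermForm_eq_hfm σ hσq, hermForm_eq_hfm σ hσq, hfm_mulVec, mul_one, h]

end gu

section gfcent
variable {n : ℕ} {F : Type*} [Field F] [Fintype F] (p : ℕ) [Fact p.Prime] [CharP F p]

local notation "G" => ProjectiveSpecialLinearGroup (Fin n) F

omit [Fintype F] in
lemma map_map_invol (σ : RingAut F) (hσ : ∀ a, σ (σ a) = a) (A : Matrix (Fin n) (Fin n) F) :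
    (A.map σ).map σ = A := by
  ext i j
  simp only [Matrix.map_apply]
  exact hσ _

omit [Fintype F] in
lemma map_smul_ringAut (σ : RingAut F) (c : F) (A : Matrix (Fin n) (Fin n) F) :
    (c • A).map σ = σ c • A.map σ := by
  ext i j
  simp [Matrix.map_apply]

include p in
/-- `c_g` commutes with the graph-field automorphism iff `g` is a unitary similitude. -/
lemma conjGLn_mem_centralizer_gfAut_iff (hn : 1 ≤ n) (σ : RingAut F) (hσ : ∀ a, σ (σ a) = a)
    (g : GL (Fin n) F) :
    (conjGLn g : MulAut G) ∈ Subgroup.centralizer {gfAut σ}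
      ↔ ∃ l : Fˣ, g.valᵀ * g.val.map σ = (l : F) • 1 := by
  rw [Subgroup.mem_centralizer_iff]
  have hgT : g.valᵀ * (g⁻¹.val)ᵀ = 1 := by rw [← transpose_mul, Units.inv_mul, transpose_one]
  have hgT' : (g⁻¹.val)ᵀ * g.valᵀ = 1 := by rw [← transpose_mul, Units.mul_inv, transpose_one]
  constructor
  · intro h
    have h1 := h (gfAut σ) rfl
    rw [gfAut_mul_conjGLn] at h1
    have h2 : (conjGLn (glMap σ (glInvT g)) : MulAut G) = conjGLn g := mul_right_cancel h1
    have h3 : g⁻¹ * glMap σ (glInvT g) ∈ (conjGLn (n := n) (F := F)).ker := by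
      rw [MonoidHom.mem_ker, map_mul, h2, ← map_mul, inv_mul_cancel, map_one]
    rw [conjGLn_ker p hn, GeneralLinearGroup.center_eq_range_scalar] at h3
    obtain ⟨u, hu⟩ := h3
    have h4 : glMap σ (glInvT g) = g * GeneralLinearGroup.scalar (Fin n) u := by
      rw [hu, ← mul_assoc, mul_inv_cancel, one_mul]
    have h5 : ((g⁻¹.val)ᵀ).map σ = (u : F) • g.val := by
      have := congrArg Units.val h4
      rw [glMap_val, glInvT_val, Units.val_mul, GeneralLinearGroup.coe_scalar] at this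
      rw [this]
      simp [Matrix.scalar_apply, Matrix.smul_eq_mul_diagonal]
    have h6 : (g⁻¹.val)ᵀ = σ (u : F) • g.val.map σ := by
      have := congrArg (fun M : Matrix (Fin n) (Fin n) F => M.map σ) h5
      rw [map_map_invol σ hσ, map_smul_ringAut] at this
      exact this
    have hu0 : σ (u : F) ≠ 0 := (map_ne_zero_iff _ σ.injective).mpr u.ne_zero
    refine ⟨Units.mk0 (σ (u : F))⁻¹ (inv_ne_zero hu0), ?_⟩
    have h7 : g.valᵀ * (σ (u : F) • g.val.map σ) = 1 := by rw [← h6, hgT]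
    rw [Matrix.mul_smul] at h7
    show g.valᵀ * g.val.map σ = (σ (u : F))⁻¹ • 1
    rw [← h7, smul_smul, inv_mul_cancel₀ hu0, one_smul]
  · rintro ⟨l, hl⟩ y hy
    rw [Set.mem_singleton_iff] at hy
    subst hy
    rw [gfAut_mul_conjGLn]
    congr 1
    have hl0 : σ (l : F) ≠ 0 := (map_ne_zero_iff _ σ.injective).mpr l.ne_zero
    apply conjGLn_eq_of_val_smul p hn (inv_ne_zero hl0)
    rw [glMap_val, glInvT_val]
    -- σ(g) = l (g⁻¹)ᵀ
    have h1 : g.val.map σ = (l : F) • (g⁻¹.val)ᵀ := by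
      calc g.val.map σ = ((g⁻¹.val)ᵀ * g.valᵀ) * g.val.map σ := by rw [hgT', one_mul]
        _ = (g⁻¹.val)ᵀ * (g.valᵀ * g.val.map σ) := by rw [mul_assoc]
        _ = _ := by rw [hl, Matrix.mul_smul, mul_one]
    have h2 : g.val = σ (l : F) • ((g⁻¹.val)ᵀ).map σ := by
      have := congrArg (fun M : Matrix (Fin n) (Fin n) F => M.map σ) h1
      rw [map_map_invol σ hσ, map_smul_ringAut] at this
      exact this
    rw [h2, smul_smul, inv_mul_cancel₀ hl0, one_smul]

include p in
/-- a unitary similitude is a scalar multiple of a unitary matrix. -/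
lemma exists_unitary_rep (hn : 1 ≤ n) (σ : RingAut F) (hσ : ∀ a, σ (σ a) = a) (hσ1 : σ ≠ 1)
    (g : GL (Fin n) F) {l : F} (hl0 : l ≠ 0) (hl : g.valᵀ * g.val.map σ = l • 1) :
    ∃ ν : F, ν ≠ 0 ∧ (ν • g.val)ᵀ * (ν • g.val).map σ = 1 := by
  -- l is fixed
  have hfix : σ l = l := by
    have h1 : ((g.valᵀ * g.val.map σ).map σ)ᵀ = g.valᵀ * g.val.map σ := by
      rw [map_mul_ringAut, map_map_invol σ hσ, transpose_mul, transpose_map, transpose_transpose]
    rw [hl, map_smul_ringAut, transpose_smul, map_one_mat, transpose_one] at h1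
    have := congrFun (congrFun h1 ⟨0, hn⟩) ⟨0, hn⟩
    simpa using this
  have hord : orderOf σ = 2 := by
    have : Fact (Nat.Prime 2) := ⟨Nat.prime_two⟩
    apply orderOf_eq_prime
    · ext a
      rw [pow_two]
      exact hσ a
    · exact hσ1
  have hfix' : σ l⁻¹ = l⁻¹ := by rw [map_inv₀, hfix]
  obtain ⟨ν, hν0, hν⟩ := nrmF_surjective σ hord two_pos l⁻¹ (inv_ne_zero hl0) hfix'
  rw [nrmF_two] at hν
  refine ⟨ν, hν0, ?_⟩
  rw [map_smul_ringAut, transpose_smul, Matrix.smul_mul, Matrix.mul_smul, smul_smul, hl,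
    smul_smul, hν, inv_mul_cancel₀ hl0, one_smul]

/-- conjugation by the unitary group. -/
noncomputable def unitaryConj (q : ℕ) : ↥(Cfsg.GU n F q) →* MulAut G :=
  conjGLn.comp (Cfsg.GU n F q).subtype

include p in
lemma unitaryConj_ker (hn : 1 ≤ n) (q : ℕ) :
    (unitaryConj (n := n) (F := F) q).ker
      = (Cfsg.Geo.scalars (Fin n) F).subgroupOf (Cfsg.GU n F q) := by
  have h1 : Cfsg.Geo.scalars (Fin n) F = Subgroup.center (GL (Fin n) F) := by
    rw [GeneralLinearGroup.center_eq_range_scalar]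
    rfl
  rw [h1, ← conjGLn_ker p hn]
  rfl

include p in
lemma unitaryConj_range (hn : 1 ≤ n) (σ : RingAut F) (hσ : ∀ a, σ (σ a) = a) (hσ1 : σ ≠ 1)
    {q : ℕ} (hσq : ∀ a, σ a = a ^ q) :
    (unitaryConj (n := n) (F := F) q).range
      = (conjGLn (n := n) (F := F)).range ⊓ Subgroup.centralizer {gfAut σ} := by
  apply le_antisymm
  · rintro _ ⟨⟨g, hg⟩, rfl⟩
    refine ⟨⟨g, rfl⟩, ?_⟩
    show (conjGLn g : MulAut G) ∈ Subgroup.centralizer {gfAut σ}
    rw [conjGLn_mem_centralizer_gfAut_iff p hn σ hσ]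
    refine ⟨1, ?_⟩
    rw [Units.val_one, one_smul]
    exact (mem_GU_iff σ hσq g).mp hg
  · rintro y ⟨⟨g, rfl⟩, hc⟩
    have hc' : (conjGLn g : MulAut G) ∈ Subgroup.centralizer {gfAut σ} := hc
    rw [conjGLn_mem_centralizer_gfAut_iff p hn σ hσ] at hc'
    obtain ⟨l, hl⟩ := hc'
    obtain ⟨ν, hν0, hν⟩ := exists_unitary_rep p hn σ hσ hσ1 g l.ne_zero hl
    let g' : GL (Fin n) F := GeneralLinearGroup.scalar (Fin n) (Units.mk0 ν hν0) * g
    have hg'val : g'.val = ν • g.val := by
      show (GeneralLinearGroup.scalar (Fin n) (Units.mk0 ν hν0)).val * g.val = ν • g.val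
      rw [GeneralLinearGroup.coe_scalar]
      simp [Matrix.scalar_apply, Matrix.smul_eq_diagonal_mul]
    have hg'U : g' ∈ Cfsg.GU n F q := by
      rw [mem_GU_iff σ hσq, hg'val]
      exact hν
    refine ⟨⟨g', hg'U⟩, ?_⟩
    show conjGLn g' = conjGLn g
    exact conjGLn_eq_of_val_smul p hn hν0 hg'val

include p in
/-- `C_{Inndiag}(graph-field involution) ≅ PGU_n`. -/
theorem centralizer_gfAut_equiv (hn : 1 ≤ n) (σ : RingAut F) (hσ : ∀ a, σ (σ a) = a)
    (hσ1 : σ ≠ 1) {q : ℕ} (hσq : ∀ a, σ a = a ^ q) :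
    Nonempty (↥((conjGLn (n := n) (F := F)).range ⊓ Subgroup.centralizer {gfAut σ})
      ≃* Cfsg.PGU n F q) := by
  have e1 := QuotientGroup.quotientKerEquivRange (unitaryConj (n := n) (F := F) q)
  have e2 := QuotientGroup.quotientMulEquivOfEq (unitaryConj_ker (n := n) (F := F) p hn q)
  have e3 := MulEquiv.subgroupCongr (unitaryConj_range p hn σ hσ hσ1 hσq)
  exact ⟨(e2.symm.trans (e1.trans e3)).symm⟩

end gfcent

end Cfsg.Agent.Lib.Helper07
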