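import Mathlib
import Cfsg.Agent.Lib.Helper07.PSLnO

set_option autoImplicit false
set_option linter.unusedSectionVars false

/-! Involutory graph-field automorphisms of `PSL_n(q)`: class splitting and uniqueness. -/

namespace Cfsg.Agent.Lib.Helper07

open Matrix

section normone
variable {F : Type*} [Field F] [Fintype F]

/-- the norm `u ↦ u σ(u)` on units. -/
def normHom (σ : RingAut F) : Fˣ →* Fˣ where
  toFun u := u * Units.map ((σ : F →+* F) : F →* F) u
  map_one' := by simp
  map_mul' a b := by rw [map_mul]; exact mul_mul_mul_comm _ _ _ _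

lemma normHom_val (σ : RingAut F) (u : Fˣ) : ((normHom σ u : Fˣ) : F) = u * σ (u : F) := rfl

lemma mem_normHom_ker (σ : RingAut F) (u : Fˣ) : u ∈ (normHom σ).ker ↔ (u : F) * σ (u : F) = 1 := by
  rw [MonoidHom.mem_ker]
  constructor
  · intro h
    have := congrArg Units.val h
    rwa [normHom_val] at this
  · intro h
    apply Units.ext
    rw [normHom_val, h]
    rfl

lemma normHom_range (σ : RingAut F) (hσ : ∀ a, σ (σ a) = a) (hσ1 : σ ≠ 1) :
    (normHom σ).range = fixU σ := by
  have hord : orderOf σ = 2 := by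
    have : Fact (Nat.Prime 2) := ⟨Nat.prime_two⟩
    apply orderOf_eq_prime
    · ext a
      rw [pow_two]
      exact hσ a
    · exact hσ1
  ext u
  constructor
  · rintro ⟨v, rfl⟩
    rw [mem_fixU, normHom_val, map_mul, hσ, mul_comm]
  · intro hu
    obtain ⟨c, hc0, hc⟩ := nrmF_surjective σ hord two_pos (u : F) u.ne_zero ((mem_fixU σ u).mp hu)
    rw [nrmF_two] at hc
    exact ⟨Units.mk0 c hc0, Units.ext hc⟩

lemma index_normHom_ker (p : ℕ) [Fact p.Prime] {f : ℕ} (hF : Fintype.card F = p ^ f)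
    (σ : RingAut F) (hσ : ∀ a, σ (σ a) = a) (hσ1 : σ ≠ 1) :
    (normHom σ).ker.index = p ^ (f / 2) - 1 := by
  have hord : orderOf σ = 2 := by
    have : Fact (Nat.Prime 2) := ⟨Nat.prime_two⟩
    apply orderOf_eq_prime
    · ext a
      rw [pow_two]
      exact hσ a
    · exact hσ1
  obtain ⟨-, hK⟩ := card_fixK p hF σ hord two_pos
  rw [Subgroup.index_ker, normHom_range σ hσ hσ1, card_fixU, hK]

end normone

section count
variable {n : ℕ} {F : Type*} [Field F] [Fintype F] (p : ℕ) [Fact p.Prime] [CharP F p]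

local notation "G" => ProjectiveSpecialLinearGroup (Fin n) F

omit [Fintype F] in
lemma diagOne_unitary (σ : RingAut F) (i₀ : Fin n) (c : Fˣ) (hc : (c : F) * σ (c : F) = 1) :
    (diagOne i₀ c).valᵀ * (diagOne i₀ c).val.map σ = 1 := by
  show (Matrix.diagonal _)ᵀ * (Matrix.diagonal _).map σ = 1
  rw [diagonal_transpose]
  have h1 : (Matrix.diagonal (Function.update (fun _ : Fin n => (1 : F)) i₀ c.val)).map σ
      = Matrix.diagonal (fun i => σ (Function.update (fun _ : Fin n => (1 : F)) i₀ c.val i)) := by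
    ext i j
    rw [Matrix.map_apply, Matrix.diagonal_apply, Matrix.diagonal_apply]
    split_ifs <;> simp
  rw [h1, diagonal_mul_diagonal, ← diagonal_one]
  congr 1
  funext i
  by_cases hi : i = i₀
  · rw [hi, Function.update_self, hc]
  · rw [Function.update_of_ne hi, map_one, one_mul]

include p in
theorem relIndex_gfAut (hn : 2 ≤ n) (σ : RingAut F) (hσ : ∀ a, σ (σ a) = a) (hσ1 : σ ≠ 1) :
    (Cfsg.Inn G ⊔ ((conjGLn (n := n) (F := F)).range ⊓
        Subgroup.centralizer {gfAut σ})).relIndex (conjGLn (n := n) (F := F)).range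
      = Nat.gcd n (normHom σ).ker.index := by
  have hn1 : 1 ≤ n := by omega
  set C : Subgroup (MulAut G) :=
    (conjGLn (n := n) (F := F)).range ⊓ Subgroup.centralizer {gfAut σ} with hC
  set M : Subgroup (MulAut G) := Cfsg.Inn G ⊔ C with hM
  rw [← Subgroup.index_comap]
  set Mt : Subgroup (GL (Fin n) F) := M.comap (conjGLn (n := n) (F := F)) with hMt
  have hne : Nonempty (Fin n) := ⟨⟨0, hn1⟩⟩
  have hdet : Function.Surjective (GeneralLinearGroup.det : GL (Fin n) F →* Fˣ) :=
    GeneralLinearGroup.det_surjective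
  have hker : (GeneralLinearGroup.det : GL (Fin n) F →* Fˣ).ker ≤ Mt := by
    intro g hg
    rw [MonoidHom.mem_ker] at hg
    have hdet1 : g.val.det = 1 := by
      have := congrArg Units.val hg
      simpa using this
    obtain ⟨s, hgs⟩ : ∃ s : SpecialLinearGroup (Fin n) F, g = SpecialLinearGroup.toGL s :=
      ⟨⟨g.val, hdet1⟩, Units.ext rfl⟩
    show conjGLn g ∈ M
    rw [hgs, conjGLn_toGL]
    exact Subgroup.mem_sup_left ⟨_, rfl⟩
  rw [← Subgroup.index_map_eq Mt hdet hker]
  have himg : Mt.map (GeneralLinearGroup.det : GL (Fin n) F →* Fˣ)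
      = (powMonoidHom n : Fˣ →* Fˣ).range ⊔ (normHom σ).ker := by
    apply le_antisymm
    · rintro _ ⟨g, hg, rfl⟩
      have hg' : conjGLn g ∈ M := hg
      rw [hM, ← SetLike.mem_coe, Subgroup.normal_mul, Set.mem_mul] at hg'
      obtain ⟨a, ⟨z, rfl⟩, b, ⟨⟨h, rfl⟩, hbc⟩, hab⟩ := hg'
      obtain ⟨s, rfl⟩ := prjN_surjective z
      have hbc' : (conjGLn h : MulAut G) ∈ Subgroup.centralizer {gfAut σ} := hbc
      rw [conjGLn_mem_centralizer_gfAut_iff p hn1 σ hσ] at hbc'
      obtain ⟨l, hl⟩ := hbc'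
      obtain ⟨y, hy0, hy⟩ := exists_unitary_rep p hn1 σ hσ hσ1 h l.ne_zero hl
      have hz : (SpecialLinearGroup.toGL s * h)⁻¹ * g ∈ (conjGLn (n := n) (F := F)).ker := by
        rw [MonoidHom.mem_ker, map_mul, map_inv, map_mul, conjGLn_toGL]
        show (MulAut.conj (prjN s) * conjGLn h)⁻¹ * conjGLn g = 1
        rw [← hab, inv_mul_cancel]
      rw [conjGLn_ker p hn1, GeneralLinearGroup.center_eq_range_scalar] at hz
      obtain ⟨u, hu⟩ := hz
      have hg2 : g = SpecialLinearGroup.toGL s * h * GeneralLinearGroup.scalar (Fin n) u := by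
        rw [hu, ← mul_assoc, mul_inv_cancel, one_mul]
      have hdets : GeneralLinearGroup.det (SpecialLinearGroup.toGL s) = 1 := by
        apply Units.ext
        show (s : Matrix (Fin n) (Fin n) F).det = 1
        exact s.2
      let w : Fˣ := Units.mk0 y hy0
      let v : Fˣ := w ^ n * GeneralLinearGroup.det h
      have hv : v ∈ (normHom σ).ker := by
        rw [mem_normHom_ker]
        have e1 : (v : F) = (y • h.val).det := by
          rw [Matrix.det_smul, Fintype.card_fin]
          rfl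
        have e2 := congrArg Matrix.det hy
        rw [det_mul, det_transpose, det_map_ringAut, det_one] at e2
        rw [e1]
        exact e2
      have hdetg : GeneralLinearGroup.det g = (w⁻¹ * u) ^ n * v := by
        rw [hg2, map_mul, map_mul, hdets, one_mul, GeneralLinearGroup.det_scalar,
          Fintype.card_fin, mul_pow]
        show GeneralLinearGroup.det h * u ^ n = w⁻¹ ^ n * u ^ n * (w ^ n * GeneralLinearGroup.det h)
        rw [inv_pow]
        have : w ^ n * (w ^ n)⁻¹ = 1 := mul_inv_cancel _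
        calc GeneralLinearGroup.det h * u ^ n
            = (w ^ n * (w ^ n)⁻¹) * (GeneralLinearGroup.det h * u ^ n) := by rw [this, one_mul]
          _ = _ := by
            simp only [mul_comm, mul_left_comm, mul_assoc]
      rw [hdetg]
      exact Subgroup.mul_mem _ (Subgroup.mem_sup_left ⟨w⁻¹ * u, rfl⟩) (Subgroup.mem_sup_right hv)
    · rw [sup_le_iff]
      constructor
      · rintro _ ⟨u, rfl⟩
        refine ⟨GeneralLinearGroup.scalar (Fin n) u, ?_, ?_⟩
        · show conjGLn (GeneralLinearGroup.scalar (Fin n) u) ∈ M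
          rw [conjGLn_scalar p hn1]
          exact Subgroup.one_mem _
        · rw [GeneralLinearGroup.det_scalar, Fintype.card_fin]
          rfl
      · intro u hu
        refine ⟨diagOne ⟨0, hn1⟩ u, ?_, det_diagOne _ u⟩
        show conjGLn (diagOne ⟨0, hn1⟩ u) ∈ M
        apply Subgroup.mem_sup_right
        refine ⟨⟨_, rfl⟩, ?_⟩
        show (conjGLn (diagOne ⟨0, hn1⟩ u) : MulAut G) ∈ Subgroup.centralizer {gfAut σ}
        rw [conjGLn_mem_centralizer_gfAut_iff p hn1 σ hσ]
        refine ⟨1, ?_⟩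
        rw [Units.val_one, one_smul]
        exact diagOne_unitary σ _ u ((mem_normHom_ker σ u).mp hu)
  rw [himg, index_range_pow_sup]

end count

section assembly
variable {F : Type*} [Field F] [Fintype F] {p f : ℕ} [Fact p.Prime]

/-- normal form of a graph-field class member. -/
lemma exists_gfAut_of_class (hF : Fintype.card F = p ^ f) {n : ℕ}
    (x : MulAut (ProjectiveSpecialLinearGroup (Fin n) F)) (hx : Cfsg.IsGraphFieldAutClassPSL x)
    (hx2 : orderOf x = 2) :
    3 ≤ n ∧ ∃ (α : MulAut (ProjectiveSpecialLinearGroup (Fin n) F)) (σ : RingAut F),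
      α * x * α⁻¹ = gfAut σ ∧ orderOf σ = 2 ∧ (∀ a, σ (σ a) = a) ∧ σ ≠ 1 := by
  have : CharP F p := charP_of_card_eq_prime_pow hF
  obtain ⟨hn3, α, φ, γ, σ, hσ, hφ, hγ, heq⟩ := hx
  have e1 := eq_fieldAutN_of_isStdFieldAut hφ
  have e2 := eq_invT_of_isInverseTranspose hγ
  have e : α * x * α⁻¹ = gfAut σ := by rw [heq, e1, e2]; rfl
  have hox : orderOf (gfAut σ : MulAut (ProjectiveSpecialLinearGroup (Fin n) F)) = 2 := by
    rw [← e, orderOf_conj_eq, hx2]
  obtain ⟨-, hσσ⟩ := gfAut_prime_order p hn3 σ Nat.prime_two hox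
  have hσ1 : σ ≠ 1 := hσ
  have hord : orderOf σ = 2 := by
    have : Fact (Nat.Prime 2) := ⟨Nat.prime_two⟩
    apply orderOf_eq_prime
    · ext a
      rw [pow_two]
      exact hσσ a
    · exact hσ1
  exact ⟨hn3, α, σ, e, hord, hσσ, hσ1⟩

/-- statement S2704. -/
theorem psl_gf_aut_main (hF : Fintype.card F = p ^ f) (hf : 1 ≤ f) {n : ℕ} (hn : 3 ≤ n)
    (x : MulAut (ProjectiveSpecialLinearGroup (Fin n) F)) (hx : Cfsg.IsGraphFieldAutClassPSL x)
    (hx2 : orderOf x = 2) :
    Even f ∧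
    (∀ y : MulAut (ProjectiveSpecialLinearGroup (Fin n) F), Cfsg.IsGraphFieldAutClassPSL y →
      orderOf y = 2 → Cfsg.IsConjUnder (Cfsg.inndiagPSL n F) x y) ∧
    Nonempty (↥(Cfsg.inndiagPSL n F ⊓ Subgroup.centralizer {x}) ≃* Cfsg.PGU n F (p ^ (f / 2))) ∧
    Cfsg.splitClassCount (Cfsg.inndiagPSL n F)
        (Cfsg.Inn (ProjectiveSpecialLinearGroup (Fin n) F)) x = Nat.gcd n (p ^ (f / 2) - 1) := by
  have : CharP F p := charP_of_card_eq_prime_pow hF
  have hn1 : 1 ≤ n := by omega
  have hn2 : 2 ≤ n := by omega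
  obtain ⟨-, α, σ, e, hord, hσσ, hσ1⟩ := exists_gfAut_of_class hF x hx hx2
  obtain ⟨h2f, hσq⟩ := involution_eq_pow p hF σ hord
  rw [inndiagPSL_eq_range]
  have hDn : (conjGLn (n := n) (F := F)).range.Normal := conjGLn_range_normal' hF hf hn2
  refine ⟨even_iff_two_dvd.mpr h2f, ?_, ?_, ?_⟩
  · intro y hy hy2
    obtain ⟨-, α', σ', e', hord', -, -⟩ := exists_gfAut_of_class hF y hy hy2
    have hcyc := isCyclic_ringAut (F := F) p
    have hfin : Finite (RingAut F) :=
      Finite.of_injective (fun τ : RingAut F => (τ : F → F)) DFunLike.coe_injective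
    have hσσ' : σ' = σ := eq_of_orderOf_two hord' hord
    rw [hσσ'] at e'
    obtain ⟨g, τ, γ, hγ, hβ⟩ := aut_psl_factor hF hf hn2 (α' * α⁻¹)
    set x₀ : MulAut (ProjectiveSpecialLinearGroup (Fin n) F) := gfAut σ with hx₀
    set c : MulAut (ProjectiveSpecialLinearGroup (Fin n) F) := conjGLn g with hc
    set γ' : MulAut (ProjectiveSpecialLinearGroup (Fin n) F) := fieldAutN τ * γ with hγ'
    have hβ' : α' * α⁻¹ = c * γ' := by rw [hβ, hγ', mul_assoc]
    have hcomm : γ' * x₀ * γ'⁻¹ = x₀ := by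
      have h1 : γ' * x₀ = x₀ * γ' := by
        rw [hγ', hx₀]
        unfold gfAut
        have hff : (fieldAutN τ : MulAut (ProjectiveSpecialLinearGroup (Fin n) F)) * fieldAutN σ
            = fieldAutN σ * fieldAutN τ := by
          rw [← map_mul, ← map_mul]
          congr 1
          obtain ⟨g₀, hg₀⟩ := hcyc.exists_generator
          obtain ⟨a, rfl⟩ := Subgroup.mem_zpowers_iff.mp (hg₀ τ)
          obtain ⟨b, rfl⟩ := Subgroup.mem_zpowers_iff.mp (hg₀ σ)
          exact (Commute.zpow_zpow_self g₀ a b).eq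
        rcases hγ with rfl | rfl
        · rw [mul_one, mul_assoc, invT_mul_fieldAutN, ← mul_assoc, ← mul_assoc, hff]
        · calc fieldAutN τ * invT * (fieldAutN σ * invT)
              = fieldAutN τ * (invT * fieldAutN σ) * invT := by group
            _ = fieldAutN τ * (fieldAutN σ * invT) * invT := by rw [invT_mul_fieldAutN]
            _ = (fieldAutN τ * fieldAutN σ) * invT * invT := by group
            _ = (fieldAutN σ * fieldAutN τ) * invT * invT := by rw [hff]
            _ = fieldAutN σ * (fieldAutN τ * invT) * invT := by group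
            _ = fieldAutN σ * (invT * fieldAutN τ) * invT := by rw [invT_mul_fieldAutN]
            _ = _ := by group
      rw [h1, mul_assoc, mul_inv_cancel, mul_one]
    refine ⟨α⁻¹ * (γ'⁻¹ * c⁻¹ * γ') * α, ?_, ?_⟩
    · have h1 : c⁻¹ ∈ (conjGLn (n := n) (F := F)).range := Subgroup.inv_mem _ ⟨g, rfl⟩
      have h2 := hDn.conj_mem c⁻¹ h1 γ'⁻¹
      rw [inv_inv] at h2
      have h3 := hDn.conj_mem _ h2 α⁻¹
      rwa [inv_inv] at h3
    · calc y = α'⁻¹ * x₀ * α' := by rw [← e']; group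
        _ = α⁻¹ * (α' * α⁻¹)⁻¹ * x₀ * (α' * α⁻¹) * α := by group
        _ = α⁻¹ * (c * γ')⁻¹ * x₀ * (c * γ') * α := by rw [hβ']
        _ = α⁻¹ * γ'⁻¹ * c⁻¹ * (γ' * x₀ * γ'⁻¹) * c * γ' * α := by rw [hcomm]; group
        _ = α⁻¹ * γ'⁻¹ * c⁻¹ * (γ' * (α * x * α⁻¹) * γ'⁻¹) * c * γ' * α := by rw [e]
        _ = (α⁻¹ * (γ'⁻¹ * c⁻¹ * γ') * α) * x * (α⁻¹ * (γ'⁻¹ * c⁻¹ * γ') * α)⁻¹ := by group
  · obtain ⟨e2⟩ := centralizer_gfAut_equiv p hn1 σ hσσ hσ1 hσq
    have e1 := centInfEquiv (conjGLn (n := n) (F := F)).range α x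
    rw [e] at e1
    exact ⟨e1.trans e2⟩
  · rw [← splitClassCount_conj _ _ inn_le_conjGLn_range α x, e,
      splitClassCount_eq_relIndex _ _ inn_le_conjGLn_range, relIndex_gfAut p hn2 σ hσσ hσ1,
      index_normHom_ker p hF σ hσσ hσ1]

end assembly

end Cfsg.Agent.Lib.Helper07
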