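import Mathlib
import Cfsg.Prelude.Def_LieClassical

set_option autoImplicit false
set_option linter.unusedSectionVars false
set_option linter.unusedVariables false

/-! Unitary groups: the standard `σ`-Hermitian form, rank-one operators, Eichler–Siegel
transformations, hyperbolic rotations and quasi-reflections, at the level of matrices. -/

namespace Cfsg.Agent.Lib.Helper07.UG

open Matrix

variable {n : ℕ} {F : Type*} [Field F]

/-- the standard `σ`-Hermitian form `Σ uᵢ σ(vᵢ)`. -/
def hu (σ : RingAut F) (u v : Fin n → F) : F := ∑ i, u i * σ (v i)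

section form
variable (σ : RingAut F)

lemma hu_add_left (u u' v : Fin n → F) : hu σ (u + u') v = hu σ u v + hu σ u' v := by
  simp [hu, add_mul, Finset.sum_add_distrib]

lemma hu_smul_left (c : F) (u v : Fin n → F) : hu σ (c • u) v = c * hu σ u v := by
  simp [hu, Finset.mul_sum, mul_assoc]

lemma hu_neg_left (u v : Fin n → F) : hu σ (-u) v = - hu σ u v := by
  simp [hu]

lemma hu_sub_left (u u' v : Fin n → F) : hu σ (u - u') v = hu σ u v - hu σ u' v := by
  rw [sub_eq_add_neg, hu_add_left, hu_neg_left, ← sub_eq_add_neg]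

lemma hu_zero_left (v : Fin n → F) : hu σ 0 v = 0 := by
  simp [hu]

lemma hu_add_right (u v v' : Fin n → F) : hu σ u (v + v') = hu σ u v + hu σ u v' := by
  simp [hu, mul_add, Finset.sum_add_distrib]

lemma hu_smul_right (c : F) (u v : Fin n → F) : hu σ u (c • v) = σ c * hu σ u v := by
  simp only [hu, Finset.mul_sum, Pi.smul_apply, smul_eq_mul, map_mul]
  apply Finset.sum_congr rfl
  intro i _
  ring

lemma hu_neg_right (u v : Fin n → F) : hu σ u (-v) = - hu σ u v := by
  simp [hu]

lemma hu_sub_right (u v v' : Fin n → F) : hu σ u (v - v') = hu σ u v - hu σ u v' := by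
  rw [sub_eq_add_neg, hu_add_right, hu_neg_right, ← sub_eq_add_neg]

lemma hu_zero_right (u : Fin n → F) : hu σ u 0 = 0 := by
  simp [hu]

lemma hu_sum_left {κ : Type*} (s : Finset κ) (u : κ → Fin n → F) (v : Fin n → F) :
    hu σ (∑ k ∈ s, u k) v = ∑ k ∈ s, hu σ (u k) v := by
  classical
  induction s using Finset.induction_on with
  | empty => simp [hu_zero_left]
  | insert a s ha ih => rw [Finset.sum_insert ha, Finset.sum_insert ha, hu_add_left, ih]

lemma hu_sum_right {κ : Type*} (s : Finset κ) (u : Fin n → F) (v : κ → Fin n → F) :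
    hu σ u (∑ k ∈ s, v k) = ∑ k ∈ s, hu σ u (v k) := by
  classical
  induction s using Finset.induction_on with
  | empty => simp [hu_zero_right]
  | insert a s ha ih => rw [Finset.sum_insert ha, Finset.sum_insert ha, hu_add_right, ih]

lemma hu_conj (hσ : ∀ a, σ (σ a) = a) (u v : Fin n → F) : σ (hu σ u v) = hu σ v u := by
  simp only [hu, map_sum, map_mul, hσ]
  apply Finset.sum_congr rfl
  intro i _
  ring

lemma hu_single_right (u : Fin n → F) (i : Fin n) : hu σ u (Pi.single i 1) = u i := by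
  unfold hu
  rw [Finset.sum_eq_single i]
  · simp
  · intro j _ hj
    simp [Pi.single_eq_of_ne hj]
  · intro h
    exact absurd (Finset.mem_univ i) h

lemma hu_nondeg (x : Fin n → F) (h : ∀ y, hu σ x y = 0) : x = 0 := by
  funext i
  have := h (Pi.single i 1)
  rwa [hu_single_right] at this

lemma hu_nondeg' (hσ : ∀ a, σ (σ a) = a) (x : Fin n → F) (h : ∀ y, hu σ y x = 0) : x = 0 := by
  apply hu_nondeg σ
  intro y
  rw [← hu_conj σ hσ, h, map_zero]

lemma exists_hu_ne_zero {x : Fin n → F} (hx : x ≠ 0) : ∃ y, hu σ x y ≠ 0 := by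
  by_contra hcon
  push Not at hcon
  exact hx (hu_nondeg σ x hcon)

lemma hermForm_eq_hu {q : ℕ} (hσq : ∀ a, σ a = a ^ q) (u v : Fin n → F) :
    Cfsg.hermForm n F q u v = hu σ u v := by
  unfold Cfsg.hermForm hu
  apply Finset.sum_congr rfl
  intro i _
  rw [hσq]

/-- the form applied after a field automorphism commuting with `σ`. -/
lemma hu_map (τ : RingAut F) (hτ : ∀ a, τ (σ a) = σ (τ a)) (u v : Fin n → F) :
    hu σ (fun i => τ (u i)) (fun i => τ (v i)) = τ (hu σ u v) := by
  simp only [hu, map_sum, map_mul, hτ]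

end form

section ops
variable (σ : RingAut F)

/-- the rank-one operator `x ↦ h(x, v) u`. -/
def op (u v : Fin n → F) : Matrix (Fin n) (Fin n) F := Matrix.of fun i j => u i * σ (v j)

lemma op_mulVec (u v x : Fin n → F) : op σ u v *ᵥ x = hu σ x v • u := by
  funext i
  simp only [mulVec, dotProduct, op, Matrix.of_apply, Pi.smul_apply, smul_eq_mul, hu,
    Finset.sum_mul]
  apply Finset.sum_congr rfl
  intro j _
  ring

lemma mat_ext_mulVec {M N : Matrix (Fin n) (Fin n) F} (h : ∀ x, M *ᵥ x = N *ᵥ x) : M = N := by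
  ext i j
  have := congrFun (h (Pi.single j 1)) i
  rwa [mulVec_single_one, mulVec_single_one] at this

lemma op_eq_vecMulVec (u v : Fin n → F) :
    op σ u v = replicateCol Unit u * replicateRow Unit (fun j => σ (v j)) := by
  ext i j
  simp [op, Matrix.mul_apply]

lemma det_one_add_op (u v : Fin n → F) : (1 + op σ u v).det = 1 + hu σ u v := by
  rw [op_eq_vecMulVec, det_one_add_replicateCol_mul_replicateRow]
  simp only [dotProduct, hu]
  congr 1
  apply Finset.sum_congr rfl
  intro i _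
  ring

lemma det_one_add_smul_op (c : F) (u v : Fin n → F) :
    (1 + c • op σ u v).det = 1 + c * hu σ u v := by
  have : c • op σ u v = op σ (c • u) v := by
    ext i j
    simp [op, mul_assoc]
  rw [this, det_one_add_op, hu_smul_left]

/-- `M` preserves the form. -/
def IsU (M : Matrix (Fin n) (Fin n) F) : Prop :=
  ∀ x y, hu σ (M *ᵥ x) (M *ᵥ y) = hu σ x y

lemma IsU.one : IsU σ (1 : Matrix (Fin n) (Fin n) F) := by
  intro x y
  rw [one_mulVec, one_mulVec]

lemma IsU.mul {M N : Matrix (Fin n) (Fin n) F} (hM : IsU σ M) (hN : IsU σ N) :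
    IsU σ (M * N) := by
  intro x y
  rw [← mulVec_mulVec, ← mulVec_mulVec, hM, hN]

lemma IsU.injective {M : Matrix (Fin n) (Fin n) F} (hM : IsU σ M) :
    Function.Injective (M *ᵥ ·) := by
  intro x y hxy
  have hxy' : M *ᵥ x = M *ᵥ y := hxy
  have h0 : x - y = 0 := by
    apply hu_nondeg σ
    intro z
    rw [← hM, mulVec_sub, hxy', sub_self, hu_zero_left]
  exact sub_eq_zero.mp h0

lemma IsU.det_ne_zero {M : Matrix (Fin n) (Fin n) F} (hM : IsU σ M) : M.det ≠ 0 := by
  intro h0
  obtain ⟨v, hv0, hv⟩ := Matrix.exists_mulVec_eq_zero_iff.mpr h0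
  apply hv0
  apply hM.injective
  show M *ᵥ v = M *ᵥ 0
  rw [hv, mulVec_zero]

lemma IsU.inv {M : Matrix (Fin n) (Fin n) F} (hM : IsU σ M) : IsU σ M⁻¹ := by
  intro x y
  have hu' : IsUnit M.det := isUnit_iff_ne_zero.mpr hM.det_ne_zero
  have := hM (M⁻¹ *ᵥ x) (M⁻¹ *ᵥ y)
  rw [mulVec_mulVec, mulVec_mulVec, Matrix.mul_nonsing_inv _ hu', one_mulVec, one_mulVec] at this
  exact this.symm

/-- the Eichler–Siegel transformation `x ↦ x + h(x,e) w − h(x,w) e + a h(x,e) e`. -/
def esM (e w : Fin n → F) (a : F) : Matrix (Fin n) (Fin n) F :=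
  (1 + op σ w e) * (1 + op σ e (-w + σ a • e))

lemma esM_mulVec (hσ : ∀ a, σ (σ a) = a) {e w : Fin n → F} (he : hu σ e e = 0) (a : F)
    (x : Fin n → F) :
    esM σ e w a *ᵥ x = x + hu σ x e • w - hu σ x w • e + (a * hu σ x e) • e := by
  unfold esM
  rw [← mulVec_mulVec, add_mulVec, one_mulVec, op_mulVec, add_mulVec, one_mulVec, op_mulVec,
    hu_add_left, hu_smul_left, he, mul_zero, add_zero, hu_add_right, hu_neg_right, hu_smul_right,
    hσ]
  funext i
  simp only [Pi.add_apply, Pi.smul_apply, Pi.sub_apply, smul_eq_mul]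
  ring

lemma det_esM {e w : Fin n → F} (he : hu σ e e = 0) (hwe : hu σ w e = 0)
    (hew : hu σ e w = 0) (a : F) : (esM σ e w a).det = 1 := by
  unfold esM
  rw [det_mul, det_one_add_op, det_one_add_op, hwe, hu_add_right, hu_neg_right, hu_smul_right,
    he, hew]
  simp

lemma isU_esM (hσ : ∀ a, σ (σ a) = a) {e w : Fin n → F} (he : hu σ e e = 0)
    (hwe : hu σ w e = 0) {a : F} (ha : a + σ a + hu σ w w = 0) : IsU σ (esM σ e w a) := by
  have hew : hu σ e w = 0 := by rw [← hu_conj σ hσ, hwe, map_zero]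
  intro x y
  rw [esM_mulVec σ hσ he, esM_mulVec σ hσ he]
  simp only [hu_add_left, hu_add_right, hu_sub_left, hu_sub_right, hu_smul_left, hu_smul_right,
    map_mul, hu_conj σ hσ, he, hwe, hew]
  linear_combination (hu σ x e * hu σ e y) * ha

/-- the hyperbolic rotation `e ↦ d e`, `f ↦ σ(d)⁻¹ f` for a hyperbolic pair `(e, f)`. -/
def hrM (e f : Fin n → F) (d : F) : Matrix (Fin n) (Fin n) F :=
  (1 + (d - 1) • op σ e f) * (1 + ((σ d)⁻¹ - 1) • op σ f e)

lemma hrM_mulVec {e f : Fin n → F} (hf : hu σ f f = 0) (d : F) (x : Fin n → F) :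
    hrM σ e f d *ᵥ x = x + ((d - 1) * hu σ x f) • e + (((σ d)⁻¹ - 1) * hu σ x e) • f := by
  unfold hrM
  rw [← mulVec_mulVec, add_mulVec, one_mulVec, smul_mulVec, op_mulVec, add_mulVec, one_mulVec,
    smul_mulVec, op_mulVec, hu_add_left, hu_smul_left, hu_smul_left, hf]
  funext i
  simp only [Pi.add_apply, Pi.smul_apply, smul_eq_mul]
  ring

lemma det_hrM {e f : Fin n → F} (hef : hu σ e f = 1) (hfe : hu σ f e = 1) {d : F} (hd : d ≠ 0) :
    (hrM σ e f d).det = d * (σ d)⁻¹ := by
  unfold hrM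
  rw [det_mul, det_one_add_smul_op, det_one_add_smul_op, hef, hfe]
  ring

lemma isU_hrM (hσ : ∀ a, σ (σ a) = a) {e f : Fin n → F} (he : hu σ e e = 0)
    (hf : hu σ f f = 0) (hef : hu σ e f = 1) {d : F} (hd : d ≠ 0) : IsU σ (hrM σ e f d) := by
  have hfe : hu σ f e = 1 := by rw [← hu_conj σ hσ, hef, map_one]
  have hσd : σ d ≠ 0 := (map_ne_zero_iff _ σ.injective).mpr hd
  intro x y
  rw [hrM_mulVec σ hf, hrM_mulVec σ hf]
  simp only [hu_add_left, hu_add_right, hu_smul_left, hu_smul_right, map_mul, map_sub, map_one,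
    map_inv₀, hσ, hu_conj σ hσ, he, hf, hef, hfe]
  field_simp
  ring

/-- the quasi-reflection `w ↦ μ w` for a vector `w` of norm one. -/
def rfM (w : Fin n → F) (μ : F) : Matrix (Fin n) (Fin n) F := 1 + (μ - 1) • op σ w w

lemma rfM_mulVec (w : Fin n → F) (μ : F) (x : Fin n → F) :
    rfM σ w μ *ᵥ x = x + ((μ - 1) * hu σ x w) • w := by
  unfold rfM
  rw [add_mulVec, one_mulVec, smul_mulVec, op_mulVec, smul_smul]

lemma det_rfM {w : Fin n → F} (hw : hu σ w w = 1) (μ : F) : (rfM σ w μ).det = μ := by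
  unfold rfM
  rw [det_one_add_smul_op, hw]
  ring

lemma isU_rfM (hσ : ∀ a, σ (σ a) = a) {w : Fin n → F} (hw : hu σ w w = 1) {μ : F}
    (hμ : μ * σ μ = 1) : IsU σ (rfM σ w μ) := by
  intro x y
  rw [rfM_mulVec, rfM_mulVec]
  simp only [hu_add_left, hu_add_right, hu_smul_left, hu_smul_right, map_mul, map_sub, map_one,
    hu_conj σ hσ, hw]
  linear_combination (hu σ x w * hu σ w y) * hμ

end ops

end Cfsg.Agent.Lib.Helper07.UG
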