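import Mathlib
import Cfsg.Agent.Lib.Helper07.PSUa
import Cfsg.Agent.Lib.Helper07.HermClass

set_option autoImplicit false
set_option linter.unusedSectionVars false
set_option linter.unusedVariables false

/-! Unitary groups: the context structure, trace and norm over finite fields, the group
`SU_n(q)` acting on vectors. -/

namespace Cfsg.Agent.Lib.Helper07.UG

open Matrix

/-- the data `q = p^f`, `|F| = q²`, `σ = (x ↦ x^q)`. -/
structure UC (F : Type*) [Field F] [Fintype F] (q : ℕ) where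
  p : ℕ
  hp : p.Prime
  f : ℕ
  hf : 1 ≤ f
  hq : q = p ^ f
  hF : Fintype.card F = q ^ 2
  σ : RingAut F
  hσq : ∀ a, σ a = a ^ q

section field
variable {F : Type*} [Field F] [Fintype F] {q : ℕ}

lemma UC.two_le_q (C : UC F q) : 2 ≤ q := by
  have h : 2 ≤ C.p ^ C.f :=
    calc 2 ≤ C.p := C.hp.two_le
      _ = C.p ^ 1 := (pow_one _).symm
      _ ≤ C.p ^ C.f := Nat.pow_le_pow_right C.hp.pos C.hf
  rwa [← C.hq] at h

lemma UC.charP (C : UC F q) : CharP F C.p := by
  have : Fact C.p.Prime := ⟨C.hp⟩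
  apply charP_of_card_eq_prime_pow (f := 2 * C.f)
  rw [C.hF, pow_mul', ← C.hq]

variable (C : UC F q)

lemma UC.hσ (a : F) : C.σ (C.σ a) = a := by
  rw [C.hσq, C.hσq, ← pow_mul, ← pow_two, ← C.hF, FiniteField.pow_card]

lemma UC.hσ1 : C.σ ≠ 1 := by
  intro h1
  have h2 : ∀ a : F, a ^ q = a := by
    intro a
    rw [← C.hσq, h1]
    rfl
  have hq2 := C.two_le_q
  obtain ⟨g, hg⟩ := IsCyclic.exists_generator (α := Fˣ)
  have hord : orderOf g = Nat.card Fˣ := orderOf_eq_card_of_forall_mem_zpowers hg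
  rw [Nat.card_units, Nat.card_eq_fintype_card, C.hF] at hord
  have h3 : g ^ (q - 1) = 1 := by
    apply Units.ext
    have h4 := h2 (g : F)
    have h5 : (g : F) ^ (q - 1) * g = 1 * g := by
      rw [← pow_succ, Nat.sub_add_cancel (by omega), h4, one_mul]
    rw [Units.val_pow_eq_pow_val, Units.val_one]
    exact mul_right_cancel₀ g.ne_zero h5
  have h6 := Nat.le_of_dvd (by omega) (orderOf_dvd_of_pow_eq_one h3)
  rw [hord] at h6
  have : q * q ≥ 2 * q := Nat.mul_le_mul_right q hq2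
  have h7 : q ^ 2 = q * q := pow_two q
  omega

/-- an element with `σ κ = -κ`, `κ ≠ 0`. -/
lemma UC.exists_kappa : ∃ κ : F, κ ≠ 0 ∧ C.σ κ = -κ := by
  have h1 := C.hσ1
  obtain ⟨z, hz⟩ : ∃ z, C.σ z ≠ z := by
    by_contra hcon
    push Not at hcon
    apply h1
    ext a
    exact hcon a
  refine ⟨z - C.σ z, ?_, ?_⟩
  · intro h0
    exact hz (sub_eq_zero.mp h0).symm
  · rw [map_sub, C.hσ]
    ring

/-- the trace is onto the fixed field. -/
lemma UC.exists_tr_eq (c : F) (hc : C.σ c = c) : ∃ b : F, b + C.σ b = c := by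
  obtain ⟨z, hz⟩ := exists_tr_ne_zero C.σ C.hσ1
  have ht : C.σ (z + C.σ z) = z + C.σ z := by
    rw [map_add, C.hσ, add_comm]
  refine ⟨c / (z + C.σ z) * z, ?_⟩
  rw [map_mul, map_div₀, hc, ht]
  field_simp

/-- the norm is onto the fixed field. -/
lemma UC.exists_norm_eq (c : F) (hc : C.σ c = c) : ∃ b : F, b * C.σ b = c := by
  by_cases hc0 : c = 0
  · exact ⟨0, by rw [hc0, zero_mul]⟩
  · have hord : orderOf C.σ = 2 := by
      have : Fact (Nat.Prime 2) := ⟨Nat.prime_two⟩
      apply orderOf_eq_prime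
      · ext a
        rw [pow_two]
        exact C.hσ a
      · exact C.hσ1
    obtain ⟨b, _, hb⟩ := nrmF_surjective C.σ hord two_pos c hc0 hc
    rw [nrmF_two] at hb
    exact ⟨b, hb⟩

lemma UC.exists_norm_eq' (c : F) (hc : C.σ c = c) (hc0 : c ≠ 0) :
    ∃ b : F, b ≠ 0 ∧ b * C.σ b = c := by
  obtain ⟨b, hb⟩ := C.exists_norm_eq c hc
  refine ⟨b, ?_, hb⟩
  intro h0
  rw [h0, zero_mul] at hb
  exact hc0 hb.symm

/-- a field automorphism commutes with `σ`. -/
lemma UC.comm_σ (τ : RingAut F) (a : F) : τ (C.σ a) = C.σ (τ a) := by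
  rw [C.hσq, C.hσq, map_pow]

end field

section group
variable {n : ℕ} {F : Type*} [Field F] [Fintype F] {q : ℕ} (C : UC F q)

/-- the special unitary group as a type. -/
abbrev SUn (n : ℕ) (F : Type*) [Field F] (q : ℕ) := ↥(Cfsg.SU n F q)

/-- the action on vectors. -/
def act (s : SUn n F q) (x : Fin n → F) : Fin n → F :=
  ((s : SpecialLinearGroup (Fin n) F) : Matrix (Fin n) (Fin n) F) *ᵥ x

lemma act_mul (s t : SUn n F q) (x : Fin n → F) : act (s * t) x = act s (act t x) := by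
  unfold act
  rw [Subgroup.coe_mul, Matrix.SpecialLinearGroup.coe_mul, mulVec_mulVec]

lemma act_one (x : Fin n → F) : act (1 : SUn n F q) x = x := by
  unfold act
  rw [Subgroup.coe_one, Matrix.SpecialLinearGroup.coe_one, one_mulVec]

lemma act_inv_act (s : SUn n F q) (x : Fin n → F) : act s⁻¹ (act s x) = x := by
  rw [← act_mul, inv_mul_cancel, act_one]

lemma act_act_inv (s : SUn n F q) (x : Fin n → F) : act s (act s⁻¹ x) = x := by
  rw [← act_mul, mul_inv_cancel, act_one]

lemma act_add (s : SUn n F q) (x y : Fin n → F) : act s (x + y) = act s x + act s y := by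
  unfold act
  rw [mulVec_add]

lemma act_sub (s : SUn n F q) (x y : Fin n → F) : act s (x - y) = act s x - act s y := by
  unfold act
  rw [mulVec_sub]

lemma act_neg (s : SUn n F q) (x : Fin n → F) : act s (-x) = - act s x := by
  unfold act
  rw [mulVec_neg]

lemma act_zero (s : SUn n F q) : act s (0 : Fin n → F) = 0 := by
  unfold act
  rw [mulVec_zero]

lemma act_smul (s : SUn n F q) (c : F) (x : Fin n → F) : act s (c • x) = c • act s x := by
  unfold act
  rw [mulVec_smul]

lemma act_injective (s : SUn n F q) : Function.Injective (act s) := by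
  intro x y h
  rw [← act_inv_act s x, h, act_inv_act]

lemma act_eq_zero_iff (s : SUn n F q) (x : Fin n → F) : act s x = 0 ↔ x = 0 := by
  constructor
  · intro h
    apply act_injective s
    rw [h, act_zero]
  · rintro rfl
    exact act_zero s

lemma su_ext {s t : SUn n F q} (h : ∀ x, act s x = act t x) : s = t := by
  apply Subtype.ext
  apply Subtype.ext
  exact mat_ext_mulVec h

lemma mem_SU_iff (s : SpecialLinearGroup (Fin n) F) :
    s ∈ Cfsg.SU n F q ↔ ∀ u v : Fin n → F,
      Cfsg.hermForm n F q ((s : Matrix (Fin n) (Fin n) F) *ᵥ u)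
        ((s : Matrix (Fin n) (Fin n) F) *ᵥ v) = Cfsg.hermForm n F q u v := Iff.rfl

lemma hu_act (s : SUn n F q) (x y : Fin n → F) :
    hu C.σ (act s x) (act s y) = hu C.σ x y := by
  have h := (mem_SU_iff (s : SpecialLinearGroup (Fin n) F)).mp s.2 x y
  rw [hermForm_eq_hu C.σ C.hσq, hermForm_eq_hu C.σ C.hσq] at h
  exact h

lemma hu_act_left (s : SUn n F q) (x y : Fin n → F) :
    hu C.σ (act s x) y = hu C.σ x (act s⁻¹ y) := by
  rw [← hu_act C s⁻¹, act_inv_act]

lemma hu_act_right (s : SUn n F q) (x y : Fin n → F) :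
    hu C.σ x (act s y) = hu C.σ (act s⁻¹ x) y := by
  rw [← hu_act C s⁻¹, act_inv_act]

/-- build an element of `SU` from a matrix. -/
def mkSU (M : Matrix (Fin n) (Fin n) F) (hU : IsU C.σ M) (hdet : M.det = 1) : SUn n F q :=
  ⟨⟨M, hdet⟩, (mem_SU_iff (⟨M, hdet⟩ : SpecialLinearGroup (Fin n) F)).mpr (fun u v => by
    rw [hermForm_eq_hu C.σ C.hσq, hermForm_eq_hu C.σ C.hσq]
    exact hU u v)⟩

lemma act_mkSU (M : Matrix (Fin n) (Fin n) F) (hU : IsU C.σ M) (hdet : M.det = 1)
    (x : Fin n → F) : act (mkSU C M hU hdet) x = M *ᵥ x := rfl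

lemma isU_val (s : SUn n F q) :
    IsU C.σ ((s : SpecialLinearGroup (Fin n) F) : Matrix (Fin n) (Fin n) F) :=
  fun x y => hu_act C s x y

lemma hfm_one_eq_hu (σ : RingAut F) (u v : Fin n → F) : hfm σ 1 u v = hu σ u v := by
  unfold hfm hu
  rw [one_mulVec]
  rfl

end group

end Cfsg.Agent.Lib.Helper07.UG
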