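import Mathlib
import Cfsg.Agent.Lib.Helper07.PSUb

set_option autoImplicit false
set_option linter.unusedSectionVars false
set_option linter.unusedVariables false

/-! Unitary geometry on non-degenerate subspaces of the standard Hermitian space. -/

namespace Cfsg.Agent.Lib.Helper07.UG

open Matrix

variable {n : ℕ} {F : Type*} [Field F] [Fintype F] {q : ℕ} (C : UC F q)

/-- the subspace `W` is non-degenerate for the form. -/
def ND (W : Submodule F (Fin n → F)) : Prop :=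
  ∀ a ∈ W, a ≠ 0 → ∃ x ∈ W, hu C.σ a x ≠ 0

lemma nd_top : ND C (⊤ : Submodule F (Fin n → F)) := by
  intro a _ ha
  obtain ⟨y, hy⟩ := exists_hu_ne_zero C.σ ha
  exact ⟨y, Submodule.mem_top, hy⟩

lemma hu_self_fixed (x : Fin n → F) : C.σ (hu C.σ x x) = hu C.σ x x := hu_conj C.σ C.hσ x x

lemma hu_eq_zero_symm {x y : Fin n → F} (h : hu C.σ x y = 0) : hu C.σ y x = 0 := by
  rw [← hu_conj C.σ C.hσ, h, map_zero]

lemma hu_ne_zero_symm {x y : Fin n → F} (h : hu C.σ x y ≠ 0) : hu C.σ y x ≠ 0 := by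
  intro h0
  exact h (hu_eq_zero_symm C h0)

lemma hu_eq_one_symm {x y : Fin n → F} (h : hu C.σ x y = 1) : hu C.σ y x = 1 := by
  rw [← hu_conj C.σ C.hσ, h, map_one]

/-- two non-orthogonal isotropic vectors are linearly independent. -/
lemma indep_of_nonorth {u v : Fin n → F} (hu0 : hu C.σ u u = 0) (hv0 : hu C.σ v v = 0)
    (huv : hu C.σ u v ≠ 0) {α β : F} (h : α • u + β • v = 0) : α = 0 ∧ β = 0 := by
  have hvu := hu_ne_zero_symm C huv
  constructor
  · have h1 : hu C.σ (α • u + β • v) v = 0 := by rw [h, hu_zero_left]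
    rw [hu_add_left, hu_smul_left, hu_smul_left, hv0, mul_zero, add_zero] at h1
    exact (mul_eq_zero.mp h1).resolve_right huv
  · have h1 : hu C.σ (α • u + β • v) u = 0 := by rw [h, hu_zero_left]
    rw [hu_add_left, hu_smul_left, hu_smul_left, hu0, mul_zero, zero_add] at h1
    exact (mul_eq_zero.mp h1).resolve_right hvu

lemma hu_add_smul_self (x m : Fin n → F) (c : F) :
    hu C.σ (x + c • m) (x + c • m) =
      hu C.σ x x + C.σ c * hu C.σ x m + c * hu C.σ m x + c * C.σ c * hu C.σ m m := by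
  simp only [hu_add_left, hu_add_right, hu_smul_left, hu_smul_right]
  ring

variable {W : Submodule F (Fin n → F)}

/-- hyperbolic partner. -/
lemma exists_hyp_partner (hW : ND C W) {a : Fin n → F} (haW : a ∈ W) (ha0 : a ≠ 0)
    (ha : hu C.σ a a = 0) : ∃ b ∈ W, hu C.σ b b = 0 ∧ hu C.σ a b = 1 := by
  obtain ⟨x, hxW, hx⟩ := hW a haW ha0
  have hxa := hu_ne_zero_symm C hx
  set x' := (hu C.σ x a)⁻¹ • x with hx'
  have h1 : hu C.σ a x' = 1 := by
    rw [hx', hu_smul_right, map_inv₀, hu_conj C.σ C.hσ, inv_mul_cancel₀ hx]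
  have h1' : hu C.σ x' a = 1 := hu_eq_one_symm C h1
  obtain ⟨β, hβ⟩ := C.exists_tr_eq (- hu C.σ x' x') (by rw [map_neg, hu_self_fixed])
  refine ⟨x' + β • a, W.add_mem (W.smul_mem _ hxW) (W.smul_mem _ haW), ?_, ?_⟩
  · rw [hu_add_smul_self, ha, h1, h1']
    linear_combination hβ
  · rw [hu_add_right, h1, hu_smul_right, ha]
    ring

/-- connectivity of the non-orthogonality graph on isotropic vectors. -/
lemma exists_iso_nonorth (hW : ND C W) {a b : Fin n → F} (haW : a ∈ W) (hbW : b ∈ W)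
    (ha0 : a ≠ 0) (hb0 : b ≠ 0) (ha : hu C.σ a a = 0) (hab : hu C.σ a b = 0) :
    ∃ z ∈ W, hu C.σ z z = 0 ∧ hu C.σ a z ≠ 0 ∧ hu C.σ b z ≠ 0 := by
  have hba := hu_eq_zero_symm C hab
  obtain ⟨x₁, hx₁W, hx₁⟩ := hW a haW ha0
  obtain ⟨x₂, hx₂W, hx₂⟩ := hW b hbW hb0
  obtain ⟨x, hxW, hxa, hxb⟩ : ∃ x ∈ W, hu C.σ a x ≠ 0 ∧ hu C.σ b x ≠ 0 := by
    by_cases h1 : hu C.σ b x₁ = 0
    · by_cases h2 : hu C.σ a x₂ = 0
      · refine ⟨x₁ + x₂, W.add_mem hx₁W hx₂W, ?_, ?_⟩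
        · rw [hu_add_right, h2, add_zero]; exact hx₁
        · rw [hu_add_right, h1, zero_add]; exact hx₂
      · exact ⟨x₂, hx₂W, h2, hx₂⟩
    · exact ⟨x₁, hx₁W, hx₁, h1⟩
  obtain ⟨β, hβ⟩ := C.exists_tr_eq (- hu C.σ x x) (by rw [map_neg, hu_self_fixed])
  have hxa' : hu C.σ x a = C.σ (hu C.σ a x) := (hu_conj C.σ C.hσ a x).symm
  have hσne : C.σ (hu C.σ a x) ≠ 0 := (map_ne_zero_iff _ C.σ.injective).mpr hxa
  refine ⟨x + (β / hu C.σ a x) • a, W.add_mem hxW (W.smul_mem _ haW), ?_, ?_, ?_⟩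
  · rw [hu_add_smul_self, ha, hxa', ← map_mul, div_mul_cancel₀ _ hxa]
    linear_combination hβ
  · rw [hu_add_right, hu_smul_right, ha, mul_zero, add_zero]
    exact hxa
  · rw [hu_add_right, hu_smul_right, hba, mul_zero, add_zero]
    exact hxb

/-- a third isotropic vector on a hyperbolic line. -/
lemma exists_iso_add {u v : Fin n → F} (hu0 : hu C.σ u u = 0) (hv0 : hu C.σ v v = 0)
    (huv : hu C.σ u v ≠ 0) : ∃ μ : F, μ ≠ 0 ∧ hu C.σ (u + μ • v) (u + μ • v) = 0 := by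
  obtain ⟨κ, hκ0, hκ⟩ := C.exists_kappa
  have hvu := hu_ne_zero_symm C huv
  have huv' : hu C.σ u v = C.σ (hu C.σ v u) := (hu_conj C.σ C.hσ v u).symm
  have hσne : C.σ (hu C.σ v u) ≠ 0 := (map_ne_zero_iff _ C.σ.injective).mpr hvu
  refine ⟨κ / hu C.σ v u, div_ne_zero hκ0 hvu, ?_⟩
  rw [hu_add_smul_self, hu0, hv0, huv', ← map_mul, div_mul_cancel₀ _ hvu, hκ]
  ring

/-- a function on isotropic vectors which agrees on non-orthogonal pairs is constant. -/
lemma iso_connected (hW : ND C W) {X : Type*} (c : (Fin n → F) → X)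
    (h : ∀ u v, u ∈ W → v ∈ W → hu C.σ u u = 0 → hu C.σ v v = 0 → hu C.σ u v ≠ 0 → c u = c v)
    {u v : Fin n → F} (huW : u ∈ W) (hvW : v ∈ W) (hu0 : u ≠ 0) (hv0 : v ≠ 0)
    (hu1 : hu C.σ u u = 0) (hv1 : hu C.σ v v = 0) : c u = c v := by
  by_cases huv : hu C.σ u v = 0
  · obtain ⟨z, hzW, hz, huz, hvz⟩ := exists_iso_nonorth C hW huW hvW hu0 hv0 hu1 huv
    rw [h u z huW hzW hu1 hz huz, h v z hvW hzW hv1 hz hvz]
  · exact h u v huW hvW hu1 hv1 huv

/-- if `W` contains a non-zero isotropic vector, every vector of `W` is a sum of three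
isotropic vectors of `W`. -/
lemma exists_three_iso (hW : ND C W) {a : Fin n → F} (haW : a ∈ W) (ha0 : a ≠ 0)
    (ha : hu C.σ a a = 0) {x : Fin n → F} (hxW : x ∈ W) :
    ∃ v₁ v₂ v₃ : Fin n → F, v₁ ∈ W ∧ v₂ ∈ W ∧ v₃ ∈ W ∧ hu C.σ v₁ v₁ = 0 ∧ hu C.σ v₂ v₂ = 0 ∧
      hu C.σ v₃ v₃ = 0 ∧ x = v₁ + v₂ + v₃ := by
  obtain ⟨b, hbW, hb, hab⟩ := exists_hyp_partner C hW haW ha0 ha
  have hba := hu_eq_one_symm C hab
  set x'' := x - hu C.σ x b • a - hu C.σ x a • b with hx''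
  have hx''W : x'' ∈ W := W.sub_mem (W.sub_mem hxW (W.smul_mem _ haW)) (W.smul_mem _ hbW)
  have h1 : hu C.σ x'' a = 0 := by
    rw [hx'', hu_sub_left, hu_sub_left, hu_smul_left, hu_smul_left, ha, hba]
    ring
  have h2 : hu C.σ x'' b = 0 := by
    rw [hx'', hu_sub_left, hu_sub_left, hu_smul_left, hu_smul_left, hb, hab]
    ring
  have h1' := hu_eq_zero_symm C h1
  have h2' := hu_eq_zero_symm C h2
  obtain ⟨γ, hγ⟩ := C.exists_tr_eq (- hu C.σ x'' x'') (by rw [map_neg, hu_self_fixed])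
  refine ⟨x'' + γ • a + b, (hu C.σ x b - γ) • a, (hu C.σ x a - 1) • b,
    W.add_mem (W.add_mem hx''W (W.smul_mem _ haW)) hbW, W.smul_mem _ haW, W.smul_mem _ hbW,
    ?_, ?_, ?_, ?_⟩
  · simp only [hu_add_left, hu_add_right, hu_smul_left, hu_smul_right, ha, hb, hab, hba, h1, h2,
      h1', h2']
    linear_combination hγ
  · rw [hu_smul_left, hu_smul_right, ha]
    ring
  · rw [hu_smul_left, hu_smul_right, hb]
    ring
  · rw [hx'']
    funext i
    simp only [Pi.add_apply, Pi.sub_apply, Pi.smul_apply, smul_eq_mul]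
    ring

/-- if `W` has no non-zero isotropic vector, any two of its vectors are dependent. -/
lemma dep_of_aniso (hW : ∀ v ∈ W, hu C.σ v v = 0 → v = 0) {x m : Fin n → F} (hxW : x ∈ W)
    (hmW : m ∈ W) (hm0 : m ≠ 0) : ∃ c : F, x = c • m := by
  have hmm : hu C.σ m m ≠ 0 := fun h => hm0 (hW m hmW h)
  set c₀ := hu C.σ x m / hu C.σ m m with hc₀
  set x' := x - c₀ • m with hx'
  have hx'W : x' ∈ W := W.sub_mem hxW (W.smul_mem _ hmW)
  have h1 : hu C.σ x' m = 0 := by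
    rw [hx', hu_sub_left, hu_smul_left, hc₀]
    field_simp
    ring
  have h1' := hu_eq_zero_symm C h1
  have hfix : C.σ (- hu C.σ x' x' / hu C.σ m m) = - hu C.σ x' x' / hu C.σ m m := by
    rw [map_div₀, map_neg, hu_self_fixed, hu_self_fixed]
  obtain ⟨c, hc⟩ := C.exists_norm_eq _ hfix
  have hiso : hu C.σ (x' + c • m) (x' + c • m) = 0 := by
    rw [hu_add_smul_self, h1, h1', hc, div_mul_cancel₀ _ hmm]
    ring
  have h0 := hW _ (W.add_mem hx'W (W.smul_mem _ hmW)) hiso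
  have h2 : hu C.σ (x' + c • m) m = 0 := by rw [h0, hu_zero_left]
  rw [hu_add_left, hu_smul_left, h1, zero_add] at h2
  have hc0 : c = 0 := (mul_eq_zero.mp h2).resolve_right hmm
  rw [hc0, zero_smul, add_zero] at h0
  refine ⟨c₀, ?_⟩
  rw [hx'] at h0
  exact sub_eq_zero.mp h0

end Cfsg.Agent.Lib.Helper07.UG
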