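import Mathlib
import Cfsg.Agent.Lib.Helper07.PSUc

set_option autoImplicit false
set_option linter.unusedSectionVars false
set_option linter.unusedVariables false

/-! Unitary groups: Eichler–Siegel elements and transvections in `SU_n(q)`. -/

namespace Cfsg.Agent.Lib.Helper07.UG

open Matrix

variable {n : ℕ} {F : Type*} [Field F] [Fintype F] {q : ℕ} (C : UC F q)

open Classical in
/-- the Eichler–Siegel element of `SU_n(q)`. -/
noncomputable def esG (e w : Fin n → F) (a : F) : SUn n F q :=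
  if h : hu C.σ e e = 0 ∧ hu C.σ w e = 0 ∧ a + C.σ a + hu C.σ w w = 0 then
    mkSU C (esM C.σ e w a) (isU_esM C.σ C.hσ h.1 h.2.1 h.2.2)
      (det_esM C.σ h.1 h.2.1 (hu_eq_zero_symm C h.2.1) a)
  else 1

lemma act_esG {e w : Fin n → F} {a : F} (he : hu C.σ e e = 0) (hwe : hu C.σ w e = 0)
    (ha : a + C.σ a + hu C.σ w w = 0) (x : Fin n → F) :
    act (esG C e w a) x = x + hu C.σ x e • w - hu C.σ x w • e + (a * hu C.σ x e) • e := by
  unfold esG
  rw [dif_pos ⟨he, hwe, ha⟩, act_mkSU, esM_mulVec C.σ C.hσ he]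

/-- the unitary transvection. -/
noncomputable def tvG (v : Fin n → F) (a : F) : SUn n F q := esG C v 0 a

lemma act_tvG {v : Fin n → F} {a : F} (hv : hu C.σ v v = 0) (ha : a + C.σ a = 0)
    (x : Fin n → F) : act (tvG C v a) x = x + (a * hu C.σ x v) • v := by
  unfold tvG
  rw [act_esG C hv (hu_zero_left _ _) (by rw [hu_zero_left, add_zero]; exact ha), smul_zero,
    add_zero, hu_zero_right, zero_smul, sub_zero]

lemma esG_mul {e w w' : Fin n → F} {a a' : F} (he : hu C.σ e e = 0) (hwe : hu C.σ w e = 0)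
    (hwe' : hu C.σ w' e = 0) (ha : a + C.σ a + hu C.σ w w = 0)
    (ha' : a' + C.σ a' + hu C.σ w' w' = 0) :
    esG C e w a * esG C e w' a' = esG C e (w + w') (a + a' - hu C.σ w' w) := by
  have hew := hu_eq_zero_symm C hwe
  have hew' := hu_eq_zero_symm C hwe'
  have hsum : hu C.σ (w + w') e = 0 := by rw [hu_add_left, hwe, hwe', add_zero]
  have hww' : C.σ (hu C.σ w' w) = hu C.σ w w' := hu_conj C.σ C.hσ w' w
  have hA : (a + a' - hu C.σ w' w) + C.σ (a + a' - hu C.σ w' w) + hu C.σ (w + w') (w + w') = 0 := by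
    simp only [map_add, map_sub, hww', hu_add_left, hu_add_right]
    linear_combination ha + ha'
  apply su_ext
  intro x
  rw [act_mul, act_esG C he hwe' ha', act_esG C he hwe ha, act_esG C he hsum hA]
  simp only [hu_add_left, hu_add_right, hu_sub_left, hu_smul_left, he, hwe', hew]
  funext i
  simp only [Pi.add_apply, Pi.sub_apply, Pi.smul_apply, smul_eq_mul]
  ring

lemma esG_zero {e : Fin n → F} (he : hu C.σ e e = 0) : esG C e 0 0 = 1 := by
  apply su_ext
  intro x
  rw [act_esG C he (hu_zero_left _ _) (by simp [hu_zero_left]), act_one]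
  simp [hu_zero_right]

lemma esG_inv {e w : Fin n → F} {a : F} (he : hu C.σ e e = 0) (hwe : hu C.σ w e = 0)
    (ha : a + C.σ a + hu C.σ w w = 0) : (esG C e w a)⁻¹ = esG C e (-w) (C.σ a) := by
  have hwe' : hu C.σ (-w) e = 0 := by rw [hu_neg_left, hwe, neg_zero]
  have ha' : C.σ a + C.σ (C.σ a) + hu C.σ (-w) (-w) = 0 := by
    rw [C.hσ, hu_neg_left, hu_neg_right, neg_neg]
    linear_combination ha
  rw [inv_eq_iff_mul_eq_one, esG_mul C he hwe hwe' ha ha']
  have h1 : w + -w = 0 := add_neg_cancel w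
  have h2 : a + C.σ a - hu C.σ (-w) w = 0 := by
    rw [hu_neg_left]
    linear_combination ha
  rw [h1, h2, esG_zero C he]

/-- conjugation of Eichler–Siegel elements. -/
lemma conj_esG (s : SUn n F q) {e w : Fin n → F} {a : F} (he : hu C.σ e e = 0)
    (hwe : hu C.σ w e = 0) (ha : a + C.σ a + hu C.σ w w = 0) :
    s * esG C e w a * s⁻¹ = esG C (act s e) (act s w) a := by
  have he' : hu C.σ (act s e) (act s e) = 0 := by rw [hu_act, he]
  have hwe' : hu C.σ (act s w) (act s e) = 0 := by rw [hu_act, hwe]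
  have ha' : a + C.σ a + hu C.σ (act s w) (act s w) = 0 := by rw [hu_act, ha]
  apply su_ext
  intro x
  rw [act_mul, act_mul, act_esG C he hwe ha, act_esG C he' hwe' ha']
  simp only [act_add, act_sub, act_smul, act_act_inv, hu_act_left C s⁻¹, inv_inv]

lemma conj_tvG (s : SUn n F q) {v : Fin n → F} {a : F} (hv : hu C.σ v v = 0)
    (ha : a + C.σ a = 0) : s * tvG C v a * s⁻¹ = tvG C (act s v) a := by
  unfold tvG
  rw [conj_esG C s hv (hu_zero_left _ _) (by rw [hu_zero_left, add_zero]; exact ha), act_zero]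

/-- rescaling the isotropic vector. -/
lemma esG_smul {e w : Fin n → F} {a c : F} (he : hu C.σ e e = 0) (hwe : hu C.σ w e = 0)
    (ha : a + C.σ a + hu C.σ w w = 0) :
    esG C (c • e) w a = esG C e (C.σ c • w) (c * C.σ c * a) := by
  have he' : hu C.σ (c • e) (c • e) = 0 := by rw [hu_smul_left, hu_smul_right, he]; ring
  have hwe' : hu C.σ w (c • e) = 0 := by rw [hu_smul_right, hwe, mul_zero]
  have hwe'' : hu C.σ (C.σ c • w) e = 0 := by rw [hu_smul_left, hwe, mul_zero]
  have ha'' : c * C.σ c * a + C.σ (c * C.σ c * a) + hu C.σ (C.σ c • w) (C.σ c • w) = 0 := by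
    simp only [map_mul, C.hσ, hu_smul_left, hu_smul_right]
    linear_combination (c * C.σ c) * ha
  apply su_ext
  intro x
  rw [act_esG C he' hwe' ha, act_esG C he hwe'' ha'']
  simp only [hu_smul_right, C.hσ]
  funext i
  simp only [Pi.add_apply, Pi.sub_apply, Pi.smul_apply, smul_eq_mul]
  ring

lemma tvG_smul {v : Fin n → F} {a c : F} (hv : hu C.σ v v = 0) (ha : a + C.σ a = 0) :
    tvG C (c • v) a = tvG C v (c * C.σ c * a) := by
  unfold tvG
  rw [esG_smul C hv (hu_zero_left _ _) (by rw [hu_zero_left, add_zero]; exact ha), smul_zero]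

/-- changing `w` by a multiple of `e`. -/
lemma esG_add_smul {e w : Fin n → F} {a c : F} (he : hu C.σ e e = 0) (hwe : hu C.σ w e = 0)
    (ha : a + C.σ a + hu C.σ w w = 0) :
    esG C e (w + c • e) (a - c + C.σ c) = esG C e w a := by
  have hew := hu_eq_zero_symm C hwe
  have hwe' : hu C.σ (w + c • e) e = 0 := by
    rw [hu_add_left, hu_smul_left, hwe, he]; ring
  have ha' : (a - c + C.σ c) + C.σ (a - c + C.σ c) + hu C.σ (w + c • e) (w + c • e) = 0 := by
    simp only [map_add, map_sub, C.hσ, hu_add_left, hu_add_right, hu_smul_left, hu_smul_right,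
      he, hwe, hew]
    linear_combination ha
  apply su_ext
  intro x
  rw [act_esG C he hwe' ha', act_esG C he hwe ha]
  simp only [hu_add_right, hu_smul_right]
  funext i
  simp only [Pi.add_apply, Pi.sub_apply, Pi.smul_apply, smul_eq_mul]
  ring

lemma tvG_mul {v : Fin n → F} {a a' : F} (hv : hu C.σ v v = 0) (ha : a + C.σ a = 0)
    (ha' : a' + C.σ a' = 0) : tvG C v a * tvG C v a' = tvG C v (a + a') := by
  unfold tvG
  rw [esG_mul C hv (hu_zero_left _ _) (hu_zero_left _ _)
    (by rw [hu_zero_left, add_zero]; exact ha) (by rw [hu_zero_left, add_zero]; exact ha'),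
    add_zero, hu_zero_left, sub_zero]

lemma tvG_zero {v : Fin n → F} (hv : hu C.σ v v = 0) : tvG C v 0 = 1 := esG_zero C hv

lemma tvG_inv {v : Fin n → F} {a : F} (hv : hu C.σ v v = 0) (ha : a + C.σ a = 0) :
    (tvG C v a)⁻¹ = tvG C v (-a) := by
  have ha' : -a + C.σ (-a) = 0 := by rw [map_neg]; linear_combination -ha
  rw [inv_eq_iff_mul_eq_one, tvG_mul C hv ha ha', add_neg_cancel, tvG_zero C hv]

/-- transvections with orthogonal centres commute. -/
lemma tvG_comm {u v : Fin n → F} {a b : F} (hu0 : hu C.σ u u = 0) (hv0 : hu C.σ v v = 0)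
    (ha : a + C.σ a = 0) (hb : b + C.σ b = 0) (huv : hu C.σ u v = 0) :
    tvG C u a * tvG C v b = tvG C v b * tvG C u a := by
  have hvu := hu_eq_zero_symm C huv
  apply su_ext
  intro x
  rw [act_mul, act_mul, act_tvG C hv0 hb, act_tvG C hu0 ha, act_tvG C hu0 ha, act_tvG C hv0 hb]
  simp only [hu_add_left, hu_smul_left, huv, hvu]
  funext i
  simp only [Pi.add_apply, Pi.smul_apply, smul_eq_mul]
  ring

/-- a non-trivial transvection determines its centre. -/
lemma tvG_eq_tvG {u v : Fin n → F} {a b : F} (hu0 : hu C.σ u u = 0) (hv0 : hu C.σ v v = 0)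
    (ha : a + C.σ a = 0) (hb : b + C.σ b = 0) (ha0 : a ≠ 0) (hun : u ≠ 0)
    (h : tvG C u a = tvG C v b) : ∃ c : F, c ≠ 0 ∧ u = c • v := by
  obtain ⟨y, hy⟩ := exists_hu_ne_zero C.σ hun
  have hyu := hu_ne_zero_symm C hy
  have h1 : act (tvG C u a) y = act (tvG C v b) y := by rw [h]
  rw [act_tvG C hu0 ha, act_tvG C hv0 hb] at h1
  have h2 : (a * hu C.σ y u) • u = (b * hu C.σ y v) • v := add_left_cancel h1
  have h3 : a * hu C.σ y u ≠ 0 := mul_ne_zero ha0 hyu
  refine ⟨(a * hu C.σ y u)⁻¹ * (b * hu C.σ y v), ?_, ?_⟩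
  · intro h0
    have h4 : (b * hu C.σ y v) = 0 := by
      rcases mul_eq_zero.mp h0 with h5 | h5
      · exact absurd (inv_eq_zero.mp h5) h3
      · exact h5
    rw [h4, zero_smul] at h2
    rcases smul_eq_zero.mp h2 with h5 | h5
    · exact h3 h5
    · exact hun h5
  · rw [mul_smul, ← h2, smul_smul, inv_mul_cancel₀ h3, one_smul]

lemma tvG_ne_one {v : Fin n → F} {a : F} (hv : hu C.σ v v = 0) (ha : a + C.σ a = 0)
    (ha0 : a ≠ 0) (hv0 : v ≠ 0) : tvG C v a ≠ 1 := by
  intro h
  obtain ⟨y, hy⟩ := exists_hu_ne_zero C.σ hv0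
  have hyv := hu_ne_zero_symm C hy
  have h1 : act (tvG C v a) y = y := by rw [h, act_one]
  rw [act_tvG C hv ha] at h1
  have h2 : (a * hu C.σ y v) • v = 0 := by
    have : y + (a * hu C.σ y v) • v = y + 0 := by rw [h1, add_zero]
    exact add_left_cancel this
  rcases smul_eq_zero.mp h2 with h5 | h5
  · exact (mul_ne_zero ha0 hyv) h5
  · exact hv0 h5

end Cfsg.Agent.Lib.Helper07.UG
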