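import Mathlib
import Cfsg.Agent.Lib.Helper07.PSUd

set_option autoImplicit false
set_option linter.unusedSectionVars false
set_option linter.unusedVariables false

/-! Unitary groups: hyperbolic pairs, their orthogonal complements, existence of isotropic
vectors and transitivity on isotropic points. -/

namespace Cfsg.Agent.Lib.Helper07.UG

open Matrix

variable {n : ℕ} {F : Type*} [Field F] [Fintype F] {q : ℕ} (C : UC F q)

/-- a hyperbolic pair. -/
structure HP (e f : Fin n → F) : Prop where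
  he : hu C.σ e e = 0
  hf : hu C.σ f f = 0
  hef : hu C.σ e f = 1

variable {C}

lemma HP.hfe {e f : Fin n → F} (H : HP C e f) : hu C.σ f e = 1 := hu_eq_one_symm C H.hef

lemma HP.e_ne {e f : Fin n → F} (H : HP C e f) : e ≠ 0 := by
  rintro rfl
  have := H.hef
  rw [hu_zero_left] at this
  exact zero_ne_one this

lemma HP.f_ne {e f : Fin n → F} (H : HP C e f) : f ≠ 0 := by
  rintro rfl
  have := H.hef
  rw [hu_zero_right] at this
  exact zero_ne_one this

lemma HP.symm {e f : Fin n → F} (H : HP C e f) : HP C f e := ⟨H.hf, H.he, H.hfe⟩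

variable (C)

/-- the orthogonal complement of a pair of vectors. -/
def Wsp (e f : Fin n → F) : Submodule F (Fin n → F) where
  carrier := {x | hu C.σ x e = 0 ∧ hu C.σ x f = 0}
  add_mem' := by
    rintro x y ⟨h1, h2⟩ ⟨h3, h4⟩
    exact ⟨by rw [hu_add_left, h1, h3, add_zero], by rw [hu_add_left, h2, h4, add_zero]⟩
  zero_mem' := ⟨hu_zero_left _ _, hu_zero_left _ _⟩
  smul_mem' := by
    rintro c x ⟨h1, h2⟩
    exact ⟨by rw [hu_smul_left, h1, mul_zero], by rw [hu_smul_left, h2, mul_zero]⟩

lemma mem_Wsp {e f x : Fin n → F} : x ∈ Wsp C e f ↔ hu C.σ x e = 0 ∧ hu C.σ x f = 0 := Iff.rfl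

/-- the projection onto the complement of a hyperbolic pair. -/
def pW (e f x : Fin n → F) : Fin n → F := x - hu C.σ x f • e - hu C.σ x e • f

variable {C}

lemma pW_mem {e f : Fin n → F} (H : HP C e f) (x : Fin n → F) : pW C e f x ∈ Wsp C e f := by
  constructor
  · unfold pW
    rw [hu_sub_left, hu_sub_left, hu_smul_left, hu_smul_left, H.he, H.hfe]
    ring
  · unfold pW
    rw [hu_sub_left, hu_sub_left, hu_smul_left, hu_smul_left, H.hf, H.hef]
    ring

lemma pW_of_mem {e f x : Fin n → F} (hx : x ∈ Wsp C e f) : pW C e f x = x := by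
  unfold pW
  rw [hx.1, hx.2, zero_smul, zero_smul, sub_zero, sub_zero]

lemma decomp_pW (e f x : Fin n → F) :
    x = hu C.σ x f • e + hu C.σ x e • f + pW C e f x := by
  unfold pW
  abel

lemma hu_pW_right {e f a : Fin n → F} (ha : a ∈ Wsp C e f) (x : Fin n → F) :
    hu C.σ a (pW C e f x) = hu C.σ a x := by
  unfold pW
  rw [hu_sub_right, hu_sub_right, hu_smul_right, hu_smul_right, ha.1, ha.2]
  ring

lemma hu_pW_left {e f a : Fin n → F} (ha : a ∈ Wsp C e f) (x : Fin n → F) :
    hu C.σ (pW C e f x) a = hu C.σ x a := by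
  rw [← hu_conj C.σ C.hσ, hu_pW_right ha, hu_conj C.σ C.hσ]

lemma pW_add (e f x y : Fin n → F) : pW C e f (x + y) = pW C e f x + pW C e f y := by
  unfold pW
  rw [hu_add_left, hu_add_left, add_smul, add_smul]
  abel

lemma pW_smul (e f : Fin n → F) (c : F) (x : Fin n → F) : pW C e f (c • x) = c • pW C e f x := by
  unfold pW
  rw [hu_smul_left, hu_smul_left, smul_sub, smul_sub, smul_smul, smul_smul]

lemma pW_e {e f : Fin n → F} (H : HP C e f) : pW C e f e = 0 := by
  unfold pW
  rw [H.hef, H.he, one_smul, zero_smul, sub_self, sub_zero]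

lemma pW_f {e f : Fin n → F} (H : HP C e f) : pW C e f f = 0 := by
  unfold pW
  rw [H.hf, H.hfe, one_smul, zero_smul, sub_zero, sub_self]

lemma nd_Wsp {e f : Fin n → F} (H : HP C e f) : ND C (Wsp C e f) := by
  intro a haW ha0
  obtain ⟨y, hy⟩ := exists_hu_ne_zero C.σ ha0
  exact ⟨pW C e f y, pW_mem H y, by rw [hu_pW_right haW]; exact hy⟩

lemma mem_Wsp_symm {e f x : Fin n → F} (hx : x ∈ Wsp C e f) :
    hu C.σ e x = 0 ∧ hu C.σ f x = 0 := ⟨hu_eq_zero_symm C hx.1, hu_eq_zero_symm C hx.2⟩

variable (C)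

/-- a non-zero isotropic vector exists in dimension at least two. -/
lemma exists_iso (hn : 2 ≤ n) : ∃ e : Fin n → F, e ≠ 0 ∧ hu C.σ e e = 0 := by
  obtain ⟨c, hc⟩ := C.exists_norm_eq (-1) (by rw [map_neg, map_one])
  let i0 : Fin n := ⟨0, by omega⟩
  let i1 : Fin n := ⟨1, by omega⟩
  have h01 : i0 ≠ i1 := by
    intro h
    have := congrArg Fin.val h
    simp [i0, i1] at this
  refine ⟨Pi.single i0 1 + c • Pi.single i1 1, ?_, ?_⟩
  · intro h0
    have := congrFun h0 i0
    simp [Pi.single_eq_of_ne h01] at this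
  · rw [hu_add_right, hu_smul_right, hu_single_right, hu_single_right]
    simp only [Pi.add_apply, Pi.smul_apply, Pi.single_eq_same, Pi.single_eq_of_ne h01,
      Pi.single_eq_of_ne h01.symm, smul_eq_mul, mul_zero, add_zero, mul_one, zero_add]
    linear_combination hc

lemma exists_HP (hn : 2 ≤ n) : ∃ e f : Fin n → F, HP C e f := by
  obtain ⟨e, he0, he⟩ := exists_iso C hn
  obtain ⟨f, -, hf, hef⟩ := exists_hyp_partner C (nd_top C) Submodule.mem_top he0 he
  exact ⟨e, f, he, hf, hef⟩

variable {C}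

/-- the complement of a hyperbolic pair is non-zero in dimension at least three. -/
lemma exists_ne_zero_W (hn : 3 ≤ n) {e f : Fin n → F} (H : HP C e f) :
    ∃ w ∈ Wsp C e f, w ≠ 0 := by
  by_contra hcon
  push Not at hcon
  have hsurj : Function.Surjective (fun p : F × F => p.1 • e + p.2 • f) := by
    intro x
    refine ⟨(hu C.σ x f, hu C.σ x e), ?_⟩
    have h1 := decomp_pW (C := C) e f x
    rw [hcon _ (pW_mem H x), add_zero] at h1
    exact h1.symm
  have hcard := Fintype.card_le_of_surjective _ hsurj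
  rw [Fintype.card_prod, Fintype.card_fun, Fintype.card_fin] at hcard
  have h2 : 2 ≤ Fintype.card F := by
    have := Fintype.one_lt_card (α := F)
    omega
  have h3 : Fintype.card F ^ 3 ≤ Fintype.card F ^ n := Nat.pow_le_pow_right (by omega) hn
  have h4 : Fintype.card F ^ 3 = Fintype.card F * Fintype.card F * Fintype.card F := by ring
  have h5 : Fintype.card F * Fintype.card F * 2 ≤ Fintype.card F * Fintype.card F * Fintype.card F :=
    Nat.mul_le_mul_left _ h2
  have h6 : 0 < Fintype.card F * Fintype.card F := by positivity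
  omega

/-- the complement of a hyperbolic pair contains a non-zero isotropic vector in dimension at
least four. -/
lemma exists_iso_W (hn : 4 ≤ n) {e f : Fin n → F} (H : HP C e f) :
    ∃ w ∈ Wsp C e f, w ≠ 0 ∧ hu C.σ w w = 0 := by
  by_contra hcon
  push Not at hcon
  have hani : ∀ v ∈ Wsp C e f, hu C.σ v v = 0 → v = 0 := by
    intro v hv hv0
    by_contra hne
    exact hcon v hv hne hv0
  obtain ⟨m, hmW, hm0⟩ := exists_ne_zero_W (by omega) H
  have hsurj : Function.Surjective (fun p : F × F × F => p.1 • e + p.2.1 • f + p.2.2 • m) := by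
    intro x
    obtain ⟨c, hc⟩ := dep_of_aniso C hani (pW_mem H x) hmW hm0
    refine ⟨(hu C.σ x f, hu C.σ x e, c), ?_⟩
    have h1 := decomp_pW (C := C) e f x
    rw [hc] at h1
    exact h1.symm
  have hcard := Fintype.card_le_of_surjective _ hsurj
  rw [Fintype.card_prod, Fintype.card_prod, Fintype.card_fun, Fintype.card_fin] at hcard
  have h2 : 2 ≤ Fintype.card F := by
    have := Fintype.one_lt_card (α := F)
    omega
  have h3 : Fintype.card F ^ 4 ≤ Fintype.card F ^ n := Nat.pow_le_pow_right (by omega) hn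
  have h4 : Fintype.card F ^ 4 = Fintype.card F * (Fintype.card F * Fintype.card F) * Fintype.card F := by
    ring
  have h5 : Fintype.card F * (Fintype.card F * Fintype.card F) * 2 ≤
      Fintype.card F * (Fintype.card F * Fintype.card F) * Fintype.card F :=
    Nat.mul_le_mul_left _ h2
  have h6 : 0 < Fintype.card F * (Fintype.card F * Fintype.card F) := by positivity
  omega

variable (C)

/-- `SU_n(q)` is transitive on isotropic points. -/
lemma exists_map_point {a b : Fin n → F} (ha0 : a ≠ 0) (hb0 : b ≠ 0) (ha : hu C.σ a a = 0)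
    (hb : hu C.σ b b = 0) : ∃ (s : SUn n F q) (c : F), c ≠ 0 ∧ act s a = c • b := by
  have key : ∀ a b : Fin n → F, hu C.σ a a = 0 → hu C.σ b b = 0 → hu C.σ a b ≠ 0 →
      ∃ (s : SUn n F q) (c : F), c ≠ 0 ∧ act s a = c • b := by
    intro a b ha hb hab
    obtain ⟨μ, hμ0, hμ⟩ := exists_iso_add C ha hb hab
    set t := hu C.σ a (a + μ • b) with ht
    have ht' : t = C.σ μ * hu C.σ a b := by
      rw [ht, hu_add_right, hu_smul_right, ha, zero_add]
    have hσμ : C.σ μ ≠ 0 := (map_ne_zero_iff _ C.σ.injective).mpr hμ0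
    have ht0 : t ≠ 0 := by rw [ht']; exact mul_ne_zero hσμ hab
    have htr : t + C.σ t = 0 := by
      have h1 : C.σ t = hu C.σ (a + μ • b) a := by rw [ht, hu_conj C.σ C.hσ]
      rw [h1, ht, ← hμ]
      simp only [hu_add_left, hu_add_right, hu_smul_left, hu_smul_right, ha, hb]
      ring
    have hc : (-t⁻¹) + C.σ (-t⁻¹) = 0 := by
      have h2 : C.σ t = -t := by linear_combination htr
      rw [map_neg, map_inv₀, h2]
      field_simp
      ring
    refine ⟨tvG C (a + μ • b) (-t⁻¹), -μ, neg_ne_zero.mpr hμ0, ?_⟩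
    rw [act_tvG C hμ hc, ← ht]
    have h3 : -t⁻¹ * t = -1 := by field_simp
    rw [h3]
    funext i
    simp only [Pi.add_apply, Pi.smul_apply, smul_eq_mul]
    ring
  by_cases hab : hu C.σ a b = 0
  · obtain ⟨z, -, hz, haz, hbz⟩ := exists_iso_nonorth C (nd_top C) (Submodule.mem_top (x := a))
      (Submodule.mem_top (x := b)) ha0 hb0 ha hab
    obtain ⟨s₁, c₁, hc₁, h₁⟩ := key a z ha hz haz
    obtain ⟨s₂, c₂, hc₂, h₂⟩ := key z b hz hb (hu_ne_zero_symm C hbz)
    refine ⟨s₂ * s₁, c₁ * c₂, mul_ne_zero hc₁ hc₂, ?_⟩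
    rw [act_mul, h₁, act_smul, h₂, smul_smul]
  · exact key a b ha hb hab

end Cfsg.Agent.Lib.Helper07.UG
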