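import Mathlib
import Cfsg.Agent.Lib.Helper07.PSUe

set_option autoImplicit false
set_option linter.unusedSectionVars false
set_option linter.unusedVariables false

/-! Unitary groups: the stabiliser of an isotropic point, its unipotent radical and the long
root subgroup. -/

namespace Cfsg.Agent.Lib.Helper07.UG

open Matrix

variable {n : ℕ} {F : Type*} [Field F] [Fintype F] {q : ℕ} (C : UC F q)

/-- the stabiliser of the point `⟨e⟩`. -/
def Ns (e : Fin n → F) : Subgroup (SUn n F q) where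
  carrier := {s | ∃ c : F, c ≠ 0 ∧ act s e = c • e}
  mul_mem' := by
    rintro s t ⟨c, hc, hs⟩ ⟨d, hd, ht⟩
    exact ⟨d * c, mul_ne_zero hd hc, by rw [act_mul, ht, act_smul, hs, smul_smul]⟩
  one_mem' := ⟨1, one_ne_zero, by rw [act_one, one_smul]⟩
  inv_mem' := by
    rintro s ⟨c, hc, hs⟩
    refine ⟨c⁻¹, inv_ne_zero hc, ?_⟩
    have h1 : act s⁻¹ (c • e) = e := by rw [← hs, act_inv_act]
    rw [act_smul] at h1
    conv_rhs => rw [← h1]
    rw [smul_smul, inv_mul_cancel₀ hc, one_smul]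

lemma mem_Ns {e : Fin n → F} {s : SUn n F q} :
    s ∈ Ns (q := q) e ↔ ∃ c : F, c ≠ 0 ∧ act s e = c • e := Iff.rfl

/-- the long root subgroup with centre `e`. -/
def Xs {e : Fin n → F} (he : hu C.σ e e = 0) : Subgroup (SUn n F q) where
  carrier := {s | ∃ a : F, a + C.σ a = 0 ∧ s = tvG C e a}
  mul_mem' := by
    rintro s t ⟨a, ha, rfl⟩ ⟨b, hb, rfl⟩
    refine ⟨a + b, ?_, tvG_mul C he ha hb⟩
    rw [map_add]
    linear_combination ha + hb
  one_mem' := ⟨0, by rw [map_zero, add_zero], (tvG_zero C he).symm⟩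
  inv_mem' := by
    rintro s ⟨a, ha, rfl⟩
    refine ⟨-a, ?_, tvG_inv C he ha⟩
    rw [map_neg]
    linear_combination -ha

/-- the unipotent radical of the stabiliser of `⟨e⟩`. -/
def Qs {e : Fin n → F} (he : hu C.σ e e = 0) : Subgroup (SUn n F q) where
  carrier := {s | ∃ (w : Fin n → F) (a : F), hu C.σ w e = 0 ∧ a + C.σ a + hu C.σ w w = 0 ∧
    s = esG C e w a}
  mul_mem' := by
    rintro s t ⟨w, a, hw, ha, rfl⟩ ⟨w', a', hw', ha', rfl⟩
    refine ⟨w + w', a + a' - hu C.σ w' w, ?_, ?_, esG_mul C he hw hw' ha ha'⟩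
    · rw [hu_add_left, hw, hw', add_zero]
    · have hww' : C.σ (hu C.σ w' w) = hu C.σ w w' := hu_conj C.σ C.hσ w' w
      simp only [map_add, map_sub, hww', hu_add_left, hu_add_right]
      linear_combination ha + ha'
  one_mem' := ⟨0, 0, hu_zero_left _ _, by simp [hu_zero_left], (esG_zero C he).symm⟩
  inv_mem' := by
    rintro s ⟨w, a, hw, ha, rfl⟩
    refine ⟨-w, C.σ a, ?_, ?_, esG_inv C he hw ha⟩
    · rw [hu_neg_left, hw, neg_zero]
    · rw [C.hσ, hu_neg_left, hu_neg_right, neg_neg]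
      linear_combination ha

variable {C}

lemma mem_Xs {e : Fin n → F} (he : hu C.σ e e = 0) {s : SUn n F q} :
    s ∈ Xs C he ↔ ∃ a : F, a + C.σ a = 0 ∧ s = tvG C e a := Iff.rfl

lemma mem_Qs {e : Fin n → F} (he : hu C.σ e e = 0) {s : SUn n F q} :
    s ∈ Qs C he ↔ ∃ (w : Fin n → F) (a : F), hu C.σ w e = 0 ∧ a + C.σ a + hu C.σ w w = 0 ∧
      s = esG C e w a := Iff.rfl

lemma Xs_le_Qs {e : Fin n → F} (he : hu C.σ e e = 0) : Xs C he ≤ Qs C he := by
  rintro s ⟨a, ha, rfl⟩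
  exact ⟨0, a, hu_zero_left _ _, by rw [hu_zero_left, add_zero]; exact ha, rfl⟩

/-- elements of `Q` fix `e`. -/
lemma act_esG_self {e w : Fin n → F} {a : F} (he : hu C.σ e e = 0) (hwe : hu C.σ w e = 0)
    (ha : a + C.σ a + hu C.σ w w = 0) : act (esG C e w a) e = e := by
  rw [act_esG C he hwe ha, he, hu_eq_zero_symm C hwe]
  simp

lemma Qs_le_Ns {e : Fin n → F} (he : hu C.σ e e = 0) : Qs C he ≤ Ns e := by
  rintro s ⟨w, a, hw, ha, rfl⟩
  exact ⟨1, one_ne_zero, by rw [act_esG_self he hw ha, one_smul]⟩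

/-- `Q` is normalised by the point stabiliser. -/
lemma conj_mem_Qs {e : Fin n → F} (he : hu C.σ e e = 0) {s x : SUn n F q} (hs : s ∈ Ns e)
    (hx : x ∈ Qs C he) : s * x * s⁻¹ ∈ Qs C he := by
  obtain ⟨c, hc, hse⟩ := hs
  obtain ⟨w, a, hw, ha, rfl⟩ := hx
  have hw' : hu C.σ (act s w) e = 0 := by
    have h1 : hu C.σ (act s w) (act s e) = 0 := by rw [hu_act, hw]
    rw [hse, hu_smul_right] at h1
    have hσc : C.σ c ≠ 0 := (map_ne_zero_iff _ C.σ.injective).mpr hc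
    exact (mul_eq_zero.mp h1).resolve_left hσc
  have ha' : a + C.σ a + hu C.σ (act s w) (act s w) = 0 := by rw [hu_act, ha]
  rw [conj_esG C s he hw ha, hse, esG_smul C he hw' ha']
  refine ⟨C.σ c • act s w, c * C.σ c * a, ?_, ?_, rfl⟩
  · rw [hu_smul_left, hw', mul_zero]
  · simp only [map_mul, C.hσ, hu_smul_left, hu_smul_right]
    linear_combination (c * C.σ c) * ha'

/-- `X` is normalised by the point stabiliser. -/
lemma conj_mem_Xs {e : Fin n → F} (he : hu C.σ e e = 0) {s x : SUn n F q} (hs : s ∈ Ns e)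
    (hx : x ∈ Xs C he) : s * x * s⁻¹ ∈ Xs C he := by
  obtain ⟨c, hc, hse⟩ := hs
  obtain ⟨a, ha, rfl⟩ := hx
  rw [conj_tvG C s he ha, hse, tvG_smul C he ha]
  refine ⟨c * C.σ c * a, ?_, rfl⟩
  simp only [map_mul, C.hσ]
  linear_combination (c * C.σ c) * ha

/-- the normaliser of `X` is the point stabiliser. -/
lemma mem_Ns_of_conj {e : Fin n → F} (he : hu C.σ e e = 0) (he0 : e ≠ 0) {s : SUn n F q}
    (hs : ∀ x ∈ Xs C he, s * x * s⁻¹ ∈ Xs C he) : s ∈ Ns e := by
  obtain ⟨κ, hκ0, hκ⟩ := C.exists_kappa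
  have hκ' : κ + C.σ κ = 0 := by rw [hκ]; ring
  obtain ⟨b, hb, hsb⟩ := hs (tvG C e κ) ⟨κ, hκ', rfl⟩
  rw [conj_tvG C s he hκ'] at hsb
  have he' : hu C.σ (act s e) (act s e) = 0 := by rw [hu_act, he]
  have hne : act s e ≠ 0 := fun h => he0 ((act_eq_zero_iff s e).mp h)
  obtain ⟨c, hc, hce⟩ := tvG_eq_tvG C he' he hκ' hb hκ0 hne hsb
  exact ⟨c, hc, hce⟩

/-- `p`-elements of the point stabiliser fix the vector. -/
lemma act_eq_of_pow {e : Fin n → F} (he0 : e ≠ 0) {s : SUn n F q} (hs : s ∈ Ns e) {k : ℕ}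
    (hk : s ^ (C.p ^ k) = 1) : act s e = e := by
  obtain ⟨c, hc, hse⟩ := hs
  have hpow : ∀ m : ℕ, act (s ^ m) e = c ^ m • e := by
    intro m
    induction m with
    | zero => rw [pow_zero, act_one, pow_zero, one_smul]
    | succ m ih => rw [pow_succ, act_mul, hse, act_smul, ih, smul_smul, pow_succ, mul_comm]
  have h1 := hpow (C.p ^ k)
  rw [hk, act_one] at h1
  have h2 : (c ^ (C.p ^ k) - 1) • e = 0 := by rw [sub_smul, one_smul, ← h1, sub_self]
  have h3 : c ^ (C.p ^ k) = 1 := by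
    rcases smul_eq_zero.mp h2 with h | h
    · exact sub_eq_zero.mp h
    · exact absurd h he0
  have : CharP F C.p := C.charP
  have : Fact C.p.Prime := ⟨C.hp⟩
  have h4 : (c - 1) ^ (C.p ^ k) = 0 := by rw [sub_pow_char_pow, h3, one_pow, sub_self]
  have h5 : c = 1 := sub_eq_zero.mp (pow_eq_zero_iff (pow_ne_zero _ C.hp.ne_zero) |>.mp h4)
  rw [hse, h5, one_smul]

/-- powers of Eichler–Siegel elements. -/
lemma esG_pow {e w : Fin n → F} {a : F} (he : hu C.σ e e = 0) (hwe : hu C.σ w e = 0)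
    (ha : a + C.σ a + hu C.σ w w = 0) (k : ℕ) :
    ∃ a' : F, a' + C.σ a' + hu C.σ ((k : F) • w) ((k : F) • w) = 0 ∧
      esG C e w a ^ k = esG C e ((k : F) • w) a' := by
  induction k with
  | zero =>
    refine ⟨0, by simp [hu_zero_left], ?_⟩
    rw [pow_zero, Nat.cast_zero, zero_smul, esG_zero C he]
  | succ k ih =>
    obtain ⟨a', ha', hk⟩ := ih
    have hkw : hu C.σ ((k : F) • w) e = 0 := by rw [hu_smul_left, hwe, mul_zero]
    have hww' : C.σ (hu C.σ w ((k : F) • w)) = hu C.σ ((k : F) • w) w := hu_conj C.σ C.hσ _ _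
    refine ⟨a' + a - hu C.σ w ((k : F) • w), ?_, ?_⟩
    · have h1 : ((k + 1 : ℕ) : F) • w = (k : F) • w + w := by
        rw [Nat.cast_succ, add_smul, one_smul]
      rw [h1]
      simp only [map_add, map_sub, hww', hu_add_left, hu_add_right]
      linear_combination ha + ha'
    · rw [pow_succ, hk, esG_mul C he hkw hwe ha' ha, Nat.cast_succ, add_smul, one_smul]

lemma tvG_pow {v : Fin n → F} {a : F} (hv : hu C.σ v v = 0) (ha : a + C.σ a = 0) (k : ℕ) :
    tvG C v a ^ k = tvG C v ((k : F) * a) := by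
  induction k with
  | zero => rw [pow_zero, Nat.cast_zero, zero_mul, tvG_zero C hv]
  | succ k ih =>
    have hka : (k : F) * a + C.σ ((k : F) * a) = 0 := by
      rw [map_mul, map_natCast]
      linear_combination (k : F) * ha
    rw [pow_succ, ih, tvG_mul C hv hka ha, Nat.cast_succ]
    congr 1
    ring

/-- `Q` has exponent dividing `p²`. -/
lemma Qs_pow {e : Fin n → F} (he : hu C.σ e e = 0) {s : SUn n F q} (hs : s ∈ Qs C he) :
    s ^ (C.p ^ 2) = 1 := by
  have : CharP F C.p := C.charP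
  obtain ⟨w, a, hw, ha, rfl⟩ := hs
  obtain ⟨a', ha', hk⟩ := esG_pow he hw ha C.p
  rw [CharP.cast_eq_zero, zero_smul] at hk ha'
  rw [hu_zero_left, add_zero] at ha'
  rw [pow_two, pow_mul, hk]
  show tvG C e a' ^ C.p = 1
  rw [tvG_pow he ha', CharP.cast_eq_zero, zero_mul, tvG_zero C he]

lemma isPGroup_Qs {e : Fin n → F} (he : hu C.σ e e = 0) : IsPGroup C.p (Qs C he) := by
  intro s
  refine ⟨2, ?_⟩
  apply Subtype.ext
  rw [Subgroup.coe_pow, Qs_pow he s.2]
  rfl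

end Cfsg.Agent.Lib.Helper07.UG
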