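import Mathlib
import Cfsg.Agent.Lib.Helper07.PSUf

set_option autoImplicit false
set_option linter.unusedSectionVars false
set_option linter.unusedVariables false

/-! Unitary groups: the decomposition of the point stabiliser relative to a hyperbolic pair,
and the centraliser of the unipotent radical. -/

namespace Cfsg.Agent.Lib.Helper07.UG

open Matrix

variable {n : ℕ} {F : Type*} [Field F] [Fintype F] {q : ℕ} {C : UC F q}

lemma act_esG_f {e f w : Fin n → F} {a : F} (H : HP C e f) (hw : w ∈ Wsp C e f)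
    (ha : a + C.σ a + hu C.σ w w = 0) : act (esG C e w a) f = f + w + a • e := by
  rw [act_esG C H.he hw.1 ha, H.hfe, (mem_Wsp_symm hw).2]
  simp

/-- uniqueness of the parameters. -/
lemma esG_inj {e f w w' : Fin n → F} {a a' : F} (H : HP C e f) (hw : w ∈ Wsp C e f)
    (hw' : w' ∈ Wsp C e f) (ha : a + C.σ a + hu C.σ w w = 0)
    (ha' : a' + C.σ a' + hu C.σ w' w' = 0) (h : esG C e w a = esG C e w' a') :
    w = w' ∧ a = a' := by
  have h1 : act (esG C e w a) f = act (esG C e w' a') f := by rw [h]
  rw [act_esG_f H hw ha, act_esG_f H hw' ha'] at h1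
  have h2 : w - w' = (a' - a) • e := by
    funext i
    have := congrFun h1 i
    simp only [Pi.add_apply, Pi.smul_apply, Pi.sub_apply, smul_eq_mul] at this ⊢
    linear_combination this
  have h4 : hu C.σ (w - w') f = 0 := by rw [hu_sub_left, hw.2, hw'.2, sub_zero]
  rw [h2, hu_smul_left, H.hef, mul_one] at h4
  have h5 : a = a' := (sub_eq_zero.mp h4).symm
  refine ⟨?_, h5⟩
  rw [h5, sub_self, zero_smul] at h2
  exact sub_eq_zero.mp h2

/-- elements of `Q` in normal form. -/
lemma exists_normal_form {e f : Fin n → F} (H : HP C e f) {x : SUn n F q}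
    (hx : x ∈ Qs C H.he) :
    ∃ (w : Fin n → F) (a : F), w ∈ Wsp C e f ∧ a + C.σ a + hu C.σ w w = 0 ∧ x = esG C e w a := by
  obtain ⟨w, a, hw, ha, rfl⟩ := hx
  have hdec : w = pW C e f w + hu C.σ w f • e := by
    have := decomp_pW (C := C) e f w
    rw [hw, zero_smul, add_zero] at this
    rw [add_comm]
    exact this
  set w₀ := pW C e f w with hw₀
  set c := hu C.σ w f with hc
  have hw₀W : w₀ ∈ Wsp C e f := pW_mem H w
  have hew₀ := (mem_Wsp_symm hw₀W).1
  have ha₀ : (a + c - C.σ c) + C.σ (a + c - C.σ c) + hu C.σ w₀ w₀ = 0 := by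
    have h1 : hu C.σ w w = hu C.σ w₀ w₀ := by
      conv_lhs => rw [hdec]
      simp only [hu_add_left, hu_add_right, hu_smul_left, hu_smul_right, H.he, hw₀W.1, hew₀]
      ring
    simp only [map_add, map_sub, C.hσ]
    linear_combination ha - h1
  refine ⟨w₀, a + c - C.σ c, hw₀W, ha₀, ?_⟩
  have h2 := esG_add_smul C (c := c) H.he hw₀W.1 ha₀
  rw [← h2, ← hdec]
  congr 1
  ring

/-- the stabiliser of both points of a hyperbolic pair. -/
def Ls (e f : Fin n → F) : Subgroup (SUn n F q) := Ns e ⊓ Ns f

lemma Ls_act_W {e f : Fin n → F} (H : HP C e f) {l : SUn n F q} (hl : l ∈ Ls e f)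
    {w : Fin n → F} (hw : w ∈ Wsp C e f) : act l w ∈ Wsp C e f := by
  obtain ⟨⟨c, hc, hce⟩, ⟨d, hd, hdf⟩⟩ := hl
  have hσc : C.σ c ≠ 0 := (map_ne_zero_iff _ C.σ.injective).mpr hc
  have hσd : C.σ d ≠ 0 := (map_ne_zero_iff _ C.σ.injective).mpr hd
  constructor
  · have h1 : hu C.σ (act l w) (act l e) = 0 := by rw [hu_act, hw.1]
    rw [hce, hu_smul_right] at h1
    exact (mul_eq_zero.mp h1).resolve_left hσc
  · have h1 : hu C.σ (act l w) (act l f) = 0 := by rw [hu_act, hw.2]
    rw [hdf, hu_smul_right] at h1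
    exact (mul_eq_zero.mp h1).resolve_left hσd

/-- decomposition of the point stabiliser. -/
lemma exists_decomp {e f : Fin n → F} (H : HP C e f) {s : SUn n F q} (hs : s ∈ Ns e) :
    ∃ (w : Fin n → F) (a : F) (l : SUn n F q), w ∈ Wsp C e f ∧ a + C.σ a + hu C.σ w w = 0 ∧
      l ∈ Ls e f ∧ s = esG C e w a * l := by
  obtain ⟨c, hc, hse⟩ := hs
  have hσc : C.σ c ≠ 0 := (map_ne_zero_iff _ C.σ.injective).mpr hc
  set u := act s f with hu'
  have hu1 : hu C.σ u e = (C.σ c)⁻¹ := by
    have h1 : hu C.σ u (act s e) = 1 := by rw [hu', hu_act, H.hfe]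
    rw [hse, hu_smul_right] at h1
    exact eq_inv_of_mul_eq_one_right h1
  set d := hu C.σ u e with hd
  have hd0 : d ≠ 0 := by rw [hu1]; exact inv_ne_zero hσc
  have huu : hu C.σ u u = 0 := by rw [hu', hu_act, H.hf]
  set w := d⁻¹ • pW C e f u with hw
  set a := d⁻¹ * hu C.σ u f with ha
  have hwW : w ∈ Wsp C e f := (Wsp C e f).smul_mem _ (pW_mem H u)
  have hudec : u = d • (f + w + a • e) := by
    have h0 := decomp_pW (C := C) e f u
    rw [hw, ha, smul_add, smul_add, smul_smul, smul_smul, ← mul_assoc, mul_inv_cancel₀ hd0,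
      one_mul, one_smul]
    rw [← hd] at h0
    conv_lhs => rw [h0]
    abel
  have hσd : C.σ d ≠ 0 := (map_ne_zero_iff _ C.σ.injective).mpr hd0
  have haw : a + C.σ a + hu C.σ w w = 0 := by
    have h1 := huu
    rw [hudec, hu_smul_left, hu_smul_right] at h1
    have h2 : hu C.σ (f + w + a • e) (f + w + a • e) = 0 := by
      rcases mul_eq_zero.mp h1 with h | h
      · exact absurd h hd0
      · exact (mul_eq_zero.mp h).resolve_left hσd
    simp only [hu_add_left, hu_add_right, hu_smul_left, hu_smul_right, H.he, H.hf, H.hef, H.hfe,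
      hwW.1, hwW.2, (mem_Wsp_symm hwW).1, (mem_Wsp_symm hwW).2] at h2
    linear_combination h2
  refine ⟨w, a, (esG C e w a)⁻¹ * s, hwW, haw, ⟨?_, ?_⟩, by rw [mul_inv_cancel_left]⟩
  · refine ⟨c, hc, ?_⟩
    rw [act_mul, hse, act_smul]
    have h3 : act (esG C e w a)⁻¹ e = e := by
      have := act_esG_self H.he hwW.1 haw
      calc act (esG C e w a)⁻¹ e = act (esG C e w a)⁻¹ (act (esG C e w a) e) := by rw [this]
        _ = e := act_inv_act _ _
    rw [h3]
  · refine ⟨d, hd0, ?_⟩
    rw [act_mul, ← hu', hudec, act_smul, ← act_esG_f H hwW haw, act_inv_act]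

/-- an element centralising `Q` and fixing `e` is a transvection. -/
lemma mem_Xs_of_centralizes {e f : Fin n → F} (H : HP C e f) {s : SUn n F q}
    (hse : act s e = e) (hs : ∀ x ∈ Qs C H.he, s * x = x * s) : s ∈ Xs C H.he := by
  -- `s` fixes `W` pointwise
  have hW : ∀ w ∈ Wsp C e f, act s w = w := by
    intro w hwW
    obtain ⟨a, ha⟩ := C.exists_tr_eq (- hu C.σ w w) (by rw [map_neg, hu_self_fixed])
    have haw : a + C.σ a + hu C.σ w w = 0 := by linear_combination ha
    -- the W-component
    have key : ∀ (c : F), act s (c • w) = c • w + hu C.σ (act s (c • w)) f • e ∧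
        C.σ (hu C.σ (act s (c • w)) f) = hu C.σ (act s (c • w)) f := by
      intro c
      have hcW : c • w ∈ Wsp C e f := (Wsp C e f).smul_mem _ hwW
      obtain ⟨b, hb⟩ := C.exists_tr_eq (- hu C.σ (c • w) (c • w)) (by rw [map_neg, hu_self_fixed])
      have hbw : b + C.σ b + hu C.σ (c • w) (c • w) = 0 := by linear_combination hb
      have hcomm := hs (esG C e (c • w) b) ⟨c • w, b, hcW.1, hbw, rfl⟩
      have h1 : s * esG C e (c • w) b * s⁻¹ = esG C e (c • w) b := by
        rw [hcomm, mul_inv_cancel_right]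
      rw [conj_esG C s H.he hcW.1 hbw, hse] at h1
      set v := act s (c • w) with hv
      have hve : hu C.σ v e = 0 := by
        have : hu C.σ v (act s e) = 0 := by rw [hv, hu_act, hcW.1]
        rwa [hse] at this
      have hvv : hu C.σ v v = hu C.σ (c • w) (c • w) := by rw [hv, hu_act]
      have hbv : b + C.σ b + hu C.σ v v = 0 := by rw [hvv]; exact hbw
      have hmem : esG C e v b ∈ Qs C H.he := ⟨v, b, hve, hbv, rfl⟩
      -- normal form of `esG e v b`
      have hdec : v = pW C e f v + hu C.σ v f • e := by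
        have := decomp_pW (C := C) e f v
        rw [hve, zero_smul, add_zero] at this
        rw [add_comm]
        exact this
      set v₀ := pW C e f v with hv₀
      set t := hu C.σ v f with ht
      have hv₀W : v₀ ∈ Wsp C e f := pW_mem H v
      have hev₀ := (mem_Wsp_symm hv₀W).1
      have hb₀ : (b + t - C.σ t) + C.σ (b + t - C.σ t) + hu C.σ v₀ v₀ = 0 := by
        have h2 : hu C.σ v v = hu C.σ v₀ v₀ := by
          conv_lhs => rw [hdec]
          simp only [hu_add_left, hu_add_right, hu_smul_left, hu_smul_right, H.he, hv₀W.1, hev₀]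
          ring
        simp only [map_add, map_sub, C.hσ]
        linear_combination hbv - h2
      have h3 := esG_add_smul C (c := t) H.he hv₀W.1 hb₀
      have h4 : b + t - C.σ t - t + C.σ t = b := by ring
      rw [h4, ← hdec, h1] at h3
      obtain ⟨h5, h6⟩ := esG_inj H hcW hv₀W hbw hb₀ h3
      constructor
      · rw [hdec, ← h5]
      · linear_combination h6
    -- the coefficient vanishes
    obtain ⟨h1, h1'⟩ := key 1
    rw [one_smul] at h1 h1'
    by_contra hne
    have ht0 : hu C.σ (act s w) f ≠ 0 := by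
      intro h0
      rw [h0, zero_smul, add_zero] at h1
      exact hne h1
    obtain ⟨z, hz⟩ : ∃ z : F, C.σ z ≠ z := by
      by_contra hcon
      push Not at hcon
      apply C.hσ1
      ext a
      exact hcon a
    obtain ⟨-, h2'⟩ := key (z / hu C.σ (act s w) f)
    rw [act_smul, hu_smul_left, div_mul_cancel₀ _ ht0] at h2'
    exact hz h2'
  -- `s f = f + a e`
  have hf1 : hu C.σ (act s f) e = 1 := by
    have : hu C.σ (act s f) (act s e) = 1 := by rw [hu_act, H.hfe]
    rwa [hse] at this
  have hfW : pW C e f (act s f) = 0 := by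
    by_contra hne
    obtain ⟨x, hxW, hx⟩ := nd_Wsp H _ (pW_mem H (act s f)) hne
    apply hx
    rw [hu_pW_left hxW]
    have : hu C.σ (act s f) (act s x) = 0 := by rw [hu_act, (mem_Wsp_symm hxW).2]
    rwa [hW x hxW] at this
  set a := hu C.σ (act s f) f with ha
  have hsf : act s f = f + a • e := by
    have := decomp_pW (C := C) e f (act s f)
    rw [hf1, hfW, one_smul, add_zero, ← ha] at this
    rw [this, add_comm]
  have haa : a + C.σ a = 0 := by
    have h1 : hu C.σ (act s f) (act s f) = 0 := by rw [hu_act, H.hf]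
    rw [hsf] at h1
    simp only [hu_add_left, hu_add_right, hu_smul_left, hu_smul_right, H.he, H.hf, H.hef,
      H.hfe] at h1
    linear_combination h1
  refine ⟨a, haa, ?_⟩
  apply su_ext
  intro x
  rw [act_tvG C H.he haa]
  have hx := decomp_pW (C := C) e f x
  calc act s x = act s (hu C.σ x f • e + hu C.σ x e • f + pW C e f x) := by rw [← hx]
    _ = hu C.σ x f • e + hu C.σ x e • (f + a • e) + pW C e f x := by
        rw [act_add, act_add, act_smul, act_smul, hse, hsf, hW _ (pW_mem H x)]
    _ = (hu C.σ x f • e + hu C.σ x e • f + pW C e f x) + (a * hu C.σ x e) • e := by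
        funext i
        simp only [Pi.add_apply, Pi.smul_apply, smul_eq_mul]
        ring
    _ = x + (a * hu C.σ x e) • e := by rw [← hx]

end Cfsg.Agent.Lib.Helper07.UG
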