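import Mathlib
import Cfsg.Agent.Lib.Helper07.PSUg
import Cfsg.Agent.Lib.Helper07.PSUh

set_option autoImplicit false
set_option linter.unusedSectionVars false
set_option linter.unusedVariables false

/-! Unitary groups: a Sylow `p`-subgroup whose centre is a long root subgroup, and the
`p`-core of a point stabiliser. -/

namespace Cfsg.Agent.Lib.Helper07.UG

open Matrix

variable {n : ℕ} {F : Type*} [Field F] [Fintype F] {q : ℕ} {C : UC F q}

lemma pow_eq_one_of_isPGroup {G : Type*} [Group G] {p : ℕ} {S : Subgroup G} (hS : IsPGroup p S)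
    {s : G} (hs : s ∈ S) : ∃ k : ℕ, s ^ (p ^ k) = 1 := by
  obtain ⟨k, hk⟩ := hS ⟨s, hs⟩
  refine ⟨k, ?_⟩
  have := congrArg Subtype.val hk
  rwa [Subgroup.coe_pow] at this

/-- a Sylow `p`-subgroup of `SU_n(q)` with centre the long root subgroup `X_e`. -/
theorem exists_sylow_center {e f : Fin n → F} (H : HP C e f) :
    ∃ S : Subgroup (SUn n F q), IsMaxP C.p ⊤ S ∧ ZCs S = (Xs C H.he : Set (SUn n F q)) ∧
      Qs C H.he ≤ S ∧ S ≤ Ns e ∧ IsMaxP C.p (Ns e) S := by
  have : Fact C.p.Prime := ⟨C.hp⟩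
  obtain ⟨S, hS⟩ := exists_isMaxP C.p (Ns (q := q) e)
  have hQS : Qs C H.he ≤ S :=
    hS.le_of_normal (Qs_le_Ns H.he) (isPGroup_Qs H.he) (fun g hg k hk => conj_mem_Qs H.he hg hk)
  have hfix : ∀ s ∈ S, act s e = e := by
    intro s hs
    obtain ⟨k, hk⟩ := pow_eq_one_of_isPGroup hS.2.1 hs
    exact act_eq_of_pow H.e_ne (hS.1 hs) hk
  have hZ : ZCs S = (Xs C H.he : Set (SUn n F q)) := by
    ext z
    constructor
    · rintro ⟨hzS, hz⟩
      exact mem_Xs_of_centralizes H (hfix z hzS) (fun x hx => hz x (hQS hx))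
    · rintro ⟨a, ha, rfl⟩
      refine ⟨hQS (Xs_le_Qs H.he ⟨a, ha, rfl⟩), ?_⟩
      intro y hy
      have h1 := conj_tvG C y H.he ha
      rw [hfix y hy] at h1
      calc tvG C e a * y = (y * tvG C e a * y⁻¹) * y := by rw [h1]
        _ = y * tvG C e a := by group
  refine ⟨S, ?_, hZ, hQS, hS.1, hS⟩
  apply hS.top_of_normalizer
  intro x hx
  apply mem_Ns_of_conj H.he H.e_ne
  intro t ht
  have ht' : t ∈ ZCs S := by rw [hZ]; exact ht
  have h2 : x * t * x⁻¹ ∈ ZCs S := by
    refine ⟨hx t ht'.1, ?_⟩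
    intro y hy
    have h3 : x⁻¹ * y * x ∈ S := by
      -- conjugation by `x` is a bijection of the finite set `S`
      have hinj : Function.Injective (fun s : S => (⟨x * s * x⁻¹, hx s s.2⟩ : S)) := by
        intro s₁ s₂ h
        have := congrArg Subtype.val h
        simp only [mul_left_inj, mul_right_inj] at this
        exact Subtype.ext this
      have hsurj := Finite.surjective_of_injective hinj
      obtain ⟨s, hs⟩ := hsurj ⟨y, hy⟩
      have := congrArg Subtype.val hs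
      simp only at this
      rw [← this]
      have : x⁻¹ * (x * s * x⁻¹) * x = s := by group
      rw [this]
      exact s.2
    have h4 := ht'.2 _ h3
    have h5 : x * t * x⁻¹ * y = x * (t * (x⁻¹ * y * x)) * x⁻¹ := by group
    have h6 : y * (x * t * x⁻¹) = x * ((x⁻¹ * y * x) * t) * x⁻¹ := by group
    rw [h5, h6, h4]
  rw [hZ] at h2
  exact h2

/-- conjugation preserves joins of invariant subgroups. -/
lemma conj_mem_sup {G : Type*} [Group G] {A B : Subgroup G} {s : G}
    (hA : ∀ a ∈ A, s * a * s⁻¹ ∈ A) (hB : ∀ b ∈ B, s * b * s⁻¹ ∈ B) {k : G} (hk : k ∈ A ⊔ B) :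
    s * k * s⁻¹ ∈ A ⊔ B := by
  have h1 : (A ⊔ B).map (MulAut.conj s).toMonoidHom ≤ A ⊔ B := by
    rw [Subgroup.map_sup]
    apply sup_le_sup
    · rintro _ ⟨a, ha, rfl⟩
      exact hA a ha
    · rintro _ ⟨b, hb, rfl⟩
      exact hB b hb
  exact h1 (Subgroup.mem_map_of_mem _ hk)

/-- a `p`-subgroup of the stabiliser of both points of a hyperbolic pair which is normalised by
that stabiliser is trivial. -/
lemma pcore_Ls_trivial {e f : Fin n → F} (H : HP C e f) {R : Subgroup (SUn n F q)}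
    (hRL : R ≤ Ls e f) (hRp : IsPGroup C.p R)
    (hRn : ∀ l ∈ Ls (q := q) e f, ∀ r ∈ R, l * r * l⁻¹ ∈ R) : R = ⊥ := by
  have : Fact C.p.Prime := ⟨C.hp⟩
  have : CharP F C.p := C.charP
  -- `R` fixes `e` and `f`
  have hRe : ∀ r ∈ R, act r e = e := by
    intro r hr
    obtain ⟨k, hk⟩ := pow_eq_one_of_isPGroup hRp hr
    exact act_eq_of_pow H.e_ne (hRL hr).1 hk
  have hRf : ∀ r ∈ R, act r f = f := by
    intro r hr
    obtain ⟨k, hk⟩ := pow_eq_one_of_isPGroup hRp hr
    exact act_eq_of_pow H.f_ne (hRL hr).2 hk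
  -- the fixed space in `W`
  let Fx : Submodule F (Fin n → F) :=
    { carrier := {w | w ∈ Wsp C e f ∧ ∀ r ∈ R, act r w = w}
      add_mem' := by
        rintro x y ⟨hx, hx'⟩ ⟨hy, hy'⟩
        exact ⟨(Wsp C e f).add_mem hx hy, fun r hr => by rw [act_add, hx' r hr, hy' r hr]⟩
      zero_mem' := ⟨(Wsp C e f).zero_mem, fun r _ => act_zero r⟩
      smul_mem' := by
        rintro c x ⟨hx, hx'⟩
        exact ⟨(Wsp C e f).smul_mem c hx, fun r hr => by rw [act_smul, hx' r hr]⟩ }
  have hFx : ∀ w, w ∈ Fx ↔ w ∈ Wsp C e f ∧ ∀ r ∈ R, act r w = w := fun w => Iff.rfl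
  have hFxL : ∀ l ∈ Ls (q := q) e f, ∀ w ∈ Fx, act l w ∈ Fx := by
    intro l hl w hw
    refine ⟨Ls_act_W H hl hw.1, ?_⟩
    intro r hr
    have h1 := hRn l⁻¹ ((Ls e f).inv_mem hl) r hr
    rw [inv_inv] at h1
    have h2 := hw.2 _ h1
    rw [act_mul, act_mul] at h2
    have h3 := congrArg (act l) h2
    rwa [act_act_inv] at h3
  -- all of `W` is fixed
  have hall : ∀ x ∈ Wsp C e f, x ∈ Fx := by
    by_cases hW0 : ∀ w ∈ Wsp C e f, w = 0
    · intro x hx
      rw [hW0 x hx]
      exact Fx.zero_mem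
    push Not at hW0
    obtain ⟨w₁, hw₁W, hw₁⟩ := hW0
    -- a non-zero fixed vector
    obtain ⟨m, hmF, hm0⟩ : ∃ m ∈ Fx, m ≠ 0 := by
      let act' : MulAction R (Wsp C e f) :=
        { smul := fun r w => ⟨act (r : SUn n F q) w, Ls_act_W H (hRL r.2) w.2⟩
          one_smul := fun w => Subtype.ext (act_one _)
          mul_smul := fun r s w => Subtype.ext (act_mul _ _ _) }
      have hcard : C.p ∣ Nat.card (Wsp C e f) := by
        have h1 : Nat.card (Wsp C e f) ∣ Nat.card (Fin n → F) :=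
          AddSubgroup.card_addSubgroup_dvd_card (Wsp C e f).toAddSubgroup
        have h2 : Nat.card (Fin n → F) = C.p ^ (2 * C.f * n) := by
          have hq2 : q ^ 2 = C.p ^ (2 * C.f) := by rw [pow_mul', ← C.hq]
          rw [Nat.card_eq_fintype_card, Fintype.card_fun, Fintype.card_fin, C.hF, hq2, ← pow_mul]
        rw [h2] at h1
        obtain ⟨j, -, hj⟩ := (Nat.dvd_prime_pow C.hp).mp h1
        rw [hj]
        have hj0 : j ≠ 0 := by
          rintro rfl
          rw [pow_zero] at hj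
          have hsub : Subsingleton (Wsp C e f) := (Nat.card_eq_one_iff_unique.mp hj).1
          have := Subsingleton.elim (⟨w₁, hw₁W⟩ : Wsp C e f) 0
          exact hw₁ (congrArg Subtype.val this)
        exact dvd_pow_self _ hj0
      have h0 : (0 : Wsp C e f) ∈ MulAction.fixedPoints R (Wsp C e f) := by
        intro r
        exact Subtype.ext (act_zero _)
      have hRp' : IsPGroup C.p R := hRp
      obtain ⟨b, hb, hb0⟩ := hRp'.exists_fixed_point_of_prime_dvd_card_of_fixed_point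
        (α := Wsp C e f) hcard h0
      refine ⟨b.1, ⟨b.2, fun r hr => ?_⟩, fun h => hb0 (Subtype.ext h.symm)⟩
      exact congrArg Subtype.val (hb ⟨r, hr⟩)
    by_cases hani : ∀ v ∈ Wsp C e f, hu C.σ v v = 0 → v = 0
    · intro x hx
      obtain ⟨c, hc⟩ := dep_of_aniso C hani hx hmF.1 hm0
      rw [hc]
      exact Fx.smul_mem c hmF
    · push Not at hani
      obtain ⟨a₀, ha₀W, ha₀, ha₀0⟩ := hani
      obtain ⟨κ, hκ0, hκ⟩ := C.exists_kappa
      have hκ' : κ + C.σ κ = 0 := by rw [hκ]; ring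
      -- transvections of `W` lie in `L`
      have htvL : ∀ v ∈ Wsp C e f, hu C.σ v v = 0 → tvG C v κ ∈ Ls (q := q) e f := by
        intro v hv hv0
        refine ⟨⟨1, one_ne_zero, ?_⟩, ⟨1, one_ne_zero, ?_⟩⟩
        · rw [act_tvG C hv0 hκ', (mem_Wsp_symm hv).1, mul_zero, zero_smul, add_zero, one_smul]
        · rw [act_tvG C hv0 hκ', (mem_Wsp_symm hv).2, mul_zero, zero_smul, add_zero, one_smul]
      -- spreading along non-orthogonal isotropic vectors
      have hspread : ∀ m v, m ∈ Fx → v ∈ Wsp C e f → hu C.σ v v = 0 → hu C.σ m v ≠ 0 → v ∈ Fx := by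
        intro m v hm hv hv0 hmv
        have h1 := hFxL _ (htvL v hv hv0) m hm
        rw [act_tvG C hv0 hκ'] at h1
        have h2 : (κ * hu C.σ m v) • v ∈ Fx := by
          have := Fx.sub_mem h1 hm
          rwa [add_sub_cancel_left] at this
        have h3 := Fx.smul_mem (κ * hu C.σ m v)⁻¹ h2
        rwa [smul_smul, inv_mul_cancel₀ (mul_ne_zero hκ0 hmv), one_smul] at h3
      -- an isotropic vector in `Fx`
      obtain ⟨v₀, hv₀W, hv₀, hv₀0, hv₀F⟩ :
          ∃ v ∈ Wsp C e f, hu C.σ v v = 0 ∧ v ≠ 0 ∧ v ∈ Fx := by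
        obtain ⟨y, hyW, hy⟩ := nd_Wsp H m hmF.1 hm0
        obtain ⟨v₁, v₂, v₃, h1W, h2W, h3W, h1, h2, h3, hsum⟩ :=
          exists_three_iso C (nd_Wsp H) ha₀W ha₀0 ha₀ hyW
        rw [hsum, hu_add_right, hu_add_right] at hy
        by_cases c1 : hu C.σ m v₁ = 0
        · by_cases c2 : hu C.σ m v₂ = 0
          · have c3 : hu C.σ m v₃ ≠ 0 := by
              intro c3
              rw [c1, c2, c3] at hy
              simp at hy
            refine ⟨v₃, h3W, h3, ?_, hspread m v₃ hmF h3W h3 c3⟩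
            rintro rfl
            exact c3 (hu_zero_right _ _)
          · refine ⟨v₂, h2W, h2, ?_, hspread m v₂ hmF h2W h2 c2⟩
            rintro rfl
            exact c2 (hu_zero_right _ _)
        · refine ⟨v₁, h1W, h1, ?_, hspread m v₁ hmF h1W h1 c1⟩
          rintro rfl
          exact c1 (hu_zero_right _ _)
      -- all isotropic vectors of `W` are in `Fx`
      have hconn : ∀ u ∈ Wsp C e f, u ≠ 0 → hu C.σ u u = 0 → u ∈ Fx := by
        intro u huW hu0 hu1
        have := iso_connected C (nd_Wsp H) (fun v => v ∈ Fx) (by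
          intro u v huW hvW hu1 hv1 huv
          apply propext
          constructor
          · intro h
            exact hspread u v h hvW hv1 huv
          · intro h
            exact hspread v u h huW hu1 (hu_ne_zero_symm C huv)) hv₀W huW hv₀0 hu0 hv₀ hu1
        rw [← this]
        exact hv₀F
      intro x hx
      obtain ⟨v₁, v₂, v₃, h1W, h2W, h3W, h1, h2, h3, hsum⟩ :=
        exists_three_iso C (nd_Wsp H) ha₀W ha₀0 ha₀ hx
      have hz : ∀ v ∈ Wsp C e f, hu C.σ v v = 0 → v ∈ Fx := by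
        intro v hv hv0
        by_cases hv1 : v = 0
        · rw [hv1]; exact Fx.zero_mem
        · exact hconn v hv hv1 hv0
      rw [hsum]
      exact Fx.add_mem (Fx.add_mem (hz _ h1W h1) (hz _ h2W h2)) (hz _ h3W h3)
  rw [Subgroup.eq_bot_iff_forall]
  intro r hr
  apply su_ext
  intro x
  rw [act_one]
  conv_lhs => rw [decomp_pW (C := C) e f x]
  rw [act_add, act_add, act_smul, act_smul, hRe r hr, hRf r hr,
    (hall _ (pW_mem H x)).2 r hr, ← decomp_pW]

/-- the `p`-core of the point stabiliser is `Q`. -/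
theorem pcore_le_Qs {e f : Fin n → F} (H : HP C e f) {R : Subgroup (SUn n F q)}
    (hRN : R ≤ Ns e) (hRp : IsPGroup C.p R)
    (hRn : ∀ s ∈ Ns (q := q) e, ∀ r ∈ R, s * r * s⁻¹ ∈ R) : R ≤ Qs C H.he := by
  have : Fact C.p.Prime := ⟨C.hp⟩
  set K := R ⊔ Qs C H.he with hK
  have hKp : IsPGroup C.p K := by
    apply IsPGroup.to_sup_of_normal_right' hRp (isPGroup_Qs H.he)
    intro g hg
    rw [Subgroup.mem_normalizer_iff]
    intro k
    constructor
    · intro hk
      exact conj_mem_Qs H.he (hRN hg) hk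
    · intro hk
      have := conj_mem_Qs H.he ((Ns e).inv_mem (hRN hg)) hk
      rw [inv_inv] at this
      have h2 : g⁻¹ * (g * k * g⁻¹) * g = k := by group
      rwa [h2] at this
  have hKn : ∀ s ∈ Ns (q := q) e, ∀ k ∈ K, s * k * s⁻¹ ∈ K := by
    intro s hs k hk
    exact conj_mem_sup (fun a ha => hRn s hs a ha) (fun b hb => conj_mem_Qs H.he hs hb) hk
  have hKN : K ≤ Ns e := sup_le hRN (Qs_le_Ns H.he)
  have htriv : K ⊓ Ls e f = ⊥ := by
    apply pcore_Ls_trivial H inf_le_right (hKp.to_le inf_le_left)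
    intro l hl r hr
    exact ⟨hKn l hl.1 r hr.1, (Ls e f).mul_mem ((Ls e f).mul_mem hl hr.2) ((Ls e f).inv_mem hl)⟩
  intro g hg
  obtain ⟨w, a, l, hwW, ha, hl, hgl⟩ := exists_decomp H (hRN hg)
  have hψ : esG C e w a ∈ Qs C H.he := ⟨w, a, hwW.1, ha, rfl⟩
  have hlK : l ∈ K := by
    have : l = (esG C e w a)⁻¹ * g := by rw [hgl, inv_mul_cancel_left]
    rw [this]
    exact K.mul_mem (K.inv_mem (le_sup_right (a := R) hψ)) (le_sup_left (b := Qs C H.he) hg)
  have hl1 : l = 1 := by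
    have : l ∈ K ⊓ Ls e f := ⟨hlK, hl⟩
    rw [htriv] at this
    exact Subgroup.mem_bot.mp this
  rw [hgl, hl1, mul_one]
  exact hψ

end Cfsg.Agent.Lib.Helper07.UG
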