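import Mathlib
import Cfsg.Agent.Lib.Helper07.PSUi

set_option autoImplicit false
set_option linter.unusedSectionVars false
set_option linter.unusedVariables false

/-! Unitary groups: the centre of `SU_n(q)`, the quotient `PSU_n(q)`, and the permutation of the
long root subgroups by automorphisms. -/

namespace Cfsg.Agent.Lib.Helper07.UG

open Matrix

variable {n : ℕ} {F : Type*} [Field F] [Fintype F] {q : ℕ} {C : UC F q}

/-- a linear map fixing all isotropic points is a scalar. -/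
lemma scalar_of_fix_iso (hn : 2 ≤ n) (g : (Fin n → F) → (Fin n → F))
    (hadd : ∀ x y, g (x + y) = g x + g y) (hsmul : ∀ (c : F) x, g (c • x) = c • g x)
    (hfix : ∀ v : Fin n → F, hu C.σ v v = 0 → ∃ c : F, g v = c • v) :
    ∃ c : F, ∀ x, g x = c • x := by
  classical
  obtain ⟨e, f, H⟩ := exists_HP C hn
  let ev : (Fin n → F) → F := fun v => if h : hu C.σ v v = 0 then (hfix v h).choose else 0
  have hev : ∀ v, hu C.σ v v = 0 → g v = ev v • v := by
    intro v hv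
    show g v = (if h : hu C.σ v v = 0 then (hfix v h).choose else 0) • v
    rw [dif_pos hv]
    exact (hfix v hv).choose_spec
  have hconst : ∀ v, v ≠ 0 → hu C.σ v v = 0 → ev v = ev e := by
    intro v hv0 hv
    apply iso_connected C (nd_top C) ev _ Submodule.mem_top Submodule.mem_top hv0 H.e_ne hv H.he
    intro u v _ _ hu1 hv1 huv
    obtain ⟨μ, hμ0, hμ⟩ := exists_iso_add C hu1 hv1 huv
    have h1 := hev _ hμ
    rw [hadd, hsmul, hev u hu1, hev v hv1] at h1
    have h2 : (ev u - ev (u + μ • v)) • u + ((ev v - ev (u + μ • v)) * μ) • v = 0 := by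
      have : ev u • u + μ • ev v • v - ev (u + μ • v) • (u + μ • v) = 0 := by
        rw [h1, sub_self]
      rw [← this]
      funext i
      simp only [Pi.add_apply, Pi.sub_apply, Pi.smul_apply, smul_eq_mul]
      ring
    obtain ⟨h3, h4⟩ := indep_of_nonorth C hu1 hv1 huv h2
    have h5 : ev v = ev (u + μ • v) := by
      rcases mul_eq_zero.mp h4 with h | h
      · exact sub_eq_zero.mp h
      · exact absurd h hμ0
    rw [sub_eq_zero.mp h3, ← h5]
  have hiso : ∀ v, hu C.σ v v = 0 → g v = ev e • v := by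
    intro v hv
    by_cases hv0 : v = 0
    · have : g 0 = 0 := by
        have := hsmul 0 0
        rwa [zero_smul, zero_smul] at this
      rw [hv0, this, smul_zero]
    · rw [hev v hv, hconst v hv0 hv]
  refine ⟨ev e, fun x => ?_⟩
  obtain ⟨v₁, v₂, v₃, -, -, -, h1, h2, h3, hsum⟩ :=
    exists_three_iso C (nd_top C) (Submodule.mem_top (x := e)) H.e_ne H.he
      (Submodule.mem_top (x := x))
  rw [hsum, hadd, hadd, hiso _ h1, hiso _ h2, hiso _ h3, smul_add, smul_add]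

/-- central elements of `SU_n(q)` are scalar. -/
lemma center_scalar (C : UC F q) (hn : 2 ≤ n) {z : SUn n F q} (hz : z ∈ Subgroup.center (SUn n F q)) :
    ∃ c : F, ∀ x, act z x = c • x := by
  apply scalar_of_fix_iso (C := C) hn (act z) (act_add z) (fun c x => act_smul z c x)
  intro v hv
  by_cases hv0 : v = 0
  · exact ⟨1, by rw [hv0, act_zero, smul_zero]⟩
  obtain ⟨κ, hκ0, hκ⟩ := C.exists_kappa
  have hκ' : κ + C.σ κ = 0 := by rw [hκ]; ring
  have h1 := conj_tvG C z hv hκ'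
  have h2 : z * tvG C v κ * z⁻¹ = tvG C v κ := by
    rw [Subgroup.mem_center_iff] at hz
    rw [← hz (tvG C v κ), mul_inv_cancel_right]
  rw [h2] at h1
  have hv' : hu C.σ (act z v) (act z v) = 0 := by rw [hu_act, hv]
  obtain ⟨c, hc, hcv⟩ := tvG_eq_tvG C hv hv' hκ' hκ' hκ0 hv0 h1
  refine ⟨c⁻¹, ?_⟩
  conv_rhs => rw [hcv]
  rw [smul_smul, inv_mul_cancel₀ hc, one_smul]

lemma mem_center_of_scalar {z : SUn n F q} {c : F} (hz : ∀ x, act z x = c • x) :
    z ∈ Subgroup.center (SUn n F q) := by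
  rw [Subgroup.mem_center_iff]
  intro g
  apply su_ext
  intro x
  rw [act_mul, act_mul, hz, hz, act_smul]

/-- the centre has no non-trivial `p`-elements. -/
lemma center_pow_eq_one (hn : 2 ≤ n) {z : SUn n F q} (hz : z ∈ Subgroup.center (SUn n F q))
    {k : ℕ} (hk : z ^ (C.p ^ k) = 1) : z = 1 := by
  obtain ⟨c, hc⟩ := center_scalar C hn hz
  obtain ⟨e, he0, he⟩ := exists_iso C hn
  have hN : z ∈ Ns (q := q) e := by
    refine ⟨c, ?_, hc e⟩
    rintro rfl
    have := hc e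
    rw [zero_smul] at this
    exact he0 ((act_eq_zero_iff z e).mp this)
  have h1 := act_eq_of_pow (C := C) he0 hN hk
  rw [hc e] at h1
  have hc1 : c = 1 := by
    have h2 : (c - 1) • e = 0 := by rw [sub_smul, one_smul, h1, sub_self]
    rcases smul_eq_zero.mp h2 with h | h
    · exact sub_eq_zero.mp h
    · exact absurd h he0
  apply su_ext
  intro x
  rw [hc x, hc1, one_smul, act_one]

/-- the quotient map onto `PSU_n(q)`. -/
def mkP : SUn n F q →* Cfsg.PSU n F q := QuotientGroup.mk' _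

lemma mkP_surjective : Function.Surjective (mkP (n := n) (F := F) (q := q)) :=
  QuotientGroup.mk'_surjective _

lemma mkP_eq_one_iff {s : SUn n F q} : mkP s = 1 ↔ s ∈ Subgroup.center (SUn n F q) :=
  QuotientGroup.eq_one_iff s

lemma mkP_eq_iff {s t : SUn n F q} : mkP s = mkP t ↔ s⁻¹ * t ∈ Subgroup.center (SUn n F q) :=
  QuotientGroup.eq

/-- two `p`-elements with the same image in `PSU` are equal. -/
lemma eq_of_mkP_eq_of_pow (hn : 2 ≤ n) {s t : SUn n F q} (h : mkP s = mkP t) {k l : ℕ}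
    (hs : s ^ (C.p ^ k) = 1) (ht : t ^ (C.p ^ l) = 1) : s = t := by
  have hz := mkP_eq_iff.mp h
  have hcomm : Commute s⁻¹ t := by
    have h1 := Subgroup.mem_center_iff.mp hz s
    -- `s * (s⁻¹ * t) = (s⁻¹ * t) * s`
    have h2 : t = s⁻¹ * t * s := by
      rw [← h1, mul_inv_cancel_left]
    have h3 : s * t = t * s := by
      conv_lhs => rw [h2]
      group
    exact (Commute.inv_left (h3 : Commute s t))
  have h1 : (s⁻¹ * t) ^ (C.p ^ (k + l)) = 1 := by
    rw [hcomm.mul_pow, inv_pow, pow_add, pow_mul, hs, one_pow, inv_one, one_mul, mul_comm, pow_mul,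
      ht, one_pow]
  have h2 := center_pow_eq_one (C := C) hn hz h1
  rw [inv_mul_eq_one] at h2
  exact h2

section transfer

/-- the centre of the image of a `p`-subgroup in `PSU`. -/
lemma ZCs_map_mkP (hn : 2 ≤ n) {S : Subgroup (SUn n F q)} (hS : IsPGroup C.p S) :
    ZCs (S.map mkP) = mkP '' ZCs S := by
  ext x
  constructor
  · rintro ⟨⟨s, hs, rfl⟩, hx⟩
    refine ⟨s, ⟨hs, ?_⟩, rfl⟩
    intro y hy
    have h1 := hx (mkP y) (Subgroup.mem_map_of_mem _ hy)
    rw [← map_mul, ← map_mul] at h1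
    obtain ⟨k, hk⟩ := pow_eq_one_of_isPGroup hS (S.mul_mem hs hy)
    obtain ⟨l, hl⟩ := pow_eq_one_of_isPGroup hS (S.mul_mem hy hs)
    exact eq_of_mkP_eq_of_pow (C := C) hn h1 hk hl
  · rintro ⟨s, ⟨hs, hs2⟩, rfl⟩
    refine ⟨Subgroup.mem_map_of_mem _ hs, ?_⟩
    rintro _ ⟨y, hy, rfl⟩
    rw [← map_mul, ← map_mul, hs2 y hy]

end transfer

/-- the long root subgroup of `PSU_n(q)` with centre `v`, as a set. -/
def Xb (C : UC F q) (v : Fin n → F) : Set (Cfsg.PSU n F q) :=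
  {x | ∃ a : F, a + C.σ a = 0 ∧ x = mkP (tvG C v a)}

lemma Xb_eq_image {e : Fin n → F} (he : hu C.σ e e = 0) :
    Xb C e = mkP '' (Xs C he : Set (SUn n F q)) := by
  ext x
  constructor
  · rintro ⟨a, ha, rfl⟩
    exact ⟨tvG C e a, ⟨a, ha, rfl⟩, rfl⟩
  · rintro ⟨_, ⟨a, ha, rfl⟩, rfl⟩
    exact ⟨a, ha, rfl⟩

/-- conjugates of long root subgroups. -/
lemma conj_Xb (s : SUn n F q) {v : Fin n → F} (hv : hu C.σ v v = 0) :
    (fun x => mkP s * x * (mkP s)⁻¹) '' Xb C v = Xb C (act s v) := by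
  ext x
  constructor
  · rintro ⟨_, ⟨a, ha, rfl⟩, rfl⟩
    refine ⟨a, ha, ?_⟩
    show mkP s * mkP (tvG C v a) * (mkP s)⁻¹ = _
    rw [← map_inv, ← map_mul, ← map_mul, conj_tvG C s hv ha]
  · rintro ⟨a, ha, rfl⟩
    refine ⟨mkP (tvG C v a), ⟨a, ha, rfl⟩, ?_⟩
    show mkP s * mkP (tvG C v a) * (mkP s)⁻¹ = _
    rw [← map_inv, ← map_mul, ← map_mul, conj_tvG C s hv ha]

lemma Xb_smul {v : Fin n → F} (hv : hu C.σ v v = 0) {c : F} (hc : c ≠ 0) :
    Xb C (c • v) = Xb C v := by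
  have hσc : C.σ c ≠ 0 := (map_ne_zero_iff _ C.σ.injective).mpr hc
  ext x
  constructor
  · rintro ⟨a, ha, rfl⟩
    refine ⟨c * C.σ c * a, ?_, by rw [tvG_smul C hv ha]⟩
    simp only [map_mul, C.hσ]
    linear_combination (c * C.σ c) * ha
  · rintro ⟨a, ha, rfl⟩
    refine ⟨(c * C.σ c)⁻¹ * a, ?_, ?_⟩
    · simp only [map_mul, map_inv₀, C.hσ]
      have : (C.σ c * c)⁻¹ = (c * C.σ c)⁻¹ := by rw [mul_comm]
      rw [this]
      linear_combination (c * C.σ c)⁻¹ * ha
    · have ha' : (c * C.σ c)⁻¹ * a + C.σ ((c * C.σ c)⁻¹ * a) = 0 := by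
        simp only [map_mul, map_inv₀, C.hσ]
        have : (C.σ c * c)⁻¹ = (c * C.σ c)⁻¹ := by rw [mul_comm]
        rw [this]
        linear_combination (c * C.σ c)⁻¹ * ha
      rw [tvG_smul C hv ha', ← mul_assoc, mul_inv_cancel₀ (mul_ne_zero hc hσc), one_mul]

/-- automorphisms of `PSU_n(q)` permute the long root subgroups. -/
theorem aut_image_Xb (hn : 2 ≤ n) (α : MulAut (Cfsg.PSU n F q)) {v : Fin n → F} (hv0 : v ≠ 0)
    (hv : hu C.σ v v = 0) :
    ∃ v' : Fin n → F, v' ≠ 0 ∧ hu C.σ v' v' = 0 ∧ α '' Xb C v = Xb C v' := by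
  have : Fact C.p.Prime := ⟨C.hp⟩
  obtain ⟨f, -, hf, hvf⟩ := exists_hyp_partner C (nd_top C) (Submodule.mem_top (x := v)) hv0 hv
  have H : HP C v f := ⟨hv, hf, hvf⟩
  obtain ⟨S, hS, hZ, -, -, -⟩ := exists_sylow_center H
  obtain ⟨P, hP⟩ := hS.exists_sylow
  let Pb : Sylow C.p (Cfsg.PSU n F q) := P.mapSurjective mkP_surjective
  have hPb : (Pb : Subgroup (Cfsg.PSU n F q)) = S.map mkP := by
    rw [Sylow.coe_mapSurjective, hP]
  have hZb : ZCs (Pb : Subgroup (Cfsg.PSU n F q)) = Xb C v := by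
    rw [hPb, ZCs_map_mkP (C := C) hn hS.2.1, hZ, Xb_eq_image]
  obtain ⟨g, hg⟩ := MulAction.exists_smul_eq (Cfsg.PSU n F q) Pb (α • Pb)
  obtain ⟨s, rfl⟩ := mkP_surjective g
  have h1 : ((α • Pb : Sylow C.p (Cfsg.PSU n F q)) : Subgroup (Cfsg.PSU n F q)) =
      (Pb : Subgroup (Cfsg.PSU n F q)).map α.toMonoidHom := rfl
  have h2 : ((mkP s • Pb : Sylow C.p (Cfsg.PSU n F q)) : Subgroup (Cfsg.PSU n F q)) =
      (Pb : Subgroup (Cfsg.PSU n F q)).map (MulAut.conj (mkP s)).toMonoidHom := rfl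
  have h3 : (Pb : Subgroup (Cfsg.PSU n F q)).map α.toMonoidHom =
      (Pb : Subgroup (Cfsg.PSU n F q)).map (MulAut.conj (mkP s)).toMonoidHom := by
    rw [← h1, ← h2, hg]
  refine ⟨act s v, fun h => hv0 ((act_eq_zero_iff s v).mp h), by rw [hu_act, hv], ?_⟩
  rw [← hZb, ← ZCs_map, h3, ZCs_conj, hZb]
  exact conj_Xb s hv

end Cfsg.Agent.Lib.Helper07.UG
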