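import Mathlib
import Cfsg.Agent.Lib.Helper07.PSUj

set_option autoImplicit false
set_option linter.unusedSectionVars false
set_option linter.unusedVariables false

/-! Unitary groups: long root subgroups of `PSU_n(q)` and orthogonality; faithfulness of the
action of the automorphism group on the isotropic points; the image of the unipotent radical. -/

namespace Cfsg.Agent.Lib.Helper07.UG

open Matrix

variable {n : ℕ} {F : Type*} [Field F] [Fintype F] {q : ℕ} {C : UC F q}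

lemma tvG_pow_p {v : Fin n → F} {a : F} (hv : hu C.σ v v = 0) (ha : a + C.σ a = 0) :
    tvG C v a ^ (C.p ^ 1) = 1 := by
  have : CharP F C.p := C.charP
  rw [pow_one, tvG_pow hv ha, CharP.cast_eq_zero, zero_mul, tvG_zero C hv]

/-- equal long root subgroups have the same centre. -/
lemma Xb_eq_imp (hn : 2 ≤ n) {u v : Fin n → F} (hu0 : u ≠ 0) (hu1 : hu C.σ u u = 0)
    (hv1 : hu C.σ v v = 0) (h : Xb C u ⊆ Xb C v) : ∃ c : F, c ≠ 0 ∧ u = c • v := by
  obtain ⟨κ, hκ0, hκ⟩ := C.exists_kappa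
  have hκ' : κ + C.σ κ = 0 := by rw [hκ]; ring
  obtain ⟨b, hb, hab⟩ := h ⟨κ, hκ', rfl⟩
  have h1 := eq_of_mkP_eq_of_pow (C := C) hn hab (tvG_pow_p hu1 hκ') (tvG_pow_p hv1 hb)
  exact tvG_eq_tvG C hu1 hv1 hκ' hb hκ0 hu0 h1

/-- two long root subgroups commute iff their centres are orthogonal. -/
lemma Xb_comm_iff (hn : 2 ≤ n) {u v : Fin n → F} (hu0 : u ≠ 0) (hv0 : v ≠ 0)
    (hu1 : hu C.σ u u = 0) (hv1 : hu C.σ v v = 0) :
    (∀ x ∈ Xb C u, ∀ y ∈ Xb C v, x * y = y * x) ↔ hu C.σ u v = 0 := by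
  constructor
  · intro h
    by_contra huv
    obtain ⟨κ, hκ0, hκ⟩ := C.exists_kappa
    have hκ' : κ + C.σ κ = 0 := by rw [hκ]; ring
    have h1 := h _ ⟨κ, hκ', rfl⟩ _ ⟨κ, hκ', rfl⟩
    -- conjugating `tv v κ` by `tv u κ`
    have h2 : mkP (tvG C u κ * tvG C v κ * (tvG C u κ)⁻¹) = mkP (tvG C v κ) := by
      rw [map_mul, map_mul, h1, map_inv, mul_inv_cancel_right]
    rw [conj_tvG C _ hv1 hκ'] at h2
    have hv' : hu C.σ (act (tvG C u κ) v) (act (tvG C u κ) v) = 0 := by rw [hu_act, hv1]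
    have h3 := eq_of_mkP_eq_of_pow (C := C) hn h2 (tvG_pow_p hv' hκ') (tvG_pow_p hv1 hκ')
    have hne : act (tvG C u κ) v ≠ 0 := fun h0 => hv0 ((act_eq_zero_iff _ v).mp h0)
    obtain ⟨c, hc, hcv⟩ := tvG_eq_tvG C hv' hv1 hκ' hκ' hκ0 hne h3
    rw [act_tvG C hu1 hκ'] at hcv
    have h4 : (κ * hu C.σ v u) • u + (1 - c) • v = 0 := by
      rw [sub_smul, one_smul, ← hcv]
      abel
    obtain ⟨h5, -⟩ := indep_of_nonorth C hu1 hv1 huv h4
    exact (mul_ne_zero hκ0 (hu_ne_zero_symm C huv)) h5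
  · rintro huv _ ⟨a, ha, rfl⟩ _ ⟨b, hb, rfl⟩
    rw [← map_mul, ← map_mul, tvG_comm C hu1 hv1 ha hb huv]

/-- an automorphism fixing every long root subgroup is trivial. -/
theorem aut_eq_one_of_fix (hn : 2 ≤ n) (α : MulAut (Cfsg.PSU n F q))
    (h : ∀ v : Fin n → F, v ≠ 0 → hu C.σ v v = 0 → α '' Xb C v = Xb C v) : α = 1 := by
  ext g
  obtain ⟨s, rfl⟩ := mkP_surjective g
  obtain ⟨t, ht⟩ := mkP_surjective (α (mkP s))
  show α (mkP s) = mkP s
  rw [← ht, mkP_eq_iff]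
  obtain ⟨c, hc⟩ := scalar_of_fix_iso (C := C) hn (act (t⁻¹ * s)) (act_add _)
    (fun c x => act_smul _ c x) (by
    intro v hv
    by_cases hv0 : v = 0
    · exact ⟨1, by rw [hv0, act_zero, smul_zero]⟩
    have hsv : hu C.σ (act s v) (act s v) = 0 := by rw [hu_act, hv]
    have hsv0 : act s v ≠ 0 := fun h0 => hv0 ((act_eq_zero_iff _ v).mp h0)
    have htv : hu C.σ (act t v) (act t v) = 0 := by rw [hu_act, hv]
    -- `α` maps the conjugate of `X_v` by `s` to the conjugate by `t`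
    have h1 : α '' ((fun x => mkP s * x * (mkP s)⁻¹) '' Xb C v) =
        (fun x => mkP t * x * (mkP t)⁻¹) '' (α '' Xb C v) := by
      ext y
      constructor
      · rintro ⟨_, ⟨x, hx, rfl⟩, rfl⟩
        refine ⟨α x, ⟨x, hx, rfl⟩, ?_⟩
        show mkP t * α x * (mkP t)⁻¹ = α (mkP s * x * (mkP s)⁻¹)
        rw [map_mul, map_mul, map_inv, ht]
      · rintro ⟨_, ⟨x, hx, rfl⟩, rfl⟩
        refine ⟨mkP s * x * (mkP s)⁻¹, ⟨x, hx, rfl⟩, ?_⟩
        show α (mkP s * x * (mkP s)⁻¹) = mkP t * α x * (mkP t)⁻¹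
        rw [map_mul, map_mul, map_inv, ht]
    rw [conj_Xb s hv, h v hv0 hv, conj_Xb t hv, h _ hsv0 hsv] at h1
    obtain ⟨c, hc, hcv⟩ := Xb_eq_imp hn hsv0 hsv htv (le_of_eq h1)
    refine ⟨c, ?_⟩
    rw [act_mul, hcv, act_smul, act_inv_act])
  exact mem_center_of_scalar hc

/-- the image of the unipotent radical in `PSU_n(q)`, as a set. -/
def Qb (C : UC F q) (e : Fin n → F) : Set (Cfsg.PSU n F q) :=
  {x | ∃ (w : Fin n → F) (a : F), hu C.σ w e = 0 ∧ a + C.σ a + hu C.σ w w = 0 ∧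
    x = mkP (esG C e w a)}

lemma Qb_eq_image {e : Fin n → F} (he : hu C.σ e e = 0) :
    Qb C e = mkP '' (Qs C he : Set (SUn n F q)) := by
  ext x
  constructor
  · rintro ⟨w, a, hw, ha, rfl⟩
    exact ⟨esG C e w a, ⟨w, a, hw, ha, rfl⟩, rfl⟩
  · rintro ⟨_, ⟨w, a, hw, ha, rfl⟩, rfl⟩
    exact ⟨w, a, hw, ha, rfl⟩

/-- the intersection of the Sylow `p`-subgroups with a given centre. -/
def SylX (p : ℕ) {G : Type*} [Group G] (X : Set G) : Set G :=
  {x | ∀ P : Sylow p G, ZCs (P : Subgroup G) = X → x ∈ P}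

lemma SylX_image (p : ℕ) {G : Type*} [Group G] (X : Set G) (α : MulAut G) :
    α '' SylX p X = SylX p (α '' X) := by
  have key : ∀ (β : MulAut G) (Y : Set G), β '' SylX p Y ⊆ SylX p (β '' Y) := by
    rintro β Y _ ⟨x, hx, rfl⟩ P hP
    have h1 : ((β⁻¹ • P : Sylow p G) : Subgroup G) = (P : Subgroup G).map β⁻¹.toMonoidHom := rfl
    have h2 : ZCs ((β⁻¹ • P : Sylow p G) : Subgroup G) = Y := by
      rw [h1, ZCs_map, hP, ← Set.image_comp]
      have : (β⁻¹ : MulAut G) ∘ β = id := by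
        funext z
        exact β.symm_apply_apply z
      rw [this, Set.image_id]
    have h3 := hx _ h2
    obtain ⟨y, hy, hyx⟩ := h3
    have : β x = y := by
      rw [← hyx]
      exact β.apply_symm_apply y
    rw [this]
    exact hy
  apply Set.Subset.antisymm (key α X)
  intro x hx
  have h1 := key α⁻¹ (α '' X) ⟨x, hx, rfl⟩
  have h2 : (α⁻¹ : MulAut G) '' (α '' X) = X := by
    rw [← Set.image_comp]
    have : (α⁻¹ : MulAut G) ∘ α = id := by
      funext z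
      exact α.symm_apply_apply z
    rw [this, Set.image_id]
  rw [h2] at h1
  exact ⟨(α⁻¹ : MulAut G) x, h1, α.apply_symm_apply x⟩

end Cfsg.Agent.Lib.Helper07.UG
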