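import Mathlib
import Cfsg.Agent.Lib.Helper07.PSUk

set_option autoImplicit false
set_option linter.unusedSectionVars false
set_option linter.unusedVariables false

/-! Unitary groups: the unipotent radical `Q_e` in `PSU_n(q)` is the intersection of the Sylow
`p`-subgroups with centre `X_e`; hence automorphisms permute the `Q_e`. -/

namespace Cfsg.Agent.Lib.Helper07.UG

open Matrix

variable {n : ℕ} {F : Type*} [Field F] [Fintype F] {q : ℕ} {C : UC F q}

lemma isMaxP_map_conj {G : Type*} [Group G] {p : ℕ} {S : Subgroup G} (hS : IsMaxP p ⊤ S) (g : G) :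
    IsMaxP p ⊤ (S.map (MulAut.conj g).toMonoidHom) := by
  refine ⟨le_top, hS.2.1.map _, ?_⟩
  intro T _ hT hST
  have h1 : S ≤ T.map (MulAut.conj g⁻¹).toMonoidHom := by
    intro s hs
    refine ⟨g * s * g⁻¹, hST (Subgroup.mem_map_of_mem _ hs), ?_⟩
    show g⁻¹ * (g * s * g⁻¹) * g⁻¹⁻¹ = s
    group
  have h2 := hS.2.2 _ le_top (hT.map _) h1
  apply le_antisymm _ hST
  intro t ht
  have h3 : g⁻¹ * t * g ∈ S := by
    rw [← h2]
    refine ⟨t, ht, ?_⟩
    show g⁻¹ * t * g⁻¹⁻¹ = g⁻¹ * t * g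
    rw [inv_inv]
  refine ⟨g⁻¹ * t * g, h3, ?_⟩
  show g * (g⁻¹ * t * g) * g⁻¹ = t
  group

theorem SylX_Xb (hn : 2 ≤ n) {e f : Fin n → F} (H : HP C e f) :
    SylX C.p (Xb C e) = Qb C e := by
  have : Fact C.p.Prime := ⟨C.hp⟩
  apply Set.Subset.antisymm
  · -- `⊆`
    intro x hx
    obtain ⟨S, hS, hZ, hQS, hSN, hSN'⟩ := exists_sylow_center H
    -- the conjugates of `S` under the point stabiliser
    have hconj : ∀ g ∈ Ns (q := q) e, x ∈ (S.map (MulAut.conj g).toMonoidHom).map mkP := by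
      intro g hg
      have hSg := isMaxP_map_conj hS g
      obtain ⟨P, hP⟩ := hSg.exists_sylow
      let Pb : Sylow C.p (Cfsg.PSU n F q) := P.mapSurjective mkP_surjective
      have hPb : (Pb : Subgroup (Cfsg.PSU n F q)) = (S.map (MulAut.conj g).toMonoidHom).map mkP := by
        rw [Sylow.coe_mapSurjective, hP]
      have hZg : ZCs (S.map (MulAut.conj g).toMonoidHom) = (Xs C H.he : Set (SUn n F q)) := by
        rw [ZCs_conj, hZ]
        ext y
        constructor
        · rintro ⟨z, hz, rfl⟩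
          exact conj_mem_Xs H.he hg hz
        · intro hy
          refine ⟨g⁻¹ * y * g, ?_, ?_⟩
          · have := conj_mem_Xs H.he ((Ns e).inv_mem hg) hy
            rwa [inv_inv] at this
          · show g * (g⁻¹ * y * g) * g⁻¹ = y
            group
      have hZb : ZCs (Pb : Subgroup (Cfsg.PSU n F q)) = Xb C e := by
        rw [hPb, ZCs_map_mkP (C := C) hn hSg.2.1, hZg, Xb_eq_image]
      have := hx Pb hZb
      rw [← hPb]
      exact this
    -- a lift of `x` in `S`
    obtain ⟨s, hsS, hsx⟩ : ∃ s ∈ S, mkP s = x := by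
      obtain ⟨_, ⟨s, hs, rfl⟩, hsx⟩ := hconj 1 (Ns e).one_mem
      refine ⟨s, hs, ?_⟩
      rw [← hsx]
      congr 1
      show s = 1 * s * 1⁻¹
      group
    obtain ⟨k, hk⟩ := pow_eq_one_of_isPGroup hS.2.1 hsS
    -- `s` lies in every conjugate
    let R : Subgroup (SUn n F q) :=
      { carrier := {r | ∀ g ∈ Ns (q := q) e, g⁻¹ * r * g ∈ S}
        mul_mem' := by
          intro a b ha hb g hg
          have : g⁻¹ * (a * b) * g = (g⁻¹ * a * g) * (g⁻¹ * b * g) := by group
          rw [this]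
          exact S.mul_mem (ha g hg) (hb g hg)
        one_mem' := by
          intro g hg
          have : g⁻¹ * 1 * g = 1 := by group
          rw [this]
          exact S.one_mem
        inv_mem' := by
          intro a ha g hg
          have : g⁻¹ * a⁻¹ * g = (g⁻¹ * a * g)⁻¹ := by group
          rw [this]
          exact S.inv_mem (ha g hg) }
    have hRS : R ≤ S := by
      intro r hr
      have := hr 1 (Ns e).one_mem
      have h1 : (1 : SUn n F q)⁻¹ * r * 1 = r := by group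
      rwa [h1] at this
    have hsR : s ∈ R := by
      intro g hg
      obtain ⟨_, ⟨s', hs', rfl⟩, hs'x⟩ := hconj g hg
      have hs'' : (MulAut.conj g).toMonoidHom s' = g * s' * g⁻¹ := rfl
      rw [hs''] at hs'x
      obtain ⟨l, hl⟩ := pow_eq_one_of_isPGroup hS.2.1 hs'
      have hl' : (g * s' * g⁻¹) ^ (C.p ^ l) = 1 := by
        rw [conj_pow, hl]
        group
      have h1 := eq_of_mkP_eq_of_pow (C := C) hn (hs'x.trans hsx.symm) hl' hk
      rw [← h1]
      have : g⁻¹ * (g * s' * g⁻¹) * g = s' := by group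
      rw [this]
      exact hs'
    have hRQ : R ≤ Qs C H.he := by
      apply pcore_le_Qs H (hRS.trans hSN) (hS.2.1.to_le hRS)
      intro h hh r hr g hg
      have : g⁻¹ * (h * r * h⁻¹) * g = (h⁻¹ * g)⁻¹ * r * (h⁻¹ * g) := by group
      rw [this]
      exact hr _ ((Ns e).mul_mem ((Ns e).inv_mem hh) hg)
    rw [Qb_eq_image H.he, ← hsx]
    exact ⟨s, hRQ hsR, rfl⟩
  · -- `⊇`
    rintro _ ⟨w, a, hw, ha, rfl⟩ P hP
    obtain ⟨P₀, rfl⟩ := Sylow.mapSurjective_surjective (mkP_surjective (n := n) (F := F) (q := q))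
      C.p P
    set T : Subgroup (SUn n F q) := (P₀ : Subgroup (SUn n F q)) with hT
    have hTp : IsPGroup C.p T := P₀.isPGroup'
    have hcoe : ((P₀.mapSurjective mkP_surjective : Sylow C.p (Cfsg.PSU n F q)) :
        Subgroup (Cfsg.PSU n F q)) = T.map mkP := Sylow.coe_mapSurjective _ _
    rw [hcoe, ZCs_map_mkP (C := C) hn hTp, Xb_eq_image H.he] at hP
    have hZT : ZCs T = (Xs C H.he : Set (SUn n F q)) := by
      ext z
      constructor
      · intro hz
        obtain ⟨y, hy, hyz⟩ := (Set.ext_iff.mp hP (mkP z)).mp ⟨z, hz, rfl⟩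
        obtain ⟨b, hb, rfl⟩ := hy
        obtain ⟨k, hk⟩ := pow_eq_one_of_isPGroup hTp hz.1
        have := eq_of_mkP_eq_of_pow (C := C) hn hyz (tvG_pow_p H.he hb) hk
        rw [← this]
        exact ⟨b, hb, rfl⟩
      · rintro ⟨b, hb, rfl⟩
        obtain ⟨y, hy, hyz⟩ := (Set.ext_iff.mp hP (mkP (tvG C e b))).mpr ⟨_, ⟨b, hb, rfl⟩, rfl⟩
        obtain ⟨k, hk⟩ := pow_eq_one_of_isPGroup hTp hy.1
        have := eq_of_mkP_eq_of_pow (C := C) hn hyz hk (tvG_pow_p H.he hb)
        rw [← this]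
        exact hy
    have hTN : T ≤ Ns e := by
      intro t ht
      apply mem_Ns_of_conj H.he H.e_ne
      intro y hy
      have hy' : y ∈ ZCs T := by rw [hZT]; exact hy
      have : t * y * t⁻¹ = y := by
        rw [← hy'.2 t ht, mul_inv_cancel_right]
      rw [this]
      exact hy
    have hTmax : IsMaxP C.p (Ns e) T :=
      ⟨hTN, hTp, fun T' _ hT' hTT' => P₀.is_maximal' hT' hTT'⟩
    have hQT : Qs C H.he ≤ T :=
      hTmax.le_of_normal (Qs_le_Ns H.he) (isPGroup_Qs H.he)
        (fun g hg k hk => conj_mem_Qs H.he hg hk)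
    show mkP (esG C e w a) ∈ ((P₀.mapSurjective mkP_surjective : Sylow C.p (Cfsg.PSU n F q)) :
        Subgroup (Cfsg.PSU n F q))
    rw [hcoe]
    exact Subgroup.mem_map_of_mem _ (hQT ⟨w, a, hw, ha, rfl⟩)

/-- automorphisms permute the unipotent radicals compatibly with the long root subgroups. -/
theorem aut_image_Qb (hn : 2 ≤ n) (α : MulAut (Cfsg.PSU n F q)) {e e' : Fin n → F}
    (he0 : e ≠ 0) (he : hu C.σ e e = 0) (he'0 : e' ≠ 0) (he' : hu C.σ e' e' = 0)
    (h : α '' Xb C e = Xb C e') : α '' Qb C e = Qb C e' := by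
  obtain ⟨f, -, hf, hef⟩ := exists_hyp_partner C (nd_top C) (Submodule.mem_top (x := e)) he0 he
  obtain ⟨f', -, hf', hef'⟩ :=
    exists_hyp_partner C (nd_top C) (Submodule.mem_top (x := e')) he'0 he'
  rw [← SylX_Xb hn ⟨he, hf, hef⟩, ← SylX_Xb hn ⟨he', hf', hef'⟩, SylX_image, h]

end Cfsg.Agent.Lib.Helper07.UG
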