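import Mathlib
import Cfsg.Agent.Lib.Helper07.PSUl
import Cfsg.Prelude.Def_LieTypeDatum

set_option autoImplicit false
set_option linter.unusedSectionVars false
set_option linter.unusedVariables false

/-! Unitary groups: the automorphisms of `PSU_n(q)` induced by the general unitary group and by
field automorphisms. -/

namespace Cfsg.Agent.Lib.Helper07.UG

open Matrix

section quot
variable {H : Type*} [Group H]

/-- automorphisms descend to the quotient by a characteristic subgroup. -/
def autQ (N : Subgroup H) [hN : N.Characteristic] : MulAut H →* MulAut (H ⧸ N) where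
  toFun e := QuotientGroup.congr N N e (Subgroup.characteristic_iff_map_eq.mp hN e)
  map_one' := by
    ext z
    induction z using QuotientGroup.induction_on with
    | H z => rfl
  map_mul' e₁ e₂ := by
    ext z
    induction z using QuotientGroup.induction_on with
    | H z => rfl

lemma autQ_mk (N : Subgroup H) [N.Characteristic] (e : MulAut H) (z : H) :
    autQ N e (QuotientGroup.mk z) = QuotientGroup.mk (e z) := rfl

end quot

variable {n : ℕ} {F : Type*} [Field F] [Fintype F] {q : ℕ} (C : UC F q)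

lemma mem_GU_iff_isU (g : GL (Fin n) F) : g ∈ Cfsg.GU n F q ↔ IsU C.σ g.val := by
  have h0 : g ∈ Cfsg.GU n F q ↔ ∀ u v : Fin n → F,
      Cfsg.hermForm n F q (g.val *ᵥ u) (g.val *ᵥ v) = Cfsg.hermForm n F q u v := Iff.rfl
  rw [h0]
  constructor
  · intro h u v
    rw [← hermForm_eq_hu C.σ C.hσq, ← hermForm_eq_hu C.σ C.hσq]
    exact h u v
  · intro h u v
    rw [hermForm_eq_hu C.σ C.hσq, hermForm_eq_hu C.σ C.hσq]
    exact h u v

/-- conjugation by a unitary matrix. -/
def conjSU (g : ↥(Cfsg.GU n F q)) : MulAut (SUn n F q) where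
  toFun s := mkSU C (g.1.val * s.1.val * g.1⁻¹.val)
    (IsU.mul C.σ (IsU.mul C.σ ((mem_GU_iff_isU C g.1).mp g.2) (isU_val C s))
      ((mem_GU_iff_isU C g.1⁻¹).mp ((Cfsg.GU n F q).inv_mem g.2)))
    (by rw [det_mul, det_mul, s.1.2, mul_one, ← det_mul, Units.mul_inv, det_one])
  invFun s := mkSU C (g.1⁻¹.val * s.1.val * g.1.val)
    (IsU.mul C.σ (IsU.mul C.σ ((mem_GU_iff_isU C g.1⁻¹).mp ((Cfsg.GU n F q).inv_mem g.2))
      (isU_val C s)) ((mem_GU_iff_isU C g.1).mp g.2))
    (by rw [det_mul, det_mul, s.1.2, mul_one, ← det_mul, Units.inv_mul, det_one])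
  left_inv s := by
    apply Subtype.ext
    apply Subtype.ext
    show g.1⁻¹.val * (g.1.val * s.1.val * g.1⁻¹.val) * g.1.val = s.1.val
    rw [← mul_assoc, ← mul_assoc, Units.inv_mul, one_mul, mul_assoc, Units.inv_mul, mul_one]
  right_inv s := by
    apply Subtype.ext
    apply Subtype.ext
    show g.1.val * (g.1⁻¹.val * s.1.val * g.1.val) * g.1⁻¹.val = s.1.val
    rw [← mul_assoc, ← mul_assoc, Units.mul_inv, one_mul, mul_assoc, Units.mul_inv, mul_one]
  map_mul' s t := by
    apply Subtype.ext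
    apply Subtype.ext
    show g.1.val * (s.1.val * t.1.val) * g.1⁻¹.val =
      (g.1.val * s.1.val * g.1⁻¹.val) * (g.1.val * t.1.val * g.1⁻¹.val)
    have : g.1⁻¹.val * g.1.val = 1 := Units.inv_mul g.1
    calc g.1.val * (s.1.val * t.1.val) * g.1⁻¹.val
        = g.1.val * s.1.val * (1 : Matrix (Fin n) (Fin n) F) * t.1.val * g.1⁻¹.val := by
          rw [mul_one]; simp only [mul_assoc]
      _ = _ := by rw [← this]; simp only [mul_assoc]

lemma conjSU_val (g : ↥(Cfsg.GU n F q)) (s : SUn n F q) :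
    ((conjSU C g s : SUn n F q).1 : Matrix (Fin n) (Fin n) F) =
      g.1.val * s.1.val * g.1⁻¹.val := rfl

lemma act_conjSU (g : ↥(Cfsg.GU n F q)) (s : SUn n F q) (x : Fin n → F) :
    act (conjSU C g s) x = g.1.val *ᵥ act s (g.1⁻¹.val *ᵥ x) := by
  show (g.1.val * s.1.val * g.1⁻¹.val) *ᵥ x = _
  rw [← mulVec_mulVec, ← mulVec_mulVec]
  rfl

/-- `g ↦ conjSU g` as a homomorphism. -/
def conjSUHom : ↥(Cfsg.GU n F q) →* MulAut (SUn n F q) where
  toFun := conjSU C
  map_one' := MulEquiv.ext fun s => by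
    apply Subtype.ext
    apply Subtype.ext
    show ((1 : ↥(Cfsg.GU n F q)).1.val * s.1.val * (1 : ↥(Cfsg.GU n F q)).1⁻¹.val) = s.1.val
    rw [Subgroup.coe_one, inv_one, Units.val_one, one_mul, mul_one]
  map_mul' g h := MulEquiv.ext fun s => by
    apply Subtype.ext
    apply Subtype.ext
    show (g * h).1.val * s.1.val * (g * h).1⁻¹.val =
      g.1.val * (h.1.val * s.1.val * h.1⁻¹.val) * g.1⁻¹.val
    rw [Subgroup.coe_mul, _root_.mul_inv_rev, Units.val_mul, Units.val_mul]
    simp only [mul_assoc]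

/-- conjugation by the general unitary group on `PSU_n(q)`. -/
def conjU : ↥(Cfsg.GU n F q) →* MulAut (Cfsg.PSU n F q) :=
  (autQ (Subgroup.center (SUn n F q))).comp (conjSUHom C)

lemma conjU_mkP (g : ↥(Cfsg.GU n F q)) (s : SUn n F q) :
    conjU C g (mkP s) = mkP (conjSU C g s) := rfl

lemma map_mulVec_ringAut (τ : RingAut F) (A : Matrix (Fin n) (Fin n) F) (x : Fin n → F) :
    A.map τ *ᵥ x = fun i => τ ((A *ᵥ (fun j => τ.symm (x j))) i) := by
  funext i
  have := RingHom.map_mulVec (τ : F →+* F) A (fun j => τ.symm (x j)) i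
  simp only [RingHom.coe_coe, Function.comp_def, RingEquiv.apply_symm_apply] at this
  exact this.symm

lemma isU_map (τ : RingAut F) {A : Matrix (Fin n) (Fin n) F} (hA : IsU C.σ A) :
    IsU C.σ (A.map τ) := by
  intro x y
  rw [map_mulVec_ringAut, map_mulVec_ringAut, hu_map C.σ τ (C.comm_σ τ), hA,
    ← hu_map C.σ τ (C.comm_σ τ)]
  simp only [RingEquiv.apply_symm_apply]

/-- a field automorphism acting entrywise on `SU_n(q)`. -/
def fieldSU (τ : RingAut F) : MulAut (SUn n F q) where
  toFun s := mkSU C (s.1.val.map τ) (isU_map C τ (isU_val C s))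
    (by
      have := (RingHom.map_det (τ : F →+* F) s.1.val).symm
      rw [s.1.2, map_one] at this
      exact this)
  invFun s := mkSU C (s.1.val.map τ.symm) (isU_map C τ.symm (isU_val C s))
    (by
      have := (RingHom.map_det (τ.symm : F →+* F) s.1.val).symm
      rw [s.1.2, map_one] at this
      exact this)
  left_inv s := by
    apply Subtype.ext
    apply Subtype.ext
    ext i j
    show τ.symm (τ (s.1.val i j)) = s.1.val i j
    exact τ.symm_apply_apply _
  right_inv s := by
    apply Subtype.ext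
    apply Subtype.ext
    ext i j
    show τ (τ.symm (s.1.val i j)) = s.1.val i j
    exact τ.apply_symm_apply _
  map_mul' s t := by
    apply Subtype.ext
    apply Subtype.ext
    show (s.1.val * t.1.val).map τ = s.1.val.map τ * t.1.val.map τ
    exact Matrix.map_mul (f := (τ : F →+* F))

lemma fieldSU_val (τ : RingAut F) (s : SUn n F q) :
    ((fieldSU C τ s : SUn n F q).1 : Matrix (Fin n) (Fin n) F) = s.1.val.map τ := rfl

lemma act_fieldSU (τ : RingAut F) (s : SUn n F q) (x : Fin n → F) :
    act (fieldSU C τ s) x = fun i => τ (act s (fun j => τ.symm (x j)) i) := by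
  show s.1.val.map τ *ᵥ x = _
  rw [map_mulVec_ringAut]
  rfl

/-- `τ ↦ fieldSU τ` as a homomorphism. -/
def fieldSUHom : RingAut F →* MulAut (SUn n F q) where
  toFun := fieldSU C
  map_one' := MulEquiv.ext fun s => by
    apply Subtype.ext
    apply Subtype.ext
    ext i j
    rfl
  map_mul' τ₁ τ₂ := MulEquiv.ext fun s => by
    apply Subtype.ext
    apply Subtype.ext
    ext i j
    rfl

/-- a field automorphism acting on `PSU_n(q)`. -/
def fieldU : RingAut F →* MulAut (Cfsg.PSU n F q) :=
  (autQ (Subgroup.center (SUn n F q))).comp (fieldSUHom C)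

lemma fieldU_mkP (τ : RingAut F) (s : SUn n F q) :
    fieldU C τ (mkP s) = mkP (fieldSU C τ s) := rfl

/-! ### the prelude predicates -/

lemma isInnerDiagonal_conjU (g : ↥(Cfsg.GU n F q)) : Cfsg.IsInnerDiagonalAutPSU (conjU C g) := by
  refine ⟨g.1, g.2, ?_⟩
  intro s s' h
  show conjU C g (mkP s) = mkP s'
  rw [conjU_mkP]
  congr 1
  apply Subtype.ext
  apply Subtype.ext
  rw [conjSU_val]
  exact h.symm

lemma isFieldAutOf_fieldU (τ : RingAut F) :
    Cfsg.IsFieldAutPSUOf (n := n) (q := q) τ (fieldU C τ) := by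
  intro s s' h
  show fieldU C τ (mkP s) = mkP s'
  rw [fieldU_mkP]
  congr 1
  apply Subtype.ext
  apply Subtype.ext
  rw [fieldSU_val]
  exact h.symm

lemma isInduced_conjU_fieldU (g : ↥(Cfsg.GU n F q)) (τ : RingAut F) :
    Cfsg.IsInducedBySemilinearPSU g.1 τ (conjU C g * fieldU C τ) := by
  intro s s' h
  show conjU C g (fieldU C τ (mkP s)) = mkP s'
  rw [fieldU_mkP, conjU_mkP]
  congr 1
  apply Subtype.ext
  apply Subtype.ext
  rw [conjSU_val, fieldSU_val]
  exact h.symm

end Cfsg.Agent.Lib.Helper07.UG
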