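import Mathlib
import Cfsg.Agent.Lib.Helper07.PSUm

set_option autoImplicit false
set_option linter.unusedSectionVars false
set_option linter.unusedVariables false

/-! Unitary groups: automorphisms of `PSU_n(q)` normalised to fix a hyperbolic pair of points,
and the map they induce on `Q_e / X_e ≅ W`. -/

namespace Cfsg.Agent.Lib.Helper07.UG

open Matrix

variable {n : ℕ} {F : Type*} [Field F] [Fintype F] {q : ℕ} {C : UC F q}

local notation "Gb" => Cfsg.PSU n F q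

/-- `x ∈ Q̄_e` has `W`-component `w`. -/
def InQ (C : UC F q) (e f : Fin n → F) (x : Gb) (w : Fin n → F) : Prop :=
  w ∈ Wsp C e f ∧ ∃ a : F, a + C.σ a + hu C.σ w w = 0 ∧ x = mkP (esG C e w a)

lemma esG_pow_p2 {e w : Fin n → F} {a : F} (he : hu C.σ e e = 0) (hw : hu C.σ w e = 0)
    (ha : a + C.σ a + hu C.σ w w = 0) : esG C e w a ^ (C.p ^ 2) = 1 :=
  Qs_pow he ⟨w, a, hw, ha, rfl⟩

section hp
variable {e f : Fin n → F} (H : HP C e f)
include H

lemma mem_Qb_iff (x : Gb) : x ∈ Qb C e ↔ ∃ w, InQ C e f x w := by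
  constructor
  · intro hx
    rw [Qb_eq_image H.he] at hx
    obtain ⟨s, hs, rfl⟩ := hx
    obtain ⟨w, a, hw, ha, rfl⟩ := exists_normal_form H hs
    exact ⟨w, hw, a, ha, rfl⟩
  · rintro ⟨w, hw, a, ha, rfl⟩
    exact ⟨w, a, hw.1, ha, rfl⟩

lemma InQ.unique (hn : 2 ≤ n) {x : Gb} {w w' : Fin n → F} (h : InQ C e f x w)
    (h' : InQ C e f x w') : w = w' := by
  obtain ⟨hw, a, ha, rfl⟩ := h
  obtain ⟨hw', a', ha', hx⟩ := h'
  have h1 := eq_of_mkP_eq_of_pow (C := C) hn hx (esG_pow_p2 H.he hw.1 ha)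
    (esG_pow_p2 H.he hw'.1 ha')
  exact (esG_inj H hw hw' ha ha' h1).1

lemma InQ.mul {x y : Gb} {w w' : Fin n → F} (h : InQ C e f x w) (h' : InQ C e f y w') :
    InQ C e f (x * y) (w + w') := by
  obtain ⟨hw, a, ha, rfl⟩ := h
  obtain ⟨hw', a', ha', rfl⟩ := h'
  refine ⟨(Wsp C e f).add_mem hw hw', a + a' - hu C.σ w' w, ?_, ?_⟩
  · have hww' : C.σ (hu C.σ w' w) = hu C.σ w w' := hu_conj C.σ C.hσ w' w
    simp only [map_add, map_sub, hww', hu_add_left, hu_add_right]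
    linear_combination ha + ha'
  · rw [← map_mul, esG_mul C H.he hw.1 hw'.1 ha ha']

lemma InQ.inv {x : Gb} {w : Fin n → F} (h : InQ C e f x w) : InQ C e f x⁻¹ (-w) := by
  obtain ⟨hw, a, ha, rfl⟩ := h
  refine ⟨(Wsp C e f).neg_mem hw, C.σ a, ?_, ?_⟩
  · rw [C.hσ, hu_neg_left, hu_neg_right, neg_neg]
    linear_combination ha
  · rw [← map_inv, esG_inv C H.he hw.1 ha]

omit H in
lemma InQ_zero_iff (x : Gb) : InQ C e f x 0 ↔ x ∈ Xb C e := by
  constructor
  · rintro ⟨-, a, ha, rfl⟩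
    rw [hu_zero_left, add_zero] at ha
    exact ⟨a, ha, rfl⟩
  · rintro ⟨a, ha, rfl⟩
    exact ⟨(Wsp C e f).zero_mem, a, by rw [hu_zero_left, add_zero]; exact ha, rfl⟩

omit H in
lemma exists_InQ {w : Fin n → F} (hw : w ∈ Wsp C e f) : ∃ x : Gb, InQ C e f x w := by
  obtain ⟨a, ha⟩ := C.exists_tr_eq (- hu C.σ w w) (by rw [map_neg, hu_self_fixed])
  exact ⟨mkP (esG C e w a), hw, a, by linear_combination ha, rfl⟩

omit H in
/-- an automorphism fixing the two points `⟨e⟩`, `⟨f⟩`. -/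
def StdA (C : UC F q) (e f : Fin n → F) (α : MulAut Gb) : Prop :=
  α '' Xb C e = Xb C e ∧ α '' Xb C f = Xb C f

omit H in
lemma StdA.one : StdA C e f (1 : MulAut Gb) := by
  constructor <;> exact Set.image_id _

omit H in
lemma StdA.mul {α β : MulAut Gb} (hα : StdA C e f α) (hβ : StdA C e f β) :
    StdA C e f (α * β) := by
  constructor
  · show (fun x => α (β x)) '' Xb C e = Xb C e
    rw [← Function.comp_def, Set.image_comp, hβ.1, hα.1]
  · show (fun x => α (β x)) '' Xb C f = Xb C f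
    rw [← Function.comp_def, Set.image_comp, hβ.2, hα.2]

omit H in
lemma image_inv_eq {G : Type*} [Group G] {α : MulAut G} {X : Set G} (h : α '' X = X) :
    (α⁻¹ : MulAut G) '' X = X := by
  conv_lhs => rw [← h]
  rw [← Set.image_comp]
  have : (α⁻¹ : MulAut G) ∘ α = id := by
    funext z
    exact α.symm_apply_apply z
  rw [this, Set.image_id]

omit H in
lemma StdA.inv {α : MulAut Gb} (hα : StdA C e f α) : StdA C e f α⁻¹ :=
  ⟨image_inv_eq hα.1, image_inv_eq hα.2⟩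

lemma StdA.Qb (hn : 2 ≤ n) {α : MulAut Gb} (hα : StdA C e f α) : α '' Qb C e = Qb C e :=
  aut_image_Qb hn α H.e_ne H.he H.e_ne H.he hα.1

/-- the image of an element with `W`-component `w`. -/
lemma StdA.exists_InQ (hn : 2 ≤ n) {α : MulAut Gb} (hα : StdA C e f α) {x : Gb}
    {w : Fin n → F} (h : InQ C e f x w) : ∃ w', InQ C e f (α x) w' := by
  rw [← mem_Qb_iff H, ← hα.Qb H hn]
  exact ⟨x, (mem_Qb_iff H x).mpr ⟨w, h⟩, rfl⟩

/-- the relation defining the induced map on `W`. -/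
def phiRel (C : UC F q) (e f : Fin n → F) (α : MulAut Gb) (w w' : Fin n → F) : Prop :=
  ∀ x, InQ C e f x w → InQ C e f (α x) w'

lemma StdA.exists_phiRel (hn : 2 ≤ n) {α : MulAut Gb} (hα : StdA C e f α) {w : Fin n → F}
    (hw : w ∈ Wsp C e f) : ∃ w', phiRel C e f α w w' := by
  obtain ⟨x₀, hx₀⟩ := UG.exists_InQ (C := C) hw
  obtain ⟨w', hw'⟩ := hα.exists_InQ H hn hx₀
  refine ⟨w', ?_⟩
  intro x hx
  -- `x = x₀ * t` with `t ∈ X_e`
  have h1 : InQ C e f (x₀⁻¹ * x) (-w + w) := InQ.mul H (hx₀.inv H) hx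
  rw [neg_add_cancel, InQ_zero_iff] at h1
  have h2 : α (x₀⁻¹ * x) ∈ Xb C e := by
    rw [← hα.1]
    exact ⟨_, h1, rfl⟩
  rw [← InQ_zero_iff (f := f)] at h2
  have h3 := InQ.mul H hw' h2
  rw [add_zero, ← map_mul, mul_inv_cancel_left] at h3
  exact h3

open Classical in
/-- the map induced on `W` by a standard automorphism. -/
noncomputable def phi (C : UC F q) (e f : Fin n → F) (α : MulAut Gb) (w : Fin n → F) :
    Fin n → F :=
  if h : ∃ w', phiRel C e f α w w' then h.choose else 0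

lemma StdA.phi_spec (hn : 2 ≤ n) {α : MulAut Gb} (hα : StdA C e f α) {w : Fin n → F}
    (hw : w ∈ Wsp C e f) : phiRel C e f α w (phi C e f α w) := by
  unfold phi
  rw [dif_pos (hα.exists_phiRel H hn hw)]
  exact (hα.exists_phiRel H hn hw).choose_spec

lemma StdA.phi_eq (hn : 2 ≤ n) {α : MulAut Gb} (hα : StdA C e f α) {x : Gb} {w w' : Fin n → F}
    (hx : InQ C e f x w) (hx' : InQ C e f (α x) w') : phi C e f α w = w' :=
  InQ.unique H hn (hα.phi_spec H hn hx.1 x hx) hx'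

lemma StdA.phi_mem (hn : 2 ≤ n) {α : MulAut Gb} (hα : StdA C e f α) {w : Fin n → F}
    (hw : w ∈ Wsp C e f) : phi C e f α w ∈ Wsp C e f := by
  obtain ⟨x, hx⟩ := UG.exists_InQ (C := C) hw
  exact (hα.phi_spec H hn hw x hx).1

lemma StdA.phi_add (hn : 2 ≤ n) {α : MulAut Gb} (hα : StdA C e f α) {w w' : Fin n → F}
    (hw : w ∈ Wsp C e f) (hw' : w' ∈ Wsp C e f) :
    phi C e f α (w + w') = phi C e f α w + phi C e f α w' := by
  obtain ⟨x, hx⟩ := UG.exists_InQ (C := C) hw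
  obtain ⟨y, hy⟩ := UG.exists_InQ (C := C) hw'
  have h1 := InQ.mul H (hα.phi_spec H hn hw x hx) (hα.phi_spec H hn hw' y hy)
  rw [← map_mul] at h1
  exact hα.phi_eq H hn (InQ.mul H hx hy) h1

lemma StdA.phi_zero (hn : 2 ≤ n) {α : MulAut Gb} (hα : StdA C e f α) :
    phi C e f α 0 = 0 := by
  have h := hα.phi_add H hn (Wsp C e f).zero_mem (Wsp C e f).zero_mem
  rw [add_zero] at h
  have h2 : phi C e f α 0 + 0 = phi C e f α 0 + phi C e f α 0 := by rw [add_zero]; exact h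
  exact (add_left_cancel h2).symm

lemma StdA.phi_neg (hn : 2 ≤ n) {α : MulAut Gb} (hα : StdA C e f α) {w : Fin n → F}
    (hw : w ∈ Wsp C e f) : phi C e f α (-w) = - phi C e f α w := by
  have h := hα.phi_add H hn hw ((Wsp C e f).neg_mem hw)
  rw [add_neg_cancel, hα.phi_zero H hn] at h
  exact (neg_eq_of_add_eq_zero_right h.symm).symm

lemma StdA.phi_sub (hn : 2 ≤ n) {α : MulAut Gb} (hα : StdA C e f α) {w w' : Fin n → F}
    (hw : w ∈ Wsp C e f) (hw' : w' ∈ Wsp C e f) :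
    phi C e f α (w - w') = phi C e f α w - phi C e f α w' := by
  rw [sub_eq_add_neg, hα.phi_add H hn hw ((Wsp C e f).neg_mem hw'), hα.phi_neg H hn hw',
    ← sub_eq_add_neg]

lemma StdA.phi_mul (hn : 2 ≤ n) {α β : MulAut Gb} (hα : StdA C e f α) (hβ : StdA C e f β)
    {w : Fin n → F} (hw : w ∈ Wsp C e f) :
    phi C e f (α * β) w = phi C e f α (phi C e f β w) := by
  obtain ⟨x, hx⟩ := UG.exists_InQ (C := C) hw
  have h1 := hβ.phi_spec H hn hw x hx
  have h2 := hα.phi_spec H hn h1.1 (β x) h1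
  exact (hα.mul hβ).phi_eq H hn hx h2

lemma phi_one (hn : 2 ≤ n) {w : Fin n → F} (hw : w ∈ Wsp C e f) :
    phi C e f (1 : MulAut Gb) w = w := by
  obtain ⟨x, hx⟩ := UG.exists_InQ (C := C) hw
  exact StdA.one.phi_eq H hn hx hx

lemma StdA.phi_inv_phi (hn : 2 ≤ n) {α : MulAut Gb} (hα : StdA C e f α) {w : Fin n → F}
    (hw : w ∈ Wsp C e f) : phi C e f α⁻¹ (phi C e f α w) = w := by
  rw [← hα.inv.phi_mul H hn hα hw, inv_mul_cancel, phi_one H hn hw]

lemma StdA.phi_phi_inv (hn : 2 ≤ n) {α : MulAut Gb} (hα : StdA C e f α) {w : Fin n → F}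
    (hw : w ∈ Wsp C e f) : phi C e f α (phi C e f α⁻¹ w) = w := by
  rw [← hα.phi_mul H hn hα.inv hw, mul_inv_cancel, phi_one H hn hw]

lemma StdA.phi_eq_zero_iff (hn : 2 ≤ n) {α : MulAut Gb} (hα : StdA C e f α) {w : Fin n → F}
    (hw : w ∈ Wsp C e f) : phi C e f α w = 0 ↔ w = 0 := by
  constructor
  · intro h
    have := hα.phi_inv_phi H hn hw
    rw [h, hα.inv.phi_zero H hn] at this
    exact this.symm
  · rintro rfl
    exact hα.phi_zero H hn

end hp

end Cfsg.Agent.Lib.Helper07.UG
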