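import Mathlib
import Cfsg.Agent.Lib.Helper07.PSUn

set_option autoImplicit false
set_option linter.unusedSectionVars false
set_option linter.unusedVariables false

/-! Unitary groups: inner automorphisms as conjugations by `GU`; every automorphism of `PSU_n(q)`
can be normalised to fix a hyperbolic pair of points; the action of the Levi factor. -/

namespace Cfsg.Agent.Lib.Helper07.UG

open Matrix

variable {n : ℕ} {F : Type*} [Field F] [Fintype F] {q : ℕ} (C : UC F q)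

local notation "Gb" => Cfsg.PSU n F q

/-- an element of `SU` as an element of `GU`. -/
def innU (s : SUn n F q) : ↥(Cfsg.GU n F q) :=
  ⟨Matrix.SpecialLinearGroup.toGL s.1, (mem_GU_iff_isU C _).mpr (isU_val C s)⟩

lemma conjU_innU_mkP (s t : SUn n F q) :
    conjU C (innU C s) (mkP t) = mkP s * mkP t * (mkP s)⁻¹ := by
  rw [conjU_mkP, ← map_inv, ← map_mul, ← map_mul]
  congr 1

lemma conjU_innU (s : SUn n F q) : conjU C (innU C s) = MulAut.conj (mkP s) := by
  ext x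
  obtain ⟨t, rfl⟩ := mkP_surjective x
  rw [conjU_innU_mkP, MulAut.conj_apply]

variable {C}

lemma conj_image_Xb (s : SUn n F q) {v : Fin n → F} (hv : hu C.σ v v = 0) :
    (MulAut.conj (mkP s) : MulAut Gb) '' Xb C v = Xb C (act s v) := by
  rw [← conj_Xb s hv]
  apply Set.image_congr
  intro x _
  rw [MulAut.conj_apply]

lemma mul_image {G : Type*} [Group G] (α β : MulAut G) (X : Set G) :
    (α * β : MulAut G) '' X = α '' (β '' X) := by
  rw [← Set.image_comp]
  rfl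

/-- commuting sets have commuting images. -/
lemma comm_image {G : Type*} [Group G] (α : MulAut G) {X Y : Set G}
    (h : ∀ x ∈ X, ∀ y ∈ Y, x * y = y * x) : ∀ x ∈ α '' X, ∀ y ∈ α '' Y, x * y = y * x := by
  rintro _ ⟨x, hx, rfl⟩ _ ⟨y, hy, rfl⟩
  rw [← map_mul, ← map_mul, h x hx y hy]

lemma comm_of_image {G : Type*} [Group G] (α : MulAut G) {X Y : Set G}
    (h : ∀ x ∈ α '' X, ∀ y ∈ α '' Y, x * y = y * x) : ∀ x ∈ X, ∀ y ∈ Y, x * y = y * x := by
  intro x hx y hy
  apply α.injective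
  rw [map_mul, map_mul]
  exact h _ ⟨x, hx, rfl⟩ _ ⟨y, hy, rfl⟩

/-- orthogonality is preserved by automorphisms. -/
lemma orth_image (hn : 2 ≤ n) (α : MulAut Gb) {u v u' v' : Fin n → F} (hu0 : u ≠ 0) (hv0 : v ≠ 0)
    (hu1 : hu C.σ u u = 0) (hv1 : hu C.σ v v = 0) (hu0' : u' ≠ 0) (hv0' : v' ≠ 0)
    (hu1' : hu C.σ u' u' = 0) (hv1' : hu C.σ v' v' = 0)
    (hαu : α '' Xb C u = Xb C u') (hαv : α '' Xb C v = Xb C v') :
    hu C.σ u' v' = 0 ↔ hu C.σ u v = 0 := by
  rw [← Xb_comm_iff hn hu0 hv0 hu1 hv1, ← Xb_comm_iff hn hu0' hv0' hu1' hv1', ← hαu, ← hαv]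
  exact ⟨comm_of_image α, comm_image α⟩

/-- an isotropic vector not orthogonal to `e` is moved to `f` by the unipotent radical. -/
lemma exists_Q_map {e f : Fin n → F} (H : HP C e f) {u : Fin n → F} (hu1 : hu C.σ u u = 0)
    (hue : hu C.σ u e ≠ 0) :
    ∃ (w : Fin n → F) (a : F), w ∈ Wsp C e f ∧ a + C.σ a + hu C.σ w w = 0 ∧
      act (esG C e w a) f = (hu C.σ u e)⁻¹ • u := by
  set d := hu C.σ u e with hd
  set u' := d⁻¹ • u with hu'
  have h1 : hu C.σ u' e = 1 := by rw [hu', hu_smul_left, ← hd, inv_mul_cancel₀ hue]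
  have h2 : hu C.σ u' u' = 0 := by rw [hu', hu_smul_left, hu_smul_right, hu1]; ring
  have hdec := decomp_pW (C := C) e f u'
  rw [h1, one_smul] at hdec
  have hwW := pW_mem H u'
  set w := pW C e f u' with hw
  set a := hu C.σ u' f with ha
  have h3 : a + C.σ a + hu C.σ w w = 0 := by
    have h4 : hu C.σ u' u' = a + C.σ a + hu C.σ w w := by
      conv_lhs => rw [hdec]
      simp only [hu_add_left, hu_add_right, hu_smul_left, hu_smul_right, H.he, H.hf, H.hef, H.hfe,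
        hwW.1, hwW.2, (mem_Wsp_symm hwW).1, (mem_Wsp_symm hwW).2]
      ring
    rw [← h4, h2]
  refine ⟨w, a, hwW, h3, ?_⟩
  rw [act_esG_f H hwW h3]
  conv_rhs => rw [hdec]
  abel

/-- every automorphism can be normalised to fix the two points of a hyperbolic pair. -/
theorem exists_std (hn : 2 ≤ n) {e f : Fin n → F} (H : HP C e f) (α : MulAut Gb) :
    ∃ s : SUn n F q, StdA C e f (MulAut.conj (mkP s) * α) := by
  obtain ⟨e₁, he₁0, he₁, hα1⟩ := aut_image_Xb hn α H.e_ne H.he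
  obtain ⟨s₁, c, hc, hs₁⟩ := exists_map_point C he₁0 H.e_ne he₁ H.he
  set α₁ : MulAut Gb := MulAut.conj (mkP s₁) * α with hα₁
  have h1 : α₁ '' Xb C e = Xb C e := by
    rw [hα₁, mul_image, hα1, conj_image_Xb s₁ he₁, hs₁, Xb_smul H.he hc]
  obtain ⟨u, hu0, hu1, hα2⟩ := aut_image_Xb hn α₁ H.f_ne H.hf
  have hue : hu C.σ u e ≠ 0 := by
    intro h0
    have h2 := (orth_image hn α₁ H.f_ne H.e_ne H.hf H.he hu0 H.e_ne hu1 H.he hα2 h1).mp h0
    rw [H.hfe] at h2
    exact one_ne_zero h2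
  obtain ⟨w, a, hw, ha, hψ⟩ := exists_Q_map H hu1 hue
  set ψ := esG C e w a with hψd
  refine ⟨ψ⁻¹ * s₁, ?_⟩
  have h3 : (MulAut.conj (mkP (ψ⁻¹ * s₁)) * α : MulAut Gb) = MulAut.conj (mkP ψ⁻¹) * α₁ := by
    rw [hα₁, map_mul, map_mul, mul_assoc]
  rw [h3]
  constructor
  · rw [mul_image, h1, conj_image_Xb ψ⁻¹ H.he]
    have : act ψ e = e := act_esG_self H.he hw.1 ha
    conv_lhs => rw [← this, act_inv_act]
  · rw [mul_image, hα2, conj_image_Xb ψ⁻¹ hu1]
    have h4 : u = hu C.σ u e • act ψ f := by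
      rw [hψ, smul_smul, mul_inv_cancel₀ hue, one_smul]
    conv_lhs => rw [h4, act_smul, act_inv_act]
    exact Xb_smul H.hf hue

/-- the Levi factor acts on `Q̄_e / X̄_e`. -/
lemma InQ.conj_Ls {e f : Fin n → F} (H : HP C e f) {l : SUn n F q} {c : F}
    (hl : l ∈ Ls e f) (hc : act l e = c • e) {x : Gb} {w : Fin n → F} (h : InQ C e f x w) :
    InQ C e f (mkP l * x * (mkP l)⁻¹) (C.σ c • act l w) := by
  obtain ⟨hw, a, ha, rfl⟩ := h
  have hlw := Ls_act_W H hl hw
  have ha' : a + C.σ a + hu C.σ (act l w) (act l w) = 0 := by rw [hu_act, ha]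
  refine ⟨(Wsp C e f).smul_mem _ hlw, c * C.σ c * a, ?_, ?_⟩
  · simp only [map_mul, C.hσ, hu_smul_left, hu_smul_right]
    linear_combination (c * C.σ c) * ha'
  · rw [← map_inv, ← map_mul, ← map_mul, conj_esG C l H.he hw.1 ha, hc, esG_smul C H.he hlw.1 ha']

/-- elements normalising the two root subgroups come from the Levi factor. -/
lemma exists_Ls_of_normalizes (hn : 2 ≤ n) {e f : Fin n → F} (H : HP C e f) {t : Gb}
    (h1 : (MulAut.conj t : MulAut Gb) '' Xb C e = Xb C e)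
    (h2 : (MulAut.conj t : MulAut Gb) '' Xb C f = Xb C f) : ∃ l ∈ Ls e f, t = mkP l := by
  obtain ⟨l, rfl⟩ := mkP_surjective t
  refine ⟨l, ⟨?_, ?_⟩, rfl⟩
  · rw [conj_image_Xb l H.he] at h1
    have h0 : act l e ≠ 0 := fun h => H.e_ne ((act_eq_zero_iff l e).mp h)
    obtain ⟨c, hc, hce⟩ := Xb_eq_imp hn h0 (by rw [hu_act, H.he]) H.he (le_of_eq h1)
    exact ⟨c, hc, hce⟩
  · rw [conj_image_Xb l H.hf] at h2
    have h0 : act l f ≠ 0 := fun h => H.f_ne ((act_eq_zero_iff l f).mp h)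
    obtain ⟨c, hc, hce⟩ := Xb_eq_imp hn h0 (by rw [hu_act, H.hf]) H.hf (le_of_eq h2)
    exact ⟨c, hc, hce⟩

/-- transfer of invariance under conjugation. -/
lemma conj_image_transfer {G : Type*} [Group G] (α : MulAut G) {g : G} {X X₁ : Set G}
    (hX : α '' X = X₁) (hg : (MulAut.conj g : MulAut G) '' X = X) :
    (MulAut.conj (α g) : MulAut G) '' X₁ = X₁ := by
  have h : (MulAut.conj (α g) : MulAut G) * α = α * MulAut.conj g := by
    ext x
    simp [MulAut.conj_apply]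
  rw [← hX, ← mul_image, h, mul_image, hg]

/-- a standard automorphism intertwines the actions of the Levi factor. -/
theorem StdA.levi (hn : 2 ≤ n) {e f : Fin n → F} (H : HP C e f) {α : MulAut Gb}
    (hα : StdA C e f α) {l : SUn n F q} (hl : l ∈ Ls e f) {c : F} (hc : act l e = c • e) :
    ∃ (l' : SUn n F q) (c' : F), l' ∈ Ls e f ∧ act l' e = c' • e ∧ α (mkP l) = mkP l' ∧
      ∀ w ∈ Wsp C e f, phi C e f α (C.σ c • act l w) = C.σ c' • act l' (phi C e f α w) := by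
  have hc0 : c ≠ 0 := by
    rintro rfl
    rw [zero_smul] at hc
    exact H.e_ne ((act_eq_zero_iff l e).mp hc)
  obtain ⟨d, hd, hdf⟩ := hl.2
  have h1 : (MulAut.conj (mkP l) : MulAut Gb) '' Xb C e = Xb C e := by
    rw [conj_image_Xb l H.he, hc, Xb_smul H.he hc0]
  have h2 : (MulAut.conj (mkP l) : MulAut Gb) '' Xb C f = Xb C f := by
    rw [conj_image_Xb l H.hf, hdf, Xb_smul H.hf hd]
  obtain ⟨l', hl', hαl⟩ := exists_Ls_of_normalizes hn H (conj_image_transfer α hα.1 h1)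
    (conj_image_transfer α hα.2 h2)
  obtain ⟨c', hc'0, hc'⟩ := hl'.1
  refine ⟨l', c', hl', hc', hαl, ?_⟩
  intro w hw
  obtain ⟨x, hx⟩ := UG.exists_InQ (C := C) hw
  have h3 := hα.phi_spec H hn ((InQ.conj_Ls H hl hc hx).1) _ (InQ.conj_Ls H hl hc hx)
  have h4 := InQ.conj_Ls H hl' hc' (hα.phi_spec H hn hw x hx)
  rw [map_mul, map_mul, map_inv, hαl] at h3
  exact InQ.unique H hn h3 h4

end Cfsg.Agent.Lib.Helper07.UG
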