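import Mathlib
import Cfsg.Agent.Lib.Helper07.PSUo

set_option autoImplicit false
set_option linter.unusedSectionVars false
set_option linter.unusedVariables false

/-! Unitary groups: a standard automorphism of `PSU_n(q)` maps isotropic lines of `W` to lines;
the tori used to detect the field structure. -/

namespace Cfsg.Agent.Lib.Helper07.UG

open Matrix

variable {n : ℕ} {F : Type*} [Field F] [Fintype F] {q : ℕ} {C : UC F q}

local notation "Gb" => Cfsg.PSU n F q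

section hp
variable {e f : Fin n → F} (H : HP C e f)
include H

/-- an Eichler–Siegel element for `e` along an isotropic `v ∈ W` is one for `v` along `e`. -/
lemma esG_swap {v : Fin n → F} (hvW : v ∈ Wsp C e f) (hv : hu C.σ v v = 0) (c : F) :
    esG C e (c • v) 0 = esG C v (-(C.σ c) • e) 0 := by
  have hev := (mem_Wsp_symm hvW).1
  have h1 : hu C.σ (c • v) e = 0 := by rw [hu_smul_left, hvW.1, mul_zero]
  have h2 : (0 : F) + C.σ 0 + hu C.σ (c • v) (c • v) = 0 := by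
    rw [hu_smul_left, hu_smul_right, hv]; simp
  have h3 : hu C.σ (-(C.σ c) • e) v = 0 := by rw [hu_smul_left, hev, mul_zero]
  have h4 : (0 : F) + C.σ 0 + hu C.σ (-(C.σ c) • e) (-(C.σ c) • e) = 0 := by
    rw [hu_smul_left, hu_smul_right, H.he]; simp
  apply su_ext
  intro x
  rw [act_esG C H.he h1 h2, act_esG C hv h3 h4]
  simp only [hu_smul_right, map_neg, C.hσ, zero_mul, zero_smul, add_zero]
  funext i
  simp only [Pi.add_apply, Pi.sub_apply, Pi.smul_apply, smul_eq_mul]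
  ring

/-- the common elements of the unipotent radicals at `e` and at an isotropic `v ∈ W`. -/
lemma mem_Qb_inter (hn : 2 ≤ n) {v : Fin n → F} (hvW : v ∈ Wsp C e f) (hv : hu C.σ v v = 0)
    {y : Gb} (h1 : y ∈ Qb C e) (h2 : y ∈ Qb C v) : ∃ c : F, InQ C e f y (c • v) := by
  obtain ⟨w, hwW, a, ha, rfl⟩ := (mem_Qb_iff H y).mp h1
  obtain ⟨w'', a'', hw'', ha'', h3⟩ := h2
  have h4 := eq_of_mkP_eq_of_pow (C := C) hn h3 (esG_pow_p2 H.he hwW.1 ha)
    (esG_pow_p2 hv hw'' ha'')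
  have h5 : act (esG C e w a) f = act (esG C v w'' a'') f := by rw [h4]
  rw [act_esG_f H hwW ha, act_esG C hv hw'' ha'', (mem_Wsp_symm hvW).2] at h5
  simp only [zero_smul, mul_zero, add_zero] at h5
  -- `w + a • e = c • v`
  have h6 : w + a • e = (- hu C.σ f w'') • v := by
    have : f + w + a • e = f + (w + a • e) := by abel
    rw [this, sub_eq_add_neg] at h5
    rw [neg_smul]
    exact add_left_cancel h5
  have h7 : a = 0 := by
    have h8 : hu C.σ (w + a • e) f = hu C.σ ((- hu C.σ f w'') • v) f := by rw [h6]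
    rw [hu_add_left, hu_smul_left, hu_smul_left, hwW.2, H.hef, hvW.2] at h8
    simpa using h8
  rw [h7, zero_smul, add_zero] at h6
  refine ⟨- hu C.σ f w'', ?_⟩
  rw [← h6]
  exact ⟨hwW, a, ha, rfl⟩

lemma exists_mem_Qb_inter {v : Fin n → F} (hvW : v ∈ Wsp C e f) (hv : hu C.σ v v = 0) (c : F) :
    ∃ y : Gb, y ∈ Qb C e ∧ y ∈ Qb C v ∧ InQ C e f y (c • v) := by
  have h1 : hu C.σ (c • v) e = 0 := by rw [hu_smul_left, hvW.1, mul_zero]
  have h2 : (0 : F) + C.σ 0 + hu C.σ (c • v) (c • v) = 0 := by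
    rw [hu_smul_left, hu_smul_right, hv]; simp
  have h3 : hu C.σ (-(C.σ c) • e) v = 0 := by
    rw [hu_smul_left, (mem_Wsp_symm hvW).1, mul_zero]
  have h4 : (0 : F) + C.σ 0 + hu C.σ (-(C.σ c) • e) (-(C.σ c) • e) = 0 := by
    rw [hu_smul_left, hu_smul_right, H.he]; simp
  refine ⟨mkP (esG C e (c • v) 0), ⟨c • v, 0, h1, h2, rfl⟩, ⟨-(C.σ c) • e, 0, h3, h4, ?_⟩,
    ⟨(Wsp C e f).smul_mem c hvW, 0, h2, rfl⟩⟩
  rw [esG_swap H hvW hv]

/-- the image of a point of `W` under a standard automorphism lies in `W`. -/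
lemma StdA.image_W (hn : 2 ≤ n) {α : MulAut Gb} (hα : StdA C e f α) {v : Fin n → F}
    (hvW : v ∈ Wsp C e f) (hv0 : v ≠ 0) (hv : hu C.σ v v = 0) :
    ∃ v₁ ∈ Wsp C e f, v₁ ≠ 0 ∧ hu C.σ v₁ v₁ = 0 ∧ α '' Xb C v = Xb C v₁ := by
  obtain ⟨v₁, hv₁0, hv₁, hαv⟩ := aut_image_Xb hn α hv0 hv
  refine ⟨v₁, ⟨?_, ?_⟩, hv₁0, hv₁, hαv⟩
  · exact (orth_image hn α hv0 H.e_ne hv H.he hv₁0 H.e_ne hv₁ H.he hαv hα.1).mpr hvW.1
  · exact (orth_image hn α hv0 H.f_ne hv H.hf hv₁0 H.f_ne hv₁ H.hf hαv hα.2).mpr hvW.2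

/-- a standard automorphism maps the line of an isotropic vector of `W` into a line. -/
theorem StdA.line (hn : 2 ≤ n) {α : MulAut Gb} (hα : StdA C e f α) {v : Fin n → F}
    (hvW : v ∈ Wsp C e f) (hv0 : v ≠ 0) (hv : hu C.σ v v = 0) (c : F) :
    ∃ c' : F, phi C e f α (c • v) = c' • phi C e f α v := by
  obtain ⟨v₁, hv₁W, hv₁0, hv₁, hαv⟩ := hα.image_W H hn hvW hv0 hv
  have hQv : α '' UG.Qb C v = UG.Qb C v₁ := aut_image_Qb hn α hv0 hv hv₁0 hv₁ hαv
  have hQe : α '' UG.Qb C e = UG.Qb C e := hα.Qb H hn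
  have key : ∀ c : F, ∃ c' : F, phi C e f α (c • v) = c' • v₁ := by
    intro c
    obtain ⟨y, hy1, hy2, hy3⟩ := exists_mem_Qb_inter H hvW hv c
    have h1 : α y ∈ UG.Qb C e := by rw [← hQe]; exact ⟨y, hy1, rfl⟩
    have h2 : α y ∈ UG.Qb C v₁ := by rw [← hQv]; exact ⟨y, hy2, rfl⟩
    obtain ⟨c', hc'⟩ := mem_Qb_inter H hn hv₁W hv₁ h1 h2
    exact ⟨c', hα.phi_eq H hn hy3 hc'⟩
  obtain ⟨k, hk⟩ := key 1
  rw [one_smul] at hk
  have hk0 : k ≠ 0 := by
    rintro rfl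
    rw [zero_smul] at hk
    exact hv0 ((hα.phi_eq_zero_iff H hn hvW).mp hk)
  obtain ⟨c', hc'⟩ := key c
  refine ⟨c' * k⁻¹, ?_⟩
  rw [hc', hk, smul_smul, mul_assoc, inv_mul_cancel₀ hk0, mul_one]

/-- the scalar function attached to a line mapped into a line. -/
lemma StdA.exists_Theta (hn : 2 ≤ n) {α : MulAut Gb} (hα : StdA C e f α) {w : Fin n → F}
    (hwW : w ∈ Wsp C e f) (hw0 : w ≠ 0)
    (hline : ∀ c : F, ∃ c' : F, phi C e f α (c • w) = c' • phi C e f α w) :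
    ∃ Θ : F → F, (∀ c, phi C e f α (c • w) = Θ c • phi C e f α w) ∧ Θ 1 = 1 ∧
      (∀ a b, Θ (a + b) = Θ a + Θ b) ∧ Function.Injective Θ := by
  choose Θ hΘ using hline
  have hφ0 : phi C e f α w ≠ 0 := fun h => hw0 ((hα.phi_eq_zero_iff H hn hwW).mp h)
  have hinj : ∀ a b : F, a • phi C e f α w = b • phi C e f α w → a = b := by
    intro a b hab
    have h1 : (a - b) • phi C e f α w = 0 := by rw [sub_smul, hab, sub_self]
    rcases smul_eq_zero.mp h1 with h | h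
    · exact sub_eq_zero.mp h
    · exact absurd h hφ0
  refine ⟨Θ, hΘ, ?_, ?_, ?_⟩
  · apply hinj
    rw [← hΘ, one_smul, one_smul]
  · intro a b
    apply hinj
    rw [← hΘ, add_smul, add_smul, hα.phi_add H hn ((Wsp C e f).smul_mem a hwW)
      ((Wsp C e f).smul_mem b hwW), hΘ, hΘ]
  · intro a b hab
    have h1 : phi C e f α ((a - b) • w) = 0 := by
      rw [sub_smul, hα.phi_sub H hn ((Wsp C e f).smul_mem a hwW) ((Wsp C e f).smul_mem b hwW),
        hΘ, hΘ, hab, sub_self]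
    have h2 := (hα.phi_eq_zero_iff H hn ((Wsp C e f).smul_mem _ hwW)).mp h1
    rcases smul_eq_zero.mp h2 with h | h
    · exact sub_eq_zero.mp h
    · exact absurd h hw0

/-- an element of the Levi factor scaling `w` gives a multiplicativity relation. -/
lemma StdA.Theta_torus (hn : 2 ≤ n) {α : MulAut Gb} (hα : StdA C e f α) {w : Fin n → F}
    (hwW : w ∈ Wsp C e f) (hw0 : w ≠ 0) {Θ : F → F}
    (hΘ : ∀ c, phi C e f α (c • w) = Θ c • phi C e f α w)
    {l : SUn n F q} (hl : l ∈ Ls e f) {d μ : F} (hd : act l e = d • e) (hμ : act l w = μ • w)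
    (c : F) : Θ (C.σ d * μ * c) = Θ (C.σ d * μ) * Θ c := by
  have hφ0 : phi C e f α w ≠ 0 := fun h => hw0 ((hα.phi_eq_zero_iff H hn hwW).mp h)
  obtain ⟨l', c', hl', hc', -, hlev⟩ := hα.levi hn H hl hd
  have h1 : ∀ c : F, C.σ d • act l (c • w) = (C.σ d * μ * c) • w := by
    intro c
    rw [act_smul, hμ, smul_smul, smul_smul]
    congr 1
    ring
  have h2 := hlev (c • w) ((Wsp C e f).smul_mem c hwW)
  have h3 := hlev w hwW
  have h4 : C.σ d • act l w = (C.σ d * μ) • w := by rw [hμ, smul_smul]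
  rw [h1, hΘ, hΘ, act_smul, smul_comm] at h2
  rw [h4, hΘ] at h3
  rw [← h3, smul_smul] at h2
  have h5 : (Θ (C.σ d * μ * c) - Θ c * Θ (C.σ d * μ)) • phi C e f α w = 0 := by
    rw [sub_smul, h2, sub_self]
  rcases smul_eq_zero.mp h5 with h | h
  · rw [sub_eq_zero.mp h, mul_comm]
  · exact absurd h hφ0

end hp

end Cfsg.Agent.Lib.Helper07.UG
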