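import Mathlib
import Cfsg.Agent.Lib.Helper07.PSUb

set_option autoImplicit false
set_option linter.unusedSectionVars false
set_option linter.unusedVariables false

/-! Unitary groups: algebraic lemmas producing field automorphisms from additive maps with
partial multiplicativity. -/

namespace Cfsg.Agent.Lib.Helper07.UG

section pure
variable {F : Type*} [Field F] [Finite F]

lemma map_zero_of_add (Θ : F → F) (hadd : ∀ a b, Θ (a + b) = Θ a + Θ b) : Θ 0 = 0 := by
  have h := hadd 0 0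
  rw [add_zero] at h
  have h2 : Θ 0 + 0 = Θ 0 + Θ 0 := by rw [add_zero]; exact h
  exact (add_left_cancel h2).symm

lemma map_neg_of_add (Θ : F → F) (hadd : ∀ a b, Θ (a + b) = Θ a + Θ b) (a : F) :
    Θ (-a) = - Θ a := by
  have h := hadd a (-a)
  rw [add_neg_cancel, map_zero_of_add Θ hadd] at h
  exact (neg_eq_of_add_eq_zero_right h.symm).symm

lemma map_sub_of_add (Θ : F → F) (hadd : ∀ a b, Θ (a + b) = Θ a + Θ b) (a b : F) :
    Θ (a - b) = Θ a - Θ b := by
  rw [sub_eq_add_neg, hadd, map_neg_of_add Θ hadd, sub_eq_add_neg]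

/-- a unital additive multiplicative self-map of a finite field is an automorphism. -/
lemma ringAut_of (Θ : F → F) (h1 : Θ 1 = 1) (hadd : ∀ a b, Θ (a + b) = Θ a + Θ b)
    (hmul : ∀ a b, Θ (a * b) = Θ a * Θ b) : ∃ θ : RingAut F, ∀ a, θ a = Θ a := by
  have h0 : Θ 0 = 0 := map_zero_of_add Θ hadd
  let φ : F →+* F := ⟨⟨⟨Θ, h1⟩, hmul⟩, h0, hadd⟩
  have hinj : Function.Injective φ := φ.injective
  have hbij : Function.Bijective φ := Finite.injective_iff_bijective.mp hinj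
  exact ⟨RingEquiv.ofBijective φ hbij, fun a => rfl⟩

/-- multiplicativity with respect to squares implies multiplicativity. -/
lemma mul_of_squares (Θ : F → F) (hadd : ∀ a b, Θ (a + b) = Θ a + Θ b)
    (hsq : ∀ s c : F, Θ (s * s * c) = Θ (s * s) * Θ c) : ∀ a b, Θ (a * b) = Θ a * Θ b := by
  have hsub := map_sub_of_add Θ hadd
  intro a b
  by_cases h2 : (2 : F) = 0
  · have hchar : ringChar F = 2 :=
      CharP.ringChar_of_prime_eq_zero Nat.prime_two (by exact_mod_cast h2)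
    obtain ⟨s, hs⟩ := FiniteField.isSquare_of_char_two hchar a
    rw [hs]
    exact hsq s b
  · set s₁ := (a + 1) / 2 with hs₁
    set s₂ := (a - 1) / 2 with hs₂
    have ha : a = s₁ * s₁ - s₂ * s₂ := by
      rw [hs₁, hs₂]
      field_simp
      ring
    calc Θ (a * b) = Θ (s₁ * s₁ * b - s₂ * s₂ * b) := by rw [← sub_mul, ← ha]
      _ = Θ (s₁ * s₁) * Θ b - Θ (s₂ * s₂) * Θ b := by rw [hsub, hsq, hsq]
      _ = Θ (s₁ * s₁ - s₂ * s₂) * Θ b := by rw [hsub, sub_mul]
      _ = Θ a * Θ b := by rw [← ha]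

end pure

variable {F : Type*} [Field F] [Fintype F] {q : ℕ}

/-- an element whose `3(q-1)`-th power is not one. -/
lemma UC.exists_pow_ne (C : UC F q) (hq3 : 3 ≤ q) : ∃ t : F, t ≠ 0 ∧ t ^ (3 * (q - 1)) ≠ 1 := by
  obtain ⟨g, hg⟩ := IsCyclic.exists_generator (α := Fˣ)
  have hord : orderOf g = Nat.card Fˣ := orderOf_eq_card_of_forall_mem_zpowers hg
  rw [Nat.card_units, Nat.card_eq_fintype_card, C.hF] at hord
  refine ⟨g, g.ne_zero, ?_⟩
  intro h
  have h3 : g ^ (3 * (q - 1)) = 1 := by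
    apply Units.ext
    rw [Units.val_pow_eq_pow_val, h]
    rfl
  have h4 := orderOf_dvd_of_pow_eq_one h3
  rw [hord] at h4
  have h5 := Nat.le_of_dvd (by omega) h4
  have h6 : q * 3 ≤ q * q := Nat.mul_le_mul_left q hq3
  rw [pow_two] at h5
  omega

/-- multiplicativity with respect to the characters `d ↦ σ(d)²/d` implies multiplicativity. -/
lemma mul_of_chi (C : UC F q) (hq3 : 3 ≤ q) (Θ : F → F) (hadd : ∀ a b, Θ (a + b) = Θ a + Θ b)
    (hχ : ∀ d c : F, d ≠ 0 →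
      Θ (C.σ d * (C.σ d / d) * c) = Θ (C.σ d * (C.σ d / d)) * Θ c) :
    ∀ a b, Θ (a * b) = Θ a * Θ b := by
  have h0 : Θ 0 = 0 := map_zero_of_add Θ hadd
  have hP0 : ∀ c, Θ (0 * c) = Θ 0 * Θ c := by
    intro c
    rw [zero_mul, h0, zero_mul]
  have hF0 : ∀ d : F, C.σ d = d → ∀ c, Θ (d * c) = Θ d * Θ c := by
    intro d hd c
    by_cases hd0 : d = 0
    · rw [hd0]; exact hP0 c
    · have := hχ d c hd0
      rwa [hd, div_self hd0, mul_one] at this
  have hPadd : ∀ s s' : F, (∀ c, Θ (s * c) = Θ s * Θ c) → (∀ c, Θ (s' * c) = Θ s' * Θ c) →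
      ∀ c, Θ ((s + s') * c) = Θ (s + s') * Θ c := by
    intro s s' hs hs' c
    rw [add_mul, hadd, hs, hs', hadd, add_mul]
  have hPmul : ∀ s s' : F, (∀ c, Θ (s * c) = Θ s * Θ c) → (∀ c, Θ (s' * c) = Θ s' * Θ c) →
      ∀ c, Θ ((s * s') * c) = Θ (s * s') * Θ c := by
    intro s s' hs hs' c
    rw [mul_assoc, hs, hs', hs, mul_assoc]
  obtain ⟨t, ht0, ht⟩ := C.exists_pow_ne hq3
  have hσt0 : C.σ t ≠ 0 := (map_ne_zero_iff _ C.σ.injective).mpr ht0
  set ζ := C.σ t * (C.σ t / t) with hζ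
  have hPζ : ∀ c, Θ (ζ * c) = Θ ζ * Θ c := fun c => hχ t c ht0
  have hσζ : C.σ ζ = t * (t / C.σ t) := by
    rw [hζ, map_mul, map_div₀, C.hσ]
  have hne : ζ - C.σ ζ ≠ 0 := by
    intro h
    rw [sub_eq_zero, hσζ, hζ] at h
    have h1 : C.σ t ^ 3 = t ^ 3 := by
      field_simp at h
      linear_combination h
    rw [C.hσq, ← pow_mul] at h1
    have h2 : t ^ (3 * (q - 1)) * t ^ 3 = 1 * t ^ 3 := by
      rw [← pow_add, one_mul, ← h1]
      congr 1
      have := C.two_le_q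
      have h3 : 3 * (q - 1) + 3 = 3 * q := by omega
      rw [h3, mul_comm]
    exact ht (mul_right_cancel₀ (pow_ne_zero 3 ht0) h2)
  intro a b
  set b' := (a - C.σ a) / (ζ - C.σ ζ) with hb'
  set a' := a - b' * ζ with ha'
  have hσb' : C.σ b' = b' := by
    rw [hb', map_div₀, map_sub, map_sub, C.hσ, C.hσ, ← neg_sub a, ← neg_sub ζ, neg_div_neg_eq]
  have hb'' : b' * (ζ - C.σ ζ) = a - C.σ a := by rw [hb', div_mul_cancel₀ _ hne]
  have hσa' : C.σ a' = a' := by
    rw [ha', map_sub, map_mul, hσb']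
    linear_combination hb''
  have hdec : a = a' + b' * ζ := by rw [ha']; ring
  rw [hdec]
  exact hPadd _ _ (hF0 a' hσa') (hPmul _ _ (hF0 b' hσb') hPζ) b

end Cfsg.Agent.Lib.Helper07.UG
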