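import Mathlib
import Cfsg.Agent.Lib.Helper07.PSUp
import Cfsg.Agent.Lib.Helper07.PSUq

set_option autoImplicit false
set_option linter.unusedSectionVars false
set_option linter.unusedVariables false

/-! Unitary groups: the map induced on `W` by a standard automorphism of `PSU_n(q)` is
semilinear. -/

namespace Cfsg.Agent.Lib.Helper07.UG

open Matrix

variable {n : ℕ} {F : Type*} [Field F] [Fintype F] {q : ℕ} {C : UC F q}

local notation "Gb" => Cfsg.PSU n F q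

section hp
variable {e f : Fin n → F} (H : HP C e f)
include H

/-- the torus element for a hyperbolic pair inside `W`. -/
lemma exists_torusA {w' w : Fin n → F} (hw'W : w' ∈ Wsp C e f) (hwW : w ∈ Wsp C e f)
    (H' : HP C w' w) {d : F} (hd : d ≠ 0) :
    ∃ l : SUn n F q, l ∈ Ls e f ∧ act l e = d • e ∧ act l w = C.σ d • w := by
  have hσd : C.σ d ≠ 0 := (map_ne_zero_iff _ C.σ.injective).mpr hd
  have hU : IsU C.σ (hrM C.σ e f d * hrM C.σ w' w d⁻¹) :=
    IsU.mul C.σ (isU_hrM C.σ C.hσ H.he H.hf H.hef hd)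
      (isU_hrM C.σ C.hσ H'.he H'.hf H'.hef (inv_ne_zero hd))
  have hdet : (hrM C.σ e f d * hrM C.σ w' w d⁻¹).det = 1 := by
    rw [det_mul, det_hrM C.σ H.hef H.hfe hd, det_hrM C.σ H'.hef H'.hfe (inv_ne_zero hd),
      map_inv₀, inv_inv]
    field_simp
  have hact : ∀ x, act (mkSU C _ hU hdet) x =
      hrM C.σ e f d *ᵥ (hrM C.σ w' w d⁻¹ *ᵥ x) := by
    intro x
    rw [act_mkSU, mulVec_mulVec]
  have h1 : act (mkSU C _ hU hdet) e = d • e := by
    rw [hact, hrM_mulVec C.σ H'.hf, (mem_Wsp_symm hwW).1, (mem_Wsp_symm hw'W).1, mul_zero,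
      mul_zero, zero_smul, zero_smul, add_zero, add_zero, hrM_mulVec C.σ H.hf, H.hef, H.he,
      mul_zero, zero_smul, add_zero, mul_one, sub_smul, one_smul]
    abel
  have h2 : act (mkSU C _ hU hdet) f = (C.σ d)⁻¹ • f := by
    rw [hact, hrM_mulVec C.σ H'.hf, (mem_Wsp_symm hwW).2, (mem_Wsp_symm hw'W).2, mul_zero,
      mul_zero, zero_smul, zero_smul, add_zero, add_zero, hrM_mulVec C.σ H.hf, H.hf, H.hfe,
      mul_zero, zero_smul, add_zero, mul_one, sub_smul, one_smul]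
    abel
  have h3 : act (mkSU C _ hU hdet) w = C.σ d • w := by
    rw [hact, hrM_mulVec C.σ H'.hf, H'.hf, H'.hfe, mul_zero, zero_smul, add_zero, mul_one,
      map_inv₀, inv_inv, sub_smul, one_smul]
    have : w + (C.σ d • w - w) = C.σ d • w := by abel
    rw [this, mulVec_smul, hrM_mulVec C.σ H.hf, hwW.1, hwW.2, mul_zero, mul_zero, zero_smul,
      zero_smul, add_zero, add_zero]
  exact ⟨mkSU C _ hU hdet, ⟨⟨d, hd, h1⟩, ⟨(C.σ d)⁻¹, inv_ne_zero hσd, h2⟩⟩, h1, h3⟩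

/-- the torus element for a vector of norm one in `W`. -/
lemma exists_torusB {w₀ : Fin n → F} (hw₀W : w₀ ∈ Wsp C e f) (hw₀ : hu C.σ w₀ w₀ = 1)
    {d : F} (hd : d ≠ 0) :
    ∃ l : SUn n F q, l ∈ Ls e f ∧ act l e = d • e ∧ act l w₀ = (C.σ d / d) • w₀ := by
  have hσd : C.σ d ≠ 0 := (map_ne_zero_iff _ C.σ.injective).mpr hd
  have hμ : (C.σ d / d) * C.σ (C.σ d / d) = 1 := by
    rw [map_div₀, C.hσ]
    field_simp
  have hU : IsU C.σ (hrM C.σ e f d * rfM C.σ w₀ (C.σ d / d)) :=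
    IsU.mul C.σ (isU_hrM C.σ C.hσ H.he H.hf H.hef hd) (isU_rfM C.σ C.hσ hw₀ hμ)
  have hdet : (hrM C.σ e f d * rfM C.σ w₀ (C.σ d / d)).det = 1 := by
    rw [det_mul, det_hrM C.σ H.hef H.hfe hd, det_rfM C.σ hw₀]
    field_simp
  have hact : ∀ x, act (mkSU C _ hU hdet) x =
      hrM C.σ e f d *ᵥ (rfM C.σ w₀ (C.σ d / d) *ᵥ x) := by
    intro x
    rw [act_mkSU, mulVec_mulVec]
  have h1 : act (mkSU C _ hU hdet) e = d • e := by
    rw [hact, rfM_mulVec, (mem_Wsp_symm hw₀W).1, mul_zero, zero_smul, add_zero,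
      hrM_mulVec C.σ H.hf, H.hef, H.he, mul_zero, zero_smul, add_zero, mul_one, sub_smul,
      one_smul]
    abel
  have h2 : act (mkSU C _ hU hdet) f = (C.σ d)⁻¹ • f := by
    rw [hact, rfM_mulVec, (mem_Wsp_symm hw₀W).2, mul_zero, zero_smul, add_zero,
      hrM_mulVec C.σ H.hf, H.hf, H.hfe, mul_zero, zero_smul, add_zero, mul_one, sub_smul,
      one_smul]
    abel
  have h3 : act (mkSU C _ hU hdet) w₀ = (C.σ d / d) • w₀ := by
    rw [hact, rfM_mulVec, hw₀, mul_one, sub_smul, one_smul]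
    have : w₀ + ((C.σ d / d) • w₀ - w₀) = (C.σ d / d) • w₀ := by abel
    rw [this, mulVec_smul, hrM_mulVec C.σ H.hf, hw₀W.1, hw₀W.2, mul_zero, mul_zero, zero_smul,
      zero_smul, add_zero, add_zero]
  exact ⟨mkSU C _ hU hdet, ⟨⟨d, hd, h1⟩, ⟨(C.σ d)⁻¹, inv_ne_zero hσd, h2⟩⟩, h1, h3⟩

/-- the induced map is semilinear on the line of an isotropic vector. -/
theorem StdA.theta_iso (hn : 2 ≤ n) {α : MulAut Gb} (hα : StdA C e f α) {v : Fin n → F}
    (hvW : v ∈ Wsp C e f) (hv0 : v ≠ 0) (hv : hu C.σ v v = 0) :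
    ∃ θ : RingAut F, ∀ c : F, phi C e f α (c • v) = θ c • phi C e f α v := by
  obtain ⟨v', hv'W, hv', hvv'⟩ := exists_hyp_partner C (nd_Wsp H) hvW hv0 hv
  have H' : HP C v' v := ⟨hv', hv, hu_eq_one_symm C hvv'⟩
  obtain ⟨Θ, hΘ, hΘ1, hΘadd, -⟩ := hα.exists_Theta H hn hvW hv0 (hα.line H hn hvW hv0 hv)
  have hsq : ∀ s c : F, Θ (s * s * c) = Θ (s * s) * Θ c := by
    intro s c
    by_cases hs : s = 0
    · rw [hs, zero_mul, zero_mul, map_zero_of_add Θ hΘadd, zero_mul]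
    · have hd : C.σ s ≠ 0 := (map_ne_zero_iff _ C.σ.injective).mpr hs
      obtain ⟨l, hl, hle, hlv⟩ := exists_torusA H hv'W hvW H' hd
      have := hα.Theta_torus H hn hvW hv0 hΘ hl hle hlv c
      rwa [C.hσ] at this
  obtain ⟨θ, hθ⟩ := ringAut_of Θ hΘ1 hΘadd (mul_of_squares Θ hΘadd hsq)
  exact ⟨θ, fun c => by rw [hθ, hΘ]⟩

/-- the field automorphisms attached to two non-orthogonal isotropic vectors coincide. -/
lemma StdA.theta_eq (hn : 2 ≤ n) {α : MulAut Gb} (hα : StdA C e f α) {u v : Fin n → F}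
    (huW : u ∈ Wsp C e f) (hvW : v ∈ Wsp C e f) (hu1 : hu C.σ u u = 0) (hv1 : hu C.σ v v = 0)
    (huv : hu C.σ u v ≠ 0) {θu θv : RingAut F}
    (hθu : ∀ c : F, phi C e f α (c • u) = θu c • phi C e f α u)
    (hθv : ∀ c : F, phi C e f α (c • v) = θv c • phi C e f α v) : θu = θv := by
  obtain ⟨μ, hμ0, hz⟩ := exists_iso_add C hu1 hv1 huv
  have hμvW : μ • v ∈ Wsp C e f := (Wsp C e f).smul_mem μ hvW
  have hzW : u + μ • v ∈ Wsp C e f := (Wsp C e f).add_mem huW hμvW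
  have hz0 : u + μ • v ≠ 0 := by
    intro h0
    have h1 : (1 : F) • u + μ • v = 0 := by rw [one_smul]; exact h0
    exact one_ne_zero (indep_of_nonorth C hu1 hv1 huv h1).1
  obtain ⟨θz, hθz⟩ := hα.theta_iso H hn hzW hz0 hz
  -- independence of the images
  have hind : ∀ a b : F, a • phi C e f α u + b • phi C e f α v = 0 → a = 0 ∧ b = 0 := by
    intro a b hab
    have h1 : phi C e f α (θu.symm a • u + θv.symm b • v) = 0 := by
      rw [hα.phi_add H hn ((Wsp C e f).smul_mem _ huW) ((Wsp C e f).smul_mem _ hvW), hθu, hθv,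
        RingEquiv.apply_symm_apply, RingEquiv.apply_symm_apply, hab]
    have h2 := (hα.phi_eq_zero_iff H hn ((Wsp C e f).add_mem ((Wsp C e f).smul_mem _ huW)
      ((Wsp C e f).smul_mem _ hvW))).mp h1
    obtain ⟨h3, h4⟩ := indep_of_nonorth C hu1 hv1 huv h2
    constructor
    · have := congrArg θu h3
      rwa [RingEquiv.apply_symm_apply, map_zero] at this
    · have := congrArg θv h4
      rwa [RingEquiv.apply_symm_apply, map_zero] at this
  apply RingEquiv.ext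
  intro c
  have h1 : phi C e f α (c • (u + μ • v)) =
      θz c • phi C e f α u + (θz c * θv μ) • phi C e f α v := by
    rw [hθz, hα.phi_add H hn huW hμvW, hθv, smul_add, smul_smul]
  have h2 : phi C e f α (c • (u + μ • v)) =
      θu c • phi C e f α u + (θv c * θv μ) • phi C e f α v := by
    rw [smul_add, smul_smul, hα.phi_add H hn ((Wsp C e f).smul_mem _ huW)
      ((Wsp C e f).smul_mem _ hvW), hθu, hθv, map_mul]
  have h3 : (θz c - θu c) • phi C e f α u + ((θz c - θv c) * θv μ) • phi C e f α v = 0 := by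
    rw [sub_smul, sub_mul, sub_smul]
    have := h1.symm.trans h2
    have e1 : θz c • phi C e f α u - θu c • phi C e f α u +
        ((θz c * θv μ) • phi C e f α v - (θv c * θv μ) • phi C e f α v) =
        (θz c • phi C e f α u + (θz c * θv μ) • phi C e f α v) -
        (θu c • phi C e f α u + (θv c * θv μ) • phi C e f α v) := by abel
    rw [e1, this, sub_self]
  obtain ⟨h4, h5⟩ := hind _ _ h3
  have hθμ : θv μ ≠ 0 := (map_ne_zero_iff _ θv.injective).mpr hμ0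
  have h6 : θz c - θv c = 0 := (mul_eq_zero.mp h5).resolve_right hθμ
  rw [← sub_eq_zero.mp h4, sub_eq_zero.mp h6]

/-- semilinearity when `W` contains isotropic vectors. -/
theorem StdA.semilinearA (hn : 2 ≤ n) {α : MulAut Gb} (hα : StdA C e f α) {w₁ : Fin n → F}
    (hw₁W : w₁ ∈ Wsp C e f) (hw₁0 : w₁ ≠ 0) (hw₁ : hu C.σ w₁ w₁ = 0) :
    ∃ θ : RingAut F, ∀ w ∈ Wsp C e f, ∀ c : F,
      phi C e f α (c • w) = θ c • phi C e f α w := by
  classical
  let cf : (Fin n → F) → RingAut F := fun v =>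
    if h : ∃ θ : RingAut F, ∀ c : F, phi C e f α (c • v) = θ c • phi C e f α v then h.choose
    else 1
  have hcf : ∀ v ∈ Wsp C e f, v ≠ 0 → hu C.σ v v = 0 →
      ∀ c : F, phi C e f α (c • v) = cf v c • phi C e f α v := by
    intro v hvW hv0 hv
    have h := hα.theta_iso H hn hvW hv0 hv
    show ∀ c : F, phi C e f α (c • v) = (if h : ∃ θ : RingAut F, ∀ c : F,
      phi C e f α (c • v) = θ c • phi C e f α v then h.choose else 1) c • phi C e f α v
    rw [dif_pos h]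
    exact h.choose_spec
  have hconn : ∀ u v, u ∈ Wsp C e f → v ∈ Wsp C e f → hu C.σ u u = 0 → hu C.σ v v = 0 →
      hu C.σ u v ≠ 0 → cf u = cf v := by
    intro u v huW hvW hu1 hv1 huv
    have hu0 : u ≠ 0 := by
      rintro rfl
      exact huv (hu_zero_left _ _)
    have hv0 : v ≠ 0 := by
      rintro rfl
      exact huv (hu_zero_right _ _)
    exact hα.theta_eq H hn huW hvW hu1 hv1 huv (hcf u huW hu0 hu1) (hcf v hvW hv0 hv1)
  refine ⟨cf w₁, ?_⟩
  have hiso : ∀ v ∈ Wsp C e f, hu C.σ v v = 0 → ∀ c : F,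
      phi C e f α (c • v) = cf w₁ c • phi C e f α v := by
    intro v hvW hv c
    by_cases hv0 : v = 0
    · rw [hv0, smul_zero, hα.phi_zero H hn, smul_zero]
    · rw [iso_connected C (nd_Wsp H) cf hconn hw₁W hvW hw₁0 hv0 hw₁ hv]
      exact hcf v hvW hv0 hv c
  intro w hwW c
  obtain ⟨v₁, v₂, v₃, h1, h2, h3, h1', h2', h3', rfl⟩ :=
    exists_three_iso C (nd_Wsp H) hw₁W hw₁0 hw₁ hwW
  have h12 : v₁ + v₂ ∈ Wsp C e f := (Wsp C e f).add_mem h1 h2
  have e1 : c • (v₁ + v₂ + v₃) = c • v₁ + c • v₂ + c • v₃ := by rw [smul_add, smul_add]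
  rw [e1, hα.phi_add H hn ((Wsp C e f).add_mem ((Wsp C e f).smul_mem c h1)
    ((Wsp C e f).smul_mem c h2)) ((Wsp C e f).smul_mem c h3),
    hα.phi_add H hn ((Wsp C e f).smul_mem c h1) ((Wsp C e f).smul_mem c h2),
    hiso v₁ h1 h1', hiso v₂ h2 h2', hiso v₃ h3 h3', hα.phi_add H hn h12 h3,
    hα.phi_add H hn h1 h2, smul_add, smul_add]

/-- semilinearity when `W` is anisotropic. -/
theorem StdA.semilinearB (hn : 3 ≤ n) (hq3 : 3 ≤ q) {α : MulAut Gb} (hα : StdA C e f α)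
    (hB : ∀ v ∈ Wsp C e f, hu C.σ v v = 0 → v = 0) :
    ∃ θ : RingAut F, ∀ w ∈ Wsp C e f, ∀ c : F,
      phi C e f α (c • w) = θ c • phi C e f α w := by
  have hn2 : 2 ≤ n := by omega
  obtain ⟨w₁, hw₁W, hw₁0⟩ := exists_ne_zero_W hn H
  have hh0 : hu C.σ w₁ w₁ ≠ 0 := fun h => hw₁0 (hB w₁ hw₁W h)
  obtain ⟨ν, hν0, hν⟩ := C.exists_norm_eq' (hu C.σ w₁ w₁)⁻¹
    (by rw [map_inv₀, hu_self_fixed]) (inv_ne_zero hh0)
  obtain ⟨w₀, hw₀d⟩ : ∃ w₀ : Fin n → F, w₀ = ν • w₁ := ⟨_, rfl⟩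
  have hw₀W : w₀ ∈ Wsp C e f := by rw [hw₀d]; exact (Wsp C e f).smul_mem ν hw₁W
  have hw₀ : hu C.σ w₀ w₀ = 1 := by
    rw [hw₀d, hu_smul_left, hu_smul_right, ← mul_assoc, hν, inv_mul_cancel₀ hh0]
  have hw₀0 : w₀ ≠ 0 := by
    intro h
    rw [h, hu_zero_left] at hw₀
    exact zero_ne_one hw₀
  have hline : ∀ c : F, ∃ c' : F, phi C e f α (c • w₀) = c' • phi C e f α w₀ := by
    intro c
    obtain ⟨k, hk⟩ := dep_of_aniso C hB (hα.phi_mem H hn2 hw₀W) hw₀W hw₀0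
    have hk0 : k ≠ 0 := by
      rintro rfl
      rw [zero_smul] at hk
      exact hw₀0 ((hα.phi_eq_zero_iff H hn2 hw₀W).mp hk)
    obtain ⟨c'', hc''⟩ := dep_of_aniso C hB
      (hα.phi_mem H hn2 ((Wsp C e f).smul_mem c hw₀W)) hw₀W hw₀0
    refine ⟨c'' * k⁻¹, ?_⟩
    rw [hc'', hk, smul_smul, mul_assoc, inv_mul_cancel₀ hk0, mul_one]
  obtain ⟨Θ, hΘ, hΘ1, hΘadd, -⟩ := hα.exists_Theta H hn2 hw₀W hw₀0 hline
  have hχ : ∀ d c : F, d ≠ 0 →
      Θ (C.σ d * (C.σ d / d) * c) = Θ (C.σ d * (C.σ d / d)) * Θ c := by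
    intro d c hd
    obtain ⟨l, hl, hle, hlw⟩ := exists_torusB H hw₀W hw₀ hd
    exact hα.Theta_torus H hn2 hw₀W hw₀0 hΘ hl hle hlw c
  obtain ⟨θ, hθ⟩ := ringAut_of Θ hΘ1 hΘadd (mul_of_chi C hq3 Θ hΘadd hχ)
  refine ⟨θ, ?_⟩
  intro w hwW c
  obtain ⟨k, rfl⟩ := dep_of_aniso C hB hwW hw₀W hw₀0
  rw [smul_smul, hΘ, hΘ, ← hθ, ← hθ, map_mul, smul_smul]

/-- the map induced on `W` by a standard automorphism is semilinear. -/
theorem StdA.semilinear (hn : 3 ≤ n) (hnq : ¬(n = 3 ∧ q = 2)) {α : MulAut Gb}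
    (hα : StdA C e f α) :
    ∃ θ : RingAut F, ∀ w ∈ Wsp C e f, ∀ c : F,
      phi C e f α (c • w) = θ c • phi C e f α w := by
  by_cases hA : ∃ w ∈ Wsp C e f, w ≠ 0 ∧ hu C.σ w w = 0
  · obtain ⟨w₁, hw₁W, hw₁0, hw₁⟩ := hA
    exact hα.semilinearA H (by omega) hw₁W hw₁0 hw₁
  · push Not at hA
    have hB : ∀ v ∈ Wsp C e f, hu C.σ v v = 0 → v = 0 := by
      intro v hvW hv
      by_contra hv0
      exact hA v hvW hv0 hv
    have hn3 : n = 3 := by
      by_contra hne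
      obtain ⟨w, hwW, hw0, hw⟩ := exists_iso_W (by omega : 4 ≤ n) H
      exact hw0 (hB w hwW hw)
    have hq3 : 3 ≤ q := by
      have := C.two_le_q
      by_contra hlt
      exact hnq ⟨hn3, by omega⟩
    exact hα.semilinearB H hn hq3 hB

end hp

end Cfsg.Agent.Lib.Helper07.UG
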