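import Mathlib
import Cfsg.Agent.Lib.Helper07.PSUr

set_option autoImplicit false
set_option linter.unusedSectionVars false
set_option linter.unusedVariables false

/-! Unitary groups: the map induced on `W` by a standard automorphism of `PSU_n(q)` preserves the
Hermitian form up to a scalar and a field automorphism. -/

namespace Cfsg.Agent.Lib.Helper07.UG

open Matrix

variable {n : ℕ} {F : Type*} [Field F] [Fintype F] {q : ℕ} {C : UC F q}

local notation "Gb" => Cfsg.PSU n F q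

lemma UC.exists_not_fixed (C : UC F q) : ∃ z : F, C.σ z ≠ z := by
  by_contra hcon
  push Not at hcon
  apply C.hσ1
  ext a
  exact hcon a

section hp
variable {e f : Fin n → F} (H : HP C e f)
include H

/-- the parameter of a central root element is determined by its class. -/
lemma tvG_param_inj (hn : 2 ≤ n) {c c' : F} (hc : c + C.σ c = 0) (hc' : c' + C.σ c' = 0)
    (h : (mkP (tvG C e c) : Gb) = mkP (tvG C e c')) : c = c' := by
  have h1 := eq_of_mkP_eq_of_pow (C := C) hn h (tvG_pow_p H.he hc) (tvG_pow_p H.he hc')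
  have h2 : act (tvG C e c) f = act (tvG C e c') f := by rw [h1]
  rw [act_tvG C H.he hc, act_tvG C H.he hc', H.hfe, mul_one, mul_one] at h2
  have h3 : (c - c') • e = 0 := by
    rw [sub_smul]
    exact sub_eq_zero.mpr (add_left_cancel h2)
  rcases smul_eq_zero.mp h3 with h4 | h4
  · exact sub_eq_zero.mp h4
  · exact absurd h4 H.e_ne

/-- the commutator of two elements of `Q̄_e`. -/
lemma comm_InQ {X Y : Gb} {x y : Fin n → F} (hX : InQ C e f X x) (hY : InQ C e f Y y) :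
    (Y * X)⁻¹ * (X * Y) = mkP (tvG C e (hu C.σ x y - hu C.σ y x)) := by
  obtain ⟨hx, a, ha, rfl⟩ := hX
  obtain ⟨hy, b, hb, rfl⟩ := hY
  have hxy : C.σ (hu C.σ x y) = hu C.σ y x := hu_conj C.σ C.hσ x y
  have hyx : C.σ (hu C.σ y x) = hu C.σ x y := hu_conj C.σ C.hσ y x
  have hc : (hu C.σ x y - hu C.σ y x) + C.σ (hu C.σ x y - hu C.σ y x) = 0 := by
    rw [map_sub, hxy, hyx]; ring
  have hyxe : hu C.σ (y + x) e = 0 := by rw [hu_add_left, hx.1, hy.1, add_zero]
  have hba : (b + a - hu C.σ x y) + C.σ (b + a - hu C.σ x y) + hu C.σ (y + x) (y + x) = 0 := by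
    simp only [map_add, map_sub, hxy, hu_add_left, hu_add_right]
    linear_combination ha + hb
  have h0 : (hu C.σ x y - hu C.σ y x) + C.σ (hu C.σ x y - hu C.σ y x) +
      hu C.σ (0 : Fin n → F) 0 = 0 := by rw [hu_zero_left, add_zero]; exact hc
  have key : esG C e x a * esG C e y b =
      esG C e y b * esG C e x a * tvG C e (hu C.σ x y - hu C.σ y x) := by
    rw [esG_mul C H.he hx.1 hy.1 ha hb, esG_mul C H.he hy.1 hx.1 hb ha]
    unfold tvG
    rw [esG_mul C H.he hyxe (hu_zero_left _ _) hba h0, hu_zero_left, add_zero, sub_zero]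
    congr 1
    · abel
    · ring
  rw [← map_mul, ← map_mul, ← map_inv, ← map_mul, key, ← mul_assoc, inv_mul_cancel, one_mul]

/-- automorphisms respect the commutator form. -/
lemma StdA.B_eq (hn : 2 ≤ n) {α : MulAut Gb} (hα : StdA C e f α) {x y x' y' : Fin n → F}
    (hx : x ∈ Wsp C e f) (hy : y ∈ Wsp C e f) (hx' : x' ∈ Wsp C e f) (hy' : y' ∈ Wsp C e f)
    (h : hu C.σ x y - hu C.σ y x = hu C.σ x' y' - hu C.σ y' x') :
    hu C.σ (phi C e f α x) (phi C e f α y) - hu C.σ (phi C e f α y) (phi C e f α x) =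
      hu C.σ (phi C e f α x') (phi C e f α y') - hu C.σ (phi C e f α y') (phi C e f α x') := by
  obtain ⟨X, hX⟩ := UG.exists_InQ (C := C) hx
  obtain ⟨Y, hY⟩ := UG.exists_InQ (C := C) hy
  obtain ⟨X', hX'⟩ := UG.exists_InQ (C := C) hx'
  obtain ⟨Y', hY'⟩ := UG.exists_InQ (C := C) hy'
  have h1 := comm_InQ H hX hY
  have h2 := comm_InQ H hX' hY'
  have h3 := comm_InQ H (hα.phi_spec H hn hx X hX) (hα.phi_spec H hn hy Y hY)
  have h4 := comm_InQ H (hα.phi_spec H hn hx' X' hX') (hα.phi_spec H hn hy' Y' hY')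
  have h5 : (α Y * α X)⁻¹ * (α X * α Y) = (α Y' * α X')⁻¹ * (α X' * α Y') := by
    rw [← map_mul, ← map_mul, ← map_inv, ← map_mul, ← map_mul, ← map_mul, ← map_inv, ← map_mul,
      h1, h2, h]
  rw [h3, h4] at h5
  have tr0 : ∀ a b : Fin n → F, (hu C.σ a b - hu C.σ b a) + C.σ (hu C.σ a b - hu C.σ b a) = 0 := by
    intro a b
    rw [map_sub, hu_conj C.σ C.hσ a b, hu_conj C.σ C.hσ b a]; ring
  exact tvG_param_inj H hn (tr0 _ _) (tr0 _ _) h5

/-- the induced semilinear map preserves the form up to a scalar of the fixed field. -/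
theorem StdA.form (hn : 3 ≤ n) {α : MulAut Gb} (hα : StdA C e f α) {θ : RingAut F}
    (hθ : ∀ w ∈ Wsp C e f, ∀ c : F, phi C e f α (c • w) = θ c • phi C e f α w) :
    ∃ c₁ : F, c₁ ≠ 0 ∧ C.σ c₁ = c₁ ∧ ∀ x ∈ Wsp C e f, ∀ y ∈ Wsp C e f,
      hu C.σ (phi C e f α x) (phi C e f α y) = c₁ * θ (hu C.σ x y) := by
  have hn2 : 2 ≤ n := by omega
  obtain ⟨x₀, hx₀W, hx₀0⟩ := exists_ne_zero_W hn H
  obtain ⟨y', hy'W, hy'⟩ := nd_Wsp H x₀ hx₀W hx₀0
  obtain ⟨y₀, hy₀d⟩ : ∃ y₀ : Fin n → F, y₀ = C.σ (hu C.σ x₀ y')⁻¹ • y' := ⟨_, rfl⟩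
  have hy₀W : y₀ ∈ Wsp C e f := by rw [hy₀d]; exact (Wsp C e f).smul_mem _ hy'W
  have hxy₀ : hu C.σ x₀ y₀ = 1 := by
    rw [hy₀d, hu_smul_right, C.hσ, inv_mul_cancel₀ hy']
  have hyx₀ : hu C.σ y₀ x₀ = 1 := hu_eq_one_symm C hxy₀
  set k := hu C.σ (phi C e f α x₀) (phi C e f α y₀) with hk
  have hσk' : hu C.σ (phi C e f α y₀) (phi C e f α x₀) = C.σ k := by
    rw [hk, hu_conj C.σ C.hσ]
  -- `k` is fixed
  have hσk : C.σ k = k := by
    have h1 := hα.B_eq H hn2 hx₀W hy₀W (Wsp C e f).zero_mem hy₀W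
      (by rw [hxy₀, hyx₀, hu_zero_left, hu_zero_right]; ring)
    rw [hα.phi_zero H hn2, hu_zero_left, hu_zero_right, sub_zero, ← hk, hσk'] at h1
    exact (sub_eq_zero.mp h1).symm
  obtain ⟨z, hz⟩ := C.exists_not_fixed
  have main : ∀ x ∈ Wsp C e f, ∀ y ∈ Wsp C e f,
      hu C.σ (phi C e f α x) (phi C e f α y) = k * θ (hu C.σ x y) := by
    intro x hxW y hyW
    set h := hu C.σ x y with hh
    set h' := hu C.σ (phi C e f α x) (phi C e f α y) with hh'
    have hyx : hu C.σ y x = C.σ h := by rw [hh, hu_conj C.σ C.hσ]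
    have hyx' : hu C.σ (phi C e f α y) (phi C e f α x) = C.σ h' := by
      rw [hh', hu_conj C.σ C.hσ]
    have key : ∀ t : F, C.σ (t * (h' - k * θ h)) = t * (h' - k * θ h) := by
      intro t
      obtain ⟨c, rfl⟩ := θ.surjective t
      have h1 := hα.B_eq H hn2 ((Wsp C e f).smul_mem c hxW) hyW
        ((Wsp C e f).smul_mem (c * h) hx₀W) hy₀W (by
          rw [hu_smul_left, hu_smul_right, hu_smul_left, hu_smul_right, hxy₀, hyx₀, hyx, ← hh,
            map_mul]
          ring)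
      rw [hθ x hxW, hθ x₀ hx₀W, hu_smul_left, hu_smul_right, hu_smul_left, hu_smul_right, ← hk,
        ← hh', hyx', hσk'] at h1
      simp only [map_mul, map_sub, hσk] at h1 ⊢
      linear_combination -h1
    have hD1 := key 1
    rw [one_mul] at hD1
    have hD2 := key z
    rw [map_mul, hD1] at hD2
    have hD3 : (C.σ z - z) * (h' - k * θ h) = 0 := by rw [sub_mul, hD2, sub_self]
    rcases mul_eq_zero.mp hD3 with h0 | h0
    · exact absurd (sub_eq_zero.mp h0) hz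
    · exact sub_eq_zero.mp h0
  refine ⟨k, ?_, hσk, main⟩
  intro hk0
  have hφ0 : phi C e f α x₀ ≠ 0 := fun h => hx₀0 ((hα.phi_eq_zero_iff H hn2 hx₀W).mp h)
  obtain ⟨z', hz'W, hz'⟩ := nd_Wsp H _ (hα.phi_mem H hn2 hx₀W) hφ0
  apply hz'
  rw [← hα.phi_phi_inv H hn2 hz'W, main x₀ hx₀W _ (hα.inv.phi_mem H hn2 hz'W), hk0, zero_mul]

end hp

end Cfsg.Agent.Lib.Helper07.UG
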