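import Mathlib
import Cfsg.Agent.Lib.Helper07.PSUs

set_option autoImplicit false
set_option linter.unusedSectionVars false
set_option linter.unusedVariables false

/-! Unitary groups: a semilinear similitude of `W` extends to a semilinear isometry of the whole
space, which induces a standard automorphism of `PSU_n(q)` with prescribed action on `W`. -/

namespace Cfsg.Agent.Lib.Helper07.UG

open Matrix

variable {n : ℕ} {F : Type*} [Field F] [Fintype F] {q : ℕ} {C : UC F q}

local notation "Gb" => Cfsg.PSU n F q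

/-- the matrix of a semilinear map. -/
def smat (G : (Fin n → F) → (Fin n → F)) : Matrix (Fin n) (Fin n) F :=
  Matrix.of fun i j => G (Pi.single j 1) i

lemma smat_mulVec (θ : RingAut F) (G : (Fin n → F) → (Fin n → F))
    (hadd : ∀ x y, G (x + y) = G x + G y) (hsmul : ∀ (c : F) x, G (c • x) = θ c • G x)
    (x : Fin n → F) : smat G *ᵥ (fun j => θ (x j)) = G x := by
  have h0 : G 0 = 0 := by
    have h := hadd 0 0
    rw [add_zero] at h
    have h2 : G 0 + 0 = G 0 + G 0 := by rw [add_zero]; exact h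
    exact (add_left_cancel h2).symm
  have hsum : ∀ s : Finset (Fin n), G (∑ j ∈ s, x j • (Pi.single j (1 : F) : Fin n → F)) =
      ∑ j ∈ s, θ (x j) • G (Pi.single j 1) := by
    intro s
    induction s using Finset.induction_on with
    | empty => rw [Finset.sum_empty, Finset.sum_empty, h0]
    | insert a s ha ih => rw [Finset.sum_insert ha, Finset.sum_insert ha, hadd, hsmul, ih]
  have hx : (∑ j, x j • (Pi.single j (1 : F) : Fin n → F)) = x := by
    funext i
    simp [Finset.sum_apply, Pi.single_apply]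
  have h1 := hsum Finset.univ
  rw [hx] at h1
  rw [h1]
  funext i
  simp only [smat, mulVec, dotProduct, Matrix.of_apply, Finset.sum_apply, Pi.smul_apply,
    smul_eq_mul]
  apply Finset.sum_congr rfl
  intro j _
  ring

/-- a semilinear similitude of `W`, with a square root `ν` of its multiplier. -/
structure SLin (C : UC F q) (e f : Fin n → F) (φ : (Fin n → F) → (Fin n → F)) (θ : RingAut F)
    (ν : F) : Prop where
  hν0 : ν ≠ 0
  mem : ∀ w ∈ Wsp C e f, φ w ∈ Wsp C e f
  add : ∀ w ∈ Wsp C e f, ∀ w' ∈ Wsp C e f, φ (w + w') = φ w + φ w'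
  smul : ∀ w ∈ Wsp C e f, ∀ c : F, φ (c • w) = θ c • φ w
  form : ∀ x ∈ Wsp C e f, ∀ y ∈ Wsp C e f,
    hu C.σ (φ x) (φ y) = ν * C.σ ν * θ (hu C.σ x y)

/-- the extension of a semilinear similitude of `W`. -/
def Gf (C : UC F q) (e f : Fin n → F) (φ : (Fin n → F) → (Fin n → F)) (θ : RingAut F) (ν : F)
    (x : Fin n → F) : Fin n → F :=
  (C.σ ν * θ (hu C.σ x f)) • e + (ν⁻¹ * θ (hu C.σ x e)) • f + ν⁻¹ • φ (pW C e f x)

section hp
variable {e f : Fin n → F} (H : HP C e f) {φ : (Fin n → F) → (Fin n → F)} {θ : RingAut F} {ν : F}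
  (S : SLin C e f φ θ ν)
include H S

lemma Gf_add (x y : Fin n → F) :
    Gf C e f φ θ ν (x + y) = Gf C e f φ θ ν x + Gf C e f φ θ ν y := by
  unfold Gf
  rw [hu_add_left, hu_add_left, map_add, map_add, pW_add, S.add _ (pW_mem H x) _ (pW_mem H y),
    mul_add, mul_add, add_smul, add_smul, smul_add]
  abel

lemma Gf_smul (c : F) (x : Fin n → F) :
    Gf C e f φ θ ν (c • x) = θ c • Gf C e f φ θ ν x := by
  unfold Gf
  rw [hu_smul_left, hu_smul_left, map_mul, map_mul, pW_smul, S.smul _ (pW_mem H x), smul_add,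
    smul_add, smul_smul, smul_smul, smul_smul, smul_smul]
  congr 1
  · congr 1
    · congr 1; ring
    · congr 1; ring
  · congr 1; ring

lemma hu_Gf_e (x : Fin n → F) : hu C.σ (Gf C e f φ θ ν x) e = ν⁻¹ * θ (hu C.σ x e) := by
  unfold Gf
  rw [hu_add_left, hu_add_left, hu_smul_left, hu_smul_left, hu_smul_left, H.he, H.hfe,
    (S.mem _ (pW_mem H x)).1]
  ring

lemma hu_Gf_f (x : Fin n → F) : hu C.σ (Gf C e f φ θ ν x) f = C.σ ν * θ (hu C.σ x f) := by
  unfold Gf
  rw [hu_add_left, hu_add_left, hu_smul_left, hu_smul_left, hu_smul_left, H.hef, H.hf,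
    (S.mem _ (pW_mem H x)).2]
  ring

lemma hu_Gf_W (x : Fin n → F) {w : Fin n → F} (hw : w ∈ Wsp C e f) :
    hu C.σ (Gf C e f φ θ ν x) (φ w) = C.σ ν * θ (hu C.σ x w) := by
  unfold Gf
  rw [hu_add_left, hu_add_left, hu_smul_left, hu_smul_left, hu_smul_left,
    (mem_Wsp_symm (S.mem w hw)).1, (mem_Wsp_symm (S.mem w hw)).2, S.form _ (pW_mem H x) _ hw,
    hu_pW_left hw]
  have := S.hν0
  field_simp
  ring

lemma Gf_e : Gf C e f φ θ ν e = C.σ ν • e := by
  have h0 : φ 0 = 0 := by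
    have h := S.add 0 (Wsp C e f).zero_mem 0 (Wsp C e f).zero_mem
    rw [add_zero] at h
    have h2 : φ 0 + 0 = φ 0 + φ 0 := by rw [add_zero]; exact h
    exact (add_left_cancel h2).symm
  unfold Gf
  rw [H.hef, H.he, pW_e H, h0, map_one, map_zero]
  simp

lemma Gf_f : Gf C e f φ θ ν f = ν⁻¹ • f := by
  have h0 : φ 0 = 0 := by
    have h := S.add 0 (Wsp C e f).zero_mem 0 (Wsp C e f).zero_mem
    rw [add_zero] at h
    have h2 : φ 0 + 0 = φ 0 + φ 0 := by rw [add_zero]; exact h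
    exact (add_left_cancel h2).symm
  unfold Gf
  rw [H.hf, H.hfe, pW_f H, h0, map_one, map_zero]
  simp

lemma Gf_W {w : Fin n → F} (hw : w ∈ Wsp C e f) : Gf C e f φ θ ν w = ν⁻¹ • φ w := by
  unfold Gf
  rw [hw.1, hw.2, pW_of_mem hw, map_zero]
  simp

/-- the extension preserves the form up to the field automorphism. -/
lemma hu_Gf (x y : Fin n → F) :
    hu C.σ (Gf C e f φ θ ν x) (Gf C e f φ θ ν y) = θ (hu C.σ x y) := by
  have hν0 := S.hν0
  have hσν0 : C.σ ν ≠ 0 := (map_ne_zero_iff _ C.σ.injective).mpr hν0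
  have hxy : hu C.σ x y = hu C.σ x f * C.σ (hu C.σ y e) + hu C.σ x e * C.σ (hu C.σ y f) +
      hu C.σ x (pW C e f y) := by
    conv_lhs => rw [decomp_pW (C := C) e f y]
    rw [hu_add_right, hu_add_right, hu_smul_right, hu_smul_right]
    ring
  have h1 : hu C.σ (Gf C e f φ θ ν x) (Gf C e f φ θ ν y) =
      C.σ (C.σ ν * θ (hu C.σ y f)) * hu C.σ (Gf C e f φ θ ν x) e +
      C.σ (ν⁻¹ * θ (hu C.σ y e)) * hu C.σ (Gf C e f φ θ ν x) f +
      C.σ ν⁻¹ * hu C.σ (Gf C e f φ θ ν x) (φ (pW C e f y)) := by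
    have hy : Gf C e f φ θ ν y = (C.σ ν * θ (hu C.σ y f)) • e + (ν⁻¹ * θ (hu C.σ y e)) • f +
        ν⁻¹ • φ (pW C e f y) := rfl
    conv_lhs => rw [hy]
    rw [hu_add_right, hu_add_right, hu_smul_right, hu_smul_right, hu_smul_right]
  rw [h1, hu_Gf_e H S, hu_Gf_f H S, hu_Gf_W H S x (pW_mem H y), hxy]
  simp only [map_mul, map_add, map_inv₀, C.hσ, C.comm_σ θ]
  field_simp
  ring

end hp

end Cfsg.Agent.Lib.Helper07.UG
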