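import Mathlib
import Cfsg.Agent.Lib.Helper07.PSUt

set_option autoImplicit false
set_option linter.unusedSectionVars false
set_option linter.unusedVariables false

/-! Unitary groups: the automorphism of `PSU_n(q)` induced by the extension of a semilinear
similitude of `W` is standard and induces the given map on `W`. -/

namespace Cfsg.Agent.Lib.Helper07.UG

open Matrix

variable {n : ℕ} {F : Type*} [Field F] [Fintype F] {q : ℕ} {C : UC F q}

local notation "Gb" => Cfsg.PSU n F q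

lemma image_eq_of_subset {G : Type*} [Group G] [Finite G] (α : MulAut G) {X : Set G}
    (h : α '' X ⊆ X) : α '' X = X := by
  apply Set.eq_of_subset_of_ncard_le h ?_ (Set.toFinite X)
  rw [Set.ncard_image_of_injective X α.injective]

lemma exists_gU {M : Matrix (Fin n) (Fin n) F} (hU : IsU C.σ M) :
    ∃ g : ↥(Cfsg.GU n F q), g.1.val = M :=
  ⟨⟨Matrix.GeneralLinearGroup.mkOfDetNeZero M hU.det_ne_zero, (mem_GU_iff_isU C _).mpr hU⟩, rfl⟩

section hp
variable {e f : Fin n → F} (H : HP C e f) {φ : (Fin n → F) → (Fin n → F)} {θ : RingAut F} {ν : F}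
  (S : SLin C e f φ θ ν)
include H S

lemma Gf_sub (x y : Fin n → F) :
    Gf C e f φ θ ν (x - y) = Gf C e f φ θ ν x - Gf C e f φ θ ν y := by
  rw [sub_eq_add_neg, ← neg_one_smul F y, Gf_add H S, Gf_smul H S, map_neg, map_one,
    neg_one_smul, ← sub_eq_add_neg]

lemma isU_smat : IsU C.σ (smat (Gf C e f φ θ ν)) := by
  intro y z
  have key : hu C.σ (smat (Gf C e f φ θ ν) *ᵥ (fun j => θ (θ.symm (y j))))
      (smat (Gf C e f φ θ ν) *ᵥ (fun j => θ (θ.symm (z j)))) =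
      hu C.σ (fun j => θ (θ.symm (y j))) (fun j => θ (θ.symm (z j))) := by
    rw [smat_mulVec θ _ (Gf_add H S) (Gf_smul H S), smat_mulVec θ _ (Gf_add H S) (Gf_smul H S),
      hu_Gf H S, hu_map C.σ θ (C.comm_σ θ)]
  simp only [RingEquiv.apply_symm_apply] at key
  exact key

/-- the automorphism induced by the extension, characterised through intertwining. -/
lemma exists_corr_aux : ∃ g : ↥(Cfsg.GU n F q), ∀ s t : SUn n F q,
    (∀ y, act t (Gf C e f φ θ ν y) = Gf C e f φ θ ν (act s y)) →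
      (conjU C g * fieldU C θ : MulAut Gb) (mkP s) = mkP t := by
  obtain ⟨g, hg⟩ := exists_gU (isU_smat H S)
  refine ⟨g, ?_⟩
  intro s t hst
  show conjU C g (fieldU C θ (mkP s)) = mkP t
  rw [fieldU_mkP, conjU_mkP]
  congr 1
  apply su_ext
  intro x
  set x₁ := g.1⁻¹.val *ᵥ x with hx₁
  set y : Fin n → F := fun j => θ.symm (x₁ j) with hy
  have hθy : (fun j => θ (y j)) = x₁ := by
    funext j
    rw [hy]
    exact θ.apply_symm_apply _
  have hx : Gf C e f φ θ ν y = x := by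
    rw [← smat_mulVec θ _ (Gf_add H S) (Gf_smul H S), hθy, ← hg, hx₁, mulVec_mulVec,
      ← Units.val_mul, mul_inv_cancel, Units.val_one, one_mulVec]
  rw [act_conjSU, act_fieldSU, ← hx₁]
  have h1 : (fun i => θ (act s (fun j => θ.symm (x₁ j)) i)) = fun i => θ ((act s y) i) := rfl
  rw [h1, hg, smat_mulVec θ _ (Gf_add H S) (Gf_smul H S), ← hst, hx]

lemma corr_es {β : MulAut Gb}
    (hβ : ∀ s t : SUn n F q, (∀ y, act t (Gf C e f φ θ ν y) = Gf C e f φ θ ν (act s y)) →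
      β (mkP s) = mkP t) {w : Fin n → F} (hw : w ∈ Wsp C e f) {a : F}
    (ha : a + C.σ a + hu C.σ w w = 0) :
    (ν * C.σ ν * θ a) + C.σ (ν * C.σ ν * θ a) + hu C.σ (φ w) (φ w) = 0 ∧
      β (mkP (esG C e w a)) = mkP (esG C e (φ w) (ν * C.σ ν * θ a)) := by
  have hν0 := S.hν0
  have ha' : (ν * C.σ ν * θ a) + C.σ (ν * C.σ ν * θ a) + hu C.σ (φ w) (φ w) = 0 := by
    rw [S.form w hw w hw]
    have h1 : θ (a + C.σ a + hu C.σ w w) = 0 := by rw [ha, map_zero]
    rw [map_add, map_add, C.comm_σ θ] at h1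
    simp only [map_mul, C.hσ]
    linear_combination (ν * C.σ ν) * h1
  refine ⟨ha', hβ _ _ ?_⟩
  intro y
  rw [act_esG C H.he (S.mem w hw).1 ha', act_esG C H.he hw.1 ha, Gf_add H S, Gf_sub H S,
    Gf_add H S, Gf_smul H S, Gf_smul H S, Gf_smul H S, Gf_e H S, Gf_W H S hw, hu_Gf_e H S,
    hu_Gf_W H S y hw]
  funext i
  simp only [Pi.add_apply, Pi.sub_apply, Pi.smul_apply, smul_eq_mul, map_mul]
  field_simp

lemma corr_tv {β : MulAut Gb}
    (hβ : ∀ s t : SUn n F q, (∀ y, act t (Gf C e f φ θ ν y) = Gf C e f φ θ ν (act s y)) →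
      β (mkP s) = mkP t) {b : F} (hb : b + C.σ b = 0) :
    (θ b / (ν * C.σ ν)) + C.σ (θ b / (ν * C.σ ν)) = 0 ∧
      β (mkP (tvG C f b)) = mkP (tvG C f (θ b / (ν * C.σ ν))) := by
  have hν0 := S.hν0
  have hσν0 : C.σ ν ≠ 0 := (map_ne_zero_iff _ C.σ.injective).mpr hν0
  have hb' : (θ b / (ν * C.σ ν)) + C.σ (θ b / (ν * C.σ ν)) = 0 := by
    have h1 : θ (b + C.σ b) = 0 := by rw [hb, map_zero]
    rw [map_add, C.comm_σ θ] at h1
    simp only [map_div₀, map_mul, C.hσ]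
    rw [mul_comm (C.σ ν) ν, ← add_div, h1, zero_div]
  refine ⟨hb', hβ _ _ ?_⟩
  intro y
  rw [act_tvG C H.hf hb', act_tvG C H.hf hb, Gf_add H S, Gf_smul H S, Gf_f H S, hu_Gf_f H S]
  funext i
  simp only [Pi.add_apply, Pi.smul_apply, smul_eq_mul, map_mul]
  field_simp

/-- the correcting automorphism. -/
theorem exists_corr (hn : 2 ≤ n) : ∃ g : ↥(Cfsg.GU n F q),
    StdA C e f (conjU C g * fieldU C θ) ∧
      ∀ w ∈ Wsp C e f, phi C e f (conjU C g * fieldU C θ) w = φ w := by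
  obtain ⟨g, hg⟩ := exists_corr_aux H S
  have h0 : φ 0 = 0 := by
    have h := S.add 0 (Wsp C e f).zero_mem 0 (Wsp C e f).zero_mem
    rw [add_zero] at h
    have h2 : φ 0 + 0 = φ 0 + φ 0 := by rw [add_zero]; exact h
    exact (add_left_cancel h2).symm
  have hstd : StdA C e f (conjU C g * fieldU C θ) := by
    constructor
    · apply image_eq_of_subset
      rintro _ ⟨_, ⟨a, ha, rfl⟩, rfl⟩
      have ha2 : a + C.σ a + hu C.σ (0 : Fin n → F) 0 = 0 := by
        rw [hu_zero_left, add_zero]; exact ha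
      obtain ⟨h1, h2⟩ := corr_es H S hg (Wsp C e f).zero_mem ha2
      rw [h0, hu_zero_left, add_zero] at h1
      refine ⟨ν * C.σ ν * θ a, h1, ?_⟩
      have : tvG C e a = esG C e 0 a := rfl
      rw [this, h2, h0]
      rfl
    · apply image_eq_of_subset
      rintro _ ⟨_, ⟨b, hb, rfl⟩, rfl⟩
      obtain ⟨h1, h2⟩ := corr_tv H S hg hb
      exact ⟨_, h1, h2⟩
  refine ⟨g, hstd, ?_⟩
  intro w hw
  obtain ⟨a, ha⟩ := C.exists_tr_eq (- hu C.σ w w) (by rw [map_neg, hu_self_fixed])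
  have ha2 : a + C.σ a + hu C.σ w w = 0 := by rw [ha]; ring
  obtain ⟨h1, h2⟩ := corr_es H S hg hw ha2
  exact hstd.phi_eq H hn ⟨hw, a, ha2, rfl⟩ ⟨S.mem w hw, _, h1, h2⟩

end hp

end Cfsg.Agent.Lib.Helper07.UG
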