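import Mathlib
import Cfsg.Agent.Lib.Helper07.PSUu

set_option autoImplicit false
set_option linter.unusedSectionVars false
set_option linter.unusedVariables false

/-! Unitary groups: a standard automorphism of `PSU_n(q)` inducing the identity on `W` is the
identity on the unipotent radical `Q̄_e`. -/

namespace Cfsg.Agent.Lib.Helper07.UG

open Matrix

variable {n : ℕ} {F : Type*} [Field F] [Fintype F] {q : ℕ} {C : UC F q}

local notation "Gb" => Cfsg.PSU n F q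

lemma aut_mul_conj {G : Type*} [Group G] (γ : MulAut G) (g : G) :
    γ * MulAut.conj g = MulAut.conj (γ g) * γ := by
  ext x
  simp [MulAut.conj_apply]

/-- images of conjugated long root subgroups. -/
lemma image_conj_Xb (γ : MulAut Gb) {s s' : SUn n F q} (hs : γ (mkP s) = mkP s')
    {v v₁ : Fin n → F} (hv : hu C.σ v v = 0) (hv₁ : hu C.σ v₁ v₁ = 0)
    (hγv : γ '' Xb C v = Xb C v₁) : γ '' Xb C (act s v) = Xb C (act s' v₁) := by
  rw [← conj_image_Xb s hv, ← mul_image, aut_mul_conj, mul_image, hγv, hs, conj_image_Xb s' hv₁]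

lemma UC.sigma_cube_ne (C : UC F q) {t : F} (ht0 : t ≠ 0) (ht : t ^ (3 * (q - 1)) ≠ 1) :
    C.σ t ^ 3 ≠ t ^ 3 := by
  intro h1
  rw [C.hσq, ← pow_mul] at h1
  have h2 : t ^ (3 * (q - 1)) * t ^ 3 = 1 * t ^ 3 := by
    rw [← pow_add, one_mul, ← h1]
    congr 1
    have := C.two_le_q
    have h3 : 3 * (q - 1) + 3 = 3 * q := by omega
    rw [h3, mul_comm]
  exact ht (mul_right_cancel₀ (pow_ne_zero 3 ht0) h2)

section hp
variable {e f : Fin n → F} (H : HP C e f)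
include H

/-- every trace-zero element is a value of the commutator form on `W`. -/
lemma exists_B_eq (hn : 3 ≤ n) {c : F} (hc : c + C.σ c = 0) :
    ∃ x ∈ Wsp C e f, ∃ y ∈ Wsp C e f, hu C.σ x y - hu C.σ y x = c := by
  obtain ⟨x₀, hx₀W, hx₀0⟩ := exists_ne_zero_W hn H
  obtain ⟨y', hy'W, hy'⟩ := nd_Wsp H x₀ hx₀W hx₀0
  obtain ⟨κ, hκ0, hκ⟩ := C.exists_kappa
  have hσc : C.σ c = -c := by linear_combination hc
  obtain ⟨t, ht⟩ := C.exists_tr_eq (c / κ) (by rw [map_div₀, hσc, hκ, neg_div_neg_eq])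
  set h := κ * t with hh
  have hh' : h - C.σ h = c := by
    rw [hh, map_mul, hκ]
    have : κ * t - -κ * C.σ t = κ * (t + C.σ t) := by ring
    rw [this, ht, mul_div_cancel₀ _ hκ0]
  refine ⟨x₀, hx₀W, C.σ (h / hu C.σ x₀ y') • y', (Wsp C e f).smul_mem _ hy'W, ?_⟩
  have h1 : hu C.σ x₀ (C.σ (h / hu C.σ x₀ y') • y') = h := by
    rw [hu_smul_right, C.hσ, div_mul_cancel₀ _ hy']
  have h2 : hu C.σ (C.σ (h / hu C.σ x₀ y') • y') x₀ = C.σ h := by
    rw [← hu_conj C.σ C.hσ, h1]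
  rw [h1, h2, hh']

/-- a vector of norm one in an anisotropic `W`. -/
lemma exists_unit_W (hn : 3 ≤ n) (hB : ∀ v ∈ Wsp C e f, hu C.σ v v = 0 → v = 0) :
    ∃ w₀ ∈ Wsp C e f, hu C.σ w₀ w₀ = 1 := by
  obtain ⟨w₁, hw₁W, hw₁0⟩ := exists_ne_zero_W hn H
  have hh0 : hu C.σ w₁ w₁ ≠ 0 := fun h => hw₁0 (hB w₁ hw₁W h)
  obtain ⟨ν, hν0, hν⟩ := C.exists_norm_eq' (hu C.σ w₁ w₁)⁻¹
    (by rw [map_inv₀, hu_self_fixed]) (inv_ne_zero hh0)
  refine ⟨ν • w₁, (Wsp C e f).smul_mem ν hw₁W, ?_⟩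
  rw [hu_smul_left, hu_smul_right, ← mul_assoc, hν, inv_mul_cancel₀ hh0]

lemma exists_mul_Xb {X Y : Gb} {x : Fin n → F} (hX : InQ C e f X x) (hY : InQ C e f Y x) :
    ∃ z ∈ Xb C e, Y = X * z := by
  refine ⟨X⁻¹ * Y, ?_, by rw [mul_inv_cancel_left]⟩
  have h := InQ.mul H (hX.inv H) hY
  rwa [neg_add_cancel, InQ_zero_iff] at h

/-- explicit conjugation of an element of `Q̄_e` by the Levi factor. -/
lemma conj_es_Ls {l : SUn n F q} {c : F} (hl : l ∈ Ls e f) (hc : act l e = c • e)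
    {w : Fin n → F} (hw : w ∈ Wsp C e f) {a : F} (ha : a + C.σ a + hu C.σ w w = 0) :
    C.σ c • act l w ∈ Wsp C e f ∧
    (c * C.σ c * a) + C.σ (c * C.σ c * a) +
      hu C.σ (C.σ c • act l w) (C.σ c • act l w) = 0 ∧
    (mkP l * mkP (esG C e w a) * (mkP l)⁻¹ : Gb) =
      mkP (esG C e (C.σ c • act l w) (c * C.σ c * a)) := by
  have hlw := Ls_act_W H hl hw
  have ha' : a + C.σ a + hu C.σ (act l w) (act l w) = 0 := by rw [hu_act, ha]
  refine ⟨(Wsp C e f).smul_mem _ hlw, ?_, ?_⟩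
  · simp only [map_mul, C.hσ, hu_smul_left, hu_smul_right]
    linear_combination (c * C.σ c) * ha'
  · rw [← map_inv, ← map_mul, ← map_mul, conj_esG C l H.he hw.1 ha, hc, esG_smul C H.he hlw.1 ha']

lemma InQ_fix (hn : 2 ≤ n) {γ : MulAut Gb} (hγ : StdA C e f γ) (hid : ∀ w ∈ Wsp C e f, phi C e f γ w = w)
    {X : Gb} {x : Fin n → F} (hX : InQ C e f X x) : InQ C e f (γ X) x := by
  have h := hγ.phi_spec H hn hX.1 X hX
  rwa [hid x hX.1] at h

/-- the centre `X̄_e` is fixed pointwise. -/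
lemma fix_Xb (hn : 3 ≤ n) {γ : MulAut Gb} (hγ : StdA C e f γ) (hid : ∀ w ∈ Wsp C e f, phi C e f γ w = w)
    {z : Gb} (hz : z ∈ Xb C e) : γ z = z := by
  have hn2 : 2 ≤ n := by omega
  obtain ⟨c, hc, rfl⟩ := hz
  obtain ⟨x, hx, y, hy, hxy⟩ := exists_B_eq H hn hc
  obtain ⟨X, hX⟩ := exists_InQ (C := C) hx
  obtain ⟨Y, hY⟩ := exists_InQ (C := C) hy
  have h1 := comm_InQ H hX hY
  have h2 := comm_InQ H (InQ_fix H hn2 hγ hid hX) (InQ_fix H hn2 hγ hid hY)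
  rw [hxy] at h1 h2
  rw [← h1, map_mul, map_inv, map_mul, map_mul, h2, h1]

/-- elements of `Q̄_e` along isotropic vectors of `W` are fixed. -/
lemma fix_es_iso (hn : 3 ≤ n) {γ : MulAut Gb} (hγ : StdA C e f γ) (hid : ∀ w ∈ Wsp C e f, phi C e f γ w = w)
    {v : Fin n → F} (hvW : v ∈ Wsp C e f) (hv : hu C.σ v v = 0) {a : F} (ha : a + C.σ a = 0) :
    γ (mkP (esG C e v a)) = mkP (esG C e v a) := by
  have hn2 : 2 ≤ n := by omega
  have ha2 : a + C.σ a + hu C.σ v v = 0 := by rw [hv, add_zero]; exact ha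
  have hX : InQ C e f (mkP (esG C e v a)) v := ⟨hvW, a, ha2, rfl⟩
  obtain ⟨-, a', ha2', hγX⟩ := InQ_fix H hn2 hγ hid hX
  have ha' : a' + C.σ a' = 0 := by rw [hv, add_zero] at ha2'; exact ha2'
  have h1 := image_conj_Xb γ hγX H.hf H.hf hγ.2
  have h2 := image_conj_Xb γ (fix_Xb H hn hγ hid ⟨a, ha, rfl⟩) H.hf H.hf hγ.2
  rw [act_esG_f H hvW ha2, act_esG_f H hvW ha2'] at h1
  rw [act_tvG C H.he ha, H.hfe, mul_one] at h2
  have hne : ∀ (w : Fin n → F) (b : F), w ∈ Wsp C e f → f + w + b • e ≠ 0 := by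
    intro w b hw h0
    have h3 : hu C.σ (f + w + b • e) e = 0 := by rw [h0, hu_zero_left]
    rw [hu_add_left, hu_add_left, hu_smul_left, H.hfe, hw.1, H.he] at h3
    simp at h3
  have hiso : ∀ (w : Fin n → F) (b : F), w ∈ Wsp C e f → b + C.σ b + hu C.σ w w = 0 →
      hu C.σ (f + w + b • e) (f + w + b • e) = 0 := by
    intro w b hw hb
    simp only [hu_add_left, hu_add_right, hu_smul_left, hu_smul_right, H.he, H.hf, H.hef, H.hfe,
      hw.1, hw.2, (mem_Wsp_symm hw).1, (mem_Wsp_symm hw).2]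
    linear_combination hb
  have h0W : (0 : Fin n → F) ∈ Wsp C e f := (Wsp C e f).zero_mem
  have hf0 : f + a • e = f + 0 + a • e := by rw [add_zero]
  rw [hf0] at h2
  have ha0 : a + C.σ a + hu C.σ (0 : Fin n → F) 0 = 0 := by rw [hu_zero_left, add_zero]; exact ha
  have h3 := (orth_image hn2 γ (hne v a hvW) (hne 0 a h0W) (hiso v a hvW ha2) (hiso 0 a h0W ha0)
    (hne v a' hvW) (hne 0 a h0W) (hiso v a' hvW ha2') (hiso 0 a h0W ha0) h1 h2).mpr (by
      simp only [hu_add_left, hu_add_right, hu_smul_left, hu_smul_right, H.he, H.hf, H.hef, H.hfe,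
        hvW.1, hvW.2, hu_zero_right]
      linear_combination ha)
  simp only [hu_add_left, hu_add_right, hu_smul_left, hu_smul_right, H.he, H.hf, H.hef, H.hfe,
    hvW.1, hvW.2, hu_zero_right] at h3
  have haa' : a' = a := by linear_combination h3 - ha
  rw [hγX, haa']

/-- the unipotent radical is fixed pointwise when `W` contains isotropic vectors. -/
lemma fix_Qb_A (hn : 3 ≤ n) {γ : MulAut Gb} (hγ : StdA C e f γ) (hid : ∀ w ∈ Wsp C e f, phi C e f γ w = w)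
    {w₁ : Fin n → F} (hw₁W : w₁ ∈ Wsp C e f) (hw₁0 : w₁ ≠ 0) (hw₁ : hu C.σ w₁ w₁ = 0)
    {X : Gb} (hX : X ∈ Qb C e) : γ X = X := by
  obtain ⟨x, hXx⟩ := (mem_Qb_iff H X).mp hX
  obtain ⟨v₁, v₂, v₃, h1, h2, h3, h1', h2', h3', rfl⟩ :=
    exists_three_iso C (nd_Wsp H) hw₁W hw₁0 hw₁ hXx.1
  have h00 : (0 : F) + C.σ 0 = 0 := by rw [map_zero, add_zero]
  have hI : ∀ v ∈ Wsp C e f, hu C.σ v v = 0 → InQ C e f (mkP (esG C e v 0)) v := by
    intro v hvW hv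
    exact ⟨hvW, 0, by rw [hv, map_zero, add_zero, add_zero], rfl⟩
  have hY := InQ.mul H (InQ.mul H (hI v₁ h1 h1') (hI v₂ h2 h2')) (hI v₃ h3 h3')
  obtain ⟨z, hz, rfl⟩ := exists_mul_Xb H hY hXx
  rw [map_mul, map_mul, map_mul, fix_es_iso H hn hγ hid h1 h1' h00,
    fix_es_iso H hn hγ hid h2 h2' h00, fix_es_iso H hn hγ hid h3 h3' h00,
    fix_Xb H hn hγ hid hz]

end hp

end Cfsg.Agent.Lib.Helper07.UG
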