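import Mathlib
import Cfsg.Agent.Lib.Helper07.PSUv

set_option autoImplicit false
set_option linter.unusedSectionVars false
set_option linter.unusedVariables false

/-! Unitary groups: the anisotropic case of the rigidity of `Q̄_e`; propagation of fixed points. -/

namespace Cfsg.Agent.Lib.Helper07.UG

open Matrix

variable {n : ℕ} {F : Type*} [Field F] [Fintype F] {q : ℕ} {C : UC F q}

local notation "Gb" => Cfsg.PSU n F q

section hp
variable {e f : Fin n → F} (H : HP C e f)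
include H

/-- the unipotent radical is fixed pointwise when `W` is anisotropic. -/
lemma fix_Qb_B (hn : 3 ≤ n) (hq3 : 3 ≤ q) {γ : MulAut Gb} (hγ : StdA C e f γ)
    (hid : ∀ w ∈ Wsp C e f, phi C e f γ w = w)
    (hB : ∀ v ∈ Wsp C e f, hu C.σ v v = 0 → v = 0) {Y : Gb} (hY : Y ∈ Qb C e) : γ Y = Y := by
  have hn2 : 2 ≤ n := by omega
  obtain ⟨w₀, hw₀W, hw₀⟩ := exists_unit_W H hn hB
  have hw₀0 : w₀ ≠ 0 := by
    intro h
    rw [h, hu_zero_left] at hw₀
    exact zero_ne_one hw₀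
  obtain ⟨t, ht0, ht⟩ := C.exists_pow_ne hq3
  have hσt0 : C.σ t ≠ 0 := (map_ne_zero_iff _ C.σ.injective).mpr ht0
  have hcube := C.sigma_cube_ne ht0 ht
  obtain ⟨d, hd⟩ : ∃ d : F, d = C.σ t / t := ⟨_, rfl⟩
  have hd0 : d ≠ 0 := by rw [hd]; exact div_ne_zero hσt0 ht0
  have hσd : C.σ d = t / C.σ t := by rw [hd, map_div₀, C.hσ]
  have hNd : d * C.σ d = 1 := by
    rw [hσd, hd]
    field_simp
  obtain ⟨δ, hδ⟩ : ∃ δ : F, δ = C.σ d * (C.σ d / d) := ⟨_, rfl⟩
  have hδ1 : δ - 1 ≠ 0 := by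
    intro h
    have h1 : δ = 1 := sub_eq_zero.mp h
    apply hcube
    rw [hδ, hσd, hd] at h1
    field_simp at h1
    linear_combination -h1
  obtain ⟨l, hl, hle, hlw⟩ := exists_torusB H hw₀W hw₀ hd0
  obtain ⟨l', c', hl', hc', hγl, hlev⟩ := hγ.levi hn2 H hl hle
  have hact : ∀ w ∈ Wsp C e f, C.σ d • act l w = C.σ c' • act l' w := by
    intro w hw
    have h1 := hlev w hw
    rw [hid w hw, hid _ ((Wsp C e f).smul_mem _ (Ls_act_W H hl hw))] at h1
    exact h1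
  -- the norms agree
  have hconjl : ∀ b : F, b + C.σ b = 0 →
      (mkP l * mkP (tvG C e b) * (mkP l)⁻¹ : Gb) = mkP (tvG C e b) := by
    intro b hb
    rw [← map_inv, ← map_mul, ← map_mul, conj_tvG C l H.he hb, hle, tvG_smul C H.he hb, hNd,
      one_mul]
  have hconjl' : ∀ b : F, b + C.σ b = 0 →
      (mkP l' * mkP (tvG C e b) * (mkP l')⁻¹ : Gb) = mkP (tvG C e (c' * C.σ c' * b)) := by
    intro b hb
    rw [← map_inv, ← map_mul, ← map_mul, conj_tvG C l' H.he hb, hc', tvG_smul C H.he hb]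
  have hN : c' * C.σ c' = 1 := by
    obtain ⟨κ, hκ0, hκ⟩ := C.exists_kappa
    have hκ' : κ + C.σ κ = 0 := by rw [hκ]; ring
    have hz : (mkP (tvG C e κ) : Gb) ∈ Xb C e := ⟨κ, hκ', rfl⟩
    have h3 : γ (mkP l * mkP (tvG C e κ) * (mkP l)⁻¹) =
        mkP l' * mkP (tvG C e κ) * (mkP l')⁻¹ := by
      rw [map_mul, map_mul, map_inv, hγl, fix_Xb H hn hγ hid hz]
    rw [hconjl κ hκ', hconjl' κ hκ', fix_Xb H hn hγ hid hz] at h3
    have hκ'' : c' * C.σ c' * κ + C.σ (c' * C.σ c' * κ) = 0 := by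
      simp only [map_mul, C.hσ]
      linear_combination (c' * C.σ c') * hκ'
    have h4 := tvG_param_inj H hn2 hκ' hκ'' h3
    have h5 : (c' * C.σ c' - 1) * κ = 0 := by linear_combination -h4
    rcases mul_eq_zero.mp h5 with h6 | h6
    · exact sub_eq_zero.mp h6
    · exact absurd h6 hκ0
  -- elements of the form `X' X⁻¹` are fixed
  have main : ∀ w ∈ Wsp C e f, ∀ a : F, a + C.σ a + hu C.σ w w = 0 →
      γ (mkP l * mkP (esG C e w a) * (mkP l)⁻¹ * (mkP (esG C e w a))⁻¹) =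
        mkP l * mkP (esG C e w a) * (mkP l)⁻¹ * (mkP (esG C e w a))⁻¹ := by
    intro w hw a ha
    have hX : InQ C e f (mkP (esG C e w a)) w := ⟨hw, a, ha, rfl⟩
    obtain ⟨z₁, hz₁, hγX⟩ := exists_mul_Xb H hX (InQ_fix H hn2 hγ hid hX)
    obtain ⟨b, hb, rfl⟩ := hz₁
    have hX' := (conj_es_Ls H hl hle hw ha).2.2
    have hX'' := (conj_es_Ls H hl' hc' hw ha).2.2
    have h1 : (mkP l' * mkP (esG C e w a) * (mkP l')⁻¹ : Gb) =
        mkP l * mkP (esG C e w a) * (mkP l)⁻¹ := by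
      rw [hX', hX'', hact w hw, hN, hNd]
    have h2 : (mkP l' * mkP (tvG C e b) * (mkP l')⁻¹ : Gb) = mkP (tvG C e b) := by
      rw [hconjl' b hb, hN, one_mul]
    have h3 : γ (mkP l * mkP (esG C e w a) * (mkP l)⁻¹) =
        mkP l * mkP (esG C e w a) * (mkP l)⁻¹ * mkP (tvG C e b) := by
      calc γ (mkP l * mkP (esG C e w a) * (mkP l)⁻¹)
          = mkP l' * (mkP (esG C e w a) * mkP (tvG C e b)) * (mkP l')⁻¹ := by
            rw [map_mul, map_mul, map_inv, hγl, hγX]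
        _ = (mkP l' * mkP (esG C e w a) * (mkP l')⁻¹) *
            (mkP l' * mkP (tvG C e b) * (mkP l')⁻¹) := by group
        _ = _ := by rw [h1, h2]
    rw [map_mul, map_inv, h3, hγX]
    group
  -- every element of `Q̄_e` is of that form up to the centre
  obtain ⟨y, hYy⟩ := (mem_Qb_iff H Y).mp hY
  obtain ⟨μ, hμ⟩ := dep_of_aniso C hB hYy.1 hw₀W hw₀0
  have hwW : (μ / (δ - 1)) • w₀ ∈ Wsp C e f := (Wsp C e f).smul_mem _ hw₀W
  obtain ⟨a, ha⟩ := C.exists_tr_eq (- hu C.σ ((μ / (δ - 1)) • w₀) ((μ / (δ - 1)) • w₀))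
    (by rw [map_neg, hu_self_fixed])
  have ha2 : a + C.σ a + hu C.σ ((μ / (δ - 1)) • w₀) ((μ / (δ - 1)) • w₀) = 0 := by
    rw [ha]; ring
  have hX : InQ C e f (mkP (esG C e ((μ / (δ - 1)) • w₀) a)) ((μ / (δ - 1)) • w₀) :=
    ⟨hwW, a, ha2, rfl⟩
  have hX' : InQ C e f (mkP l * mkP (esG C e ((μ / (δ - 1)) • w₀) a) * (mkP l)⁻¹)
      (C.σ d • act l ((μ / (δ - 1)) • w₀)) := InQ.conj_Ls H hl hle hX
  have hXX := InQ.mul H hX' (hX.inv H)
  have hy : C.σ d • act l ((μ / (δ - 1)) • w₀) + -((μ / (δ - 1)) • w₀) = y := by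
    rw [act_smul, hlw, smul_smul, smul_smul, hμ, ← neg_smul, ← add_smul]
    congr 1
    have : C.σ d * (μ / (δ - 1)) * (C.σ d / d) = δ * (μ / (δ - 1)) := by rw [hδ]; ring
    rw [this]
    field_simp
    ring
  rw [hy] at hXX
  obtain ⟨z, hz, rfl⟩ := exists_mul_Xb H hXX hYy
  rw [map_mul, main _ hwW a ha2, fix_Xb H hn hγ hid hz]

omit H in
/-- points opposite to `e₀` are fixed when `Q̄_{e₀}` is fixed pointwise. -/
lemma fix_opp {e₀ f₀ : Fin n → F} (H₀ : HP C e₀ f₀) {γ : MulAut Gb}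
    (hfix : ∀ X ∈ Qb C e₀, γ X = X) (hf : γ '' Xb C f₀ = Xb C f₀) {u : Fin n → F}
    (hu1 : hu C.σ u u = 0) (hue : hu C.σ u e₀ ≠ 0) : γ '' Xb C u = Xb C u := by
  obtain ⟨w, a, hw, ha, hact⟩ := exists_Q_map H₀ hu1 hue
  have hX : (mkP (esG C e₀ w a) : Gb) ∈ Qb C e₀ := ⟨w, a, hw.1, ha, rfl⟩
  have h1 := image_conj_Xb γ (hfix _ hX) H₀.hf H₀.hf hf
  rw [hact, Xb_smul hu1 (inv_ne_zero hue)] at h1
  exact h1

/-- uniqueness of the coordinates of a point opposite to `e`. -/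
lemma decomp_unique {w w' : Fin n → F} (hw : w ∈ Wsp C e f) (hw' : w' ∈ Wsp C e f) {a a' c : F}
    (h : f + w + a • e = c • (f + w' + a' • e)) : w = w' ∧ a = a' := by
  have h1 : hu C.σ (f + w + a • e) e = hu C.σ (c • (f + w' + a' • e)) e := by rw [h]
  rw [hu_smul_left, hu_add_left, hu_add_left, hu_add_left, hu_add_left, hu_smul_left,
    hu_smul_left, H.hfe, H.he, hw.1, hw'.1] at h1
  have hc : c = 1 := by linear_combination -h1
  rw [hc, one_smul] at h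
  have h2 : hu C.σ (f + w + a • e) f = hu C.σ (f + w' + a' • e) f := by rw [h]
  rw [hu_add_left, hu_add_left, hu_add_left, hu_add_left, hu_smul_left, hu_smul_left, H.hf,
    H.hef, hw.2, hw'.2] at h2
  have ha : a = a' := by linear_combination h2
  refine ⟨?_, ha⟩
  rw [ha] at h
  have h3 : f + w + a' • e = f + w' + a' • e := h
  have h4 : f + w = f + w' := add_right_cancel h3
  exact add_left_cancel h4

/-- if all points opposite to `e` are fixed then `Q̄_f` is fixed pointwise. -/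
lemma fix_Qb_opp (hn : 2 ≤ n) {γ : MulAut Gb} (hγ : StdA C e f γ)
    (hopp : ∀ u : Fin n → F, hu C.σ u u = 0 → hu C.σ u e ≠ 0 → γ '' Xb C u = Xb C u)
    {Y : Gb} (hY : Y ∈ Qb C f) : γ Y = Y := by
  have H' : HP C f e := H.symm
  have hγ' : StdA C f e γ := ⟨hγ.2, hγ.1⟩
  have key : ∀ w ∈ Wsp C f e, ∀ a : F, a + C.σ a + hu C.σ w w = 0 → a ≠ 0 →
      γ (mkP (esG C f w a)) = mkP (esG C f w a) := by
    intro w hw a ha ha0
    have hX : InQ C f e (mkP (esG C f w a)) w := ⟨hw, a, ha, rfl⟩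
    obtain ⟨w', hw', a', ha', hγX⟩ := hγ'.exists_InQ H' hn hX
    have h1 := image_conj_Xb γ hγX H.he H.he hγ.1
    rw [act_esG_f H' hw ha, act_esG_f H' hw' ha'] at h1
    have hiso : ∀ (w : Fin n → F) (b : F), w ∈ Wsp C f e → b + C.σ b + hu C.σ w w = 0 →
        hu C.σ (e + w + b • f) (e + w + b • f) = 0 := by
      intro w b hw hb
      simp only [hu_add_left, hu_add_right, hu_smul_left, hu_smul_right, H.he, H.hf, H.hef,
        H.hfe, hw.1, hw.2, (mem_Wsp_symm hw).1, (mem_Wsp_symm hw).2]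
      linear_combination hb
    have hue : hu C.σ (e + w + a • f) e ≠ 0 := by
      rw [hu_add_left, hu_add_left, hu_smul_left, H.he, H.hfe, hw.2]
      simpa using ha0
    have hne : e + w + a • f ≠ 0 := by
      intro h0
      rw [h0, hu_zero_left] at hue
      exact hue rfl
    rw [hopp _ (hiso w a hw ha) hue] at h1
    obtain ⟨c, -, hc⟩ := Xb_eq_imp hn hne (hiso w a hw ha) (hiso w' a' hw' ha') (le_of_eq h1)
    obtain ⟨h2, h3⟩ := decomp_unique H' hw hw' hc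
    rw [hγX, ← h2, ← h3]
  obtain ⟨w, hw, a, ha, rfl⟩ := (mem_Qb_iff H' Y).mp hY
  by_cases ha0 : a = 0
  · obtain ⟨κ, hκ0, hκ⟩ := C.exists_kappa
    have hww : hu C.σ w w = 0 := by
      rw [ha0, map_zero, add_zero, zero_add] at ha
      exact ha
    have h1 : κ + C.σ κ + hu C.σ w w = 0 := by rw [hww, hκ]; ring
    have h2 : -κ + C.σ (-κ) + hu C.σ (0 : Fin n → F) 0 = 0 := by
      rw [hu_zero_left, map_neg, hκ]; ring
    have h3 : esG C f w a = esG C f w κ * esG C f 0 (-κ) := by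
      rw [esG_mul C H.hf hw.1 (hu_zero_left _ _) h1 h2, hu_zero_left, add_zero, ha0]
      congr 1
      ring
    rw [h3, map_mul, map_mul, key w hw κ h1 hκ0,
      key 0 (Wsp C f e).zero_mem (-κ) h2 (neg_ne_zero.mpr hκ0)]
  · exact key w hw a ha ha0

end hp

end Cfsg.Agent.Lib.Helper07.UG
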