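import Mathlib
import Cfsg.Agent.Lib.Helper07.PSUw

set_option autoImplicit false
set_option linter.unusedSectionVars false
set_option linter.unusedVariables false

/-! Unitary groups: every automorphism of `PSU_n(q)`, `n ≥ 3`, `(n, q) ≠ (3, 2)`, is induced by a
semilinear unitary map. -/

namespace Cfsg.Agent.Lib.Helper07.UG

open Matrix

variable {n : ℕ} {F : Type*} [Field F] [Fintype F] {q : ℕ} {C : UC F q}

local notation "Gb" => Cfsg.PSU n F q

/-- a standard automorphism inducing the identity on `W` is trivial. -/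
theorem rigid (hn : 3 ≤ n) (hnq : ¬(n = 3 ∧ q = 2)) {e f : Fin n → F} (H : HP C e f)
    {γ : MulAut Gb} (hγ : StdA C e f γ) (hid : ∀ w ∈ Wsp C e f, phi C e f γ w = w) : γ = 1 := by
  have hn2 : 2 ≤ n := by omega
  have hQe : ∀ X ∈ Qb C e, γ X = X := by
    intro X hX
    by_cases hA : ∃ w ∈ Wsp C e f, w ≠ 0 ∧ hu C.σ w w = 0
    · obtain ⟨w₁, hw₁W, hw₁0, hw₁⟩ := hA
      exact fix_Qb_A H hn hγ hid hw₁W hw₁0 hw₁ hX
    · push Not at hA
      have hB : ∀ v ∈ Wsp C e f, hu C.σ v v = 0 → v = 0 := by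
        intro v hvW hv
        by_contra hv0
        exact hA v hvW hv0 hv
      have hn3 : n = 3 := by
        by_contra hne
        obtain ⟨w, hwW, hw0, hw⟩ := exists_iso_W (by omega : 4 ≤ n) H
        exact hw0 (hB w hwW hw)
      have hq3 : 3 ≤ q := by
        have := C.two_le_q
        by_contra hlt
        exact hnq ⟨hn3, by omega⟩
      exact fix_Qb_B H hn hq3 hγ hid hB hX
  have hoppe : ∀ u : Fin n → F, hu C.σ u u = 0 → hu C.σ u e ≠ 0 → γ '' Xb C u = Xb C u :=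
    fun u hu1 hue => fix_opp H hQe hγ.2 hu1 hue
  have hQf : ∀ Y ∈ Qb C f, γ Y = Y := fun Y hY => fix_Qb_opp H hn2 hγ hoppe hY
  have hoppf : ∀ u : Fin n → F, hu C.σ u u = 0 → hu C.σ u f ≠ 0 → γ '' Xb C u = Xb C u :=
    fun u hu1 huf => fix_opp H.symm hQf hγ.1 hu1 huf
  apply aut_eq_one_of_fix (C := C) hn2 γ
  intro v hv0 hv
  by_cases h1 : hu C.σ v e = 0
  · by_cases h2 : hu C.σ v f = 0
    · -- `v ∈ W`
      have hvW : v ∈ Wsp C e f := ⟨h1, h2⟩
      obtain ⟨w, hwW, hvw⟩ := nd_Wsp H v hvW hv0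
      obtain ⟨a, ha⟩ := C.exists_tr_eq (- hu C.σ w w) (by rw [map_neg, hu_self_fixed])
      have ha2 : a + C.σ a + hu C.σ w w = 0 := by rw [ha]; ring
      set s := esG C e w a with hs
      have hse : act s e = e := act_esG_self H.he hwW.1 ha2
      have hsf : act s f = f + w + a • e := act_esG_f H hwW ha2
      have H'' : HP C (act s f) (act s e) :=
        ⟨by rw [hu_act, H.hf], by rw [hu_act, H.he], by rw [hu_act, H.hfe]⟩
      have hsfix : γ (mkP s) = mkP s := hQe _ ⟨w, a, hwW.1, ha2, rfl⟩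
      have hQe' : ∀ X ∈ Qb C (act s f), γ X = X := by
        rintro X ⟨w'', a'', hw'', ha'', rfl⟩
        have h3 : hu C.σ (act s⁻¹ w'') f = 0 := by rw [← hu_act C s, act_act_inv, hw'']
        have h4 : a'' + C.σ a'' + hu C.σ (act s⁻¹ w'') (act s⁻¹ w'') = 0 := by
          rw [hu_act, ha'']
        have h5 := conj_esG C s H.hf h3 h4
        rw [act_act_inv] at h5
        rw [← h5, map_mul, map_mul, map_inv, map_mul, map_mul, map_inv, hsfix,
          hQf _ ⟨act s⁻¹ w'', a'', h3, h4, rfl⟩]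
      have hfe : γ '' Xb C (act s e) = Xb C (act s e) := by rw [hse]; exact hγ.1
      apply fix_opp H'' hQe' hfe hv
      rw [hsf, hu_add_right, hu_add_right, hu_smul_right, h1, h2]
      simpa using hvw
    · exact hoppf v hv h2
  · exact hoppe v hv h1

/-- **Main theorem**: every automorphism of `PSU_n(q)` is induced by a semilinear map. -/
theorem aut_eq_conjU_fieldU (C : UC F q) (hn : 3 ≤ n) (hnq : ¬(n = 3 ∧ q = 2)) (α : MulAut Gb) :
    ∃ (g : ↥(Cfsg.GU n F q)) (τ : RingAut F), α = conjU C g * fieldU C τ := by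
  have hn2 : 2 ≤ n := by omega
  obtain ⟨e, f, H⟩ := exists_HP C hn2
  obtain ⟨s, hs⟩ := exists_std hn2 H α
  obtain ⟨θ, hθ⟩ := hs.semilinear H hn hnq
  obtain ⟨c₁, hc₁0, hσc₁, hform⟩ := hs.form H hn hθ
  obtain ⟨ν, hν0, hν⟩ := C.exists_norm_eq' c₁ hσc₁ hc₁0
  have S : SLin C e f (phi C e f (MulAut.conj (mkP s) * α)) θ ν :=
    ⟨hν0, fun w hw => hs.phi_mem H hn2 hw, fun w hw w' hw' => hs.phi_add H hn2 hw hw', hθ,
      fun x hx y hy => by rw [hν]; exact hform x hx y hy⟩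
  obtain ⟨g, hβstd, hβφ⟩ := exists_corr H S hn2
  have hγ : StdA C e f ((conjU C g * fieldU C θ)⁻¹ * (MulAut.conj (mkP s) * α)) :=
    hβstd.inv.mul hs
  have hid : ∀ w ∈ Wsp C e f,
      phi C e f ((conjU C g * fieldU C θ)⁻¹ * (MulAut.conj (mkP s) * α)) w = w := by
    intro w hw
    rw [hβstd.inv.phi_mul H hn2 hs hw, ← hβφ w hw, hβstd.phi_inv_phi H hn2 hw]
  have h1 := rigid hn hnq H hγ hid
  have h2 : MulAut.conj (mkP s) * α = conjU C g * fieldU C θ := by
    rw [inv_mul_eq_one] at h1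
    exact h1.symm
  refine ⟨(innU C s)⁻¹ * g, θ, ?_⟩
  rw [map_mul, map_inv, conjU_innU, mul_assoc, ← h2, inv_mul_cancel_left]

end Cfsg.Agent.Lib.Helper07.UG
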