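import Mathlib
import Cfsg.Agent.Lib.Helper07.PSUx

set_option autoImplicit false
set_option linter.unusedSectionVars false
set_option linter.unusedVariables false

/-! Unitary groups: the automorphism theorem for `PSU_n(q)` in the form of the prelude. -/

namespace Cfsg.Agent.Lib.Helper07.UG

open Matrix

variable {n : ℕ} {F : Type*} [Field F] [Fintype F] {q : ℕ}

/-- the context structure exists. -/
theorem exists_UC {p f : ℕ} [hp : Fact p.Prime] (hq : q = p ^ f) (hf : 1 ≤ f)
    (hF : Fintype.card F = q ^ 2) : ∃ C : UC F q, C.p = p ∧ C.f = f := by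
  have hchar : CharP F p := by
    apply charP_of_card_eq_prime_pow (f := 2 * f)
    rw [hF, hq, ← pow_mul, mul_comm]
  have : ExpChar F p := ExpChar.prime hp.out
  have : PerfectRing F p := PerfectRing.ofFiniteOfIsReduced p F
  refine ⟨⟨p, hp.out, f, hf, hq, hF, iterateFrobeniusEquiv F p f, ?_⟩, rfl, rfl⟩
  intro a
  rw [iterateFrobeniusEquiv_def, hq]

/-- every automorphism is inner-diagonal times field. -/
theorem psu_factorization (C : UC F q) (hn : 3 ≤ n) (hs : ¬(n = 3 ∧ q = 2))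
    (β : MulAut (Cfsg.PSU n F q)) :
    ∃ (δ φ : MulAut (Cfsg.PSU n F q)) (σ : F ≃+* F),
      Cfsg.IsInnerDiagonalAutPSU δ ∧ Cfsg.IsFieldAutPSUOf σ φ ∧ β = δ * φ := by
  obtain ⟨g, τ, h⟩ := aut_eq_conjU_fieldU C hn hs β
  exact ⟨conjU C g, fieldU C τ, τ, isInnerDiagonal_conjU C g, isFieldAutOf_fieldU C τ, h⟩

/-- the automorphism group is the image of the semilinear unitary group. -/
theorem gammaPSU_eq_top (C : UC F q) (hn : 3 ≤ n) (hs : ¬(n = 3 ∧ q = 2)) :
    Cfsg.gammaPSU n F q = ⊤ := by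
  rw [eq_top_iff]
  intro β _
  obtain ⟨g, τ, h⟩ := aut_eq_conjU_fieldU C hn hs β
  apply Subgroup.subset_closure
  refine ⟨g.1, τ, g.2, ?_⟩
  rw [h]
  exact isInduced_conjU_fieldU C g τ

end Cfsg.Agent.Lib.Helper07.UG
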