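import Mathlib
import Cfsg.Agent.Lib.Helper07.PSUy

set_option autoImplicit false
set_option linter.unusedSectionVars false
set_option linter.unusedVariables false

/-! Unitary groups: the group `Aut(PSU_n(q))` as an extension: field automorphisms are not
inner-diagonal, the inner-diagonal automorphisms form a normal subgroup with kernel of `conjU` the
scalars, and the quotient is the Galois group. -/

namespace Cfsg.Agent.Lib.Helper07.UG

open Matrix

variable {n : ℕ} {F : Type*} [Field F] [Fintype F] {q : ℕ} (C : UC F q)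

local notation "Gb" => Cfsg.PSU n F q

/-- the semilinear map `x ↦ g τ(x)`. -/
def semi (g : ↥(Cfsg.GU n F q)) (τ : RingAut F) (x : Fin n → F) : Fin n → F :=
  g.1.val *ᵥ (fun j => τ (x j))

omit [Fintype F] in
lemma semi_add (g : ↥(Cfsg.GU n F q)) (τ : RingAut F) (x y : Fin n → F) :
    semi g τ (x + y) = semi g τ x + semi g τ y := by
  unfold semi
  rw [← mulVec_add]
  congr 1
  funext j
  simp

omit [Fintype F] in
lemma semi_smul (g : ↥(Cfsg.GU n F q)) (τ : RingAut F) (c : F) (x : Fin n → F) :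
    semi g τ (c • x) = τ c • semi g τ x := by
  unfold semi
  rw [← mulVec_smul]
  congr 1
  funext j
  simp

omit [Fintype F] in
lemma semi_zero (g : ↥(Cfsg.GU n F q)) (τ : RingAut F) : semi g τ 0 = 0 := by
  unfold semi
  have : (fun j => τ ((0 : Fin n → F) j)) = 0 := by
    funext j
    simp
  rw [this, mulVec_zero]

omit [Fintype F] in
lemma semi_sub (g : ↥(Cfsg.GU n F q)) (τ : RingAut F) (x y : Fin n → F) :
    semi g τ (x - y) = semi g τ x - semi g τ y := by
  rw [sub_eq_add_neg, ← neg_one_smul F y, semi_add, semi_smul, map_neg, map_one, neg_one_smul,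
    ← sub_eq_add_neg]

lemma hu_semi (g : ↥(Cfsg.GU n F q)) (τ : RingAut F) (x y : Fin n → F) :
    hu C.σ (semi g τ x) (semi g τ y) = τ (hu C.σ x y) := by
  unfold semi
  rw [(mem_GU_iff_isU C g.1).mp g.2, hu_map C.σ τ (C.comm_σ τ)]

omit [Fintype F] in
lemma semi_surjective (g : ↥(Cfsg.GU n F q)) (τ : RingAut F) (x : Fin n → F) :
    ∃ y, semi g τ y = x := by
  refine ⟨fun j => τ.symm ((g.1⁻¹.val *ᵥ x) j), ?_⟩
  unfold semi
  have : (fun j => τ (τ.symm ((g.1⁻¹.val *ᵥ x) j))) = g.1⁻¹.val *ᵥ x := by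
    funext j
    exact τ.apply_symm_apply _
  rw [this, mulVec_mulVec, ← Units.val_mul, mul_inv_cancel, Units.val_one, one_mulVec]

include C in
lemma semi_ne_zero (g : ↥(Cfsg.GU n F q)) (τ : RingAut F) {x : Fin n → F} (hx : x ≠ 0) :
    semi g τ x ≠ 0 := by
  intro h0
  obtain ⟨y, hy⟩ := exists_hu_ne_zero C.σ hx
  apply hy
  have h1 := hu_semi C g τ x y
  rw [h0, hu_zero_left] at h1
  have := congrArg τ.symm h1
  rw [map_zero, RingEquiv.symm_apply_apply] at this
  exact this.symm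

/-- the automorphism induced by a semilinear map, characterised through intertwining. -/
lemma conjU_fieldU_apply (g : ↥(Cfsg.GU n F q)) (τ : RingAut F) {s t : SUn n F q}
    (hst : ∀ y, act t (semi g τ y) = semi g τ (act s y)) :
    (conjU C g * fieldU C τ : MulAut Gb) (mkP s) = mkP t := by
  show conjU C g (fieldU C τ (mkP s)) = mkP t
  rw [fieldU_mkP, conjU_mkP]
  congr 1
  apply su_ext
  intro x
  obtain ⟨y, rfl⟩ := semi_surjective g τ x
  rw [hst, act_conjSU, act_fieldSU]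
  unfold semi
  rw [mulVec_mulVec, ← Units.val_mul, inv_mul_cancel, Units.val_one, one_mulVec]
  simp only [RingEquiv.symm_apply_apply]

/-- the image of an Eichler–Siegel element under the automorphism induced by a semilinear map. -/
lemma semi_esG (g : ↥(Cfsg.GU n F q)) (τ : RingAut F) {e w : Fin n → F} {a : F}
    (he : hu C.σ e e = 0) (hwe : hu C.σ w e = 0) (ha : a + C.σ a + hu C.σ w w = 0) :
    hu C.σ (semi g τ e) (semi g τ e) = 0 ∧ hu C.σ (semi g τ w) (semi g τ e) = 0 ∧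
    τ a + C.σ (τ a) + hu C.σ (semi g τ w) (semi g τ w) = 0 ∧
    (conjU C g * fieldU C τ : MulAut Gb) (mkP (esG C e w a)) =
      mkP (esG C (semi g τ e) (semi g τ w) (τ a)) := by
  have h1 : hu C.σ (semi g τ e) (semi g τ e) = 0 := by rw [hu_semi, he, map_zero]
  have h2 : hu C.σ (semi g τ w) (semi g τ e) = 0 := by rw [hu_semi, hwe, map_zero]
  have h3 : τ a + C.σ (τ a) + hu C.σ (semi g τ w) (semi g τ w) = 0 := by
    rw [hu_semi, ← C.comm_σ τ, ← map_add, ← map_add, ha, map_zero]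
  refine ⟨h1, h2, h3, conjU_fieldU_apply C g τ ?_⟩
  intro y
  rw [act_esG C h1 h2 h3, act_esG C he hwe ha, semi_add, semi_sub, semi_add, semi_smul,
    semi_smul, semi_smul, hu_semi, hu_semi, map_mul]

/-- a field automorphism which is inner-diagonal is trivial. -/
theorem fieldU_eq_conjU_imp (hn : 3 ≤ n) {τ : RingAut F} {g₀ : ↥(Cfsg.GU n F q)}
    (h : fieldU (n := n) C τ = conjU C g₀) : τ = 1 := by
  have hn2 : 2 ≤ n := by omega
  obtain ⟨g, hg⟩ : ∃ g : ↥(Cfsg.GU n F q), g = g₀⁻¹ := ⟨_, rfl⟩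
  have h1 : (conjU C g * fieldU C τ : MulAut Gb) = 1 := by
    rw [h, hg, ← map_mul, inv_mul_cancel, map_one]
  obtain ⟨e, f, H⟩ := exists_HP C hn2
  -- `G e` is a multiple of `e`
  obtain ⟨κ, hκ0, hκ⟩ := C.exists_kappa
  have hκ' : κ + C.σ κ = 0 := by rw [hκ]; ring
  have hκ2 : κ + C.σ κ + hu C.σ (0 : Fin n → F) 0 = 0 := by rw [hu_zero_left, add_zero]; exact hκ'
  obtain ⟨c, hc0, hc⟩ : ∃ c : F, c ≠ 0 ∧ semi g τ e = c • e := by
    obtain ⟨k1, k2, k3, k4⟩ := semi_esG C g τ H.he (hu_zero_left _ _) hκ2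
    rw [h1, MulAut.one_apply, semi_zero] at k4
    rw [semi_zero, hu_zero_left, add_zero] at k3
    have k5 := eq_of_mkP_eq_of_pow (C := C) hn2 k4 (tvG_pow_p H.he hκ') (tvG_pow_p k1 k3)
    obtain ⟨c, hc0, hc⟩ := tvG_eq_tvG C H.he k1 hκ' k3 hκ0 H.e_ne k5
    refine ⟨c⁻¹, inv_ne_zero hc0, ?_⟩
    conv_rhs => rw [hc]
    rw [smul_smul, inv_mul_cancel₀ hc0, one_smul]
  -- on `W`, `σ(c) G w ≡ w` modulo `e`
  have key : ∀ w ∈ Wsp C e f, ∃ r : F, C.σ c • semi g τ w = w + r • e := by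
    intro w hw
    obtain ⟨a, ha⟩ := C.exists_tr_eq (- hu C.σ w w) (by rw [map_neg, hu_self_fixed])
    have ha2 : a + C.σ a + hu C.σ w w = 0 := by rw [ha]; ring
    obtain ⟨k1, k2, k3, k4⟩ := semi_esG C g τ H.he hw.1 ha2
    rw [h1, MulAut.one_apply] at k4
    have k5 := eq_of_mkP_eq_of_pow (C := C) hn2 k4 (esG_pow_p2 H.he hw.1 ha2)
      (esG_pow_p2 k1 k2 k3)
    rw [hc] at k2 k5
    have k2' : hu C.σ (semi g τ w) e = 0 := by
      rw [hu_smul_right] at k2
      exact (mul_eq_zero.mp k2).resolve_left ((map_ne_zero_iff _ C.σ.injective).mpr hc0)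
    rw [esG_smul C H.he k2' k3] at k5
    have k3' : c * C.σ c * τ a + C.σ (c * C.σ c * τ a) +
        hu C.σ (C.σ c • semi g τ w) (C.σ c • semi g τ w) = 0 := by
      simp only [map_mul, C.hσ, hu_smul_left, hu_smul_right]
      linear_combination (c * C.σ c) * k3
    have k6 : act (esG C e w a) f = act (esG C e (C.σ c • semi g τ w) (c * C.σ c * τ a)) f := by
      rw [k5]
    rw [act_esG_f H hw ha2, act_esG C H.he (by rw [hu_smul_left, k2', mul_zero]) k3', H.hfe] at k6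
    generalize C.σ c • semi g τ w = X at k6 ⊢
    generalize hu C.σ f X = hval at k6 ⊢
    refine ⟨a + hval - c * C.σ c * τ a, ?_⟩
    funext i
    have k7 := congrFun k6 i
    simp only [Pi.add_apply, Pi.sub_apply, Pi.smul_apply, smul_eq_mul] at k7 ⊢
    linear_combination -k7
  obtain ⟨w₀, hw₀W, hw₀0⟩ := exists_ne_zero_W hn H
  obtain ⟨w'', hw''W, hw''⟩ := nd_Wsp H w₀ hw₀W hw₀0
  apply RingEquiv.ext
  intro l
  obtain ⟨r₀, hr₀⟩ := key w₀ hw₀W
  obtain ⟨r₁, hr₁⟩ := key (l • w₀) ((Wsp C e f).smul_mem l hw₀W)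
  rw [semi_smul, smul_comm, hr₀] at hr₁
  have h2 : hu C.σ (τ l • (w₀ + r₀ • e)) w'' = hu C.σ (l • w₀ + r₁ • e) w'' := by rw [hr₁]
  simp only [hu_smul_left, hu_add_left, (mem_Wsp_symm hw''W).1, mul_zero, add_zero] at h2
  exact mul_right_cancel₀ hw'' h2

/-- field automorphisms normalise the inner-diagonal automorphisms. -/
lemma fieldU_mul_conjU (τ : RingAut F) (g : ↥(Cfsg.GU n F q)) :
    ∃ g' : ↥(Cfsg.GU n F q), fieldU (n := n) C τ * conjU C g = conjU C g' * fieldU C τ := by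
  have hmem : Matrix.GeneralLinearGroup.map (τ : F →+* F) g.1 ∈ Cfsg.GU n F q :=
    (mem_GU_iff_isU C _).mpr (isU_map C τ ((mem_GU_iff_isU C g.1).mp g.2))
  refine ⟨⟨_, hmem⟩, ?_⟩
  ext x
  obtain ⟨s, rfl⟩ := mkP_surjective x
  show fieldU C τ (conjU C g (mkP s)) = conjU C _ (fieldU C τ (mkP s))
  rw [conjU_mkP, fieldU_mkP, fieldU_mkP, conjU_mkP]
  congr 1
  apply Subtype.ext
  apply Subtype.ext
  rw [fieldSU_val, conjSU_val, conjSU_val, fieldSU_val]
  show (g.1.val * s.1.val * g.1⁻¹.val).map τ =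
    (Matrix.GeneralLinearGroup.map (τ : F →+* F) g.1).val * s.1.val.map τ *
      (Matrix.GeneralLinearGroup.map (τ : F →+* F) g.1)⁻¹.val
  rw [← Matrix.GeneralLinearGroup.map_inv]
  have hmm : ∀ A B : Matrix (Fin n) (Fin n) F, (A * B).map τ = A.map τ * B.map τ :=
    fun A B => Matrix.map_mul (f := (τ : F →+* F))
  rw [hmm, hmm]
  rfl

/-- the inner-diagonal automorphisms form a normal subgroup. -/
theorem conjU_range_normal (hn : 3 ≤ n) (hs : ¬(n = 3 ∧ q = 2)) :
    (conjU (n := n) C).range.Normal := by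
  constructor
  rintro _ ⟨g, rfl⟩ α
  obtain ⟨h, τ, rfl⟩ := aut_eq_conjU_fieldU C hn hs α
  obtain ⟨g', hg'⟩ := fieldU_mul_conjU C τ g
  refine ⟨h * g' * h⁻¹, ?_⟩
  have e1 : conjU C h * fieldU C τ * conjU C g * (conjU C h * fieldU C τ)⁻¹ =
      conjU C h * (fieldU C τ * conjU C g) * (fieldU C τ)⁻¹ * (conjU C h)⁻¹ := by group
  rw [e1, hg', map_mul, map_mul, map_inv]
  group

/-- the kernel of `conjU` consists of the scalar matrices. -/
theorem conjU_eq_one_iff (hn : 2 ≤ n) (g : ↥(Cfsg.GU n F q)) :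
    conjU (n := n) C g = 1 ↔ ∃ c : F, ∀ x, g.1.val *ᵥ x = c • x := by
  constructor
  · intro h
    apply scalar_of_fix_iso (C := C) hn (fun x => g.1.val *ᵥ x) (fun x y => mulVec_add _ x y)
      (fun c x => mulVec_smul _ c x)
    intro v hv
    by_cases hv0 : v = 0
    · exact ⟨1, by rw [hv0, mulVec_zero, smul_zero]⟩
    obtain ⟨κ, hκ0, hκ⟩ := C.exists_kappa
    have hκ' : κ + C.σ κ = 0 := by rw [hκ]; ring
    have hκ2 : κ + C.σ κ + hu C.σ (0 : Fin n → F) 0 = 0 := by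
      rw [hu_zero_left, add_zero]; exact hκ'
    obtain ⟨k1, k2, k3, k4⟩ := semi_esG C g 1 hv (hu_zero_left _ _) hκ2
    rw [map_one, mul_one, h, MulAut.one_apply, semi_zero] at k4
    rw [semi_zero, hu_zero_left, add_zero] at k3
    have k5 := eq_of_mkP_eq_of_pow (C := C) hn k4 (tvG_pow_p hv hκ') (tvG_pow_p k1 k3)
    obtain ⟨c, hc0, hc⟩ := tvG_eq_tvG C hv k1 hκ' k3 hκ0 hv0 k5
    refine ⟨c⁻¹, ?_⟩
    have hsemi : semi g 1 v = g.1.val *ᵥ v := rfl
    rw [← hsemi]
    conv_rhs => rw [hc, smul_smul, inv_mul_cancel₀ hc0, one_smul]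
  · rintro ⟨c, hc⟩
    have hc0 : c ≠ 0 := by
      rintro rfl
      obtain ⟨e, he0, -⟩ := exists_iso C hn
      have h1 := hc e
      rw [zero_smul] at h1
      have h2 : g.1⁻¹.val *ᵥ (g.1.val *ᵥ e) = e := by
        rw [mulVec_mulVec, ← Units.val_mul, inv_mul_cancel, Units.val_one, one_mulVec]
      rw [h1, mulVec_zero] at h2
      exact he0 h2.symm
    have hinv : ∀ x, g.1⁻¹.val *ᵥ x = c⁻¹ • x := by
      intro x
      have h2 : g.1⁻¹.val *ᵥ (g.1.val *ᵥ (c⁻¹ • x)) = c⁻¹ • x := by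
        rw [mulVec_mulVec, ← Units.val_mul, inv_mul_cancel, Units.val_one, one_mulVec]
      rw [hc, smul_smul, mul_inv_cancel₀ hc0, one_smul] at h2
      exact h2
    ext x
    obtain ⟨s, rfl⟩ := mkP_surjective x
    rw [conjU_mkP, MulAut.one_apply]
    congr 1
    apply su_ext
    intro y
    rw [act_conjSU, hinv, act_smul, hc, smul_smul, mul_inv_cancel₀ hc0, one_smul]

include C in
/-- conjugation is injective on `PSU_n(q)`. -/
theorem mulAut_conj_injective_psu (hn : 2 ≤ n) :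
    Function.Injective (MulAut.conj : Gb →* MulAut Gb) := by
  rw [injective_iff_map_eq_one]
  intro z hz
  obtain ⟨s, rfl⟩ := mkP_surjective z
  rw [← conjU_innU C s] at hz
  obtain ⟨c, hc⟩ := (conjU_eq_one_iff C hn (innU C s)).mp hz
  exact mkP_eq_one_iff.mpr (mem_center_of_scalar hc)

include C in
theorem card_inn_psu (hn : 2 ≤ n) : Nat.card (Cfsg.Inn Gb) = Nat.card Gb :=
  (Nat.card_congr (MonoidHom.ofInjective (mulAut_conj_injective_psu C hn)).toEquiv).symm

lemma inn_le_conjU_range : Cfsg.Inn Gb ≤ (conjU (n := n) C).range := by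
  rintro _ ⟨x, rfl⟩
  obtain ⟨s, rfl⟩ := mkP_surjective x
  exact ⟨innU C s, conjU_innU C s⟩

/-- the quotient of `Aut(PSU_n(q))` by the inner-diagonal automorphisms is the Galois group. -/
theorem exists_galois_iso (hn : 3 ≤ n) (hs : ¬(n = 3 ∧ q = 2))
    (hN : (conjU (n := n) C).range.Normal) :
    ∃ Θ : RingAut F →* MulAut Gb ⧸ (conjU (n := n) C).range, Function.Bijective Θ ∧
      ∀ τ, Θ τ = QuotientGroup.mk (fieldU C τ) := by
  refine ⟨(QuotientGroup.mk' (conjU (n := n) C).range).comp (fieldU C), ⟨?_, ?_⟩, fun τ => rfl⟩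
  · rw [injective_iff_map_eq_one]
    intro τ hτ
    have h1 : fieldU C τ ∈ (conjU (n := n) C).range := (QuotientGroup.eq_one_iff _).mp hτ
    obtain ⟨g, hg⟩ := h1
    exact fieldU_eq_conjU_imp C hn hg.symm
  · intro z
    obtain ⟨α, rfl⟩ := QuotientGroup.mk'_surjective _ z
    obtain ⟨g, τ, rfl⟩ := aut_eq_conjU_fieldU C hn hs α
    refine ⟨τ, ?_⟩
    show QuotientGroup.mk' (conjU (n := n) C).range (fieldU C τ) =
      QuotientGroup.mk' (conjU (n := n) C).range (conjU C g * fieldU C τ)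
    have h1 : QuotientGroup.mk' (conjU (n := n) C).range (conjU C g) = 1 :=
      (QuotientGroup.eq_one_iff _).mpr ⟨g, rfl⟩
    rw [map_mul, h1, one_mul]

end Cfsg.Agent.Lib.Helper07.UG
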