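import Mathlib
import Cfsg.Agent.Lib.Helper07.PSUz
import Cfsg.Agent.Lib.Helper07.AutPSL6
import Cfsg.Agent.Lib.Helper08.SUCard
import Cfsg.Agent.Lib.Helper08.SUCenter

set_option autoImplicit false
set_option linter.unusedSectionVars false
set_option linter.unusedVariables false

/-! Unitary groups: the order of `Aut(PSU_n(q))` and the structure of `Out(PSU_n(q))`. -/

namespace Cfsg.Agent.Lib.Helper07.UG

open Matrix
open Cfsg.Agent.Lib.Helper19 (normOne mem_normOne card_normOne)

variable {n : ℕ} {F : Type*} [Field F] [Fintype F] {q : ℕ} (C : UC F q)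

local notation "Gb" => Cfsg.PSU n F q

lemma scalar_mulVec (c : F) (x : Fin n → F) : Matrix.scalar (Fin n) c *ᵥ x = c • x := by
  funext i
  simp [Matrix.scalar_apply, mulVec_diagonal]

/-- norm-one scalars as elements of `GU`. -/
noncomputable def scalarGU : normOne F q →* ↥(Cfsg.GU n F q) :=
  ((Matrix.GeneralLinearGroup.scalar (Fin n)).comp (normOne F q).subtype).codRestrict
    (Cfsg.GU n F q) (fun u => by
      rw [mem_GU_iff_isU C]
      intro x y
      show hu C.σ (Matrix.scalar (Fin n) ((u : Fˣ) : F) *ᵥ x)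
        (Matrix.scalar (Fin n) ((u : Fˣ) : F) *ᵥ y) = hu C.σ x y
      rw [scalar_mulVec, scalar_mulVec, hu_smul_left, hu_smul_right, C.hσq, ← mul_assoc,
        ← pow_succ']
      have h1 := mem_normOne.mp u.2
      have h2 : (((u : Fˣ) : F)) ^ (q + 1) = 1 := by
        rw [← Units.val_pow_eq_pow_val, h1]
        rfl
      rw [h2, one_mul])

lemma scalarGU_mulVec (u : normOne F q) (x : Fin n → F) :
    (scalarGU (n := n) C u).1.val *ᵥ x = ((u : Fˣ) : F) • x :=
  scalar_mulVec _ x

/-- the kernel of `conjU` has `q + 1` elements. -/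
theorem card_conjU_ker (hn : 2 ≤ n) : Nat.card (conjU (n := n) C).ker = q + 1 := by
  have hinj : Function.Injective (scalarGU (n := n) C) := by
    intro u v huv
    obtain ⟨e, he0, -⟩ := exists_iso C hn
    have h1 : ((u : Fˣ) : F) • e = ((v : Fˣ) : F) • e := by
      rw [← scalarGU_mulVec C u, ← scalarGU_mulVec C v, huv]
    have h2 : (((u : Fˣ) : F) - ((v : Fˣ) : F)) • e = 0 := by rw [sub_smul, h1, sub_self]
    rcases smul_eq_zero.mp h2 with h3 | h3
    · exact Subtype.ext (Units.ext (sub_eq_zero.mp h3))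
    · exact absurd h3 he0
  have hrange : (scalarGU (n := n) C).range = (conjU (n := n) C).ker := by
    ext g
    rw [MonoidHom.mem_ker, conjU_eq_one_iff C hn]
    constructor
    · rintro ⟨u, rfl⟩
      exact ⟨((u : Fˣ) : F), scalarGU_mulVec C u⟩
    · rintro ⟨c, hc⟩
      obtain ⟨e, he0, -⟩ := exists_iso C hn
      obtain ⟨y, hy⟩ := exists_hu_ne_zero C.σ he0
      have hU := (mem_GU_iff_isU C g.1).mp g.2 e y
      rw [hc, hc, hu_smul_left, hu_smul_right, C.hσq, ← mul_assoc, ← pow_succ'] at hU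
      have h1 : c ^ (q + 1) = 1 := by
        have h2 : (c ^ (q + 1) - 1) * hu C.σ e y = 0 := by rw [sub_mul, hU, one_mul, sub_self]
        rcases mul_eq_zero.mp h2 with h3 | h3
        · exact sub_eq_zero.mp h3
        · exact absurd h3 hy
      have hc0 : c ≠ 0 := by
        rintro rfl
        rw [zero_pow (by omega)] at h1
        exact zero_ne_one h1
      have hmem : Units.mk0 c hc0 ∈ normOne F q := by
        rw [mem_normOne]
        apply Units.ext
        rw [Units.val_pow_eq_pow_val]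
        exact h1
      refine ⟨⟨Units.mk0 c hc0, hmem⟩, ?_⟩
      apply Subtype.ext
      apply Units.ext
      apply mat_ext_mulVec
      intro x
      rw [hc]
      exact scalarGU_mulVec C ⟨Units.mk0 c hc0, hmem⟩ x
  rw [← hrange, ← Nat.card_congr (MonoidHom.ofInjective hinj).toEquiv, card_normOne C.hF]

/-- the inner-diagonal automorphism group has the order of `SU_n(q)`. -/
theorem card_conjU_range (hn : 2 ≤ n) :
    Nat.card (conjU (n := n) C).range = Nat.card (SUn n F q) := by
  have h1 := Subgroup.card_mul_index (conjU (n := n) C).ker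
  rw [Subgroup.index_ker, card_conjU_ker C hn,
    Cfsg.Agent.Lib.Helper08.card_GU_eq_mul_card_SU C.hF (by omega : 0 < n)] at h1
  exact Nat.eq_of_mul_eq_mul_left (by omega : 0 < q + 1) h1

include C in
theorem card_SU_eq (hn : 2 ≤ n) :
    Nat.card (SUn n F q) = Nat.card Gb * Nat.gcd n (q + 1) := by
  rw [Subgroup.card_eq_card_quotient_mul_card_subgroup (Subgroup.center (SUn n F q)),
    Cfsg.Agent.Lib.Helper08.card_center_SU C.hF (by omega : 0 < n)]


section final
variable {p f : ℕ} [Fact p.Prime]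

/-- statement S0815: the order of `Aut(PSU_n(q))`. -/
theorem card_mulAut_psu (hf : 1 ≤ f) (hq : q = p ^ f) (hF : Fintype.card F = q ^ 2)
    (hn : 3 ≤ n) (h32 : ¬(n = 3 ∧ q = 2)) :
    Nat.card (MulAut Gb) = Nat.gcd n (q + 1) * (2 * f) * Nat.card Gb := by
  have hn2 : 2 ≤ n := by omega
  obtain ⟨C, -, -⟩ := exists_UC (F := F) hq hf hF
  have hF' : Fintype.card F = p ^ (2 * f) := by rw [hF, hq, ← pow_mul, mul_comm]
  have hchar : CharP F p := charP_of_card_eq_prime_pow hF'
  have hN := conjU_range_normal (n := n) C hn h32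
  obtain ⟨Θ, hΘ, -⟩ := exists_galois_iso C hn h32 hN
  rw [Subgroup.card_eq_card_quotient_mul_card_subgroup (conjU (n := n) C).range,
    ← Nat.card_congr (Equiv.ofBijective Θ hΘ), Cfsg.Agent.Lib.Helper07.card_ringAut p hF',
    card_conjU_range C hn2, card_SU_eq C hn2]
  ring

/-- statement S2603: the structure of `Out(PSU_n(q))`. -/
theorem out_psu (hf : 1 ≤ f) (hq : q = p ^ f) (hF : Fintype.card F = q ^ 2)
    (hn : 3 ≤ n) (h32 : ¬(n = 3 ∧ q = 2)) :
    ∃ φ : Cfsg.Out Gb →* Multiplicative (ZMod (2 * f)),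
      Function.Surjective φ ∧ IsCyclic φ.ker ∧ Nat.card φ.ker = Nat.gcd n (q + 1) := by
  have hn2 : 2 ≤ n := by omega
  have hn0 : 0 < n := by omega
  obtain ⟨C, -, -⟩ := exists_UC (F := F) hq hf hF
  have hF' : Fintype.card F = p ^ (2 * f) := by rw [hF, hq, ← pow_mul, mul_comm]
  have hchar : CharP F p := charP_of_card_eq_prime_pow hF'
  have hN := conjU_range_normal (n := n) C hn h32
  set D : Subgroup (MulAut Gb) := (conjU (n := n) C).range with hD
  obtain ⟨Θ, hΘ, hΘapp⟩ := exists_galois_iso C hn h32 hN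
  have hmkD : ∀ g : ↥(Cfsg.GU n F q), (QuotientGroup.mk' D) (conjU C g) = 1 :=
    fun g => (QuotientGroup.eq_one_iff _).mpr ⟨g, rfl⟩
  have hcard := Cfsg.Agent.Lib.Helper07.card_ringAut p hF'
  have hcyc := Cfsg.Agent.Lib.Helper07.isCyclic_ringAut (F := F) p
  have hfpos : 0 < 2 * f := by omega
  let e₁ : Multiplicative (ZMod (Nat.card (RingAut F))) ≃* RingAut F := zmodCyclicMulEquiv hcyc
  let e₀ : Multiplicative (ZMod (2 * f)) ≃* Multiplicative (ZMod (Nat.card (RingAut F))) :=
    AddEquiv.toMultiplicative (ZMod.ringEquivCongr hcard.symm).toAddEquiv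
  let e : MulAut Gb ⧸ D ≃* Multiplicative (ZMod (2 * f)) :=
    (MulEquiv.ofBijective Θ hΘ).symm.trans (e₁.symm.trans e₀.symm)
  let qm : Cfsg.Out Gb →* MulAut Gb ⧸ D :=
    QuotientGroup.map (Cfsg.Inn Gb) D (MonoidHom.id _) (inn_le_conjU_range C)
  have hqm : Function.Surjective qm := by
    intro z
    obtain ⟨α, rfl⟩ := QuotientGroup.mk'_surjective D z
    exact ⟨QuotientGroup.mk α, rfl⟩
  let φ : Cfsg.Out Gb →* Multiplicative (ZMod (2 * f)) := e.toMonoidHom.comp qm
  have hφ : Function.Surjective φ := e.surjective.comp hqm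
  have hcardT : Nat.card (Multiplicative (ZMod (2 * f))) = 2 * f := by
    rw [Nat.card_congr Multiplicative.toAdd, Nat.card_zmod]
  have c1 : Nat.card (Cfsg.Out Gb) = 2 * f * Nat.card φ.ker := by
    rw [Subgroup.card_eq_card_quotient_mul_card_subgroup φ.ker,
      Nat.card_congr (QuotientGroup.quotientKerEquivOfSurjective φ hφ).toEquiv, hcardT]
  have c2 : Nat.card (MulAut Gb) = Nat.card (Cfsg.Out Gb) * Nat.card (Cfsg.Inn Gb) :=
    Subgroup.card_eq_card_quotient_mul_card_subgroup _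
  have c3 : Nat.card (MulAut Gb) = 2 * f * Nat.card D := by
    rw [Subgroup.card_eq_card_quotient_mul_card_subgroup D, Nat.card_congr e.toEquiv, hcardT]
  have c4 : Nat.card D = Nat.card Gb * Nat.gcd n (q + 1) := by
    rw [hD, card_conjU_range C hn2, card_SU_eq C hn2]
  have c5 : Nat.card φ.ker = Nat.gcd n (q + 1) := by
    rw [c1, card_inn_psu C hn2] at c2
    rw [c4] at c3
    have hGpos : 0 < Nat.card Gb := Nat.card_pos
    have : 2 * f * (Nat.card φ.ker * Nat.card Gb) = 2 * f * (Nat.gcd n (q + 1) * Nat.card Gb) := by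
      calc 2 * f * (Nat.card φ.ker * Nat.card Gb)
          = 2 * f * Nat.card φ.ker * Nat.card Gb := by ring
        _ = Nat.card (MulAut Gb) := c2.symm
        _ = _ := by rw [c3]; ring
    exact Nat.eq_of_mul_eq_mul_right hGpos (Nat.eq_of_mul_eq_mul_left hfpos this)
  refine ⟨φ, hφ, ?_, c5⟩
  -- the diagonal automorphisms
  let ψ : ↥(Cfsg.GU n F q) →* Cfsg.Out Gb := (QuotientGroup.mk' (Cfsg.Inn Gb)).comp (conjU C)
  have hker : (Cfsg.Agent.Lib.Helper08.detGU hF n).ker ≤ ψ.ker := by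
    intro g hg
    have hdet := Cfsg.Agent.Lib.Helper08.det_eq_one_of_mem_ker hF g hg
    rw [MonoidHom.mem_ker]
    let s : SUn n F q := ⟨⟨g.1.val, hdet⟩, (Cfsg.Agent.Lib.Helper08.mem_SU_iff _).mpr g.2⟩
    have hgs : g = innU C s := Subtype.ext (Units.ext rfl)
    show QuotientGroup.mk' _ (conjU C g) = 1
    rw [hgs, conjU_innU]
    exact (QuotientGroup.eq_one_iff _).mpr ⟨_, rfl⟩
  have hsurj := Cfsg.Agent.Lib.Helper08.detGU_surjective (n := n) hF hn0
  let finv : normOne F q → ↥(Cfsg.GU n F q) := Function.surjInv hsurj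
  have hfinv : Function.RightInverse finv (Cfsg.Agent.Lib.Helper08.detGU hF n) :=
    Function.rightInverse_surjInv hsurj
  let ψ' : normOne F q →* Cfsg.Out Gb :=
    MonoidHom.liftOfRightInverse _ finv hfinv ⟨ψ, hker⟩
  have hψ' : ∀ g, ψ' (Cfsg.Agent.Lib.Helper08.detGU hF n g) = ψ g :=
    fun g => MonoidHom.liftOfRightInverse_comp_apply _ _ _ ⟨ψ, hker⟩ g
  have hψker : ∀ g, ψ g ∈ φ.ker := by
    intro g
    rw [MonoidHom.mem_ker]
    show e (QuotientGroup.mk' D (conjU C g)) = 1
    rw [hmkD, map_one]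
  have hkerψ : ∀ x ∈ φ.ker, ∃ g, ψ g = x := by
    intro x hx
    obtain ⟨α, rfl⟩ := QuotientGroup.mk'_surjective _ x
    rw [MonoidHom.mem_ker] at hx
    have h1 : e (QuotientGroup.mk' D α) = 1 := hx
    have h2 : QuotientGroup.mk' D α = 1 := (map_eq_one_iff e e.injective).mp h1
    obtain ⟨g, hg⟩ : α ∈ D := (QuotientGroup.eq_one_iff _).mp h2
    exact ⟨g, by rw [← hg]; rfl⟩
  let δ : normOne F q →* φ.ker := ψ'.codRestrict φ.ker (fun c => by
    rw [← hfinv c, hψ']
    exact hψker _)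
  have hδ : Function.Surjective δ := by
    rintro ⟨x, hx⟩
    obtain ⟨g, rfl⟩ := hkerψ x hx
    exact ⟨Cfsg.Agent.Lib.Helper08.detGU hF n g, Subtype.ext (hψ' g)⟩
  exact isCyclic_of_surjective δ hδ

end final

end Cfsg.Agent.Lib.Helper07.UG
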