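import Mathlib
import Cfsg.Agent.Lib.Helper07.PSUCard
import Cfsg.Agent.Lib.Helper07.PSLnN

set_option autoImplicit false
set_option linter.unusedSectionVars false
set_option linter.unusedVariables false

/-! Field automorphisms of `PSU_n(q)` of prime order: basic algebra of `conjU g * fieldU σ`. -/

namespace Cfsg.Agent.Lib.Helper07.UG

open Matrix

variable {n : ℕ} {F : Type*} [Field F] [Fintype F] {q : ℕ} (C : UC F q)

local notation "Gb" => Cfsg.PSU n F q

/-- a field automorphism acting entrywise on `GU_n(q)`. -/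
def mapGU (τ : RingAut F) : ↥(Cfsg.GU n F q) →* ↥(Cfsg.GU n F q) :=
  ((Matrix.GeneralLinearGroup.map (τ : F →+* F)).comp (Cfsg.GU n F q).subtype).codRestrict _
    (fun g => (mem_GU_iff_isU C _).mpr (isU_map C τ ((mem_GU_iff_isU C g.1).mp g.2)))

lemma mapGU_val (τ : RingAut F) (g : ↥(Cfsg.GU n F q)) :
    (mapGU C τ g).1.val = g.1.val.map τ := rfl

lemma mapGU_coe (τ : RingAut F) (g : ↥(Cfsg.GU n F q)) :
    (mapGU C τ g).1 = Matrix.GeneralLinearGroup.map (τ : F →+* F) g.1 := rfl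

/-- field automorphisms normalise the inner-diagonal automorphisms (explicit form). -/
lemma fieldU_mul_conjU' (τ : RingAut F) (g : ↥(Cfsg.GU n F q)) :
    fieldU (n := n) C τ * conjU C g = conjU C (mapGU C τ g) * fieldU C τ := by
  ext x
  obtain ⟨s, rfl⟩ := mkP_surjective x
  show fieldU C τ (conjU C g (mkP s)) = conjU C _ (fieldU C τ (mkP s))
  rw [conjU_mkP, fieldU_mkP, fieldU_mkP, conjU_mkP]
  congr 1
  apply Subtype.ext
  apply Subtype.ext
  rw [fieldSU_val, conjSU_val, conjSU_val, fieldSU_val]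
  show (g.1.val * s.1.val * g.1⁻¹.val).map τ =
    (Matrix.GeneralLinearGroup.map (τ : F →+* F) g.1).val * s.1.val.map τ *
      (Matrix.GeneralLinearGroup.map (τ : F →+* F) g.1)⁻¹.val
  rw [← Matrix.GeneralLinearGroup.map_inv]
  have hmm : ∀ A B : Matrix (Fin n) (Fin n) F, (A * B).map τ = A.map τ * B.map τ :=
    fun A B => Matrix.map_mul (f := (τ : F →+* F))
  rw [hmm, hmm]
  rfl

/-- twisted partial products in `GU_n(q)`. -/
def twGU (σ : RingAut F) (g : ↥(Cfsg.GU n F q)) : ℕ → ↥(Cfsg.GU n F q)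
  | 0 => 1
  | (k + 1) => g * mapGU C σ (twGU σ g k)

lemma twGU_val (σ : RingAut F) (g : ↥(Cfsg.GU n F q)) (k : ℕ) :
    (twGU C σ g k).1.val = twProd σ g.1.val k := by
  induction k with
  | zero => rfl
  | succ k ih =>
    rw [twGU, Subgroup.coe_mul, Units.val_mul, mapGU_val, ih]
    rfl

lemma conj_fieldU_pow (σ : RingAut F) (g : ↥(Cfsg.GU n F q)) (k : ℕ) :
    (conjU C g * fieldU C σ : MulAut Gb) ^ k = conjU C (twGU C σ g k) * fieldU C (σ ^ k) := by
  induction k with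
  | zero =>
    rw [pow_zero, pow_zero, map_one, twGU, map_one, mul_one]
  | succ k ih =>
    rw [pow_succ', ih, mul_assoc (conjU C g), ← mul_assoc (fieldU C σ), fieldU_mul_conjU',
      mul_assoc, ← map_mul, ← pow_succ', ← mul_assoc, ← map_mul]
    rfl

/-! ### the prelude predicates -/

lemma eq_conjU_of_isInnerDiagonal {β : MulAut Gb} (h : Cfsg.IsInnerDiagonalAutPSU β) :
    ∃ g : ↥(Cfsg.GU n F q), β = conjU C g := by
  obtain ⟨g, hg, hβ⟩ := h
  refine ⟨⟨g, hg⟩, ?_⟩
  ext x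
  obtain ⟨s, rfl⟩ := mkP_surjective x
  rw [conjU_mkP]
  exact hβ s (conjSU C ⟨g, hg⟩ s) (conjSU_val C ⟨g, hg⟩ s)

lemma eq_fieldU_of_isFieldAutOf {σ : RingAut F} {φ : MulAut Gb}
    (h : Cfsg.IsFieldAutPSUOf σ φ) : φ = fieldU C σ := by
  ext x
  obtain ⟨s, rfl⟩ := mkP_surjective x
  rw [fieldU_mkP]
  exact h s (fieldSU C σ s) (fieldSU_val C σ s)

lemma inndiagPSU_eq_range : Cfsg.inndiagPSU n F q = (conjU (n := n) C).range := by
  unfold Cfsg.inndiagPSU Cfsg.autSubgroupOf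
  apply le_antisymm
  · rw [Subgroup.closure_le]
    intro β hβ
    obtain ⟨g, rfl⟩ := eq_conjU_of_isInnerDiagonal C hβ
    exact ⟨g, rfl⟩
  · rintro _ ⟨g, rfl⟩
    exact Subgroup.subset_closure (isInnerDiagonal_conjU C g)

lemma fieldU_injective (hn : 3 ≤ n) : Function.Injective (fieldU (n := n) C) := by
  rw [injective_iff_map_eq_one]
  intro τ hτ
  apply fieldU_eq_conjU_imp C hn (g₀ := 1)
  rw [hτ, map_one]

lemma orderOf_fieldU (hn : 3 ≤ n) (σ : RingAut F) :
    orderOf (fieldU (n := n) C σ) = orderOf σ :=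
  orderOf_injective (fieldU (n := n) C) (fieldU_injective C hn) σ

end Cfsg.Agent.Lib.Helper07.UG
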