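import Mathlib
import Cfsg.Agent.Lib.Helper07.PSUFa

set_option autoImplicit false
set_option linter.unusedSectionVars false
set_option linter.unusedVariables false

/-! Field automorphisms of `PSU_n(q)` of odd prime order: field-theoretic lemmas. -/

namespace Cfsg.Agent.Lib.Helper07.UG

open Matrix

variable {F : Type*} [Field F] [Fintype F] {q : ℕ} (C : UC F q)

lemma UC.orderOf_sigma : orderOf C.σ = 2 := by
  have : Fact (Nat.Prime 2) := ⟨Nat.prime_two⟩
  apply orderOf_eq_prime
  · ext a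
    rw [pow_two]
    exact C.hσ a
  · exact C.hσ1

include C in
lemma UC.one_lt_card : 1 < Fintype.card F := by
  rw [C.hF]
  have := C.two_le_q
  nlinarith

/-- an automorphism of odd order has a fixed point not fixed by the `q`-power map. -/
lemma exists_fixed_not_fixed (σ : RingAut F) {r : ℕ} (hr : orderOf σ = r) (hodd : Odd r) :
    ∃ z : F, σ z = z ∧ C.σ z ≠ z := by
  by_contra hcon
  push Not at hcon
  have hcomm : Commute σ C.σ := by
    ext a
    exact C.comm_σ σ a
  have hτ : orderOf (σ * C.σ) = r * 2 := by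
    rw [hcomm.orderOf_mul_eq_mul_orderOf_of_coprime, hr, C.orderOf_sigma]
    rw [hr, C.orderOf_sigma]
    exact Nat.coprime_two_right.mpr hodd
  have h1 := card_fixK_pow σ hr
  have h2 := card_fixK_pow (σ * C.σ) hτ
  have hle : Fintype.card (fixK σ) ≤ Fintype.card (fixK (σ * C.σ)) := by
    apply Fintype.card_le_of_injective
      (fun z : fixK σ => (⟨z.1, by
        rw [mem_fixK]
        show σ (C.σ z.1) = z.1
        have hz := (mem_fixK σ z.1).mp z.2
        rw [hcon z.1 hz, hz]⟩ : fixK (σ * C.σ)))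
    intro a b hab
    have := congrArg Subtype.val hab
    exact Subtype.ext this
  have h3 : Fintype.card F ≤ Fintype.card (fixK (σ * C.σ)) ^ r := by
    rw [h1]
    exact Nat.pow_le_pow_left hle r
  have h4 : Fintype.card F = (Fintype.card (fixK (σ * C.σ)) ^ r) ^ 2 := by
    rw [← pow_mul]
    exact h2
  have h5 := C.one_lt_card
  set X := Fintype.card (fixK (σ * C.σ)) ^ r
  have hX : X * X ≤ X := by
    calc X * X = Fintype.card F := by rw [h4, pow_two]
      _ ≤ X := h3
  have hX1 : X ≤ 1 := by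
    by_contra hne
    push Not at hne
    nlinarith
  have : Fintype.card F ≤ 1 := by
    rw [h4]
    calc X ^ 2 ≤ 1 ^ 2 := Nat.pow_le_pow_left hX1 2
      _ = 1 := one_pow 2
  omega

omit [Fintype F] in
lemma nrmF_comm (σ τ : RingAut F) (hc : ∀ k : ℕ, ∀ a, (σ ^ k) (τ a) = τ ((σ ^ k) a)) (r : ℕ)
    (a : F) : nrmF σ r (τ a) = τ (nrmF σ r a) := by
  unfold nrmF
  rw [map_prod]
  apply Finset.prod_congr rfl
  intro i _
  exact hc i a

/-- a `σ`-fixed element of norm one is the `σ`-norm of an element of norm one. -/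
lemma exists_normOne_nrm (σ : RingAut F) {r : ℕ} (hr : orderOf σ = r) (hodd : Odd r) (l : F)
    (hl : σ l = l) (hl1 : l * C.σ l = 1) :
    ∃ c : F, c * C.σ c = 1 ∧ nrmF σ r c = l := by
  obtain ⟨z, hz, hzq⟩ := exists_fixed_not_fixed C σ hr hodd
  obtain ⟨μ, hμ0, hμσ, hμ⟩ : ∃ μ : F, μ ≠ 0 ∧ σ μ = μ ∧ l * C.σ μ = μ := by
    by_cases h1 : 1 + l = 0
    · have hl' : l = -1 := by linear_combination h1
      refine ⟨z - C.σ z, sub_ne_zero.mpr (Ne.symm hzq), ?_, ?_⟩
      · rw [map_sub, C.comm_σ σ, hz]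
      · rw [hl', map_sub, C.hσ]
        ring
    · refine ⟨1 + l, h1, by rw [map_add, map_one, hl], ?_⟩
      rw [map_add, map_one, mul_add, hl1, mul_one, add_comm]
  have hr0 : 0 < r := hodd.pos
  obtain ⟨ν, hν0, hν⟩ := nrmF_surjective σ hr hr0 μ hμ0 hμσ
  have hσν0 : C.σ ν ≠ 0 := by
    intro h
    apply hν0
    have := congrArg C.σ h
    rwa [C.hσ, map_zero] at this
  refine ⟨ν / C.σ ν, ?_, ?_⟩
  · rw [map_div₀, C.hσ]
    field_simp
  · have h1 : nrmF σ r (ν / C.σ ν) * nrmF σ r (C.σ ν) = nrmF σ r ν := by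
      rw [← nrmF_mul, div_mul_cancel₀ _ hσν0]
    rw [nrmF_comm σ C.σ (fun k a => C.comm_σ (σ ^ k) a), hν] at h1
    have hσμ0 : C.σ μ ≠ 0 := by
      intro h
      apply hμ0
      have := congrArg C.σ h
      rwa [C.hσ, map_zero] at this
    apply mul_right_cancel₀ hσμ0
    rw [h1, hμ]

end Cfsg.Agent.Lib.Helper07.UG
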