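import Mathlib
import Cfsg.Agent.Lib.Helper07.PSUFb

set_option autoImplicit false
set_option linter.unusedSectionVars false
set_option linter.unusedVariables false

/-! Lang's theorem for `GU_n(q)` and a field automorphism of odd order. -/

namespace Cfsg.Agent.Lib.Helper07.UG

open Matrix

section mat
variable {n : ℕ} {F : Type*} [Field F]

lemma hu_eq_dot (θ : RingAut F) (u v : Fin n → F) :
    hu θ u v = u ⬝ᵥ (fun i => θ (v i)) := rfl

lemma hu_mulVec_eq (θ : RingAut F) (M : Matrix (Fin n) (Fin n) F) (u v : Fin n → F) :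
    hu θ (M *ᵥ u) (M *ᵥ v) = u ⬝ᵥ ((Mᵀ * M.map θ) *ᵥ (fun i => θ (v i))) := by
  rw [hu_eq_dot]
  have h1 : (fun i => θ ((M *ᵥ v) i)) = M.map θ *ᵥ (fun i => θ (v i)) := by
    funext i
    exact RingHom.map_mulVec (θ : F →+* F) M v i
  rw [h1, ← Matrix.mulVec_mulVec]
  calc (M *ᵥ u) ⬝ᵥ (M.map θ *ᵥ (fun i => θ (v i)))
      = (u ᵥ* Mᵀ) ⬝ᵥ (M.map θ *ᵥ (fun i => θ (v i))) := by rw [Matrix.vecMul_transpose]
    _ = u ⬝ᵥ (Mᵀ *ᵥ (M.map θ *ᵥ (fun i => θ (v i)))) := by rw [← Matrix.dotProduct_mulVec]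

/-- the matrix form of unitarity. -/
lemma isU_iff_mul (θ : RingAut F) (M : Matrix (Fin n) (Fin n) F) :
    IsU θ M ↔ Mᵀ * M.map θ = 1 := by
  constructor
  · intro hM
    ext a b
    have h := hM (Pi.single a 1) (Pi.single b 1)
    rw [hu_mulVec_eq, hu_eq_dot] at h
    have h2 : (fun i => θ ((Pi.single b (1 : F) : Fin n → F) i)) = Pi.single b 1 := by
      funext i
      by_cases hi : i = b
      · subst hi; simp
      · simp [hi]
    rw [h2, Matrix.mulVec_single_one, single_one_dotProduct, single_one_dotProduct] at h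
    rw [Matrix.one_apply]
    simpa [Pi.single_apply, eq_comm] using h
  · intro hg u v
    rw [hu_mulVec_eq, hg, Matrix.one_mulVec, hu_eq_dot]

lemma map_one_ra (τ : RingAut F) : (1 : Matrix (Fin n) (Fin n) F).map τ = 1 := by
  ext i j
  simp [Matrix.map_apply, Matrix.one_apply, apply_ite]

lemma map_map_comm (σ θ : RingAut F) (hc : ∀ a, σ (θ a) = θ (σ a))
    (A : Matrix (Fin n) (Fin n) F) : (A.map θ).map σ = (A.map σ).map θ := by
  ext i j
  exact hc _

lemma isUnit_map_ra (τ : RingAut F) {A : Matrix (Fin n) (Fin n) F} (hA : IsUnit A) :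
    IsUnit (A.map τ) := by
  rw [Matrix.isUnit_iff_isUnit_det] at hA ⊢
  have h := (RingHom.map_det (τ : F →+* F) A)
  have h' : (A.map τ).det = τ A.det := h.symm
  rw [h']
  exact hA.map τ

end mat

section lang
variable {n : ℕ} {F : Type*} [Field F] [Fintype F] {q : ℕ} (C : UC F q)

/-- the `q`-power map restricted to the fixed field of `σ`. -/
noncomputable def resAut (σ : RingAut F) : RingAut (fixK σ) where
  toFun z := ⟨C.σ z.1, by
    rw [mem_fixK, C.comm_σ σ, (mem_fixK σ z.1).mp z.2]⟩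
  invFun z := ⟨C.σ z.1, by
    rw [mem_fixK, C.comm_σ σ, (mem_fixK σ z.1).mp z.2]⟩
  left_inv z := Subtype.ext (C.hσ _)
  right_inv z := Subtype.ext (C.hσ _)
  map_mul' a b := Subtype.ext (map_mul C.σ _ _)
  map_add' a b := Subtype.ext (map_add C.σ _ _)

lemma resAut_val (σ : RingAut F) (z : fixK σ) : ((resAut C σ z : fixK σ) : F) = C.σ z.1 := rfl

/-- lifting matrices from the fixed field. -/
noncomputable def upM (σ : RingAut F) (A : Matrix (Fin n) (Fin n) (fixK σ)) : Matrix (Fin n) (Fin n) F :=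
  A.map (fixK σ).subtype

lemma upM_apply (σ : RingAut F) (A : Matrix (Fin n) (Fin n) (fixK σ)) (i j : Fin n) :
    upM σ A i j = (A i j : F) := rfl

lemma upM_mul (σ : RingAut F) (A B : Matrix (Fin n) (Fin n) (fixK σ)) :
    upM σ (A * B) = upM σ A * upM σ B :=
  Matrix.map_mul (f := (fixK σ).subtype)

lemma upM_one (σ : RingAut F) : upM (n := n) σ 1 = 1 := by
  ext i j
  rw [upM_apply, Matrix.one_apply, Matrix.one_apply]
  split_ifs <;> simp

lemma upM_transpose (σ : RingAut F) (A : Matrix (Fin n) (Fin n) (fixK σ)) :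
    upM σ Aᵀ = (upM σ A)ᵀ := rfl

lemma upM_map_fix (σ : RingAut F) (A : Matrix (Fin n) (Fin n) (fixK σ)) :
    (upM σ A).map σ = upM σ A := by
  ext i j
  exact (mem_fixK σ _).mp (A i j).2

lemma upM_map_res (σ : RingAut F) (A : Matrix (Fin n) (Fin n) (fixK σ)) :
    (upM σ A).map C.σ = upM σ (A.map (resAut C σ)) := rfl

lemma upM_det (σ : RingAut F) (A : Matrix (Fin n) (Fin n) (fixK σ)) :
    (upM σ A).det = (A.det : F) :=
  (RingHom.map_det (fixK σ).subtype A).symm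

/-- Lang's theorem for the unitary group and a field automorphism of odd order. -/
theorem lang_GU (σ : RingAut F) {r : ℕ} (hr : orderOf σ = r) (hodd : Odd r)
    (M : Matrix (Fin n) (Fin n) F) (hM : IsU C.σ M) (htw : twProd σ M r = 1) :
    ∃ Y : Matrix (Fin n) (Fin n) F, IsU C.σ Y ∧ M * Y.map σ = Y := by
  obtain ⟨Y₀, hY₀u, hY₀⟩ := h90_matrix σ hr hodd.pos M htw
  have hMU := (isU_iff_mul C.σ M).mp hM
  -- the Gram matrix
  obtain ⟨H, hHdef⟩ : ∃ H : Matrix (Fin n) (Fin n) F, H = Y₀ᵀ * Y₀.map C.σ := ⟨_, rfl⟩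
  have hHfix : H.map σ = H := by
    have e1 : H.map σ = (Y₀.map σ)ᵀ * (Y₀.map σ).map C.σ := by
      rw [hHdef, map_mul_ringAut, map_map_comm σ C.σ (C.comm_σ σ)]
      rfl
    have e2 : H = (Y₀.map σ)ᵀ * (Y₀.map σ).map C.σ := by
      rw [hHdef]
      conv_lhs => rw [← hY₀]
      rw [transpose_mul, map_mul_ringAut, Matrix.mul_assoc, ← Matrix.mul_assoc Mᵀ, hMU,
        Matrix.one_mul]
    rw [e1, ← e2]
  have hHherm : H.map C.σ = Hᵀ := by
    rw [hHdef, map_mul_ringAut, transpose_mul, transpose_transpose]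
    congr 1
    ext i j
    exact C.hσ _
  have hHu : IsUnit H := by
    rw [hHdef]
    have h1 : IsUnit Y₀ᵀ := by
      rw [Matrix.isUnit_iff_isUnit_det, Matrix.det_transpose]
      exact (Matrix.isUnit_iff_isUnit_det _).mp hY₀u
    exact h1.mul (isUnit_map_ra C.σ hY₀u)
  -- descend to the fixed field
  let H₀ : Matrix (Fin n) (Fin n) (fixK σ) := fun i j =>
    ⟨H i j, (mem_fixK σ _).mpr (by
      have := congrFun (congrFun hHfix i) j
      rwa [Matrix.map_apply] at this)⟩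
  have hH₀ : upM σ H₀ = H := rfl
  have hH₀herm : H₀.map (resAut C σ) = H₀ᵀ := by
    ext i j
    have := congrFun (congrFun hHherm i) j
    rw [Matrix.map_apply, Matrix.transpose_apply] at this
    exact this
  have hH₀u : IsUnit H₀ := by
    rw [Matrix.isUnit_iff_isUnit_det]
    rw [Matrix.isUnit_iff_isUnit_det, ← hH₀, upM_det] at hHu
    rw [isUnit_iff_ne_zero] at hHu ⊢
    intro h0
    apply hHu
    rw [h0]
    rfl
  obtain ⟨z, hz, hzq⟩ := exists_fixed_not_fixed C σ hr hodd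
  have hres1 : resAut C σ ≠ 1 := by
    intro h1
    apply hzq
    have := congrArg (fun τ : RingAut (fixK σ) => ((τ ⟨z, (mem_fixK σ z).mpr hz⟩ : fixK σ) : F)) h1
    exact this
  have hresinv : ∀ a, resAut C σ (resAut C σ a) = a := fun a => Subtype.ext (C.hσ _)
  obtain ⟨P₀, hP₀u, hP₀⟩ := herm_classify (resAut C σ) hresinv hres1 H₀ hH₀u hH₀herm
  obtain ⟨Q₀, hQ₀⟩ : ∃ Q₀ : Matrix (Fin n) (Fin n) (fixK σ), Q₀ * P₀ = 1 := by
    obtain ⟨u, hu⟩ := hP₀u
    exact ⟨(u⁻¹ : (Matrix (Fin n) (Fin n) (fixK σ))ˣ).val, by rw [← hu, Units.inv_mul]⟩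
  obtain ⟨P, hPdef⟩ : ∃ P : Matrix (Fin n) (Fin n) F, P = upM σ P₀ := ⟨_, rfl⟩
  obtain ⟨Q, hQdef⟩ : ∃ Q : Matrix (Fin n) (Fin n) F, Q = upM σ Q₀ := ⟨_, rfl⟩
  have hQP : Q * P = 1 := by rw [hQdef, hPdef, ← upM_mul, hQ₀, upM_one]
  have hQfix : Q.map σ = Q := by rw [hQdef, upM_map_fix]
  have hHP : H = P * (P.map C.σ)ᵀ := by
    rw [← hH₀, hP₀, upM_mul, upM_transpose, ← upM_map_res, hPdef]
  refine ⟨Y₀ * Qᵀ, ?_, ?_⟩
  · rw [isU_iff_mul, transpose_mul, transpose_transpose, map_mul_ringAut, Matrix.mul_assoc,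
      ← Matrix.mul_assoc Y₀ᵀ, ← hHdef, hHP]
    have e1 : (Qᵀ).map C.σ = (Q.map C.σ)ᵀ := rfl
    rw [e1, Matrix.mul_assoc, ← transpose_mul, ← map_mul_ringAut, hQP, map_one_ra,
      transpose_one, Matrix.mul_one, hQP]
  · rw [map_mul_ringAut, ← Matrix.mul_assoc, hY₀]
    have e1 : (Qᵀ).map σ = (Q.map σ)ᵀ := rfl
    rw [e1, hQfix]

end lang

end Cfsg.Agent.Lib.Helper07.UG
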