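import Mathlib
import Cfsg.Agent.Lib.Helper07.PSUFc

set_option autoImplicit false
set_option linter.unusedSectionVars false
set_option linter.unusedVariables false

/-! Field automorphisms of `PSU_n(q)` of odd prime order: conjugacy in the coset (S2711). -/

namespace Cfsg.Agent.Lib.Helper07.UG

open Matrix

variable {n : ℕ} {F : Type*} [Field F] [Fintype F] {q : ℕ} (C : UC F q)

local notation "Gb" => Cfsg.PSU n F q

omit [Fintype F] in
lemma eq_smul_one_of_mulVec {A : Matrix (Fin n) (Fin n) F} {l : F}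
    (h : ∀ x, A *ᵥ x = l • x) : A = l • 1 := by
  ext i j
  have := congrFun (h (Pi.single j 1)) i
  rw [Matrix.mulVec_single_one] at this
  rw [Matrix.smul_apply, Matrix.one_apply]
  rw [Matrix.col_apply] at this
  rw [this, Pi.smul_apply, Pi.single_apply]

omit [Fintype F] in
lemma smul_one_map (τ : RingAut F) (l : F) :
    (l • (1 : Matrix (Fin n) (Fin n) F)).map τ = τ l • 1 := by
  ext i j
  rw [Matrix.map_apply, Matrix.smul_apply, Matrix.smul_apply, Matrix.one_apply]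
  split_ifs <;> simp

/-- the scalar by which a unitary scalar matrix acts has norm one. -/
lemma norm_one_of_isU_smul (hn : 1 ≤ n) {l : F}
    (h : IsU C.σ (l • (1 : Matrix (Fin n) (Fin n) F))) : l * C.σ l = 1 := by
  have h1 := h (Pi.single ⟨0, hn⟩ 1) (Pi.single ⟨0, hn⟩ 1)
  rw [Matrix.smul_mulVec, Matrix.one_mulVec, hu_smul_left, hu_smul_right, hu_single_right,
    Pi.single_eq_same, mul_one] at h1
  exact h1

lemma isU_smul {c : F} (hc : c * C.σ c = 1) {M : Matrix (Fin n) (Fin n) F} (hM : IsU C.σ M) :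
    IsU C.σ (c • M) := by
  intro x y
  rw [Matrix.smul_mulVec, Matrix.smul_mulVec, hu_smul_left, hu_smul_right, hM x y, ← mul_assoc,
    hc, one_mul]

/-- an element of the coset `Inndiag · φ_σ` whose `r`-th power is trivial is conjugate to `φ_σ`
under `Inndiag` (`σ` of odd order `r`). -/
theorem fieldU_coset_conj (hn : 3 ≤ n) (σ : RingAut F) {r : ℕ} (hr : orderOf σ = r)
    (hodd : Odd r) (g : ↥(Cfsg.GU n F q))
    (hgx : (conjU C g * fieldU C σ : MulAut Gb) ^ r = 1) :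
    ∃ h : ↥(Cfsg.GU n F q),
      (conjU C g * fieldU C σ : MulAut Gb) = conjU C h * fieldU C σ * (conjU C h)⁻¹ := by
  have hn1 : 0 < n := by omega
  have hσ : σ ^ r = 1 := by rw [← hr]; exact pow_orderOf_eq_one σ
  rw [conj_fieldU_pow, hσ, map_one, mul_one] at hgx
  obtain ⟨l, hl⟩ := (conjU_eq_one_iff C (by omega) _).mp hgx
  rw [twGU_val] at hl
  have hg : twProd σ g.1.val r = l • 1 := eq_smul_one_of_mulVec hl
  have hAU : IsU C.σ (twProd σ g.1.val r) := by
    rw [← twGU_val C]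
    exact (mem_GU_iff_isU C _).mp (twGU C σ g r).2
  rw [hg] at hAU
  have hl1 : l * C.σ l = 1 := norm_one_of_isU_smul C hn1 hAU
  have hl0 : l ≠ 0 := by
    rintro rfl
    rw [zero_mul] at hl1
    exact zero_ne_one hl1
  have h1 : twProd σ g.1.val (r + 1) = σ l • g.1.val := by
    rw [twProd_succ, hg, smul_one_map, Matrix.mul_smul, mul_one]
  have h2 : twProd σ g.1.val (r + 1) = l • g.1.val := by
    rw [twProd_succ', hg, hσ, Matrix.smul_mul, one_mul]
    congr 1
  have hfix : σ l = l := by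
    obtain ⟨k, hk⟩ := gl_col_ne_zero g.1 ⟨0, hn1⟩
    have := congrFun (congrFun (h1.symm.trans h2) k) ⟨0, hn1⟩
    rw [Matrix.smul_apply, Matrix.smul_apply, smul_eq_mul, smul_eq_mul] at this
    exact mul_right_cancel₀ hk this
  have hfix' : σ l⁻¹ = l⁻¹ := by rw [map_inv₀, hfix]
  have hl1' : l⁻¹ * C.σ l⁻¹ = 1 := by rw [map_inv₀, ← mul_inv, hl1, inv_one]
  obtain ⟨c, hc1, hcN⟩ := exists_normOne_nrm C σ hr hodd l⁻¹ hfix' hl1'
  have hc0 : c ≠ 0 := by
    rintro rfl
    rw [zero_mul] at hc1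
    exact zero_ne_one hc1
  have hgU : IsU C.σ g.1.val := (mem_GU_iff_isU C g.1).mp g.2
  have hMU : IsU C.σ (c • g.1.val) := isU_smul C hc1 hgU
  have hMtw : twProd σ (c • g.1.val) r = 1 := by
    rw [twProd_smul, hcN, hg, smul_smul, inv_mul_cancel₀ hl0, one_smul]
  obtain ⟨Y, hYU, hY⟩ := lang_GU C σ hr hodd _ hMU hMtw
  obtain ⟨h, hh⟩ := exists_gU (C := C) hYU
  have key : (conjU C g * conjU C (mapGU C σ h) : MulAut Gb) = conjU C h := by
    rw [← map_mul, ← mul_inv_eq_one, ← map_inv, ← map_mul]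
    rw [conjU_eq_one_iff C (by omega)]
    refine ⟨c⁻¹, fun x => ?_⟩
    have e1 : (g * mapGU C σ h * h⁻¹).1.val = g.1.val * Y.map σ * h.1⁻¹.val := by
      rw [Subgroup.coe_mul, Subgroup.coe_mul, Units.val_mul, Units.val_mul, mapGU_val, hh]
      rfl
    have e2 : g.1.val * Y.map σ = c⁻¹ • h.1.val := by
      rw [hh]
      conv_rhs => rw [← hY]
      rw [Matrix.smul_mul, smul_smul, inv_mul_cancel₀ hc0, one_smul]
    rw [e1, e2, Matrix.smul_mul, ← Units.val_mul, mul_inv_cancel, Units.val_one,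
      Matrix.smul_mulVec, Matrix.one_mulVec]
  refine ⟨h, ?_⟩
  have e1 : (fieldU C σ * (conjU C h)⁻¹ : MulAut Gb)
      = (conjU C (mapGU C σ h))⁻¹ * fieldU C σ := by
    rw [← map_inv, fieldU_mul_conjU', map_inv, map_inv]
  rw [mul_assoc, e1, ← mul_assoc]
  congr 1
  rw [eq_mul_inv_iff_mul_eq]
  exact key

section assembly
variable {p f : ℕ} [Fact p.Prime]

omit C in
/-- statement S2711. -/
theorem psu_coset_conj (hq : q = p ^ f) (hf : 1 ≤ f) (hF : Fintype.card F = q ^ 2)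
    (hn : 3 ≤ n) (hs : ¬ (n = 3 ∧ q = 2)) (x δ : MulAut Gb)
    (hx : Cfsg.IsFieldAutClassPSU x) {r : ℕ} (hr : r.Prime) (hxr : orderOf x = r)
    (hδ : δ ∈ Cfsg.inndiagPSU n F q) :
    orderOf (δ * x) = r ↔ Cfsg.IsConjUnder (Cfsg.inndiagPSU n F q) x (δ * x) := by
  obtain ⟨C, -, -⟩ := exists_UC (F := F) hq hf hF
  rw [inndiagPSU_eq_range C] at hδ ⊢
  have hDn : (conjU (n := n) C).range.Normal := conjU_range_normal C hn hs
  constructor
  · intro hord
    obtain ⟨α, φ, σ, hσ1, hσodd, hφ, hαx⟩ := hx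
    have e := eq_fieldU_of_isFieldAutOf C hφ
    rw [e] at hαx
    have hσr : orderOf σ = r := by
      rw [← orderOf_fieldU C hn, ← hαx, orderOf_conj_eq, hxr]
    rw [hσr] at hσodd
    obtain ⟨g, hg⟩ : α * δ * α⁻¹ ∈ (conjU (n := n) C).range := hDn.conj_mem δ hδ α
    have hpow : (conjU C g * fieldU C σ : MulAut Gb) ^ r = 1 := by
      have : conjU C g * fieldU C σ = α * (δ * x) * α⁻¹ := by
        rw [hg, ← hαx]
        group
      rw [this, ← hord, ← orderOf_conj_eq α (δ * x)]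
      exact pow_orderOf_eq_one _
    obtain ⟨h, hh⟩ := fieldU_coset_conj C hn σ hσr hσodd g hpow
    refine ⟨α⁻¹ * conjU C h * α, ?_, ?_⟩
    · have := hDn.conj_mem (conjU C h) ⟨h, rfl⟩ α⁻¹
      rwa [inv_inv] at this
    · calc δ * x = α⁻¹ * ((α * δ * α⁻¹) * (α * x * α⁻¹)) * α := by group
        _ = α⁻¹ * (conjU C h * (α * x * α⁻¹) * (conjU C h)⁻¹) * α := by
            rw [← hg, hαx, hh]
        _ = (α⁻¹ * conjU C h * α) * x * (α⁻¹ * conjU C h * α)⁻¹ := by group
  · rintro ⟨h, -, hh⟩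
    rw [hh, orderOf_conj_eq, hxr]

end assembly

end Cfsg.Agent.Lib.Helper07.UG
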