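import Mathlib
import Cfsg.Agent.Lib.Helper07.PSUFd
import Cfsg.Agent.Lib.Helper07.PSLnP

set_option autoImplicit false
set_option linter.unusedSectionVars false
set_option linter.unusedVariables false

/-! Field automorphisms of `PSU_n(q)` of odd prime order: the centralizer in `Inndiag`. -/

namespace Cfsg.Agent.Lib.Helper07.UG

open Matrix

section cent
variable {n : ℕ} {F : Type*} [Field F] [Fintype F] {q : ℕ} (C : UC F q)

local notation "Gb" => Cfsg.PSU n F q

/-- scalar multiples induce the same automorphism. -/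
lemma conjU_eq_of_val_smul (hn : 2 ≤ n) {g h : ↥(Cfsg.GU n F q)} {c : F}
    (he : h.1.val = c • g.1.val) : conjU (n := n) C h = conjU C g := by
  have h1 : conjU (n := n) C (h * g⁻¹) = 1 := by
    rw [conjU_eq_one_iff C hn]
    refine ⟨c, fun x => ?_⟩
    have e1 : (h * g⁻¹).1.val = h.1.val * g.1⁻¹.val := rfl
    rw [e1, he, Matrix.smul_mul, ← Units.val_mul, mul_inv_cancel, Units.val_one,
      Matrix.smul_mulVec, Matrix.one_mulVec]
  rw [map_mul, map_inv, mul_inv_eq_one] at h1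
  exact h1

/-- `c_g` commutes with `φ_σ` iff `σ(g)` is a scalar multiple of `g`. -/
lemma conjU_mem_centralizer_iff (hn : 2 ≤ n) (σ : RingAut F) (g : ↥(Cfsg.GU n F q)) :
    (conjU C g : MulAut Gb) ∈ Subgroup.centralizer {fieldU C σ}
      ↔ ∃ l : F, g.1.val.map σ = l • g.1.val := by
  rw [Subgroup.mem_centralizer_iff]
  constructor
  · intro h
    have h1 := h (fieldU C σ) rfl
    rw [fieldU_mul_conjU'] at h1
    have h2 : conjU (n := n) C (mapGU C σ g) = conjU C g := mul_right_cancel h1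
    have h3 : conjU (n := n) C (g⁻¹ * mapGU C σ g) = 1 := by
      rw [map_mul, h2, ← map_mul, inv_mul_cancel, map_one]
    obtain ⟨l, hl⟩ := (conjU_eq_one_iff C hn _).mp h3
    refine ⟨l, ?_⟩
    have h4 : (g⁻¹ * mapGU C σ g).1.val = l • 1 := eq_smul_one_of_mulVec hl
    have h5 : (g⁻¹ * mapGU C σ g).1.val = g.1⁻¹.val * g.1.val.map σ := rfl
    rw [h5] at h4
    calc g.1.val.map σ = g.1.val * (g.1⁻¹.val * g.1.val.map σ) := by
          rw [← Matrix.mul_assoc, ← Units.val_mul, mul_inv_cancel, Units.val_one, Matrix.one_mul]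
      _ = l • g.1.val := by rw [h4, Matrix.mul_smul, Matrix.mul_one]
  · rintro ⟨l, hl⟩ y hy
    rw [Set.mem_singleton_iff] at hy
    subst hy
    rw [fieldU_mul_conjU']
    congr 1
    exact conjU_eq_of_val_smul C hn (by rw [mapGU_val, hl])

omit [Fintype F] in
lemma nrmF_of_fixed (σ : RingAut F) (r : ℕ) {μ : F} (hμ : σ μ = μ) : nrmF σ r μ = μ ^ r := by
  unfold nrmF
  have h : ∀ i : ℕ, (σ ^ i) μ = μ := by
    intro i
    induction i with
    | zero => rfl
    | succ i ih => rw [ringAut_pow_succ_apply, ih, hμ]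
  rw [Finset.prod_congr rfl (fun i _ => h i), Finset.prod_const, Finset.card_range]

/-- the norm of the `q`-power map is onto the doubly fixed elements, inside the fixed field. -/
lemma exists_fixed_norm (σ : RingAut F) {r : ℕ} (hr : orderOf σ = r) (hodd : Odd r) (μ : F)
    (hμ0 : μ ≠ 0) (hσμ : σ μ = μ) (hθμ : C.σ μ = μ) :
    ∃ e : F, e ≠ 0 ∧ σ e = e ∧ e * C.σ e = μ := by
  obtain ⟨k, hk⟩ := hodd
  obtain ⟨b, hb0, hb⟩ := C.exists_norm_eq' μ hθμ hμ0
  have hσr : σ ^ r = 1 := by rw [← hr]; exact pow_orderOf_eq_one σ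
  refine ⟨nrmF σ r b / μ ^ k, div_ne_zero (nrmF_ne_zero σ r hb0) (pow_ne_zero _ hμ0), ?_, ?_⟩
  · rw [map_div₀, nrmF_fixed σ hσr, map_pow, hσμ]
  · rw [map_div₀, map_pow, hθμ, ← nrmF_comm σ C.σ (fun k a => C.comm_σ (σ ^ k) a),
      div_mul_div_comm, ← nrmF_mul, hb, nrmF_of_fixed σ r hσμ, ← pow_add, hk]
    have : μ ^ (k + k) ≠ 0 := pow_ne_zero _ hμ0
    field_simp
    ring

/-- a unitary matrix with `σ(g) = l g` has a unitary `σ`-fixed scalar multiple. -/
lemma exists_unitary_fixed_rep (hn : 1 ≤ n) (σ : RingAut F) {r : ℕ} (hr : orderOf σ = r)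
    (hodd : Odd r) (g : ↥(Cfsg.GU n F q)) {l : F} (hl : g.1.val.map σ = l • g.1.val) :
    ∃ w : F, w * C.σ w = 1 ∧ (w • g.1.val).map σ = w • g.1.val := by
  obtain ⟨y, hy0, hy⟩ := exists_fixed_rep hn σ hr hodd.pos g.1 hl
  have hgU := (isU_iff_mul C.σ _).mp ((mem_GU_iff_isU C g.1).mp g.2)
  obtain ⟨μ, hμdef⟩ : ∃ μ : F, μ = y * C.σ y := ⟨_, rfl⟩
  have hN : (y • g.1.val)ᵀ * (y • g.1.val).map C.σ = μ • 1 := by
    rw [map_smul_ringAut, transpose_smul, Matrix.smul_mul, Matrix.mul_smul, smul_smul, hgU, hμdef]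
  have hθμ : C.σ μ = μ := by rw [hμdef, map_mul, C.hσ, mul_comm]
  have hσμ : σ μ = μ := by
    have h1 : ((y • g.1.val)ᵀ * (y • g.1.val).map C.σ).map σ
        = (y • g.1.val)ᵀ * (y • g.1.val).map C.σ := by
      rw [map_mul_ringAut, map_map_comm σ C.σ (C.comm_σ σ), hy]
      have e1 : ((y • g.1.val)ᵀ).map σ = ((y • g.1.val).map σ)ᵀ := rfl
      rw [e1, hy]
    rw [hN, smul_one_map] at h1
    have := congrFun (congrFun h1 ⟨0, hn⟩) ⟨0, hn⟩
    simpa [Matrix.smul_apply] using this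
  have hσy0 : C.σ y ≠ 0 := by
    intro h
    apply hy0
    have := congrArg C.σ h
    rwa [C.hσ, map_zero] at this
  have hμ0 : μ ≠ 0 := by rw [hμdef]; exact mul_ne_zero hy0 hσy0
  obtain ⟨e, he0, hσe, he⟩ := exists_fixed_norm C σ hr hodd μ⁻¹ (inv_ne_zero hμ0)
    (by rw [map_inv₀, hσμ]) (by rw [map_inv₀, hθμ])
  refine ⟨e * y, ?_, ?_⟩
  · rw [map_mul]
    calc e * y * (C.σ e * C.σ y) = (e * C.σ e) * (y * C.σ y) := by ring
      _ = 1 := by rw [he, ← hμdef, inv_mul_cancel₀ hμ0]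
  · rw [mul_smul, map_smul_ringAut, hσe, hy]

end cent

section emb
variable {n : ℕ} {F : Type*} [Field F] [Fintype F] {q : ℕ} (C : UC F q)
variable {F₀ : Type*} [Field F₀] [Fintype F₀] {q₀ : ℕ} (C₀ : UC F₀ q₀)
variable (ι : F₀ →+* F) (hθ : ∀ a, C.σ (ι a) = ι (C₀.σ a))

local notation "Gb" => Cfsg.PSU n F q

omit [Fintype F] [Fintype F₀] in
lemma map_one_emb : (1 : Matrix (Fin n) (Fin n) F₀).map ι = 1 := by
  ext i j
  rw [Matrix.map_apply, Matrix.one_apply, Matrix.one_apply]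
  split_ifs <;> simp

include hθ in
lemma isU_map_emb {M₀ : Matrix (Fin n) (Fin n) F₀} : IsU C.σ (M₀.map ι) ↔ IsU C₀.σ M₀ := by
  rw [isU_iff_mul, isU_iff_mul]
  have e1 : (M₀.map ι)ᵀ * (M₀.map ι).map C.σ = (M₀ᵀ * M₀.map C₀.σ).map ι := by
    rw [Matrix.map_mul]
    congr 1
    ext i j
    simp only [Matrix.map_apply]
    exact hθ _
  rw [e1]
  constructor
  · intro h
    ext i j
    apply ι.injective
    have := congrFun (congrFun h i) j
    rw [Matrix.map_apply] at this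
    rw [this, Matrix.one_apply, Matrix.one_apply]
    split_ifs <;> simp
  · intro h
    rw [h, map_one_emb]

/-- the unitary group over the fixed field inside the unitary group. -/
def embGU : ↥(Cfsg.GU n F₀ q₀) →* ↥(Cfsg.GU n F q) :=
  ((Matrix.GeneralLinearGroup.map ι).comp (Cfsg.GU n F₀ q₀).subtype).codRestrict _
    (fun g => (mem_GU_iff_isU C _).mpr
      ((isU_map_emb C C₀ ι hθ).mpr ((mem_GU_iff_isU C₀ g.1).mp g.2)))

lemma embGU_val (g : ↥(Cfsg.GU n F₀ q₀)) : (embGU C C₀ ι hθ g).1.val = g.1.val.map ι := rfl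

/-- conjugation by the unitary matrices over the fixed field. -/
def subU : ↥(Cfsg.GU n F₀ q₀) →* MulAut Gb := (conjU C).comp (embGU C C₀ ι hθ)

lemma subU_ker (hn : 2 ≤ n) :
    (subU (n := n) C C₀ ι hθ).ker
      = (Cfsg.Geo.scalars (Fin n) F₀).subgroupOf (Cfsg.GU n F₀ q₀) := by
  ext g₀
  rw [MonoidHom.mem_ker, Subgroup.mem_subgroupOf, Cfsg.Geo.mem_scalars_iff]
  show conjU C (embGU C C₀ ι hθ g₀) = 1 ↔ _
  rw [conjU_eq_one_iff C hn, embGU_val]
  constructor
  · rintro ⟨c, hc⟩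
    have h1 : g₀.1.val.map ι = c • 1 := eq_smul_one_of_mulVec hc
    have hent : ∀ i j, ι (g₀.1.val i j) = if i = j then c else 0 := by
      intro i j
      have := congrFun (congrFun h1 i) j
      rw [Matrix.map_apply, Matrix.smul_apply, Matrix.one_apply] at this
      rw [this]
      split_ifs <;> simp
    have h00 : ι (g₀.1.val ⟨0, by omega⟩ ⟨0, by omega⟩) = c := by rw [hent, if_pos rfl]
    have hval : g₀.1.val = (g₀.1.val ⟨0, by omega⟩ ⟨0, by omega⟩) • 1 := by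
      ext i j
      apply ι.injective
      rw [hent, Matrix.smul_apply, Matrix.one_apply, smul_eq_mul]
      split_ifs
      · rw [mul_one, h00]
      · rw [mul_zero, map_zero]
    have hne : g₀.1.val ⟨0, by omega⟩ ⟨0, by omega⟩ ≠ 0 := by
      intro h0
      rw [h0, zero_smul] at hval
      have hdet := Matrix.GeneralLinearGroup.det_ne_zero g₀.1
      have hne' : Nonempty (Fin n) := ⟨⟨0, by omega⟩⟩
      rw [hval, Matrix.det_zero] at hdet
      exact hdet rfl
    exact ⟨Units.mk0 _ hne, hval⟩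
  · rintro ⟨c, hc⟩
    refine ⟨ι (c : F₀), fun x => ?_⟩
    have h1 : g₀.1.val.map ι = ι (c : F₀) • 1 := by
      rw [hc]
      ext i j
      rw [Matrix.map_apply, Matrix.smul_apply, Matrix.smul_apply, Matrix.one_apply,
        Matrix.one_apply]
      split_ifs <;> simp
    rw [h1, Matrix.smul_mulVec, Matrix.one_mulVec]

lemma subU_range (hn : 2 ≤ n) (σ : RingAut F) {r : ℕ} (hr : orderOf σ = r) (hodd : Odd r)
    (hι : ∀ a, σ (ι a) = ι a) (hι' : ∀ b : F, σ b = b → ∃ a, ι a = b) :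
    (subU (n := n) C C₀ ι hθ).range
      = (conjU (n := n) C).range ⊓ Subgroup.centralizer {fieldU C σ} := by
  apply le_antisymm
  · rintro _ ⟨g₀, rfl⟩
    refine ⟨⟨_, rfl⟩, ?_⟩
    show conjU C (embGU C C₀ ι hθ g₀) ∈ Subgroup.centralizer {fieldU C σ}
    rw [conjU_mem_centralizer_iff C hn]
    refine ⟨1, ?_⟩
    rw [one_smul, embGU_val]
    ext i j
    rw [Matrix.map_apply, Matrix.map_apply, hι]
  · rintro y ⟨⟨g, rfl⟩, hc⟩
    have hc' : (conjU C g : MulAut Gb) ∈ Subgroup.centralizer {fieldU C σ} := hc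
    rw [conjU_mem_centralizer_iff C hn] at hc'
    obtain ⟨l, hl⟩ := hc'
    obtain ⟨w, hw1, hw⟩ := exists_unitary_fixed_rep C (by omega) σ hr hodd g hl
    have hfix : ∀ i j, σ ((w • g.1.val) i j) = (w • g.1.val) i j := by
      intro i j
      have := congrFun (congrFun hw i) j
      rwa [Matrix.map_apply] at this
    choose a ha using fun i j => hι' _ (hfix i j)
    obtain ⟨M₀, hM₀def⟩ : ∃ M₀ : Matrix (Fin n) (Fin n) F₀, M₀ = Matrix.of a := ⟨_, rfl⟩
    have hM₀ : M₀.map ι = w • g.1.val := by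
      ext i j
      rw [Matrix.map_apply, hM₀def]
      exact ha i j
    have hU : IsU C.σ (w • g.1.val) := isU_smul C hw1 ((mem_GU_iff_isU C g.1).mp g.2)
    rw [← hM₀, isU_map_emb C C₀ ι hθ] at hU
    obtain ⟨g₀, hg₀⟩ := exists_gU (C := C₀) hU
    refine ⟨g₀, ?_⟩
    show conjU C (embGU C C₀ ι hθ g₀) = conjU C g
    apply conjU_eq_of_val_smul C hn (c := w)
    rw [embGU_val, hg₀, hM₀]

include C₀ hθ in
/-- `C_{Inndiag}(φ_σ) ≅ PGU_n(q₀)`. -/
theorem centralizer_fieldU_equiv (hn : 2 ≤ n) (σ : RingAut F) {r : ℕ} (hr : orderOf σ = r)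
    (hodd : Odd r) (hι : ∀ a, σ (ι a) = ι a) (hι' : ∀ b : F, σ b = b → ∃ a, ι a = b) :
    Nonempty (↥((conjU (n := n) C).range ⊓ Subgroup.centralizer {fieldU C σ})
      ≃* Cfsg.PGU n F₀ q₀) := by
  have e1 := QuotientGroup.quotientKerEquivRange (subU (n := n) C C₀ ι hθ)
  have e2 := QuotientGroup.quotientMulEquivOfEq (subU_ker (n := n) C C₀ ι hθ hn)
  have e3 := MulEquiv.subgroupCongr (subU_range C C₀ ι hθ hn σ hr hodd hι hι')
  exact ⟨(e2.symm.trans (e1.trans e3)).symm⟩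

end emb

end Cfsg.Agent.Lib.Helper07.UG
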