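import Mathlib
import Cfsg.Agent.Lib.Helper07.PSUFe

set_option autoImplicit false
set_option linter.unusedSectionVars false
set_option linter.unusedVariables false

/-! Field automorphisms of `PSU_n(q)` of odd prime order: the class splitting index. -/

namespace Cfsg.Agent.Lib.Helper07.UG

open Matrix
open Cfsg.Agent.Lib.Helper19 (normOne mem_normOne card_normOne)
open Cfsg.Agent.Lib.Helper08 (detGU detGU_val detGU_surjective det_eq_one_of_mem_ker
  det_diagGL_update diagGL_update_mem)

section count
variable {n : ℕ} {F : Type*} [Field F] [Fintype F] {q : ℕ} (C : UC F q)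

local notation "Gb" => Cfsg.PSU n F q

/-- the norm-one elements fixed by `σ`. -/
def fixN (q : ℕ) (σ : RingAut F) : Subgroup (normOne F q) := (fixU σ).subgroupOf (normOne F q)

omit [Fintype F] in
lemma mem_fixN (σ : RingAut F) (u : normOne F q) : u ∈ fixN q σ ↔ σ ((u : Fˣ) : F) = ((u : Fˣ) : F) :=
  Iff.rfl

include C in
lemma normOne_of_norm {c : F} (hc : c * C.σ c = 1) (hc0 : c ≠ 0) : Units.mk0 c hc0 ∈ normOne F q := by
  rw [mem_normOne]
  apply Units.ext
  rw [Units.val_pow_eq_pow_val, Units.val_one, Units.val_mk0, pow_succ', ← C.hσq]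
  exact hc

theorem relIndex_fieldU (hn : 2 ≤ n) (σ : RingAut F) {r : ℕ} (hr : orderOf σ = r) (hodd : Odd r) :
    (Cfsg.Inn Gb ⊔ ((conjU (n := n) C).range ⊓
        Subgroup.centralizer {fieldU C σ})).relIndex (conjU (n := n) C).range
      = Nat.gcd n (fixN q σ).index := by
  have hn1 : 1 ≤ n := by omega
  have hn0 : 0 < n := by omega
  set Cx : Subgroup (MulAut Gb) :=
    (conjU (n := n) C).range ⊓ Subgroup.centralizer {fieldU C σ} with hCx
  set M : Subgroup (MulAut Gb) := Cfsg.Inn Gb ⊔ Cx with hM
  rw [← Subgroup.index_comap]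
  set Mt : Subgroup ↥(Cfsg.GU n F q) := M.comap (conjU (n := n) C) with hMt
  have hdet : Function.Surjective (detGU C.hF n) := detGU_surjective C.hF hn0
  have hinn : ∀ g : ↥(Cfsg.GU n F q), g.1.val.det = 1 → conjU C g ∈ Cfsg.Inn Gb := by
    intro g hdet1
    have hgs : g = innU C (mkSU C g.1.val ((mem_GU_iff_isU C g.1).mp g.2) hdet1) := by
      apply Subtype.ext
      apply Units.ext
      rfl
    rw [hgs, conjU_innU]
    exact ⟨_, rfl⟩
  have hker : (detGU C.hF n).ker ≤ Mt := by
    intro g hg
    show conjU C g ∈ M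
    exact Subgroup.mem_sup_left (hinn g (det_eq_one_of_mem_ker C.hF g hg))
  rw [← Subgroup.index_map_eq Mt hdet hker]
  have himg : Mt.map (detGU C.hF n)
      = (powMonoidHom n : normOne F q →* normOne F q).range ⊔ fixN q σ := by
    apply le_antisymm
    · rintro _ ⟨g, hg, rfl⟩
      have hg' : conjU C g ∈ M := hg
      rw [hM, ← SetLike.mem_coe, Subgroup.normal_mul, Set.mem_mul] at hg'
      obtain ⟨a, ⟨z, rfl⟩, b, ⟨⟨h, rfl⟩, hbc⟩, hab⟩ := hg'
      obtain ⟨s, rfl⟩ := mkP_surjective z
      have hbc' : (conjU C h : MulAut Gb) ∈ Subgroup.centralizer {fieldU C σ} := hbc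
      rw [conjU_mem_centralizer_iff C hn] at hbc'
      obtain ⟨l, hl⟩ := hbc'
      obtain ⟨w, hw1, hw⟩ := exists_unitary_fixed_rep C hn1 σ hr hodd h hl
      have hw0 : w ≠ 0 := by
        rintro rfl
        rw [zero_mul] at hw1
        exact zero_ne_one hw1
      -- the scalar part
      obtain ⟨k, hkdef⟩ : ∃ k : ↥(Cfsg.GU n F q), k = (innU C s * h)⁻¹ * g := ⟨_, rfl⟩
      have hk1 : conjU (n := n) C k = 1 := by
        rw [hkdef, map_mul, map_inv, map_mul, conjU_innU]
        show (MulAut.conj (mkP s) * conjU C h)⁻¹ * conjU C g = 1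
        rw [hab, inv_mul_cancel]
      obtain ⟨c, hc⟩ := (conjU_eq_one_iff C hn k).mp hk1
      have hkval : k.1.val = c • 1 := eq_smul_one_of_mulVec hc
      have hkU : IsU C.σ (c • (1 : Matrix (Fin n) (Fin n) F)) := by
        rw [← hkval]
        exact (mem_GU_iff_isU C k.1).mp k.2
      have hc1 : c * C.σ c = 1 := norm_one_of_isU_smul C hn1 hkU
      have hc0 : c ≠ 0 := by
        rintro rfl
        rw [zero_mul] at hc1
        exact zero_ne_one hc1
      have hg2 : g = innU C s * h * k := by
        rw [hkdef, ← mul_assoc, mul_inv_cancel, one_mul]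
      let uc : normOne F q := ⟨Units.mk0 c hc0, normOne_of_norm C hc1 hc0⟩
      let uw : normOne F q := ⟨Units.mk0 w hw0, normOne_of_norm C hw1 hw0⟩
      have hdets : detGU C.hF n (innU C s) = 1 := by
        apply Subtype.ext
        apply Units.ext
        rw [detGU_val, Matrix.GeneralLinearGroup.val_det_apply]
        exact s.1.2
      have hdetk : detGU C.hF n k = uc ^ n := by
        apply Subtype.ext
        apply Units.ext
        rw [detGU_val, Matrix.GeneralLinearGroup.val_det_apply, hkval, Matrix.det_smul,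
          Matrix.det_one, mul_one, Fintype.card_fin]
        rfl
      let v : normOne F q := uw ^ n * detGU C.hF n h
      have hv : v ∈ fixN q σ := by
        rw [mem_fixN]
        have e1 : (((v : normOne F q) : Fˣ) : F) = (w • h.1.val).det := by
          rw [Matrix.det_smul, Fintype.card_fin]
          rfl
        rw [e1]
        have e2 : σ (w • h.1.val).det = ((w • h.1.val).map σ).det :=
          RingHom.map_det (σ : F →+* F) (w • h.1.val)
        rw [e2, hw]
      have hdetg : detGU C.hF n g = (uw⁻¹ * uc) ^ n * v := by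
        rw [hg2, map_mul, map_mul, hdets, one_mul, hdetk, mul_pow]
        show detGU C.hF n h * uc ^ n = uw⁻¹ ^ n * uc ^ n * (uw ^ n * detGU C.hF n h)
        rw [inv_pow]
        have : uw ^ n * (uw ^ n)⁻¹ = 1 := mul_inv_cancel _
        calc detGU C.hF n h * uc ^ n
            = (uw ^ n * (uw ^ n)⁻¹) * (detGU C.hF n h * uc ^ n) := by rw [this, one_mul]
          _ = _ := by
            simp only [mul_comm, mul_left_comm, mul_assoc]
      rw [hdetg]
      exact Subgroup.mul_mem _ (Subgroup.mem_sup_left ⟨uw⁻¹ * uc, rfl⟩) (Subgroup.mem_sup_right hv)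
    · rw [sup_le_iff]
      constructor
      · rintro _ ⟨u, rfl⟩
        refine ⟨scalarGU C u, ?_, ?_⟩
        · show conjU C (scalarGU C u) ∈ M
          have h1 : conjU (n := n) C (scalarGU C u) = 1 := by
            rw [conjU_eq_one_iff C hn]
            exact ⟨_, scalarGU_mulVec C u⟩
          rw [h1]
          exact Subgroup.one_mem _
        · apply Subtype.ext
          apply Units.ext
          rw [detGU_val, Matrix.GeneralLinearGroup.val_det_apply]
          show (Matrix.scalar (Fin n) ((u : Fˣ) : F)).det = _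
          rw [Matrix.scalar_apply, Matrix.det_diagonal, Finset.prod_const, Finset.card_univ,
            Fintype.card_fin]
          rfl
      · intro u hu
        have hmem := diagGL_update_mem (n := n) (q := q) ⟨0, hn0⟩ (u : Fˣ) u.2
        refine ⟨⟨_, hmem⟩, ?_, ?_⟩
        · show conjU C ⟨_, hmem⟩ ∈ M
          apply Subgroup.mem_sup_right
          refine ⟨⟨_, rfl⟩, ?_⟩
          show (conjU C ⟨_, hmem⟩ : MulAut Gb) ∈ Subgroup.centralizer {fieldU C σ}
          rw [conjU_mem_centralizer_iff C hn]
          refine ⟨1, ?_⟩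
          rw [one_smul]
          show (Cfsg.Agent.Lib.Helper19.diagGL (Function.update (fun _ : Fin n => (1 : Fˣ)) ⟨0, hn0⟩ (u : Fˣ))).val.map σ
            = (Cfsg.Agent.Lib.Helper19.diagGL (Function.update (fun _ : Fin n => (1 : Fˣ)) ⟨0, hn0⟩ (u : Fˣ))).val
          rw [Cfsg.Agent.Lib.Helper19.diagGL_val]
          ext i j
          rw [Matrix.map_apply, Matrix.diagonal_apply]
          split_ifs with hij
          · by_cases hi : i = ⟨0, hn0⟩
            · rw [hi, Function.update_self]
              exact (mem_fixN σ u).mp hu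
            · rw [Function.update_of_ne hi, Units.val_one, map_one]
          · rw [map_zero]
        · apply Subtype.ext
          apply Units.ext
          rw [detGU_val, Matrix.GeneralLinearGroup.val_det_apply]
          exact det_diagGL_update ⟨0, hn0⟩ (u : Fˣ)
  rw [himg, index_range_pow_sup]

end count

end Cfsg.Agent.Lib.Helper07.UG
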