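import Mathlib
import Cfsg.Agent.Lib.Helper07.PSUFf

set_option autoImplicit false
set_option linter.unusedSectionVars false
set_option linter.unusedVariables false

/-! Field automorphisms of `PSU_n(q)` of odd prime order: assembly (S2705). -/

namespace Cfsg.Agent.Lib.Helper07.UG

open Matrix
open Cfsg.Agent.Lib.Helper19 (normOne mem_normOne card_normOne)

section emb
variable {F : Type*} [Field F] [Fintype F] {q : ℕ} (C : UC F q)
variable {F₀ : Type*} [Field F₀] [Fintype F₀] {q₀ : ℕ} (C₀ : UC F₀ q₀)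
variable (ι : F₀ →+* F)

lemma pow_iter (k : ℕ) (a : F₀) : a ^ (q₀ ^ k) = (⇑C₀.σ)^[k] a := by
  induction k with
  | zero => simp
  | succ k ih => rw [pow_succ, pow_mul, ih, Function.iterate_succ_apply', C₀.hσq]

/-- the `q`-power map restricts to the `q₀`-power map when `q = q₀^r` with `r` odd. -/
lemma sigma_emb {r : ℕ} (hodd : Odd r) (hq : q = q₀ ^ r) (a : F₀) :
    C.σ (ι a) = ι (C₀.σ a) := by
  have hinv : Function.Involutive (⇑C₀.σ) := fun a => C₀.hσ a
  rw [C.hσq, ← map_pow, hq, pow_iter C₀, hinv.iterate_odd hodd]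

variable (hθ : ∀ a, C.σ (ι a) = ι (C₀.σ a))

include C C₀ hθ in
lemma embN_mem (u : normOne F₀ q₀) : Units.map (ι : F₀ →* F) (u : F₀ˣ) ∈ normOne F q := by
  rw [mem_normOne]
  apply Units.ext
  rw [Units.val_pow_eq_pow_val, Units.val_one, Units.coe_map, pow_succ', ← C.hσq]
  show ι ((u : F₀ˣ) : F₀) * C.σ (ι ((u : F₀ˣ) : F₀)) = 1
  rw [hθ, ← map_mul, C₀.hσq, ← pow_succ']
  have h1 := mem_normOne.mp u.2
  have h2 : (((u : F₀ˣ) : F₀)) ^ (q₀ + 1) = 1 := by
    rw [← Units.val_pow_eq_pow_val, h1]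
    rfl
  rw [h2, map_one]

/-- the norm-one group of the fixed field inside the norm-one group. -/
def embN : normOne F₀ q₀ →* normOne F q :=
  ((Units.map (ι : F₀ →* F)).comp (normOne F₀ q₀).subtype).codRestrict _
    (fun u => embN_mem C C₀ ι hθ u)

lemma embN_val (u : normOne F₀ q₀) :
    (((embN C C₀ ι hθ u : normOne F q) : Fˣ) : F) = ι ((u : F₀ˣ) : F₀) := rfl

lemma embN_injective : Function.Injective (embN C C₀ ι hθ) := by
  intro u v huv
  apply Subtype.ext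
  apply Units.ext
  apply ι.injective
  rw [← embN_val C C₀ ι hθ u, ← embN_val C C₀ ι hθ v, huv]

lemma embN_range (σ : RingAut F) (hι : ∀ a, σ (ι a) = ι a)
    (hι' : ∀ b : F, σ b = b → ∃ a, ι a = b) : (embN C C₀ ι hθ).range = fixN q σ := by
  ext u
  rw [mem_fixN]
  constructor
  · rintro ⟨v, rfl⟩
    rw [embN_val, hι]
  · intro hu
    obtain ⟨a, ha⟩ := hι' _ hu
    have ha0 : a ≠ 0 := by
      rintro rfl
      rw [map_zero] at ha
      exact (u : Fˣ).ne_zero ha.symm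
    have hmem : Units.mk0 a ha0 ∈ normOne F₀ q₀ := by
      rw [mem_normOne]
      apply Units.ext
      rw [Units.val_pow_eq_pow_val, Units.val_one, Units.val_mk0]
      apply ι.injective
      rw [map_one, pow_succ', ← C₀.hσq, map_mul, ← hθ, ha, C.hσq, ← pow_succ']
      have h1 := mem_normOne.mp u.2
      rw [← Units.val_pow_eq_pow_val, h1]
      rfl
    refine ⟨⟨Units.mk0 a ha0, hmem⟩, ?_⟩
    apply Subtype.ext
    apply Units.ext
    rw [embN_val]
    exact ha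

include C₀ hθ in
lemma card_fixN (σ : RingAut F) (hι : ∀ a, σ (ι a) = ι a)
    (hι' : ∀ b : F, σ b = b → ∃ a, ι a = b) : Nat.card (fixN q σ) = q₀ + 1 := by
  rw [← embN_range C C₀ ι hθ σ hι hι',
    ← Nat.card_congr (MonoidHom.ofInjective (embN_injective C C₀ ι hθ)).toEquiv,
    card_normOne C₀.hF]

include C₀ hθ in
lemma index_fixN (σ : RingAut F) (hι : ∀ a, σ (ι a) = ι a)
    (hι' : ∀ b : F, σ b = b → ∃ a, ι a = b) : (fixN q σ).index = (q + 1) / (q₀ + 1) := by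
  have h1 := Subgroup.card_mul_index (fixN q σ)
  rw [card_fixN C C₀ ι hθ σ hι hι', card_normOne C.hF] at h1
  exact (Nat.div_eq_of_eq_mul_right (by omega) h1.symm).symm

end emb

section assembly
variable {n : ℕ} {F : Type*} [Field F] [Fintype F] {p f q : ℕ} [Fact p.Prime]

/-- statement S2705. -/
theorem psu_field_aut_main (hq : q = p ^ f) (hf : 1 ≤ f) (hF : Fintype.card F = q ^ 2)
    (hn : 3 ≤ n) (hs : ¬ (n = 3 ∧ q = 2)) (x : MulAut (Cfsg.PSU n F q))
    (hx : Cfsg.IsFieldAutClassPSU x) {r : ℕ} (hr : r.Prime) (hro : Odd r) (hxr : orderOf x = r)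
    (F₀ : Type*) [Field F₀] [Fintype F₀] (hF₀ : Fintype.card F₀ = p ^ (2 * (f / r))) :
    r ∣ f ∧
    Nonempty (↥(Cfsg.inndiagPSU n F q ⊓ Subgroup.centralizer {x}) ≃* Cfsg.PGU n F₀ (p ^ (f / r))) ∧
    Cfsg.splitClassCount (Cfsg.inndiagPSU n F q) (Cfsg.Inn (Cfsg.PSU n F q)) x
      = Nat.gcd n ((q + 1) / (p ^ (f / r) + 1)) := by
  obtain ⟨C, -, -⟩ := exists_UC (F := F) hq hf hF
  obtain ⟨α, φ, σ, hσ1, hσodd, hφ, hαx⟩ := hx
  have e := eq_fieldU_of_isFieldAutOf C hφ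
  rw [e] at hαx
  have hσr : orderOf σ = r := by
    rw [← orderOf_fieldU C hn, ← hαx, orderOf_conj_eq, hxr]
  have hF' : Fintype.card F = p ^ (2 * f) := by rw [hF, hq, ← pow_mul, mul_comm]
  obtain ⟨hr2f, -⟩ := card_fixK p hF' σ hσr hr.pos
  have hrf : r ∣ f := (Nat.Coprime.dvd_mul_left (Nat.coprime_two_right.mpr hro)).mp hr2f
  have hexp : 2 * f / r = 2 * (f / r) := Nat.mul_div_assoc 2 hrf
  have hF₀' : Fintype.card F₀ = p ^ (2 * f / r) := by rw [hexp]; exact hF₀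
  obtain ⟨ι, hι, hι'⟩ := exists_fixed_embedding (F₀ := F₀) p hF' σ hσr hr.pos hF₀'
  have hf₀ : 1 ≤ f / r := Nat.div_pos (Nat.le_of_dvd (by omega) hrf) hr.pos
  have hF₀q : Fintype.card F₀ = (p ^ (f / r)) ^ 2 := by rw [hF₀, ← pow_mul, mul_comm]
  obtain ⟨C₀, -, -⟩ := exists_UC (F := F₀) (q := p ^ (f / r)) (p := p) (f := f / r) rfl hf₀ hF₀q
  have hqq : q = (p ^ (f / r)) ^ r := by rw [← pow_mul, Nat.div_mul_cancel hrf]; exact hq
  have hθ := sigma_emb C C₀ ι hro hqq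
  rw [inndiagPSU_eq_range C]
  have hDn : (conjU (n := n) C).range.Normal := conjU_range_normal C hn hs
  have hn2 : 2 ≤ n := by omega
  refine ⟨hrf, ?_, ?_⟩
  · obtain ⟨e2⟩ := centralizer_fieldU_equiv (n := n) C C₀ ι hθ hn2 σ hσr hro hι hι'
    have e1 := centInfEquiv (conjU (n := n) C).range α x
    rw [hαx] at e1
    exact ⟨e1.trans e2⟩
  · rw [← splitClassCount_conj _ _ (inn_le_conjU_range C) α x, hαx,
      splitClassCount_eq_relIndex _ _ (inn_le_conjU_range C),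
      relIndex_fieldU C hn2 σ hσr hro, index_fixN C C₀ ι hθ σ hι hι']

end assembly

end Cfsg.Agent.Lib.Helper07.UG
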