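import Mathlib
import Cfsg.Agent.Lib.Helper49.RSU3Defs
import Cfsg.Agent.Lib.Helper40.GUConj

/-!
# K-RSU3 leaf L21 (S2283): `n⁻¹ * yM(a',b') * n = xM (-(a')^q / b) (-b'/b²)` for `mat n = nM b`,
`b^q = -b`.
-/

set_option autoImplicit false
set_option linter.unusedSectionVars false
set_option linter.unusedVariables false

namespace Cfsg.Agent.Lib.Helper07.RSU3

open Matrix Cfsg.Agent.Lib.Helper49.StSU Cfsg.Agent.Lib.Helper49.RSU3

variable {F : Type*} [Field F] [Fintype F] {q : ℕ}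

theorem nM_inv (b : F) (hb : b ≠ 0) :
    (nM b)⁻¹ = !![0, 0, 1 / b; 0, 1, 0; -b, 0, 0] := by
  apply Matrix.inv_eq_right_inv
  unfold nM
  ext i j
  fin_cases i <;> fin_cases j <;>
    simp [Matrix.mul_apply, Fin.sum_univ_three, Matrix.one_apply] <;> field_simp

/-- L21 -/
theorem n_conj_y (hq : 3 ≤ q) (hF : Fintype.card F = q ^ 2) (b : F) (hb : b ≠ 0)
    (hbv : Val q 0 b) (n Y : GJ 3 F q) (a' b' : F) (hn : mat n = nM b)
    (hY : mat Y = yM q a' b') : ∃ a c : F, mat (n⁻¹ * Y * n) = xM q a c := by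
  obtain ⟨φ, hφ, hφφ, _⟩ := Cfsg.Agent.Lib.Helper40.GUConj.exists_frob hF
  have hbq : b ^ q = -b := by
    unfold Val at hbv
    linear_combination hbv
  refine ⟨-(a' ^ q) / b, -b' / b ^ 2, ?_⟩
  have hkey : (-(a' ^ q) / b) ^ q = a' / b := by
    rw [← hφ, map_div₀, map_neg, ← hφ a', hφφ, hφ b, hbq]
    field_simp
  rw [mat_mul, mat_mul, mat_inv, hn, hY, nM_inv b hb]
  unfold xM
  rw [hkey]
  unfold yM nM
  ext i j
  fin_cases i <;> fin_cases j <;>
    simp [Matrix.mul_apply, Fin.sum_univ_three] <;> field_simp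

end Cfsg.Agent.Lib.Helper07.RSU3
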