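import Mathlib
import Cfsg.Agent.Lib.Helper07.SL2QuatMain

set_option autoImplicit false

namespace Cfsg.Agent.Lib.Helper07
open Matrix

section data
variable {F : Type*} [Field F] [Fintype F]

/-- the structural data of a Sylow `2`-subgroup of `SL₂(q)`, `q` odd. -/
theorem sylow_two_SL_two_data (hF : Odd (Fintype.card F)) :
    ∃ (e' : ℕ) (t x y : F) (hxy : 1 * (x * x) + (-t) * (x * y) + 1 * (y * y) = -1),
      1 ≤ e' ∧
      ((Fintype.card F ^ 2 - 1) * Fintype.card F).factorization 2 = e' + 2 ∧
      orderOf (compSL t) = 2 * 2 ^ e' ∧ t * t ≠ 4 ∧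
      (compSL t) ^ (2 ^ e') = wSL t x y hxy * wSL t x y hxy ∧
      wSL t x y hxy * compSL t = (compSL t)⁻¹ * wSL t x y hxy := by
  classical
  have h2 : (2 : F) ≠ 0 := Cfsg.Agent.S0268.two_ne_zero_of_odd_card hF
  have hq : Fintype.card F % 2 = 1 := Nat.odd_iff.mp hF
  have hq1 : 1 < Fintype.card F := Fintype.one_lt_card
  obtain ⟨e', he'1, he', hdvd⟩ := two_part_numerics (Fintype.card F) _ hq hq1 rfl
  obtain ⟨g, hg⟩ : ∃ g : Matrix.SpecialLinearGroup (Fin 2) F, orderOf g = 2 ^ (e' + 1) := by
    rcases hdvd with h | h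
    · exact exists_orderOf_eq_of_dvd_card_cyclic (splitTorusHom (F := F)).range _
        (by rw [card_splitTorus]; exact h)
    · have : Fact (ringChar F).Prime := ⟨CharP.char_is_prime F _⟩
      obtain ⟨C, hC, hCcard⟩ := exists_cyclic_subgroup_card_succ (F := F) (ringChar F)
      exact exists_orderOf_eq_of_dvd_card_cyclic C _ (by rw [hCcard]; exact h)
  set n : ℕ := 2 ^ e' with hn
  have hn2 : 2 ≤ n := by
    calc 2 = 2 ^ 1 := by norm_num
      _ ≤ 2 ^ e' := Nat.pow_le_pow_right (by norm_num) he'1
  have h2n : 2 ^ (e' + 1) = 2 * n := by rw [hn]; ring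
  rw [h2n] at hg
  have hns : ∀ s : F, g.val ≠ s • (1 : Matrix (Fin 2) (Fin 2) F) := by
    intro s hs
    have hdet : g.val.det = 1 := g.2
    rw [hs] at hdet
    simp at hdet
    have hgg : g * g = 1 := by
      apply Subtype.ext
      rw [Matrix.SpecialLinearGroup.coe_mul, hs]
      rcases hdet with rfl | rfl <;> simp
    have : orderOf g ∣ 2 := orderOf_dvd_of_pow_eq_one (by rw [pow_two]; exact hgg)
    rw [hg] at this
    have := Nat.le_of_dvd (by norm_num) this
    omega
  set t : F := g.val.trace with ht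
  have hc : orderOf (compSL t) = 2 * n := by rw [← hg]; exact orderOf_compSL g hns
  have htt : t * t ≠ 4 := by
    apply trace_sq_ne_four h2 t (2 * n)
    · rw [← h2n]
      push_cast
      exact pow_ne_zero _ h2
    · have := pow_orderOf_eq_one (compSL t)
      rw [hc] at this
      exact (sl_pow_eq_one_iff _ _).mp this
  obtain ⟨x, y, hxy⟩ := exists_quadratic_form_eq hq h2 1 (-t) 1 (-1) one_ne_zero
    (by
      intro h
      apply htt
      linear_combination h)
  have hcn : (compSL t) ^ n = wSL t x y hxy * wSL t x y hxy := by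
    apply Subtype.ext
    rw [Matrix.SpecialLinearGroup.coe_mul, wSL_val, wM_mul_self t x y hxy]
    apply Cfsg.Agent.S0268.result hF
    · intro h
      have := orderOf_dvd_of_pow_eq_one h
      rw [hc] at this
      have := Nat.le_of_dvd (by omega) this
      omega
    · rw [← pow_add, ← two_mul, ← hc]
      exact pow_orderOf_eq_one _
  have hcwc : compSL t * wSL t x y hxy * compSL t = wSL t x y hxy := by
    apply Subtype.ext
    rw [Matrix.SpecialLinearGroup.coe_mul, Matrix.SpecialLinearGroup.coe_mul, wSL_val, compSL_val]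
    exact compM_mul_wM_mul t x y
  have hwc : wSL t x y hxy * compSL t = (compSL t)⁻¹ * wSL t x y hxy := by
    nth_rewrite 2 [← hcwc]
    group
  exact ⟨e', t, x, y, hxy, he'1, he', hc, htt, hcn, hwc⟩

end data

end Cfsg.Agent.Lib.Helper07
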