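import Mathlib
import Cfsg.Agent.Lib.Helper07.SL2QuatData

set_option autoImplicit false

namespace Cfsg.Agent.Lib.Helper07
open Matrix

section mat
variable {F : Type*} [Field F]

/-- the centraliser of the companion matrix consists of the polynomials in it. -/
lemma eq_of_commute_compM {t : F} {X : Matrix (Fin 2) (Fin 2) F}
    (h : X * compM t = compM t * X) : X = X 0 0 • (1 : Matrix (Fin 2) (Fin 2) F) + X 1 0 • compM t := by
  have h00 := congrFun (congrFun h 0) 0
  have h01 := congrFun (congrFun h 0) 1
  have h10 := congrFun (congrFun h 1) 0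
  have h11 := congrFun (congrFun h 1) 1
  simp [compM, Matrix.mul_apply, Fin.sum_univ_two] at h00 h01 h10 h11
  ext i j; fin_cases i <;> fin_cases j <;> simp [compM]
  · linear_combination h00
  · linear_combination h10

/-- a matrix commuting with the companion matrix and with `w` is scalar. -/
lemma scalar_of_commute_compM_wM (h2 : (2 : F) ≠ 0) {t x y : F}
    (hxy : 1 * (x * x) + (-t) * (x * y) + 1 * (y * y) = -1) (htt : t * t ≠ 4)
    {X : Matrix (Fin 2) (Fin 2) F}
    (hc : X * compM t = compM t * X) (hw : X * wM t x y = wM t x y * X) : X 1 0 = 0 := by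
  have hX := eq_of_commute_compM hc
  set p := X 0 0
  set s := X 1 0
  rw [hX] at hw
  have h00 := congrFun (congrFun hw 0) 0
  have h01 := congrFun (congrFun hw 0) 1
  simp [compM, wM, Matrix.mul_apply, Fin.sum_univ_two] at h00 h01
  -- s * (t x - 2 y) = 0 and s * (2 x - t y) = 0
  have e1 : s * (t * x - 2 * y) = 0 := by linear_combination h00
  have e2 : s * (2 * x - t * y) = 0 := by linear_combination h01
  by_contra hs
  have f1 : t * x - 2 * y = 0 := by
    rcases mul_eq_zero.mp e1 with h | h
    · exact absurd h hs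
    · exact h
  have f2 : 2 * x - t * y = 0 := by
    rcases mul_eq_zero.mp e2 with h | h
    · exact absurd h hs
    · exact h
  have hx : (t * t - 4) * x = 0 := by linear_combination t * f1 - 2 * f2
  have hx0 : x = 0 := by
    rcases mul_eq_zero.mp hx with h | h
    · exact absurd (by linear_combination h) htt
    · exact h
  have hy0 : y = 0 := by
    have : 2 * y = 0 := by rw [hx0] at f1; linear_combination (-1 : F) * f1
    rcases mul_eq_zero.mp this with h | h
    · exact absurd h h2
    · exact h
  rw [hx0, hy0] at hxy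
  simp at hxy

lemma wM_trace (t x y : F) : (wM t x y).trace = 0 := by
  simp [wM, Matrix.trace]

lemma wM_mul_compM_trace (t x y : F) : (wM t x y * compM t).trace = 0 := by
  simp [wM, compM, Matrix.trace, Fin.sum_univ_two]
  ring

lemma eq_or_eq_of_commute_compM (h2 : (2 : F) ≠ 0) {t : F} (htt : t * t ≠ 4)
    {X : Matrix (Fin 2) (Fin 2) F} (hc : X * compM t = compM t * X) (hdet : X.det = 1)
    (htr : X.trace = t) :
    X = compM t ∨ X = t • (1 : Matrix (Fin 2) (Fin 2) F) - compM t := by
  have hX := eq_of_commute_compM hc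
  set p := X 0 0 with hp
  set s := X 1 0 with hs
  have h01 : X 0 1 = -s := by
    have := congrFun (congrFun hX 0) 1
    simpa [compM] using this
  have h11 : X 1 1 = p + s * t := by
    have := congrFun (congrFun hX 1) 1
    simpa [compM] using this
  rw [det_fin_two, h01, h11, ← hp, ← hs] at hdet
  rw [trace_fin_two, h11, ← hp] at htr
  have hkey : (s * s - 1) * (4 - t * t) = 0 := by
    linear_combination 4 * hdet - (2 * p + s * t + t) * htr
  have hs2 : s * s - 1 = 0 := by
    rcases mul_eq_zero.mp hkey with h | h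
    · exact h
    · exact absurd (by linear_combination (-1 : F) * h) htt
  have hs' : (s - 1) * (s + 1) = 0 := by linear_combination hs2
  rcases mul_eq_zero.mp hs' with h | h
  · left
    have hs1 : s = 1 := by linear_combination h
    have hp0 : p = 0 := by
      have : 2 * p = 0 := by rw [hs1] at htr; linear_combination htr
      rcases mul_eq_zero.mp this with h | h
      · exact absurd h h2
      · exact h
    rw [hX, hs1, hp0]; simp
  · right
    have hs1 : s = -1 := by linear_combination h
    have hpt : p = t := by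
      have : 2 * (p - t) = 0 := by rw [hs1] at htr; linear_combination htr
      rcases mul_eq_zero.mp this with h | h
      · exact absurd h h2
      · linear_combination h
    rw [hX, hs1, hpt]; simp [sub_eq_add_neg]

lemma compSL_inv_val (t : F) :
    ((compSL t)⁻¹).val = t • (1 : Matrix (Fin 2) (Fin 2) F) - compM t := by
  rw [Matrix.SpecialLinearGroup.coe_inv, compSL_val, compM, adjugate_fin_two]
  ext i j; fin_cases i <;> fin_cases j <;> simp

end mat

section grp
variable {F : Type*} [Field F]

/-- the data describing a generalised quaternion subgroup `⟨c, w⟩` of `SL₂(F)`. -/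
structure QuatData (F : Type*) [Field F] where
  t : F
  x : F
  y : F
  hxy : 1 * (x * x) + (-t) * (x * y) + 1 * (y * y) = -1
  n : ℕ
  hn : 2 ≤ n
  hc : orderOf (compSL t) = 2 * n
  htt : t * t ≠ 4
  hcn : (compSL t) ^ n = wSL t x y hxy * wSL t x y hxy
  hwc : wSL t x y hxy * compSL t = (compSL t)⁻¹ * wSL t x y hxy

namespace QuatData
variable (D : QuatData F)

/-- the generator of order `2n`. -/
def c : Matrix.SpecialLinearGroup (Fin 2) F := compSL D.t

/-- the generator of order `4`. -/
def w : Matrix.SpecialLinearGroup (Fin 2) F := wSL D.t D.x D.y D.hxy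

lemma c_val : D.c.val = compM D.t := rfl
lemma w_val : D.w.val = wM D.t D.x D.y := rfl

lemma neZero : NeZero D.n := ⟨by have := D.hn; omega⟩

lemma c_pow : D.c ^ (2 * D.n) = 1 := by
  rw [← D.hc]; exact pow_orderOf_eq_one _

/-- the homomorphism from the quaternion group. -/
def hom : @QuaternionGroup D.n →* Matrix.SpecialLinearGroup (Fin 2) F :=
  haveI := D.neZero
  quatHom D.c D.w D.c_pow D.hcn.symm D.hwc

lemma hom_injective : Function.Injective D.hom := by
  haveI := D.neZero
  exact quatHom_injective D.c D.w D.hn D.hc D.hcn.symm D.hwc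

/-- the subgroup `⟨c, w⟩`. -/
def Q : Subgroup (Matrix.SpecialLinearGroup (Fin 2) F) := D.hom.range

lemma mem_Q_iff (g : Matrix.SpecialLinearGroup (Fin 2) F) :
    g ∈ D.Q ↔ ∃ i : ℕ, g = D.c ^ i ∨ g = D.w * D.c ^ i := by
  haveI := D.neZero
  constructor
  · rintro ⟨z, rfl⟩
    rcases z with i | i
    · exact ⟨i.val, Or.inl rfl⟩
    · exact ⟨i.val, Or.inr rfl⟩
  · rintro ⟨i, rfl | rfl⟩
    · refine ⟨QuaternionGroup.a (i : ZMod (2 * D.n)), ?_⟩
      show D.c ^ ((i : ZMod (2 * D.n))).val = D.c ^ i
      rw [ZMod.val_natCast, ← pow_eq_pow_mod _ D.c_pow]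
    · refine ⟨QuaternionGroup.xa (i : ZMod (2 * D.n)), ?_⟩
      show D.w * D.c ^ ((i : ZMod (2 * D.n))).val = D.w * D.c ^ i
      rw [ZMod.val_natCast, ← pow_eq_pow_mod _ D.c_pow]

lemma c_mem : D.c ∈ D.Q := (D.mem_Q_iff _).mpr ⟨1, Or.inl (pow_one _).symm⟩
lemma w_mem : D.w ∈ D.Q := (D.mem_Q_iff _).mpr ⟨0, Or.inr (by rw [pow_zero, mul_one])⟩

lemma card_Q : Nat.card D.Q = 4 * D.n := by
  haveI := D.neZero
  rw [Q, ← Nat.card_congr (MonoidHom.ofInjective D.hom_injective).toEquiv,
    Nat.card_eq_fintype_card, QuaternionGroup.card]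

end QuatData

end grp

end Cfsg.Agent.Lib.Helper07
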