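import Mathlib
import Cfsg.Agent.Lib.Helper07.SL2Norm

set_option autoImplicit false

namespace Cfsg.Agent.Lib.Helper07
open Matrix

section grp
variable {F : Type*} [Field F]

namespace QuatData
variable (D : QuatData F)

local notation "G" => Matrix.SpecialLinearGroup (Fin 2) F

lemma w_mul_self_val : (D.w * D.w).val = -1 := by
  rw [Matrix.SpecialLinearGroup.coe_mul, D.w_val]
  exact wM_mul_self D.t D.x D.y D.hxy

lemma hcn' : D.c ^ D.n = D.w * D.w := D.hcn

lemma hwc' : D.w * D.c = D.c⁻¹ * D.w := D.hwc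

/-- the central involution commutes with everything. -/
lemma ww_central (g : G) : Commute (D.w * D.w) g := by
  apply Subtype.ext
  rw [Matrix.SpecialLinearGroup.coe_mul (D.w * D.w) g, Matrix.SpecialLinearGroup.coe_mul g (D.w * D.w),
    D.w_mul_self_val]
  simp

/-- if `g` commutes with `c`, then `(w g)^2 = w^2`. -/
lemma mul_w_mul_of_commute {g : G} (hg : Commute g D.c) : g * D.w * g = D.w := by
  have hX := eq_of_commute_compM (X := g.val) (t := D.t) (by
    have := congrArg Subtype.val hg.eq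
    rw [Matrix.SpecialLinearGroup.coe_mul, Matrix.SpecialLinearGroup.coe_mul, D.c_val] at this
    exact this)
  have htr : (D.w * g).val.trace = 0 := by
    rw [Matrix.SpecialLinearGroup.coe_mul, D.w_val, hX, Matrix.mul_add, Matrix.mul_smul,
      Matrix.mul_smul, Matrix.mul_one, Matrix.trace_add, Matrix.trace_smul, Matrix.trace_smul,
      wM_trace, wM_mul_compM_trace]
    simp
  have hsq : (D.w * g) * (D.w * g) = D.w * D.w := by
    apply Subtype.ext
    rw [Matrix.SpecialLinearGroup.coe_mul (D.w * g), mul_self_eq_of_det_one _ (D.w * g).2, htr,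
      D.w_mul_self_val]
    simp
  have : D.w * (g * D.w * g) = D.w * D.w := by rw [← hsq]; group
  exact mul_left_cancel this

lemma c_ne_inv : D.c ≠ D.c⁻¹ := by
  intro h
  have h3 : D.c ^ 2 = 1 := by
    rw [pow_two]
    nth_rewrite 1 [h]
    exact inv_mul_cancel D.c
  have h4 : orderOf D.c ∣ 2 := orderOf_dvd_of_pow_eq_one h3
  have hc : orderOf D.c = 2 * D.n := D.hc
  rw [hc] at h4
  have := Nat.le_of_dvd (by norm_num) h4
  have := D.hn
  omega


lemma sq_mem_of_commute {g : G} (hg : Commute g D.c)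
    (hN : g ∈ Subgroup.normalizer (D.Q : Set G)) : g * g ∈ D.Q := by
  have h1 : g * D.w * g⁻¹ ∈ D.Q := (Subgroup.mem_normalizer_iff.mp hN D.w).mp D.w_mem
  have h2 := D.mul_w_mul_of_commute hg
  have h3 : g * D.w * g⁻¹ = D.w * (g * g)⁻¹ := by
    calc g * D.w * g⁻¹ = (g * D.w * g) * (g * g)⁻¹ := by group
      _ = D.w * (g * g)⁻¹ := by rw [h2]
  rw [h3] at h1
  have h4 : (g * g)⁻¹ ∈ D.Q := by
    have := D.Q.mul_mem (D.Q.inv_mem D.w_mem) h1
    rwa [inv_mul_cancel_left] at this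
  exact (D.Q.inv_mem_iff).mp h4

lemma mem_of_commute (P₀ : Sylow 2 G) (hP : (P₀ : Subgroup G) = D.Q) {g : G}
    (hg : Commute g D.c) (hN : g ∈ Subgroup.normalizer (D.Q : Set G)) : g ∈ D.Q := by
  have hsq := D.sq_mem_of_commute hg hN
  rw [← hP] at hsq hN ⊢
  obtain ⟨k, hk⟩ := P₀.isPGroup' ⟨g * g, hsq⟩
  have hk' : (g * g) ^ 2 ^ k = 1 := by simpa using congrArg Subtype.val hk
  have hgk : g ^ 2 ^ (k + 1) = 1 := by
    rw [pow_succ', pow_mul, pow_two]; exact hk'
  have hz : IsPGroup 2 (Subgroup.zpowers g) := by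
    rintro ⟨h, hh⟩
    obtain ⟨m, rfl⟩ := Subgroup.mem_zpowers_iff.mp hh
    refine ⟨k + 1, Subtype.ext ?_⟩
    show (g ^ m) ^ 2 ^ (k + 1) = 1
    rw [← zpow_natCast, ← _root_.zpow_mul, mul_comm, _root_.zpow_mul, zpow_natCast, hgk, _root_.one_zpow]
  have hle : Subgroup.zpowers g ≤ Subgroup.normalizer ((P₀ : Subgroup G) : Set G) := by
    rw [Subgroup.zpowers_le]; exact hN
  have hmax := P₀.is_maximal' (hz.to_sup_of_normal_right' P₀.isPGroup' hle) le_sup_right
  have hgm : g ∈ Subgroup.zpowers g ⊔ (P₀ : Subgroup G) :=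
    Subgroup.mem_sup_left (Subgroup.mem_zpowers g)
  rw [hmax] at hgm
  exact hgm

lemma mem_of_conj_commute (h2 : (2 : F) ≠ 0) (P₀ : Sylow 2 G) (hP : (P₀ : Subgroup G) = D.Q)
    {g : G} (hN : g ∈ Subgroup.normalizer (D.Q : Set G))
    (hg : Commute (g * D.c * g⁻¹) D.c) : g ∈ D.Q := by
  set k := g * D.c * g⁻¹ with hk
  have hkval : k.val * compM D.t = compM D.t * k.val := by
    have := congrArg Subtype.val hg.eq
    rw [Matrix.SpecialLinearGroup.coe_mul k D.c, Matrix.SpecialLinearGroup.coe_mul D.c k,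
      D.c_val] at this
    exact this
  have htr : k.val.trace = D.t := by
    rw [hk, Matrix.SpecialLinearGroup.coe_mul (g * D.c) g⁻¹, Matrix.SpecialLinearGroup.coe_mul g D.c,
      D.c_val, Matrix.trace_mul_cycle, ← Matrix.SpecialLinearGroup.coe_mul, inv_mul_cancel,
      Matrix.SpecialLinearGroup.coe_one, one_mul, compM_trace]
  rcases eq_or_eq_of_commute_compM h2 D.htt hkval k.2 htr with h | h
  · have hkc : k = D.c := Subtype.ext (by rw [h, D.c_val])
    have hcomm : Commute g D.c := by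
      show g * D.c = D.c * g
      calc g * D.c = (g * D.c * g⁻¹) * g := by group
        _ = D.c * g := by rw [← hk, hkc]
    exact D.mem_of_commute P₀ hP hcomm hN
  · have hkc : k = D.c⁻¹ := Subtype.ext (by rw [h]; exact (compSL_inv_val D.t).symm)
    have hcomm : Commute (D.w⁻¹ * g) D.c := by
      have h1 : D.w⁻¹ * D.c⁻¹ = D.c * D.w⁻¹ := by
        have := D.hwc'
        calc D.w⁻¹ * D.c⁻¹ = D.w⁻¹ * (D.c⁻¹ * D.w) * D.w⁻¹ := by group
          _ = D.w⁻¹ * (D.w * D.c) * D.w⁻¹ := by rw [this]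
          _ = D.c * D.w⁻¹ := by group
      show D.w⁻¹ * g * D.c = D.c * (D.w⁻¹ * g)
      calc D.w⁻¹ * g * D.c = D.w⁻¹ * (g * D.c * g⁻¹) * g := by group
        _ = D.w⁻¹ * D.c⁻¹ * g := by rw [← hk, hkc]
        _ = D.c * (D.w⁻¹ * g) := by rw [h1]; group
    have hN' : D.w⁻¹ * g ∈ Subgroup.normalizer (D.Q : Set G) :=
      mul_mem (inv_mem (Subgroup.le_normalizer D.w_mem)) hN
    have h5 := D.mem_of_commute P₀ hP hcomm hN'
    have h6 := D.Q.mul_mem D.w_mem h5
    rwa [mul_inv_cancel_left] at h6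

lemma w_mul_pow_sq (i : ℕ) : (D.w * D.c ^ i) * (D.w * D.c ^ i) = D.w * D.w := by
  have h : SemiconjBy D.w D.c D.c⁻¹ := D.hwc'
  have h2 := (h.pow_right i).eq
  calc (D.w * D.c ^ i) * (D.w * D.c ^ i) = (D.w * D.c ^ i) * D.w * D.c ^ i := by group
    _ = ((D.c⁻¹) ^ i * D.w) * D.w * D.c ^ i := by rw [h2]
    _ = (D.c⁻¹) ^ i * ((D.w * D.w) * D.c ^ i) := by group
    _ = (D.c⁻¹) ^ i * (D.c ^ i * (D.w * D.w)) := by rw [(D.ww_central _).eq]
    _ = D.w * D.w := by rw [← mul_assoc, inv_pow, inv_mul_cancel, one_mul]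

lemma normalizer_eq (h2 : (2 : F) ≠ 0) (P₀ : Sylow 2 G) (hP : (P₀ : Subgroup G) = D.Q)
    (hn : 3 ≤ D.n) : Subgroup.normalizer (D.Q : Set G) = D.Q := by
  apply le_antisymm _ Subgroup.le_normalizer
  intro g hN
  have h1 : g * D.c * g⁻¹ ∈ D.Q := (Subgroup.mem_normalizer_iff.mp hN D.c).mp D.c_mem
  obtain ⟨i, hi | hi⟩ := (D.mem_Q_iff _).mp h1
  · apply D.mem_of_conj_commute h2 P₀ hP hN
    rw [hi]; exact (Commute.refl D.c).pow_left i
  · exfalso
    have h4 : (g * D.c * g⁻¹) ^ 4 = 1 := by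
      rw [hi]
      have : (D.w * D.c ^ i) ^ 4
          = ((D.w * D.c ^ i) * (D.w * D.c ^ i)) * ((D.w * D.c ^ i) * (D.w * D.c ^ i)) := by
        rw [← pow_two, ← pow_two, ← pow_mul]
      rw [this, D.w_mul_pow_sq, ← D.hcn', ← pow_add, ← two_mul]; exact D.c_pow
    rw [conj_pow] at h4
    have h5 : D.c ^ 4 = 1 := by
      have := congrArg (fun z => g⁻¹ * z * g) h4
      simpa [mul_assoc] using this
    have hd := orderOf_dvd_of_pow_eq_one h5
    rw [show orderOf D.c = 2 * D.n from D.hc] at hd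
    have := Nat.le_of_dvd (by norm_num) hd
    omega

lemma centralizer_eq (h2 : (2 : F) ≠ 0) :
    Subgroup.centralizer (D.Q : Set G) = Subgroup.center G := by
  apply le_antisymm _ (Subgroup.center_le_centralizer _)
  intro g hg
  rw [Subgroup.mem_centralizer_iff] at hg
  have hc := hg D.c D.c_mem
  have hw := hg D.w D.w_mem
  have hcv : g.val * compM D.t = compM D.t * g.val := by
    have := congrArg Subtype.val hc
    rw [Matrix.SpecialLinearGroup.coe_mul D.c g, Matrix.SpecialLinearGroup.coe_mul g D.c,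
      D.c_val] at this
    exact this.symm
  have hwv : g.val * wM D.t D.x D.y = wM D.t D.x D.y * g.val := by
    have := congrArg Subtype.val hw
    rw [Matrix.SpecialLinearGroup.coe_mul D.w g, Matrix.SpecialLinearGroup.coe_mul g D.w,
      D.w_val] at this
    exact this.symm
  have h10 := scalar_of_commute_compM_wM h2 D.hxy D.htt hcv hwv
  have hX := eq_of_commute_compM hcv
  rw [h10, zero_smul, add_zero] at hX
  rw [Matrix.SpecialLinearGroup.mem_center_iff]
  refine ⟨g.val 0 0, ?_, ?_⟩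
  · have hdet := g.2
    rw [hX] at hdet
    simpa [Matrix.det_smul] using hdet
  · rw [hX]
    ext i j
    fin_cases i <;> fin_cases j <;> simp

end QuatData
end grp
end Cfsg.Agent.Lib.Helper07
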