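import Mathlib
import Cfsg.Agent.Lib.Helper07.SL2NormB

set_option autoImplicit false

namespace Cfsg.Agent.Lib.Helper07
open Matrix

section mat
variable {F : Type*} [Field F]

/-- the element of order `3` normalising the quaternion group of order `8`. -/
def uM (x y : F) : Matrix (Fin 2) (Fin 2) F :=
  (2 : F)⁻¹ • !![-1 + x - y, -1 + x + y; 1 + x + y, -1 - x + y]

lemma uM_det (h2 : (2 : F) ≠ 0) (x y : F)
    (h : 1 * (x * x) + (-0) * (x * y) + 1 * (y * y) = -1) : (uM x y).det = 1 := by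
  have h2' : (2 : F)⁻¹ * 2 = 1 := inv_mul_cancel₀ h2
  rw [uM, Matrix.det_smul, det_fin_two]
  simp only [Fintype.card_fin, of_apply, cons_val', cons_val_zero, cons_val_one, cons_val_fin_one]
  linear_combination (-(2 : F)⁻¹ ^ 2 * 2) * h + (2 : F)⁻¹ * 2 * h2' + h2'

lemma uM_trace (h2 : (2 : F) ≠ 0) (x y : F) : (uM x y).trace = -1 := by
  have h2' : (2 : F)⁻¹ * 2 = 1 := inv_mul_cancel₀ h2
  rw [uM, Matrix.trace_smul, trace_fin_two]
  simp only [of_apply, cons_val', cons_val_zero, cons_val_one, cons_val_fin_one, smul_eq_mul]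
  linear_combination (-1 : F) * h2'

lemma uM_mul_compM (x y : F) (h : 1 * (x * x) + (-0) * (x * y) + 1 * (y * y) = -1) :
    uM x y * compM 0 = compM 0 * wM 0 x y * uM x y := by
  ext i j; fin_cases i <;> fin_cases j <;>
    simp [uM, wM, compM, Matrix.mul_apply, Fin.sum_univ_two] <;>
    first | ring1 | linear_combination (-(2 : F)⁻¹) * h | linear_combination ((2 : F)⁻¹) * h

lemma uM_mul_wM (x y : F) (h : 1 * (x * x) + (-0) * (x * y) + 1 * (y * y) = -1) :
    uM x y * wM 0 x y = compM 0 * uM x y := by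
  ext i j; fin_cases i <;> fin_cases j <;>
    simp [uM, wM, compM, Matrix.mul_apply, Fin.sum_univ_two] <;>
    first | ring1 | linear_combination (-(2 : F)⁻¹) * h | linear_combination ((2 : F)⁻¹) * h

lemma uM_ne_one (h2 : (2 : F) ≠ 0) (x y : F) : uM x y ≠ 1 := by
  intro h
  have h2' : (2 : F)⁻¹ * 2 = 1 := inv_mul_cancel₀ h2
  have h10 := congrFun (congrFun h 1) 0
  have h01 := congrFun (congrFun h 0) 1
  simp [uM] at h10 h01
  have : (1 : F) = 0 := by
    rcases h10 with h10 | h10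
    · exact absurd h10 h2
    · rcases h01 with h01 | h01
      · exact absurd h01 h2
      · linear_combination (2 : F)⁻¹ * h10 - (2 : F)⁻¹ * h01 - h2'
  exact one_ne_zero this

end mat

section grp
variable {F : Type*} [Field F]

namespace QuatData
variable (D : QuatData F)

local notation "G" => Matrix.SpecialLinearGroup (Fin 2) F

lemma t_eq_zero (hn : D.n = 2) : D.t = 0 := by
  have h := congrArg Subtype.val D.hcn'
  rw [hn, D.w_mul_self_val, pow_two, Matrix.SpecialLinearGroup.coe_mul, D.c_val,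
    mul_self_eq_of_det_one _ (compM_det D.t), compM_trace] at h
  have h10 := congrFun (congrFun h 1) 0
  simpa [compM] using h10

lemma hxy0 (hn : D.n = 2) : 1 * (D.x * D.x) + (-0) * (D.x * D.y) + 1 * (D.y * D.y) = -1 := by
  have := D.hxy
  rw [D.t_eq_zero hn] at this
  exact this

/-- the element of order `3`. -/
def u (h2 : (2 : F) ≠ 0) (hn : D.n = 2) : G := ⟨uM D.x D.y, uM_det h2 D.x D.y (D.hxy0 hn)⟩

lemma u_val (h2 : (2 : F) ≠ 0) (hn : D.n = 2) : (D.u h2 hn).val = uM D.x D.y := rfl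

lemma u_c (h2 : (2 : F) ≠ 0) (hn : D.n = 2) : SemiconjBy (D.u h2 hn) D.c (D.c * D.w) := by
  apply Subtype.ext
  rw [Matrix.SpecialLinearGroup.coe_mul (D.u h2 hn) D.c,
    Matrix.SpecialLinearGroup.coe_mul (D.c * D.w) (D.u h2 hn),
    Matrix.SpecialLinearGroup.coe_mul D.c D.w, D.c_val, D.w_val, D.u_val, D.t_eq_zero hn]
  exact uM_mul_compM D.x D.y (D.hxy0 hn)

lemma u_w (h2 : (2 : F) ≠ 0) (hn : D.n = 2) : SemiconjBy (D.u h2 hn) D.w D.c := by
  apply Subtype.ext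
  rw [Matrix.SpecialLinearGroup.coe_mul (D.u h2 hn) D.w,
    Matrix.SpecialLinearGroup.coe_mul D.c (D.u h2 hn), D.c_val, D.w_val, D.u_val, D.t_eq_zero hn]
  exact uM_mul_wM D.x D.y (D.hxy0 hn)

lemma cwc : D.c * D.w * D.c = D.w := by
  have := D.hwc'
  calc D.c * D.w * D.c = D.c * (D.w * D.c) := by group
    _ = D.c * (D.c⁻¹ * D.w) := by rw [this]
    _ = D.w := by group

lemma u_cw (h2 : (2 : F) ≠ 0) (hn : D.n = 2) : SemiconjBy (D.u h2 hn) (D.c * D.w) D.w := by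
  have := (D.u_c h2 hn).mul_right (D.u_w h2 hn)
  rwa [D.cwc] at this

lemma u_pow_three (h2 : (2 : F) ≠ 0) (hn : D.n = 2) : (D.u h2 hn) ^ 3 = 1 := by
  apply Subtype.ext
  have hsq := mul_self_eq_of_det_one _ (D.u h2 hn).2
  rw [D.u_val, uM_trace h2] at hsq
  rw [pow_succ, pow_two, Matrix.SpecialLinearGroup.coe_mul, Matrix.SpecialLinearGroup.coe_mul,
    D.u_val, hsq, Matrix.sub_mul, Matrix.smul_mul, hsq]
  simp

lemma u_ne_one (h2 : (2 : F) ≠ 0) (hn : D.n = 2) : D.u h2 hn ≠ 1 := by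
  intro h
  have := congrArg Subtype.val h
  rw [D.u_val] at this
  exact uM_ne_one h2 D.x D.y this

lemma orderOf_u (h2 : (2 : F) ≠ 0) (hn : D.n = 2) : orderOf (D.u h2 hn) = 3 :=
  haveI : Fact (Nat.Prime 3) := ⟨by norm_num⟩
  orderOf_eq_prime (D.u_pow_three h2 hn) (D.u_ne_one h2 hn)

lemma cw_sq : (D.c * D.w) * (D.c * D.w) = D.w * D.w := by
  calc (D.c * D.w) * (D.c * D.w) = (D.c * D.w * D.c) * D.w := by group
    _ = D.w * D.w := by rw [D.cwc]

/-- every element of `Q` is conjugate under a power of `u` to a power of `c`. -/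
lemma exists_semiconj (h2 : (2 : F) ≠ 0) (hn : D.n = 2) {h : G} (hh : h ∈ D.Q) :
    ∃ j : Fin 3, ∃ k : ℕ, SemiconjBy ((D.u h2 hn) ^ (j : ℕ)) h (D.c ^ k) := by
  have hc2 : D.c ^ 2 = D.w * D.w := by
    have := D.hcn'
    rw [hn] at this
    exact this
  obtain ⟨i, rfl | rfl⟩ := (D.mem_Q_iff h).mp hh
  · exact ⟨0, i, by simp⟩
  · obtain ⟨m, rfl | rfl⟩ := Nat.even_or_odd' i
    · refine ⟨1, 2 * m + 1, ?_⟩
      have := (D.u_w h2 hn).mul_right ((D.u_c h2 hn).pow_right (2 * m))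
      rw [pow_mul (D.c * D.w), pow_two (D.c * D.w), D.cw_sq, ← hc2, ← pow_mul, ← pow_succ'] at this
      simpa using this
    · refine ⟨2, 2 * m + 3, ?_⟩
      have h1 : SemiconjBy (D.u h2 hn * D.u h2 hn) D.w (D.c * D.w) :=
        (D.u_c h2 hn).mul_left (D.u_w h2 hn)
      have h2' : SemiconjBy (D.u h2 hn * D.u h2 hn) D.c D.w :=
        (D.u_cw h2 hn).mul_left (D.u_c h2 hn)
      have := h1.mul_right (h2'.pow_right (2 * m + 1))
      have e : D.c * D.w * D.w ^ (2 * m + 1) = D.c ^ (2 * m + 3) := by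
        rw [mul_assoc, ← pow_succ', show 2 * m + 1 + 1 = 2 * (m + 1) by ring, pow_mul, pow_two,
          ← hc2, ← pow_mul, ← pow_succ']
        congr 1
      rw [e] at this
      simpa [pow_two] using this


section fin
variable [Fintype F]

lemma u_mem_normalizer (h2 : (2 : F) ≠ 0) (hn : D.n = 2) :
    D.u h2 hn ∈ Subgroup.normalizer (D.Q : Set G) := by
  classical
  apply Subgroup.mem_normalizer_fintype
  intro h hh
  obtain ⟨i, rfl | rfl⟩ := (D.mem_Q_iff h).mp hh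
  · have := ((D.u_c h2 hn).pow_right i).eq
    rw [this, mul_inv_cancel_right]
    exact D.Q.pow_mem (D.Q.mul_mem D.c_mem D.w_mem) i
  · have := ((D.u_w h2 hn).mul_right ((D.u_c h2 hn).pow_right i)).eq
    rw [this, mul_inv_cancel_right]
    exact D.Q.mul_mem D.c_mem (D.Q.pow_mem (D.Q.mul_mem D.c_mem D.w_mem) i)

lemma exists_pow_mul_mem (h2 : (2 : F) ≠ 0) (hn : D.n = 2) (P₀ : Sylow 2 G)
    (hP : (P₀ : Subgroup G) = D.Q) {g : G} (hN : g ∈ Subgroup.normalizer (D.Q : Set G)) :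
    ∃ j : Fin 3, (D.u h2 hn) ^ (j : ℕ) * g ∈ D.Q := by
  have h1 : g * D.c * g⁻¹ ∈ D.Q := (Subgroup.mem_normalizer_iff.mp hN D.c).mp D.c_mem
  obtain ⟨j, k, hjk⟩ := D.exists_semiconj h2 hn h1
  refine ⟨j, ?_⟩
  have hN' : (D.u h2 hn) ^ (j : ℕ) * g ∈ Subgroup.normalizer (D.Q : Set G) :=
    mul_mem (pow_mem (D.u_mem_normalizer h2 hn) _) hN
  apply D.mem_of_conj_commute h2 P₀ hP hN'
  have e : (D.u h2 hn) ^ (j : ℕ) * g * D.c * ((D.u h2 hn) ^ (j : ℕ) * g)⁻¹ = D.c ^ k := by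
    have := hjk.eq
    calc (D.u h2 hn) ^ (j : ℕ) * g * D.c * ((D.u h2 hn) ^ (j : ℕ) * g)⁻¹
        = ((D.u h2 hn) ^ (j : ℕ) * (g * D.c * g⁻¹)) * ((D.u h2 hn) ^ (j : ℕ))⁻¹ := by group
      _ = D.c ^ k := by rw [this, mul_inv_cancel_right]
  rw [e]
  exact (Commute.refl D.c).pow_left k

lemma card_normalizer (h2 : (2 : F) ≠ 0) (hn : D.n = 2) (P₀ : Sylow 2 G)
    (hP : (P₀ : Subgroup G) = D.Q) :
    Nat.card (Subgroup.normalizer (D.Q : Set G)) = 3 * Nat.card D.Q := by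
  classical
  set N := Subgroup.normalizer (D.Q : Set G) with hNdef
  have hQ8 : Nat.card D.Q = 8 := by rw [D.card_Q, hn]
  -- upper bound
  let f : Fin 3 × D.Q → N := fun p =>
    ⟨((D.u h2 hn) ^ (p.1 : ℕ))⁻¹ * p.2.1,
      mul_mem (inv_mem (pow_mem (D.u_mem_normalizer h2 hn) _)) (Subgroup.le_normalizer p.2.2)⟩
  have hf : Function.Surjective f := by
    rintro ⟨g, hg⟩
    obtain ⟨j, hj⟩ := D.exists_pow_mul_mem h2 hn P₀ hP hg
    refine ⟨(j, ⟨_, hj⟩), Subtype.ext ?_⟩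
    show ((D.u h2 hn) ^ (j : ℕ))⁻¹ * ((D.u h2 hn) ^ (j : ℕ) * g) = g
    rw [inv_mul_cancel_left]
  have hle : Nat.card N ≤ 3 * Nat.card D.Q := by
    have := Nat.card_le_card_of_surjective f hf
    rwa [Nat.card_prod, Nat.card_fin] at this
  -- divisibility
  have hd1 : Nat.card D.Q ∣ Nat.card N := Subgroup.card_dvd_of_le Subgroup.le_normalizer
  have hd2 : 3 ∣ Nat.card N := by
    rw [← D.orderOf_u h2 hn]
    exact Subgroup.orderOf_dvd_natCard N (D.u_mem_normalizer h2 hn)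
  rw [hQ8] at hd1 hle ⊢
  have hd : 24 ∣ Nat.card N := by
    have : Nat.Coprime 8 3 := by norm_num
    exact this.mul_dvd_of_dvd_of_dvd hd1 hd2
  have hpos : 0 < Nat.card N := Nat.card_pos
  have := Nat.le_of_dvd hpos hd
  omega

end fin

end QuatData
end grp

end Cfsg.Agent.Lib.Helper07
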