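import Mathlib
import Cfsg.Agent.Lib.Helper07.SL2NormC

set_option autoImplicit false

namespace Cfsg.Agent.Lib.Helper07

section transport
variable {G : Type*} [Group G]

lemma sylow_smul_eq_map {p : ℕ} (g : G) (P : Sylow p G) :
    ((g • P : Sylow p G) : Subgroup G) = (P : Subgroup G).map (MulAut.conj g).toMonoidHom := by
  rw [Sylow.coe_subgroup_smul, Subgroup.pointwise_smul_def]
  rfl

lemma centralizer_map_conj_eq_center (H : Subgroup G) (g : G)
    (h : Subgroup.centralizer (H : Set G) = Subgroup.center G) :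
    Subgroup.centralizer ((H.map (MulAut.conj g).toMonoidHom : Subgroup G) : Set G)
      = Subgroup.center G := by
  apply le_antisymm _ (Subgroup.center_le_centralizer _)
  intro x hx
  rw [Subgroup.mem_centralizer_iff] at hx
  have h1 : g⁻¹ * x * g ∈ Subgroup.centralizer (H : Set G) := by
    rw [Subgroup.mem_centralizer_iff]
    intro k hk
    have := hx (g * k * g⁻¹) ⟨k, hk, by simp [MulAut.conj_apply]⟩
    calc k * (g⁻¹ * x * g) = g⁻¹ * ((g * k * g⁻¹) * x) * g := by group
      _ = g⁻¹ * (x * (g * k * g⁻¹)) * g := by rw [this]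
      _ = g⁻¹ * x * g * k := by group
  rw [h] at h1
  have h2 := (inferInstance : (Subgroup.center G).Normal).conj_mem _ h1 g
  have e : g * (g⁻¹ * x * g) * g⁻¹ = x := by group
  rwa [e] at h2

lemma normalizer_map_conj_eq (H : Subgroup G) (g : G)
    (h : Subgroup.normalizer (H : Set G) = H) :
    Subgroup.normalizer ((H.map (MulAut.conj g).toMonoidHom : Subgroup G) : Set G)
      = H.map (MulAut.conj g).toMonoidHom := by
  rw [← Subgroup.map_equiv_normalizer_eq, h]

lemma card_normalizer_map_conj (H : Subgroup G) (g : G) (m : ℕ)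
    (h : Nat.card (Subgroup.normalizer (H : Set G)) = m * Nat.card H) :
    Nat.card (Subgroup.normalizer ((H.map (MulAut.conj g).toMonoidHom : Subgroup G) : Set G))
      = m * Nat.card (H.map (MulAut.conj g).toMonoidHom : Subgroup G) := by
  rw [← Subgroup.map_equiv_normalizer_eq,
    Subgroup.card_map_of_injective (MulAut.conj g).injective,
    Subgroup.card_map_of_injective (MulAut.conj g).injective, h]

end transport

section numerics

lemma sixteen_dvd_of_mod_eight (q : ℕ) (h : q % 8 = 1 ∨ q % 8 = 7) : 2 ^ 4 ∣ (q ^ 2 - 1) * q := by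
  apply Dvd.dvd.mul_right
  rcases h with h | h
  · obtain ⟨k, rfl⟩ : ∃ k, q = 8 * k + 1 := ⟨q / 8, by omega⟩
    have : (8 * k + 1) ^ 2 - 1 = 2 ^ 4 * (4 * k ^ 2 + k) := by
      apply Nat.sub_eq_of_eq_add; ring
    rw [this]; exact Dvd.intro _ rfl
  · obtain ⟨k, rfl⟩ : ∃ k, q = 8 * k + 7 := ⟨q / 8, by omega⟩
    have : (8 * k + 7) ^ 2 - 1 = 2 ^ 4 * (4 * k ^ 2 + 7 * k + 3) := by
      apply Nat.sub_eq_of_eq_add; ring
    rw [this]; exact Dvd.intro _ rfl

lemma not_sixteen_dvd_of_mod_eight (q : ℕ) (h : q % 8 = 3 ∨ q % 8 = 5) :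
    ¬ 2 ^ 4 ∣ (q ^ 2 - 1) * q := by
  rcases h with h | h
  · obtain ⟨k, rfl⟩ : ∃ k, q = 8 * k + 3 := ⟨q / 8, by omega⟩
    have h1 : (8 * k + 3) ^ 2 - 1 = 64 * k ^ 2 + 48 * k + 8 := by
      apply Nat.sub_eq_of_eq_add; ring
    have h2 : (64 * k ^ 2 + 48 * k + 8) * (8 * k + 3)
        = 16 * ((4 * k ^ 2 + 3 * k) * (8 * k + 3) + 4 * k + 1) + 8 := by ring
    rw [h1, h2]
    omega
  · obtain ⟨k, rfl⟩ : ∃ k, q = 8 * k + 5 := ⟨q / 8, by omega⟩
    have h1 : (8 * k + 5) ^ 2 - 1 = 64 * k ^ 2 + 80 * k + 24 := by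
      apply Nat.sub_eq_of_eq_add; ring
    have h2 : (64 * k ^ 2 + 80 * k + 24) * (8 * k + 5)
        = 16 * ((4 * k ^ 2 + 5 * k + 1) * (8 * k + 5) + 4 * k + 2) + 8 := by ring
    rw [h1, h2]
    omega

end numerics

section main
open Matrix
variable {F : Type*} [Field F] [Fintype F]

/-- centraliser and normaliser of a Sylow `2`-subgroup of `SL₂(q)`, `q` odd. -/
theorem sylow_two_SL_two_normalizer (hodd : Odd (Fintype.card F))
    (S : Sylow 2 (Matrix.SpecialLinearGroup (Fin 2) F)) :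
    Subgroup.centralizer ((S : Subgroup (Matrix.SpecialLinearGroup (Fin 2) F)) :
        Set (Matrix.SpecialLinearGroup (Fin 2) F)) =
      Subgroup.center (Matrix.SpecialLinearGroup (Fin 2) F) ∧
    ((Fintype.card F % 8 = 1 ∨ Fintype.card F % 8 = 7) →
      Subgroup.normalizer ((S : Subgroup (Matrix.SpecialLinearGroup (Fin 2) F)) :
        Set (Matrix.SpecialLinearGroup (Fin 2) F)) =
        (S : Subgroup (Matrix.SpecialLinearGroup (Fin 2) F))) ∧
    ((Fintype.card F % 8 = 3 ∨ Fintype.card F % 8 = 5) →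
      Nat.card (Subgroup.normalizer ((S : Subgroup (Matrix.SpecialLinearGroup (Fin 2) F)) :
        Set (Matrix.SpecialLinearGroup (Fin 2) F))) = 3 * Nat.card S) := by
  classical
  have h2 : (2 : F) ≠ 0 := Cfsg.Agent.S0268.two_ne_zero_of_odd_card hodd
  obtain ⟨e', t, x, y, hxy, he'1, he', hc, htt, hcn, hwc⟩ := sylow_two_SL_two_data hodd
  have hn2 : 2 ≤ 2 ^ e' := by
    calc 2 = 2 ^ 1 := by norm_num
      _ ≤ 2 ^ e' := Nat.pow_le_pow_right (by norm_num) he'1
  let D : QuatData F := ⟨t, x, y, hxy, 2 ^ e', hn2, hc, htt, hcn, hwc⟩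
  have hDn : D.n = 2 ^ e' := rfl
  have hNpos : (Fintype.card F ^ 2 - 1) * Fintype.card F ≠ 0 := by
    have h1 : 1 < Fintype.card F := Fintype.one_lt_card
    have h3 : 1 < Fintype.card F ^ 2 := Nat.one_lt_pow (by norm_num) h1
    have : 0 < Fintype.card F ^ 2 - 1 := by omega
    positivity
  have hcard : Nat.card D.Q
      = 2 ^ (Nat.card (Matrix.SpecialLinearGroup (Fin 2) F)).factorization 2 := by
    rw [D.card_Q, card_SL_two', he', hDn]; ring
  let P₀ : Sylow 2 (Matrix.SpecialLinearGroup (Fin 2) F) := Sylow.ofCard D.Q hcard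
  have hP : (P₀ : Subgroup (Matrix.SpecialLinearGroup (Fin 2) F)) = D.Q := Sylow.coe_ofCard _ _
  obtain ⟨g, hg⟩ := MulAction.exists_smul_eq (Matrix.SpecialLinearGroup (Fin 2) F) P₀ S
  have hS : (S : Subgroup (Matrix.SpecialLinearGroup (Fin 2) F))
      = D.Q.map (MulAut.conj g).toMonoidHom := by
    rw [← hg, sylow_smul_eq_map, hP]
  rw [hS]
  refine ⟨centralizer_map_conj_eq_center _ g (D.centralizer_eq h2), ?_, ?_⟩
  · intro hq
    apply normalizer_map_conj_eq
    apply D.normalizer_eq h2 P₀ hP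
    have h16 := sixteen_dvd_of_mod_eight _ hq
    have := (Nat.Prime.pow_dvd_iff_le_factorization Nat.prime_two hNpos).mp h16
    rw [he'] at this
    have he2 : 2 ≤ e' := by omega
    calc 3 ≤ 2 ^ 2 := by norm_num
      _ ≤ 2 ^ e' := Nat.pow_le_pow_right (by norm_num) he2
  · intro hq
    apply card_normalizer_map_conj
    apply D.card_normalizer h2 _ P₀ hP
    have h16 := not_sixteen_dvd_of_mod_eight _ hq
    rw [Nat.Prime.pow_dvd_iff_le_factorization Nat.prime_two hNpos, he'] at h16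
    have he1 : e' = 1 := by omega
    rw [hDn, he1]; norm_num

end main
end Cfsg.Agent.Lib.Helper07
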