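import Mathlib
import Cfsg.Agent.Lib.Helper07.ProjLine

set_option autoImplicit false

namespace Cfsg.Agent.Lib.Helper07

open Matrix Projectivization

open scoped LinearAlgebra.Projectivization MatrixGroups

variable {F : Type*} [Field F]

lemma sl_smul_vec (g : Matrix.SpecialLinearGroup (Fin 2) F) (v : Fin 2 → F) :
    g • v = g.val *ᵥ v := rfl

/-- an embedding of `Fin 3` from three distinct points. -/
def emb3 {α : Type*} (a b c : α) (hab : a ≠ b) (hac : a ≠ c) (hbc : b ≠ c) : Fin 3 ↪ α where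
  toFun := ![a, b, c]
  inj' := by
    intro i j h
    fin_cases i <;> fin_cases j <;> simp_all

@[simp] lemma emb3_zero {α : Type*} (a b c : α) (hab : a ≠ b) (hac : a ≠ c) (hbc : b ≠ c) :
    emb3 a b c hab hac hbc 0 = a := rfl
@[simp] lemma emb3_one {α : Type*} (a b c : α) (hab : a ≠ b) (hac : a ≠ c) (hbc : b ≠ c) :
    emb3 a b c hab hac hbc 1 = b := rfl
@[simp] lemma emb3_two {α : Type*} (a b c : α) (hab : a ≠ b) (hac : a ≠ c) (hbc : b ≠ c) :
    emb3 a b c hab hac hbc 2 = c := rfl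

/-- if `det G` is the inverse of a square, some element of `SL₂` acts as `G` on the line. -/
lemma exists_sl_smul_eq (G : GL (Fin 2) F) (s : F) (hs : s * s * G.val.det = 1) :
    ∃ S : Matrix.SpecialLinearGroup (Fin 2) F,
      ∀ p : ℙ F (Fin 2 → F), S • p = (ProjGenLinGroup.mk G : PGL(Fin 2, F)) • p := by
  have hs0 : s ≠ 0 := by
    rintro rfl
    simp at hs
  obtain ⟨S, hSval⟩ : ∃ S : Matrix.SpecialLinearGroup (Fin 2) F, S.val = s • G.val :=
    ⟨⟨s • G.val, by rw [det_smul, Fintype.card_fin, pow_two]; exact hs⟩, rfl⟩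
  refine ⟨S, ?_⟩
  intro p
  induction p using Projectivization.ind with | _ v hv =>
  rw [PGL.mk_smul_mk, smul_mk, mk_eq_mk_iff']
  refine ⟨s, ?_⟩
  rw [sl_smul_vec, gl_smul_vec, hSval]
  simp [Matrix.smul_mulVec]

/-- if every element is a square, `SL₂(F)` is 3-transitive on the projective line. -/
lemma sl_two_three_transitive_of_squares (hsq : ∀ a : F, IsSquare a) :
    MulAction.IsMultiplyPretransitive (Matrix.SpecialLinearGroup (Fin 2) F)
      (ℙ F (Fin 2 → F)) 3 := by
  rw [MulAction.isMultiplyPretransitive_iff]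
  intro x y
  have h3 := (pgl_two_sharply_three_transitive (F := F)).1
  rw [MulAction.isMultiplyPretransitive_iff] at h3
  obtain ⟨g, hg⟩ := h3 x y
  induction g using ProjGenLinGroup.induction_on with | mk G =>
  have hdet : G.val.det ≠ 0 := by
    have := G.isUnit.map (Matrix.detMonoidHom (n := Fin 2) (R := F))
    exact this.ne_zero
  obtain ⟨s, hs⟩ := hsq (G.val.det)⁻¹
  obtain ⟨S, hS⟩ := exists_sl_smul_eq G s (by rw [← hs, inv_mul_cancel₀ hdet])
  refine ⟨S, ?_⟩
  ext i
  have := DFunLike.congr_fun hg i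
  show S • x i = y i
  rw [hS]; exact this

/-- if `SL₂(F)` is 3-transitive on the projective line, then every element is a square. -/
lemma squares_of_sl_two_three_transitive
    (h3 : MulAction.IsMultiplyPretransitive (Matrix.SpecialLinearGroup (Fin 2) F)
      (ℙ F (Fin 2 → F)) 3) (d : F) : IsSquare d := by
  rcases eq_or_ne d 0 with rfl | hd
  · exact ⟨0, by simp⟩
  rw [MulAction.isMultiplyPretransitive_iff] at h3
  -- the points
  have hw : (![d, 1] : Fin 2 → F) ≠ 0 := (vec_ne_zero_iff _).mpr (Or.inr (by simp))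
  set q : ℙ F (Fin 2 → F) := mk F ![d, 1] hw with hq
  have h12 : (p1 : ℙ F (Fin 2 → F)) ≠ p2 := by
    rw [p1, p2, Ne, mk_eq_mk_iff_cross]; simp [cross, e1, e2]
  have h1a : (p1 : ℙ F (Fin 2 → F)) ≠ p12 := by
    rw [p1, p12, Ne, mk_eq_mk_iff_cross]; simp [cross, e1, e12]
  have h2a : (p2 : ℙ F (Fin 2 → F)) ≠ p12 := by
    rw [p2, p12, Ne, mk_eq_mk_iff_cross]; simp [cross, e2, e12]
  have h1q : (p1 : ℙ F (Fin 2 → F)) ≠ q := by
    rw [p1, hq, Ne, mk_eq_mk_iff_cross]; simp [cross, e1]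
  have h2q : (p2 : ℙ F (Fin 2 → F)) ≠ q := by
    rw [p2, hq, Ne, mk_eq_mk_iff_cross]; simp [cross, e2, hd]
  obtain ⟨S, hS⟩ := h3 (emb3 p1 p2 p12 h12 h1a h2a) (emb3 p1 p2 q h12 h1q h2q)
  have hS0 : S • (p1 : ℙ F (Fin 2 → F)) = p1 := by
    have := congrArg (fun e : Fin 3 ↪ ℙ F (Fin 2 → F) => e 0) hS
    simpa using this
  have hS1 : S • (p2 : ℙ F (Fin 2 → F)) = p2 := by
    have := congrArg (fun e : Fin 3 ↪ ℙ F (Fin 2 → F) => e 1) hS
    simpa using this
  have hS2 : S • (p12 : ℙ F (Fin 2 → F)) = q := by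
    have := congrArg (fun e : Fin 3 ↪ ℙ F (Fin 2 → F) => e 2) hS
    simpa using this
  rw [p1, smul_mk, mk_eq_mk_iff_cross] at hS0
  rw [p2, smul_mk, mk_eq_mk_iff_cross] at hS1
  rw [p12, hq, smul_mk, mk_eq_mk_iff_cross] at hS2
  simp only [sl_smul_vec, e1, e2, e12, cross] at hS0 hS1 hS2
  simp [Matrix.mulVec, dotProduct, Fin.sum_univ_two] at hS0 hS1 hS2
  have hdet : S.val.det = 1 := S.2
  rw [det_fin_two, hS0, hS1] at hdet
  rw [hS0, hS1] at hS2
  simp at hdet hS2
  -- hS2 : S 0 0 - S 1 1 * d = 0 ; hdet : S 0 0 * S 1 1 = 1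
  refine ⟨S.val 0 0, ?_⟩
  have h11 : S.val 1 1 ≠ 0 := by
    intro h0; rw [h0, mul_zero] at hdet; exact zero_ne_one hdet
  have : S.val 1 1 * d = S.val 1 1 * (S.val 0 0 * S.val 0 0) := by
    linear_combination (-1 : F) * hS2 - (S.val 0 0) * hdet
  exact mul_left_cancel₀ h11 this

/-- `SL₂(q)` is 3-transitive on the projective line iff `q` is even. -/
theorem sl_two_three_transitive_iff [Fintype F] :
    MulAction.IsMultiplyPretransitive (Matrix.SpecialLinearGroup (Fin 2) F)
      (ℙ F (Fin 2 → F)) 3 ↔ ringChar F = 2 := by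
  constructor
  · intro h3
    by_contra hne
    obtain ⟨a, ha⟩ := FiniteField.exists_nonsquare hne
    exact ha (squares_of_sl_two_three_transitive h3 a)
  · intro h2
    exact sl_two_three_transitive_of_squares (FiniteField.isSquare_of_char_two h2)

end Cfsg.Agent.Lib.Helper07
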