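import Mathlib
import Cfsg.Agent.Lib.Helper07.SU33A
import Cfsg.Agent.Lib.Helper07.AutPSL2
import Cfsg.Agent.Lib.Helper07.PSL27

set_option autoImplicit false

/-! `PSL₂(7)` inside `PSU₃(3)`. -/

namespace Cfsg.Agent.Lib.Helper07
open Matrix

section transfer
variable {R S : Type*} [Field R] [Field S]

lemma hermForm_map (σ : R ≃+* S) (n q : ℕ) (u v : Fin n → R) :
    Cfsg.hermForm n S q (fun i => σ (u i)) (fun i => σ (v i)) = σ (Cfsg.hermForm n R q u v) := by
  simp [Cfsg.hermForm, map_sum, map_mul, map_pow]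

lemma slCongr_mem_SU (σ : R ≃+* S) (n q : ℕ) {A : SpecialLinearGroup (Fin n) R}
    (hA : A ∈ Cfsg.SU n R q) : slCongr σ A ∈ Cfsg.SU n S q := by
  intro u' v'
  have hval : Cfsg.slToMat n S (slCongr σ A) = A.val.map σ := rfl
  have hu : u' = fun i => σ (σ.symm (u' i)) := by ext i; simp
  have hv : v' = fun i => σ (σ.symm (v' i)) := by ext i; simp
  have key : ∀ w : Fin n → R, (A.val.map σ) *ᵥ (fun i => σ (w i)) = fun i => σ ((A.val *ᵥ w) i) := by
    intro w
    ext i
    exact (RingHom.map_mulVec (σ : R →+* S) A.val w i).symm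
  rw [hval, hu, hv, key, key, hermForm_map, hermForm_map]
  congr 1
  exact hA _ _

/-- `SU_n` over isomorphic fields. -/
noncomputable def suCongr (σ : R ≃+* S) (n q : ℕ) : Cfsg.SU n R q ≃* Cfsg.SU n S q where
  toFun A := ⟨slCongr σ A.1, slCongr_mem_SU σ n q A.2⟩
  invFun A := ⟨(slCongr σ).symm A.1, by
    have := slCongr_mem_SU σ.symm n q A.2
    exact this⟩
  left_inv A := Subtype.ext ((slCongr σ).symm_apply_apply A.1)
  right_inv A := Subtype.ext ((slCongr σ).apply_symm_apply A.1)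
  map_mul' A B := Subtype.ext (map_mul (slCongr σ) A.1 B.1)

/-- `PSU_n` over isomorphic fields. -/
noncomputable def psuCongr (σ : R ≃+* S) (n q : ℕ) : Cfsg.PSU n R q ≃* Cfsg.PSU n S q :=
  QuotientGroup.congr _ _ (suCongr σ n q) (map_center_mulEquiv _)

end transfer

section hom

/-- Steinberg data for `ZMod 7` inside `SL₃(F₉)`. -/
def suData : StData (ZMod 7) (SpecialLinearGroup (Fin 3) F9) where
  x t := slX ^ t.val
  y t := slY ^ t.val
  x_add := slX_add
  y_add := slY_add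
  rel1 t u ht := by rw [sl_rel1 t u ht, mul_inv_cancel_right]
  rel2 t u ht := by rw [sl_rel2 t u ht, mul_inv_cancel_right]

/-- the resulting homomorphism `SL₂(7) → SL₃(9)`. -/
noncomputable def suHom₀ : SpecialLinearGroup (Fin 2) (ZMod 7) →* SpecialLinearGroup (Fin 3) F9 :=
  suData.slHom

lemma suHom₀_upSL (t : ZMod 7) : suHom₀ (upSL t) = slX ^ t.val := suData.slHom_upSL t

lemma suHom₀_loSL (t : ZMod 7) : suHom₀ (loSL t) = slY ^ t.val := suData.slHom_loSL t

lemma suHom₀_range_le : suHom₀.range ≤ Cfsg.SU 3 F9 3 := by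
  rw [MonoidHom.range_eq_map, ← slData_gen (F := ZMod 7), MonoidHom.map_closure,
    Subgroup.closure_le]
  rintro _ ⟨z, (⟨t, rfl⟩ | ⟨t, rfl⟩), rfl⟩
  · show suHom₀ (upSL t) ∈ _
    rw [suHom₀_upSL]
    exact pow_mem slX_mem _
  · show suHom₀ (loSL t) ∈ _
    rw [suHom₀_loSL]
    exact pow_mem slY_mem _

/-- the homomorphism `SL₂(7) → SU₃(3)`. -/
noncomputable def suHom : SpecialLinearGroup (Fin 2) (ZMod 7) →* Cfsg.SU 3 F9 3 :=
  suHom₀.codRestrict _ (fun z => suHom₀_range_le ⟨z, rfl⟩)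

lemma suHom_val (z : SpecialLinearGroup (Fin 2) (ZMod 7)) : (suHom z).val = suHom₀ z := rfl

/-- the homomorphism `SL₂(7) → PSU₃(3)`. -/
noncomputable def psuHom : SpecialLinearGroup (Fin 2) (ZMod 7) →* Cfsg.PSU 3 F9 3 :=
  (QuotientGroup.mk' _).comp suHom

set_option maxRecDepth 100000 in
lemma weyl_sq_image : (slX ^ (1 : ZMod 7).val * slY ^ (-1 : ZMod 7).val * slX ^ (1 : ZMod 7).val) *
    (slX ^ (1 : ZMod 7).val * slY ^ (-1 : ZMod 7).val * slX ^ (1 : ZMod 7).val) = 1 := by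
  decide +kernel

lemma neg_one_eq_weyl_sq {z : SpecialLinearGroup (Fin 2) (ZMod 7)}
    (hz : (Matrix.scalar (Fin 2)) (-1 : ZMod 7) = z.val) :
    z = (upSL 1 * loSL (-1) * upSL 1) * (upSL 1 * loSL (-1) * upSL 1) := by
  apply Subtype.ext
  rw [← hz]
  simp only [Matrix.SpecialLinearGroup.coe_mul, upSL_val, loSL_val, upT, loT]
  decide

lemma center_le_ker : Subgroup.center (SpecialLinearGroup (Fin 2) (ZMod 7)) ≤ psuHom.ker := by
  intro z hz
  rw [Matrix.SpecialLinearGroup.mem_center_iff] at hz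
  obtain ⟨r, hr, hrz⟩ := hz
  have hr' : r = 1 ∨ r = -1 := by
    have : ∀ r : ZMod 7, r ^ Fintype.card (Fin 2) = 1 → r = 1 ∨ r = -1 := by decide
    exact this r hr
  rw [MonoidHom.mem_ker]
  rcases hr' with rfl | rfl
  · have : z = 1 := by
      apply Subtype.ext
      rw [← hrz]
      simp
    rw [this, map_one]
  · rw [neg_one_eq_weyl_sq hrz]
    have h1 : suHom ((upSL 1 * loSL (-1) * upSL 1) * (upSL 1 * loSL (-1) * upSL 1)) = 1 := by
      apply Subtype.ext
      rw [suHom_val]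
      simp only [map_mul, suHom₀_upSL, suHom₀_loSL]
      exact weyl_sq_image
    show (QuotientGroup.mk' _) (suHom _) = 1
    rw [h1, map_one]

/-- the induced homomorphism `PSL₂(7) → PSU₃(3)`. -/
noncomputable def psuHomBar : ProjectiveSpecialLinearGroup (Fin 2) (ZMod 7) →* Cfsg.PSU 3 F9 3 :=
  QuotientGroup.lift _ psuHom center_le_ker

lemma slX_slY_ne : slX * slY ≠ slY * slX := by decide

lemma psuHomBar_injective : Function.Injective psuHomBar := by
  have hs : IsSimpleGroup (ProjectiveSpecialLinearGroup (Fin 2) (ZMod 7)) :=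
    Matrix.ProjectiveSpecialLinearGroup.rank_two_simple (by
      rw [Nat.card_eq_fintype_card, ZMod.card]; norm_num)
  rw [← MonoidHom.ker_eq_bot_iff]
  rcases (psuHomBar.normal_ker).eq_bot_or_eq_top with h | h
  · exact h
  · exfalso
    have h1 : (QuotientGroup.mk (upSL (1 : ZMod 7)) :
        ProjectiveSpecialLinearGroup (Fin 2) (ZMod 7)) ∈ psuHomBar.ker := by
      rw [h]; exact Subgroup.mem_top _
    rw [MonoidHom.mem_ker] at h1
    have h2 : psuHom (upSL (1 : ZMod 7)) = 1 := h1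
    have h3 : suHom (upSL (1 : ZMod 7)) ∈ Subgroup.center (Cfsg.SU 3 F9 3) :=
      (QuotientGroup.eq_one_iff _).mp h2
    rw [Subgroup.mem_center_iff] at h3
    have h4 := h3 ⟨slY, slY_mem⟩
    have h5 := congrArg Subtype.val h4
    simp only [Subgroup.coe_mul, suHom_val, suHom₀_upSL] at h5
    apply slX_slY_ne
    have h6 : slX ^ (1 : ZMod 7).val = slX := by
      show slX ^ 1 = slX
      exact pow_one _
    rw [h6] at h5
    exact h5.symm

theorem exists_psl_two_seven_in_psu :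
    ∃ H : Subgroup (Cfsg.PSU 3 F9 3),
      Nonempty (H ≃* ProjectiveSpecialLinearGroup (Fin 2) (ZMod 7)) :=
  ⟨psuHomBar.range, ⟨(MonoidHom.ofInjective psuHomBar_injective).symm⟩⟩

end hom

section final

theorem exists_psl_two_seven_in_psu_three_three {F : Type*} [Field F] [Fintype F]
    (hF : Fintype.card F = 9) {K : Type*} [Field K] [Fintype K] (hK : Fintype.card K = 7) :
    ∃ H : Subgroup (Cfsg.PSU 3 F 3),
      Nonempty (H ≃* ProjectiveSpecialLinearGroup (Fin 2) K) := by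
  obtain ⟨H, ⟨e⟩⟩ := exists_psl_two_seven_in_psu
  let σ : F ≃+* F9 := FiniteField.ringEquivOfCardEq (by rw [hF, f9_card])
  let ε : Cfsg.PSU 3 F 3 ≃* Cfsg.PSU 3 F9 3 := psuCongr σ 3 3
  have : Fact (Nat.Prime 7) := ⟨by norm_num⟩
  let e2 : ProjectiveSpecialLinearGroup (Fin 2) K ≃* ProjectiveSpecialLinearGroup (Fin 2) (ZMod 7) :=
    pslCongr (fieldEquivZMod 7 hK)
  refine ⟨H.map ε.symm.toMonoidHom, ⟨?_⟩⟩
  exact ((ε.symm.subgroupMap H).symm.trans e).trans e2.symm

end final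

end Cfsg.Agent.Lib.Helper07
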