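import Mathlib
import Cfsg.Agent.Lib.Helper07.SLTransfer
import Cfsg.Agent.Lib.Helper07.SpCardD

set_option autoImplicit false

namespace Cfsg.Agent.Lib.Helper07

open Matrix

/-- A ring isomorphism induces an isomorphism of symplectic groups. -/
def spCongr {l : Type*} [Fintype l] [DecidableEq l] {R S : Type*} [CommRing R] [CommRing S]
    (e : R ≃+* S) : Matrix.symplecticGroup l R ≃* Matrix.symplecticGroup l S where
  toFun A := ⟨A.1.map e, SymplecticGroup.map_mem A.2 e⟩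
  invFun A := ⟨A.1.map e.symm, SymplecticGroup.map_mem A.2 e.symm⟩
  left_inv A := by
    apply Subtype.ext
    ext i j
    simp
  right_inv A := by
    apply Subtype.ext
    ext i j
    simp
  map_mul' A B := by
    apply Subtype.ext
    simp [Matrix.map_mul]

section s6

/-- the four vectors `d_a` of `F_2^6`. -/
def dvec : Fin 2 ⊕ Fin 2 → Fin 6 → ZMod 2 :=
  Sum.elim ![![1, 1, 0, 0, 0, 0], ![0, 0, 0, 1, 1, 0]] ![![0, 1, 1, 0, 0, 0], ![0, 0, 0, 0, 1, 1]]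

/-- the matrix with rows `d_a`. -/
def Dt : Matrix (Fin 2 ⊕ Fin 2) (Fin 6) (ZMod 2) := Matrix.of dvec

/-- the all-ones matrix. -/
def Uone : Matrix (Fin 6) (Fin 6) (ZMod 2) := Matrix.of fun _ _ => 1

def lamD : Matrix (Fin 6) (Fin 6) (ZMod 2) := Matrix.diagonal ![0, 0, 0, 1, 1, 1]
def muD : Matrix (Fin 6) (Fin 6) (ZMod 2) := Matrix.diagonal ![1, 1, 1, 0, 0, 0]

lemma Dt_gram : Dt * Dtᵀ = J (Fin 2) (ZMod 2) := by decide

lemma Dt_Uone : Dt * Uone = 0 := by decide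

lemma Uone_Dt : Uone * Dtᵀ = 0 := by decide

lemma Dt_proj : Dtᵀ * J (Fin 2) (ZMod 2) * Dt = 1 + Uone * lamD + muD * Uone := by decide

lemma perm_mul_Uone (σ : Equiv.Perm (Fin 6)) : σ.permMatrix (ZMod 2) * Uone = Uone := by
  rw [Equiv.Perm.permMatrix, PEquiv.toMatrix_toPEquiv_mul]
  rfl

lemma Uone_mul_perm (σ : Equiv.Perm (Fin 6)) : Uone * σ.permMatrix (ZMod 2) = Uone := by
  rw [Equiv.Perm.permMatrix, PEquiv.mul_toMatrix_toPEquiv]
  rfl

/-- the matrix of the permutation `σ` on `E / ⟨1⟩`. -/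
def s6M (σ : Equiv.Perm (Fin 6)) : Matrix (Fin 2 ⊕ Fin 2) (Fin 2 ⊕ Fin 2) (ZMod 2) :=
  J (Fin 2) (ZMod 2) * Dt * Matrix.permMatrixHom (R := ZMod 2) σ * Dtᵀ

lemma s6M_one : s6M 1 = 1 := by
  rw [s6M, map_one, Matrix.mul_one, Matrix.mul_assoc, Dt_gram, J_squared]
  decide

lemma s6M_mul (σ τ : Equiv.Perm (Fin 6)) : s6M (σ * τ) = s6M σ * s6M τ := by
  have h1 : ∀ ρ : Equiv.Perm (Fin 6), Matrix.permMatrixHom (R := ZMod 2) ρ * Uone = Uone :=
    fun ρ => perm_mul_Uone _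
  have h2 : ∀ ρ : Equiv.Perm (Fin 6), Uone * Matrix.permMatrixHom (R := ZMod 2) ρ = Uone :=
    fun ρ => Uone_mul_perm _
  set P := Matrix.permMatrixHom (R := ZMod 2) σ with hP
  set Q := Matrix.permMatrixHom (R := ZMod 2) τ with hQ
  have key : s6M σ * s6M τ =
      J (Fin 2) (ZMod 2) * Dt * P * (Dtᵀ * J (Fin 2) (ZMod 2) * Dt) * Q * Dtᵀ := by
    simp only [s6M, Matrix.mul_assoc, ← hP, ← hQ]
  rw [key, Dt_proj, s6M, map_mul, ← hP, ← hQ]
  simp only [Matrix.mul_add, Matrix.add_mul, Matrix.mul_one]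
  have e1 : J (Fin 2) (ZMod 2) * Dt * P * (Uone * lamD) * Q * Dtᵀ = 0 := by
    have : J (Fin 2) (ZMod 2) * Dt * P * (Uone * lamD) * Q * Dtᵀ =
        J (Fin 2) (ZMod 2) * (Dt * (P * Uone)) * lamD * Q * Dtᵀ := by
      simp only [Matrix.mul_assoc]
    rw [this, h1 σ, Dt_Uone]
    simp
  have e2 : J (Fin 2) (ZMod 2) * Dt * P * (muD * Uone) * Q * Dtᵀ = 0 := by
    have : J (Fin 2) (ZMod 2) * Dt * P * (muD * Uone) * Q * Dtᵀ =
        J (Fin 2) (ZMod 2) * Dt * P * muD * ((Uone * Q) * Dtᵀ) := by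
      simp only [Matrix.mul_assoc]
    rw [this, h2 τ, Uone_Dt]
    simp
  rw [e1, e2, add_zero, add_zero]
  simp only [Matrix.mul_assoc]

lemma s6M_mem (σ : Equiv.Perm (Fin 6)) : s6M σ ∈ Matrix.symplecticGroup (Fin 2) (ZMod 2) := by
  rw [SymplecticGroup.mem_iff]
  set P := Matrix.permMatrixHom (R := ZMod 2) σ with hP
  have hPT : Pᵀ = σ.permMatrix (ZMod 2) := by
    rw [hP, Matrix.permMatrixHom_apply, Matrix.transpose_permMatrix, inv_inv]
  have hPP : P * Pᵀ = 1 := by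
    rw [hPT, hP, Matrix.permMatrixHom_apply, ← Matrix.permMatrix_mul, mul_inv_cancel,
      Matrix.permMatrix_one]
  have h1 : P * Uone = Uone := perm_mul_Uone _
  have h2 : Uone * Pᵀ = Uone := by rw [hPT]; exact Uone_mul_perm _
  have key : s6M σ * J (Fin 2) (ZMod 2) * (s6M σ)ᵀ =
      J (Fin 2) (ZMod 2) * Dt * P * (Dtᵀ * J (Fin 2) (ZMod 2) * Dt) * Pᵀ * Dtᵀ *
        (J (Fin 2) (ZMod 2))ᵀ := by
    simp only [s6M, Matrix.transpose_mul, Matrix.transpose_transpose, Matrix.mul_assoc, ← hP]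
  rw [key, Dt_proj]
  simp only [Matrix.mul_add, Matrix.add_mul, Matrix.mul_one]
  have e1 : J (Fin 2) (ZMod 2) * Dt * P * (Uone * lamD) * Pᵀ * Dtᵀ * (J (Fin 2) (ZMod 2))ᵀ
      = 0 := by
    have : J (Fin 2) (ZMod 2) * Dt * P * (Uone * lamD) * Pᵀ * Dtᵀ * (J (Fin 2) (ZMod 2))ᵀ =
        J (Fin 2) (ZMod 2) * (Dt * (P * Uone)) * lamD * Pᵀ * Dtᵀ * (J (Fin 2) (ZMod 2))ᵀ := by
      simp only [Matrix.mul_assoc]
    rw [this, h1, Dt_Uone]
    simp
  have e2 : J (Fin 2) (ZMod 2) * Dt * P * (muD * Uone) * Pᵀ * Dtᵀ * (J (Fin 2) (ZMod 2))ᵀ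
      = 0 := by
    have : J (Fin 2) (ZMod 2) * Dt * P * (muD * Uone) * Pᵀ * Dtᵀ * (J (Fin 2) (ZMod 2))ᵀ =
        J (Fin 2) (ZMod 2) * Dt * P * muD * ((Uone * Pᵀ) * Dtᵀ) * (J (Fin 2) (ZMod 2))ᵀ := by
      simp only [Matrix.mul_assoc]
    rw [this, h2, Uone_Dt]
    simp
  rw [e1, e2, add_zero, add_zero]
  have : J (Fin 2) (ZMod 2) * Dt * P * Pᵀ * Dtᵀ * (J (Fin 2) (ZMod 2))ᵀ =
      J (Fin 2) (ZMod 2) * (Dt * (P * Pᵀ) * Dtᵀ) * (J (Fin 2) (ZMod 2))ᵀ := by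
    simp only [Matrix.mul_assoc]
  rw [this, hPP, Matrix.mul_one, Dt_gram, J_squared, J_transpose]
  simp

/-- the homomorphism `S₆ → Sp₄(2)`. -/
def s6Hom : Equiv.Perm (Fin 6) →* Matrix.symplecticGroup (Fin 2) (ZMod 2) where
  toFun σ := ⟨s6M σ, s6M_mem σ⟩
  map_one' := Subtype.ext s6M_one
  map_mul' σ τ := Subtype.ext (s6M_mul σ τ)

lemma s6Hom_val (σ : Equiv.Perm (Fin 6)) : (s6Hom σ).val = s6M σ := rfl

lemma s6M_threeCycle_ne : s6M (Equiv.swap 0 1 * Equiv.swap 1 2) ≠ 1 := by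
  rw [s6M, Matrix.permMatrixHom_apply]
  decide

lemma s6Hom_injective : Function.Injective s6Hom := by
  rw [← MonoidHom.ker_eq_bot_iff]
  by_contra hne
  have hnt : Nontrivial s6Hom.ker := (Subgroup.nontrivial_iff_ne_bot _).mpr hne
  have hle : alternatingGroup (Fin 6) ≤ s6Hom.ker :=
    Equiv.Perm.alternatingGroup_le_of_normal (by simp) hnt
  have hmem : (Equiv.swap (0 : Fin 6) 1 * Equiv.swap 1 2) ∈ alternatingGroup (Fin 6) := by
    rw [Equiv.Perm.mem_alternatingGroup]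
    decide
  have := hle hmem
  rw [MonoidHom.mem_ker] at this
  apply s6M_threeCycle_ne
  rw [← s6Hom_val, this]
  rfl

theorem sp_four_two_equiv_perm {F : Type*} [Field F] [Fintype F] (hF : Fintype.card F = 2) :
    Nonempty (Matrix.symplecticGroup (Fin 2) F ≃* Equiv.Perm (Fin 6)) := by
  have : Fact (Nat.Prime 2) := ⟨Nat.prime_two⟩
  have e0 : Matrix.symplecticGroup (Fin 2) F ≃* Matrix.symplecticGroup (Fin 2) (ZMod 2) :=
    spCongr (fieldEquivZMod 2 hF)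
  have hcard : Nat.card (Matrix.symplecticGroup (Fin 2) (ZMod 2)) = 720 := by
    rw [card_symplecticGroup (F := ZMod 2) (q := 2) (by simp) 2]
    decide
  have hcard' : Nat.card (Equiv.Perm (Fin 6)) = 720 := by
    rw [Nat.card_eq_fintype_card, Fintype.card_perm, Fintype.card_fin]
    rfl
  have : Finite (Matrix.symplecticGroup (Fin 2) (ZMod 2)) :=
    Nat.finite_of_card_ne_zero (by rw [hcard]; norm_num)
  have hbij : Function.Bijective s6Hom := by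
    rw [Nat.bijective_iff_injective_and_card]
    exact ⟨s6Hom_injective, by rw [hcard, hcard']⟩
  exact ⟨e0.trans (MulEquiv.ofBijective s6Hom hbij).symm⟩

end s6

end Cfsg.Agent.Lib.Helper07
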