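import Mathlib

set_option autoImplicit false

namespace Cfsg.Agent.Lib.Helper07

open Matrix SymplecticGroup

variable {l : Type*} [DecidableEq l] [Fintype l] {R : Type*} [CommRing R]

/-- the symplectic matrix `[[1, S], [0, 1]]` for symmetric `S`. -/
lemma upperBlock_mem {S : Matrix l l R} (hS : Sᵀ = S) :
    fromBlocks 1 S 0 1 ∈ symplecticGroup l R := by
  rw [fromBlocks_mem_iff]
  simp [hS]

/-- the symplectic matrix `[[1, 0], [S, 1]]` for symmetric `S`. -/
lemma lowerBlock_mem {S : Matrix l l R} (hS : Sᵀ = S) :
    fromBlocks 1 0 S 1 ∈ symplecticGroup l R := by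
  rw [fromBlocks_mem_iff]
  simp [hS]

/-- a matrix commuting with all symmetric matrices is scalar. -/
lemma scalar_of_commute_symmetric (P : Matrix l l R)
    (h : ∀ S : Matrix l l R, Sᵀ = S → P * S = S * P) (i₀ : l) :
    P = scalar l (P i₀ i₀) := by
  have hdiag : ∀ k i, k ≠ i → P k i = 0 := by
    intro k i hki
    have := h (single i i 1) (by simp)
    have h1 := congrFun (congrFun this k) i
    simp [hki] at h1
    exact h1
  have heq : ∀ i j, i ≠ j → P i i = P j j := by
    intro i j hij
    have := h (single i j 1 + single j i 1) (by simp [transpose_add, add_comm])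
    have h1 := congrFun (congrFun this i) j
    simp [Matrix.mul_add, Matrix.add_mul, hij, hij.symm] at h1
    exact h1
  ext k i
  by_cases hki : k = i
  · subst hki
    by_cases hk : k = i₀
    · subst hk; simp
    · simp [heq k i₀ hk]
  · simp [hdiag k i hki, hki]

/-- every central element of the symplectic group is `±1`. -/
lemma center_val_eq [Nonempty l] [NoZeroDivisors R] (Z : symplecticGroup l R)
    (hZ : Z ∈ Subgroup.center (symplecticGroup l R)) :
    Z.val = 1 ∨ Z.val = -1 := by
  obtain ⟨i₀⟩ := ‹Nonempty l›
  have hcomm : ∀ A : Matrix (l ⊕ l) (l ⊕ l) R, A ∈ symplecticGroup l R →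
      A * Z.val = Z.val * A := by
    intro A hA
    have := Subgroup.mem_center_iff.mp hZ ⟨A, hA⟩
    exact congrArg Subtype.val this
  set P := Z.val.toBlocks₁₁ with hP
  set Q := Z.val.toBlocks₁₂ with hQ
  set C := Z.val.toBlocks₂₁ with hC
  set T := Z.val.toBlocks₂₂ with hT
  have hZb : Z.val = fromBlocks P Q C T := (fromBlocks_toBlocks Z.val).symm
  -- commute with upper blocks
  have hU : ∀ S : Matrix l l R, Sᵀ = S → S * C = 0 ∧ P * S = S * T := by
    intro S hS
    have := hcomm _ (upperBlock_mem hS)
    rw [hZb, fromBlocks_multiply, fromBlocks_multiply, fromBlocks_inj] at this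
    obtain ⟨h1, h2, h3, h4⟩ := this
    refine ⟨by simpa using h1, ?_⟩
    rw [Matrix.one_mul, Matrix.mul_one, add_comm (P * S)] at h2
    exact (add_left_cancel h2).symm
  have hL : ∀ S : Matrix l l R, Sᵀ = S → S * Q = 0 := by
    intro S hS
    have := hcomm _ (lowerBlock_mem hS)
    rw [hZb, fromBlocks_multiply, fromBlocks_multiply, fromBlocks_inj] at this
    obtain ⟨h1, h2, h3, h4⟩ := this
    simpa using h4
  have hC0 : C = 0 := by simpa using (hU 1 (by simp)).1
  have hQ0 : Q = 0 := by simpa using hL 1 (by simp)
  have hPT : P = T := by simpa using (hU 1 (by simp)).2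
  have hPS : ∀ S : Matrix l l R, Sᵀ = S → P * S = S * P := by
    intro S hS
    rw [(hU S hS).2, hPT]
  have hPscal := scalar_of_commute_symmetric P hPS i₀
  set c := P i₀ i₀ with hc
  -- c^2 = 1
  have hmem := Z.2
  rw [hZb, fromBlocks_mem_iff, hC0, hQ0, ← hPT, hPscal] at hmem
  obtain ⟨-, -, h3⟩ := hmem
  have h4 := congrFun (congrFun h3 i₀) i₀
  simp at h4
  have hc2 : (c - 1) * (c + 1) = 0 := by linear_combination h4
  rcases mul_eq_zero.mp hc2 with h | h
  · left
    have hc1 : c = 1 := by linear_combination h
    rw [hZb, hC0, hQ0, ← hPT, hPscal, hc1]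
    simp [← fromBlocks_one]
  · right
    have hc1 : c = -1 := by linear_combination h
    rw [hZb, hC0, hQ0, ← hPT, hPscal, hc1]
    ext i j
    rcases i with i | i <;> rcases j with j | j <;> simp [Matrix.one_apply, diagonal_apply] <;>
      split_ifs <;> simp

end Cfsg.Agent.Lib.Helper07

namespace Cfsg.Agent.Lib.Helper07

open Matrix SymplecticGroup

/-- the centre of `Sp_{2m}(q)`, `m ≥ 1`, has order `gcd(2, q - 1)`. -/
theorem card_center_symplectic {F : Type*} [Field F] [Fintype F] (m : ℕ) (hm : 1 ≤ m) :
    Nat.card (Subgroup.center (symplecticGroup (Fin m) F)) = Nat.gcd 2 (Fintype.card F - 1) := by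
  have hne : Nonempty (Fin m) := ⟨⟨0, hm⟩⟩
  -- `-1` as an element of the symplectic group
  let negOne : symplecticGroup (Fin m) F := ⟨-1, neg_mem (Submonoid.one_mem _)⟩
  have hnegOne_val : negOne.val = -1 := rfl
  have hnegOne_mem : negOne ∈ Subgroup.center (symplecticGroup (Fin m) F) := by
    rw [Subgroup.mem_center_iff]
    intro g
    apply Subtype.ext
    show g.val * (-1) = (-1) * g.val
    simp
  by_cases h2 : ringChar F = 2
  · -- characteristic two
    have hcard : Fintype.card F % 2 = 0 := FiniteField.even_card_of_char_two h2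
    have hpos : 0 < Fintype.card F := Fintype.card_pos
    have hgcd : Nat.gcd 2 (Fintype.card F - 1) = 1 := by
      have hodd : (Fintype.card F - 1) % 2 = 1 := by omega
      have : Nat.Coprime 2 (Fintype.card F - 1) := by
        rw [Nat.Prime.coprime_iff_not_dvd Nat.prime_two]
        omega
      exact this
    rw [hgcd]
    have hneg : (-1 : F) = 1 := by
      have : CharP F 2 := ringChar.of_eq h2
      exact CharTwo.neg_eq 1
    have hbot : Subgroup.center (symplecticGroup (Fin m) F) = ⊥ := by
      rw [eq_bot_iff]
      intro Z hZ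
      rw [Subgroup.mem_bot]
      apply Subtype.ext
      rcases center_val_eq Z hZ with h | h
      · exact h
      · rw [h]
        ext i j
        simp [Matrix.one_apply, hneg]
        split_ifs <;> simp [hneg]
    rw [hbot, Subgroup.card_bot]
  · -- odd characteristic
    have hcard : Fintype.card F % 2 = 1 := FiniteField.odd_card_of_char_ne_two h2
    have hgcd : Nat.gcd 2 (Fintype.card F - 1) = 2 := by
      apply Nat.gcd_eq_left
      omega
    rw [hgcd]
    have h2ne : (2 : F) ≠ 0 := Ring.two_ne_zero h2
    have hne1 : (1 : F) ≠ -1 := by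
      intro h
      apply h2ne
      linear_combination h
    rw [Nat.card_eq_two_iff]
    refine ⟨⟨1, Subgroup.one_mem _⟩, ⟨negOne, hnegOne_mem⟩, ?_, ?_⟩
    · intro h
      have h1 := congrArg (fun z : Subgroup.center (symplecticGroup (Fin m) F) => z.1.val) h
      simp only [hnegOne_val] at h1
      have h3 := congrFun (congrFun h1 (Sum.inl ⟨0, hm⟩)) (Sum.inl ⟨0, hm⟩)
      simp at h3
      exact hne1 h3
    · ext Z
      simp only [Set.mem_insert_iff, Set.mem_singleton_iff, Set.mem_univ, iff_true]
      rcases center_val_eq Z.1 Z.2 with h | h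
      · left
        apply Subtype.ext
        apply Subtype.ext
        exact h
      · right
        apply Subtype.ext
        apply Subtype.ext
        exact h

end Cfsg.Agent.Lib.Helper07
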