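import Cfsg.Agent.Lib.Helper49.StSpDefs
import Cfsg.Agent.S0765

/-!
# K-StSp leaf C5a: `B ⊔ B⁻ = Sp_{2m}(F)`

Route: `Sp` is generated by the symplectic transvections `tv(w,c)` (S0765).  Write `w = (u; v)`.
* `tv((u;0), c) = [1, c u uᵀ; 0, 1]` is upper triangular, `tv((0;v), c)` is lower triangular.
* if `u ≠ 0` there is a symmetric `S` with `S u = v`; `g = [1 0; S 1] ∈ B⁻` maps `(u;0)` to `(u;v)`,
  and `tv(w,c) = g tv((u;0),c) g⁻¹`.
-/

set_option autoImplicit false
set_option linter.unusedSectionVars false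
set_option linter.unusedVariables false

namespace Cfsg.Agent.Lib.Helper07.StSp

open Matrix Cfsg Cfsg.Agent.Lib.Helper49.StSp Cfsg.Agent.Lib.Helper18

variable {m : ℕ} {F : Type*} [Field F]

/-- conjugating a transvection by a symplectic matrix -/
theorem tv_conj (g : SpG m F) (w : Fin m ⊕ Fin m → F) (c : F) :
    g * tv m w c * g⁻¹ = tv m ((g.1 : Matrix (Fin m ⊕ Fin m) (Fin m ⊕ Fin m) F) *ᵥ w) c := by
  apply Subtype.ext
  rw [val_mul, val_mul, tv_val, tv_val]
  rw [Matrix.ext_iff_mulVec]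
  intro x
  rw [← Matrix.mulVec_mulVec, ← Matrix.mulVec_mulVec, transv_mulVec, transv_mulVec,
    Matrix.mulVec_add, Matrix.mulVec_smul, mulVec_inv_mulVec]
  congr 2
  have h := sf_mulVec_of_mem m g.1 g.2
    (((g⁻¹ : SpG m F) : Matrix (Fin m ⊕ Fin m) (Fin m ⊕ Fin m) F) *ᵥ x) w
  rw [mulVec_inv_mulVec] at h
  rw [h]

/-- `(J w)` at an `inl` index -/
theorem Jw_inl (w : Fin m ⊕ Fin m → F) (i : Fin m) :
    (Matrix.J (Fin m) F *ᵥ w) (Sum.inl i) = - w (Sum.inr i) := J_mulVec_inl m w i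

theorem Jw_inr (w : Fin m ⊕ Fin m → F) (i : Fin m) :
    (Matrix.J (Fin m) F *ᵥ w) (Sum.inr i) = w (Sum.inl i) := J_mulVec_inr m w i

theorem tv_apply (w : Fin m ⊕ Fin m → F) (c : F) (a b : Fin m ⊕ Fin m) :
    ((tv m w c : SpG m F) : Matrix (Fin m ⊕ Fin m) (Fin m ⊕ Fin m) F) a b =
      (1 : Matrix (Fin m ⊕ Fin m) (Fin m ⊕ Fin m) F) a b +
        c * (w a * (Matrix.J (Fin m) F *ᵥ w) b) := by
  rw [tv_val]
  unfold Cfsg.sympTransvection
  rw [Matrix.add_apply, Matrix.smul_apply, Matrix.vecMulVec_apply, smul_eq_mul]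

theorem pos_inl_lt_inr (i j : Fin m) : pos m (Sum.inl i) < pos m (Sum.inr j) := by
  simp only [pos]
  have := i.2; have := j.2; omega

/-- transvections with centre `(u; 0)` are upper triangular -/
theorem tv_mem_B_of_inr_zero (w : Fin m ⊕ Fin m → F) (hw : ∀ i, w (Sum.inr i) = 0) (c : F) :
    tv m w c ∈ Bsub m F := by
  rw [mem_Bsub_iff]
  intro a b hab
  rw [tv_apply]
  have hne : a ≠ b := fun e => by rw [e] at hab; exact lt_irrefl _ hab
  rw [Matrix.one_apply_ne hne, zero_add]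
  rcases a with i | i
  · rcases b with j | j
    · rw [Jw_inl, hw j, neg_zero, mul_zero, mul_zero]
    · exact absurd hab (not_lt.2 (le_of_lt (pos_inl_lt_inr i j)))
  · rw [hw i, zero_mul, mul_zero]

/-- transvections with centre `(0; v)` are lower triangular -/
theorem tv_mem_Bminus_of_inl_zero (w : Fin m ⊕ Fin m → F) (hw : ∀ i, w (Sum.inl i) = 0) (c : F) :
    tv m w c ∈ Bminus m F := by
  rw [mem_Bminus_iff]
  intro a b hab
  rw [tv_apply]
  have hne : a ≠ b := fun e => by rw [e] at hab; exact lt_irrefl _ hab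
  rw [Matrix.one_apply_ne hne, zero_add]
  rcases a with i | i
  · rw [hw i, zero_mul, mul_zero]
  · rcases b with j | j
    · exact absurd hab (not_lt.2 (le_of_lt (pos_inl_lt_inr j i)))
    · rw [Jw_inr, hw j, mul_zero, mul_zero]

/-- the lower unitriangular element `[1 0; S 1]` for a symmetric `S` -/
def lowS (S : Matrix (Fin m) (Fin m) F) (hS : Sᵀ = S) : SpG m F :=
  ⟨Matrix.fromBlocks 1 0 S 1, by
    rw [SymplecticGroup.fromBlocks_mem_iff]
    refine ⟨?_, ?_, ?_⟩
    · rw [Matrix.transpose_one, Matrix.one_mul, Matrix.mul_one, hS]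
    · simp
    · simp⟩

theorem lowS_mem_Bminus (S : Matrix (Fin m) (Fin m) F) (hS : Sᵀ = S) :
    lowS S hS ∈ Bminus m F := by
  rw [mem_Bminus_iff]
  intro a b hab
  have hne : a ≠ b := fun e => by rw [e] at hab; exact lt_irrefl _ hab
  show (Matrix.fromBlocks (1 : Matrix (Fin m) (Fin m) F) 0 S 1) a b = 0
  rcases a with i | i
  · rcases b with j | j
    · rw [Matrix.fromBlocks_apply₁₁]
      exact Matrix.one_apply_ne (fun e => hne (by rw [e]))
    · rw [Matrix.fromBlocks_apply₁₂]; rfl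
  · rcases b with j | j
    · exact absurd hab (not_lt.2 (le_of_lt (pos_inl_lt_inr j i)))
    · rw [Matrix.fromBlocks_apply₂₂]
      exact Matrix.one_apply_ne (fun e => hne (by rw [e]))

theorem lowS_mulVec (S : Matrix (Fin m) (Fin m) F) (hS : Sᵀ = S) (u : Fin m → F) :
    ((lowS S hS : SpG m F) : Matrix (Fin m ⊕ Fin m) (Fin m ⊕ Fin m) F) *ᵥ
      (Sum.elim u (0 : Fin m → F)) = Sum.elim u (S *ᵥ u) := by
  show (Matrix.fromBlocks (1 : Matrix (Fin m) (Fin m) F) 0 S 1) *ᵥ (Sum.elim u (0 : Fin m → F)) = _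
  rw [Matrix.fromBlocks_mulVec]
  simp

/-- a symmetric matrix `S` with `S u = v`, given `u k ≠ 0` -/
theorem exists_symm_mulVec (u v : Fin m → F) (k : Fin m) (hk : u k ≠ 0) :
    ∃ S : Matrix (Fin m) (Fin m) F, Sᵀ = S ∧ S *ᵥ u = v := by
  classical
  obtain ⟨d, hd⟩ : ∃ d : F, d = ∑ j : Fin m, v j * u j := ⟨_, rfl⟩
  refine ⟨Matrix.of fun i j => (u k)⁻¹ * (v i * (if j = k then 1 else 0) +
      (if i = k then 1 else 0) * v j) -
      d * (u k)⁻¹ * (u k)⁻¹ * ((if i = k then 1 else 0) * (if j = k then 1 else 0)), ?_, ?_⟩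
  · ext i j
    simp only [Matrix.transpose_apply, Matrix.of_apply]
    ring
  · funext i
    simp only [Matrix.mulVec, dotProduct, Matrix.of_apply]
    have e1 : ∀ j : Fin m, ((u k)⁻¹ * (v i * (if j = k then 1 else 0) +
        (if i = k then 1 else 0) * v j) -
        d * (u k)⁻¹ * (u k)⁻¹ * ((if i = k then 1 else 0) * (if j = k then 1 else 0))) * u j
        = (u k)⁻¹ * v i * ((if j = k then 1 else 0) * u j)
          + (u k)⁻¹ * (if i = k then 1 else 0) * (v j * u j)
          - d * (u k)⁻¹ * (u k)⁻¹ * (if i = k then 1 else 0) *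
            ((if j = k then 1 else 0) * u j) := by
      intro j; ring
    simp only [e1]
    rw [Finset.sum_sub_distrib, Finset.sum_add_distrib, ← Finset.mul_sum, ← Finset.mul_sum,
      ← Finset.mul_sum]
    have e2 : ∑ j : Fin m, (if j = k then (1 : F) else 0) * u j = u k := by
      simp
    rw [e2, ← hd]
    by_cases hik : i = k
    · subst hik
      simp only [if_true]
      field_simp
      ring
    · simp only [if_neg hik]
      field_simp
      ring

theorem tv_mem (w : Fin m ⊕ Fin m → F) (c : F) : tv m w c ∈ Bsub m F ⊔ Bminus m F := by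
  classical
  by_cases hu : ∀ i, w (Sum.inl i) = 0
  · exact Subgroup.mem_sup_right (tv_mem_Bminus_of_inl_zero w hu c)
  · push Not at hu
    obtain ⟨k, hk⟩ := hu
    obtain ⟨S, hS, hSu⟩ := exists_symm_mulVec (fun i => w (Sum.inl i)) (fun i => w (Sum.inr i)) k hk
    have hw : w = ((lowS S hS : SpG m F) : Matrix (Fin m ⊕ Fin m) (Fin m ⊕ Fin m) F) *ᵥ
        (Sum.elim (fun i => w (Sum.inl i)) (0 : Fin m → F)) := by
      rw [lowS_mulVec, hSu]
      funext a
      rcases a with i | i <;> rfl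
    have h1 : tv m w c = lowS S hS *
        tv m (Sum.elim (fun i => w (Sum.inl i)) (0 : Fin m → F)) c * (lowS S hS)⁻¹ := by
      rw [tv_conj, ← hw]
    rw [h1]
    have hg : lowS S hS ∈ Bsub m F ⊔ Bminus m F := Subgroup.mem_sup_right (lowS_mem_Bminus S hS)
    refine Subgroup.mul_mem _ (Subgroup.mul_mem _ hg ?_) (Subgroup.inv_mem _ hg)
    exact Subgroup.mem_sup_left (tv_mem_B_of_inr_zero _ (fun i => rfl) c)

theorem B_sup_Bminus : Bsub m F ⊔ Bminus m F = ⊤ := by
  rw [eq_top_iff, ← Cfsg.Agent.S0765.result (F := F) m]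
  rw [Subgroup.closure_le]
  rintro A ⟨w, c, hA⟩
  have : A = tv m w c := Subtype.ext hA
  rw [this]
  exact tv_mem w c

end Cfsg.Agent.Lib.Helper07.StSp
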