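import Cfsg.Agent.Lib.Helper49.StSpDefs

/-!
# K-StSp leaf C8: `|B : T|` is a power of `p`

`ψ : B →* (Fin m ⊕ Fin m → F)`, `b ↦ (b a a)_a` is a monoid hom (triangular matrices), its kernel `U`
is a `p`-group (strictly upper triangular matrices are nilpotent), and `T` is a complement of `U`
in `B` because `(g⁻¹) a a = g a.swap a.swap` for every symplectic `g`, so that the diagonal part of
`b ∈ B` is symplectic.
-/

set_option autoImplicit false
set_option linter.unusedSectionVars false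
set_option linter.unusedVariables false

namespace Cfsg.Agent.Lib.Helper07.StSp

open Matrix Cfsg Cfsg.Agent.Lib.Helper49.StSp
open scoped Pointwise

variable {m : ℕ} {F : Type*} [Field F]

local notation "Idx" => (Fin m ⊕ Fin m)

theorem pos_lt (a : Fin m ⊕ Fin m) : pos m a < 2 * m := by
  rcases a with i | i <;> simp only [pos] <;> have := i.2 <;> omega

/-- diagonal of a product of upper triangular matrices -/
theorem B_mul_diag (g h : SpG m F) (hg : g ∈ Bsub m F) (hh : h ∈ Bsub m F) (a : Fin m ⊕ Fin m) :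
    ((g * h : SpG m F).1 : Matrix (Fin m ⊕ Fin m) (Fin m ⊕ Fin m) F) a a =
      (g.1 : Matrix (Fin m ⊕ Fin m) (Fin m ⊕ Fin m) F) a a *
        (h.1 : Matrix (Fin m ⊕ Fin m) (Fin m ⊕ Fin m) F) a a := by
  show ((g.1 : Matrix (Fin m ⊕ Fin m) (Fin m ⊕ Fin m) F) * h.1) a a = _
  rw [Matrix.mul_apply]
  rw [Finset.sum_eq_single a]
  · intro c _ hca
    have hne : pos m c ≠ pos m a := fun e => hca (pos_injective m e)
    rcases lt_or_gt_of_ne hne with h1 | h1
    · rw [(mem_Bsub_iff g).1 hg a c h1, zero_mul]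
    · rw [(mem_Bsub_iff h).1 hh c a h1, mul_zero]
  · intro h1; exact absurd (Finset.mem_univ a) h1

/-- diagonal of the inverse of a symplectic matrix -/
theorem inv_diag (g : SpG m F) (a : Fin m ⊕ Fin m) :
    ((g⁻¹ : SpG m F).1 : Matrix (Fin m ⊕ Fin m) (Fin m ⊕ Fin m) F) a a =
      (g.1 : Matrix (Fin m ⊕ Fin m) (Fin m ⊕ Fin m) F) a.swap a.swap := by
  rw [SymplecticGroup.coe_inv]
  have hg : (g.1 : Matrix (Fin m ⊕ Fin m) (Fin m ⊕ Fin m) F) =
      Matrix.fromBlocks (g.1 : Matrix (Fin m ⊕ Fin m) (Fin m ⊕ Fin m) F).toBlocks₁₁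
        (g.1 : Matrix (Fin m ⊕ Fin m) (Fin m ⊕ Fin m) F).toBlocks₁₂
        (g.1 : Matrix (Fin m ⊕ Fin m) (Fin m ⊕ Fin m) F).toBlocks₂₁
        (g.1 : Matrix (Fin m ⊕ Fin m) (Fin m ⊕ Fin m) F).toBlocks₂₂ :=
    (Matrix.fromBlocks_toBlocks _).symm
  conv_lhs => rw [hg]
  simp only [Matrix.J, Matrix.fromBlocks_transpose, Matrix.fromBlocks_neg, Matrix.fromBlocks_multiply,
    neg_zero, neg_neg, Matrix.zero_mul, Matrix.one_mul, Matrix.mul_zero, Matrix.mul_one, zero_add,
    add_zero, Matrix.neg_mul, Matrix.mul_neg]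
  rcases a with i | i
  · simp [Matrix.toBlocks₂₂]
  · simp [Matrix.toBlocks₁₁]

theorem B_diag_mul_swap (b : SpG m F) (hb : b ∈ Bsub m F) (a : Fin m ⊕ Fin m) :
    (b.1 : Matrix (Fin m ⊕ Fin m) (Fin m ⊕ Fin m) F) a a *
      (b.1 : Matrix (Fin m ⊕ Fin m) (Fin m ⊕ Fin m) F) a.swap a.swap = 1 := by
  rw [← inv_diag, ← B_mul_diag b b⁻¹ hb ((Bsub m F).inv_mem hb), mul_inv_cancel]
  exact Matrix.one_apply_eq a

/-- the diagonal symplectic matrix with given diagonal -/
def dgS (d : Fin m ⊕ Fin m → F) (hd : ∀ a, d a * d a.swap = 1) : SpG m F :=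
  ⟨Matrix.diagonal d, by
    have e : (Matrix.diagonal d : Matrix (Fin m ⊕ Fin m) (Fin m ⊕ Fin m) F) =
        Matrix.fromBlocks (Matrix.diagonal fun i => d (Sum.inl i)) 0 0
          (Matrix.diagonal fun i => d (Sum.inr i)) := by
      rw [Matrix.fromBlocks_diagonal]
      congr 1
      funext a
      rcases a with i | i <;> rfl
    rw [e, SymplecticGroup.fromBlocks_mem_iff]
    refine ⟨by simp, by simp, ?_⟩
    rw [Matrix.transpose_zero, Matrix.zero_mul, sub_zero, Matrix.diagonal_transpose,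
      Matrix.diagonal_mul_diagonal, ← Matrix.diagonal_one]
    congr 1
    funext i
    exact hd (Sum.inl i)⟩

theorem dgS_mem_T (d : Fin m ⊕ Fin m → F) (hd : ∀ a, d a * d a.swap = 1) :
    dgS d hd ∈ Tsub m F := by
  rw [mem_Tsub_iff]
  intro a b hab
  exact Matrix.diagonal_apply_ne d hab

theorem Tsub_le_Bsub : Tsub m F ≤ Bsub m F := inf_le_left

/-- the diagonal hom on `B` -/
def psiB : ↥(Bsub m F) →* (Fin m ⊕ Fin m → F) where
  toFun b := fun a => (b.1.1 : Matrix (Fin m ⊕ Fin m) (Fin m ⊕ Fin m) F) a a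
  map_one' := by
    funext a
    exact Matrix.one_apply_eq a
  map_mul' := by
    intro x y
    funext a
    exact B_mul_diag x.1 y.1 x.2 y.2 a

theorem psiB_apply (b : ↥(Bsub m F)) (a : Fin m ⊕ Fin m) :
    psiB b a = (b.1.1 : Matrix (Fin m ⊕ Fin m) (Fin m ⊕ Fin m) F) a a := rfl

/-- powers of strictly upper triangular matrices -/
theorem strictUp_pow (N : Matrix (Fin m ⊕ Fin m) (Fin m ⊕ Fin m) F)
    (hN : ∀ a b, pos m b ≤ pos m a → N a b = 0) (k : ℕ) :
    ∀ a b, pos m b < pos m a + k → (N ^ k) a b = 0 := by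
  induction k with
  | zero =>
    intro a b hab
    have : a ≠ b := fun e => by subst e; simp at hab
    simp [this]
  | succ k ih =>
    intro a b hab
    rw [pow_succ, Matrix.mul_apply]
    apply Finset.sum_eq_zero
    intro l _
    by_cases hl : pos m b ≤ pos m l
    · rw [hN l b hl, mul_zero]
    · rw [ih a l (by omega), zero_mul]

theorem ker_psiB_isPGroup (p : ℕ) [Fact p.Prime] [CharP F p] :
    IsPGroup p ↥(psiB (m := m) (F := F)).ker := by
  intro x
  rcases Nat.eq_zero_or_pos m with hm | hm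
  · subst hm
    refine ⟨0, ?_⟩
    apply Subtype.ext; apply Subtype.ext; apply Subtype.ext
    ext a b
    exact (IsEmpty.false (a.elim id id)).elim
  · have : Nonempty (Fin m ⊕ Fin m) := ⟨Sum.inl ⟨0, hm⟩⟩
    refine ⟨2 * m, ?_⟩
    have hx : psiB x.1 = 1 := (MonoidHom.mem_ker).1 x.2
    obtain ⟨M, hM⟩ : ∃ M : Matrix (Fin m ⊕ Fin m) (Fin m ⊕ Fin m) F, M = x.1.1.1 := ⟨_, rfl⟩
    have hN : ∀ a b, pos m b ≤ pos m a → (M - 1) a b = 0 := by
      intro a b hab
      rcases lt_or_eq_of_le hab with h | h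
      · have hne : a ≠ b := fun e => by subst e; exact lt_irrefl _ h
        rw [Matrix.sub_apply, Matrix.one_apply_ne hne, sub_zero, hM]
        exact (mem_Bsub_iff x.1.1).1 x.1.2 a b h
      · have := pos_injective m h; subst this
        rw [Matrix.sub_apply, Matrix.one_apply_eq, hM, ← psiB_apply, hx]
        simp
    have hpow : (M - 1) ^ (p ^ (2 * m)) = 0 := by
      ext a b
      have h1 : 2 * m < p ^ (2 * m) := Nat.lt_pow_self (Fact.out : p.Prime).one_lt
      rw [strictUp_pow (M - 1) hN (p ^ (2 * m)) a b (by have := pos_lt (m := m) b; omega)]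
      rfl
    have hM1 : M ^ (p ^ (2 * m)) = 1 := by
      have hcomm : Commute (M - 1) (1 : Matrix (Fin m ⊕ Fin m) (Fin m ⊕ Fin m) F) :=
        Commute.one_right _
      have h2 := add_pow_char_pow_of_commute (p := p) (n := 2 * m) hcomm
      rw [sub_add_cancel, hpow, one_pow, zero_add] at h2
      exact h2
    apply Subtype.ext; apply Subtype.ext; apply Subtype.ext
    show ((x ^ p ^ (2 * m) : ↥(psiB (m := m) (F := F)).ker).1.1.1 :
      Matrix (Fin m ⊕ Fin m) (Fin m ⊕ Fin m) F) = 1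
    rw [Subgroup.coe_pow, Subgroup.coe_pow, SubmonoidClass.coe_pow, ← hM, hM1]

theorem relIndex_T_B [Fintype F] (p : ℕ) [Fact p.Prime] [CharP F p] :
    ∃ a : ℕ, (Tsub m F).relIndex (Bsub m F) = p ^ a := by
  classical
  obtain ⟨K, hK⟩ : ∃ K : Subgroup ↥(Bsub m F), K = (psiB (m := m) (F := F)).ker := ⟨_, rfl⟩
  obtain ⟨T', hT'⟩ : ∃ T' : Subgroup ↥(Bsub m F), T' = (Tsub m F).subgroupOf (Bsub m F) := ⟨_, rfl⟩
  have hdisj : Disjoint K T' := by
    rw [Subgroup.disjoint_def]
    intro x hxK hxT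
    rw [hK, MonoidHom.mem_ker] at hxK
    rw [hT', Subgroup.mem_subgroupOf, mem_Tsub_iff] at hxT
    apply Subtype.ext; apply Subtype.ext
    ext a b
    by_cases hab : a = b
    · subst hab
      have := congrFun hxK a
      rw [psiB_apply] at this
      rw [this]
      exact (Matrix.one_apply_eq a).symm
    · rw [hxT a b hab]
      exact (Matrix.one_apply_ne hab).symm
  have hmul : (K : Set ↥(Bsub m F)) * (T' : Set ↥(Bsub m F)) = Set.univ := by
    rw [Set.eq_univ_iff_forall]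
    intro b
    obtain ⟨t, ht⟩ : ∃ t : SpG m F, t = dgS (fun a => (b.1.1 : Matrix _ _ F) a a)
        (fun a => B_diag_mul_swap b.1 b.2 a) := ⟨_, rfl⟩
    have htT : t ∈ Tsub m F := by rw [ht]; exact dgS_mem_T _ _
    have htB : t ∈ Bsub m F := Tsub_le_Bsub htT
    have hpsi : psiB ⟨t, htB⟩ = psiB b := by
      funext a
      rw [psiB_apply, psiB_apply]
      show (t.1 : Matrix _ _ F) a a = _
      rw [ht]
      exact Matrix.diagonal_apply_eq _ a
    refine Set.mem_mul.2 ⟨b * (⟨t, htB⟩ : ↥(Bsub m F))⁻¹, ?_, ⟨t, htB⟩, ?_, by group⟩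
    · rw [SetLike.mem_coe, hK, MonoidHom.mem_ker, map_mul, ← hpsi, ← map_mul, mul_inv_cancel,
        map_one]
    · rw [SetLike.mem_coe, hT', Subgroup.mem_subgroupOf]
      exact htT
  have hcompl := Subgroup.isComplement'_of_disjoint_and_mul_eq_univ hdisj hmul
  have hcard := hcompl.card_mul_card
  have hidx : T'.index * Nat.card T' = Nat.card ↥(Bsub m F) := Subgroup.index_mul_card T'
  have hpos : 0 < Nat.card T' := Nat.card_pos
  have hKp : IsPGroup p K := by rw [hK]; exact ker_psiB_isPGroup p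
  obtain ⟨a, ha⟩ := hKp.exists_card_eq
  refine ⟨a, ?_⟩
  show ((Tsub m F).subgroupOf (Bsub m F)).index = p ^ a
  rw [← hT', ← ha]
  have : T'.index * Nat.card T' = Nat.card K * Nat.card T' := by rw [hidx, hcard]
  exact Nat.eq_of_mul_eq_mul_right hpos this

end Cfsg.Agent.Lib.Helper07.StSp
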